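import Cfsg.Agent.Lib.Char.Central
import Mathlib.RingTheory.Norm.Transitivity
import Mathlib.FieldTheory.IntermediateField.Adjoin.Basic

/-!
# Burnside's lemma on coprime class size and degree
-/

namespace CfsgLib.CharIntegral

open Module IntermediateField
open scoped ComplexConjugate

/-- An algebraic integer that is the average of `n` roots of unity is zero or has norm one. -/
theorem eq_zero_or_norm_eq_one {ι : Type*} [Fintype ι] [Nonempty ι] (μ : ι → ℂ) {N : ℕ}
    (hN : N ≠ 0) (hμ : ∀ i, μ i ^ N = 1)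
    (hint : IsIntegral ℤ ((∑ i, μ i) / (Fintype.card ι : ℂ))) :
    (∑ i, μ i) / (Fintype.card ι : ℂ) = 0 ∨ ‖(∑ i, μ i) / (Fintype.card ι : ℂ)‖ = 1 := by
  classical
  have hcard : (0 : ℝ) < (Fintype.card ι : ℝ) := Nat.cast_pos.mpr Fintype.card_pos
  have hle1 : ∀ ν : ι → ℂ, (∀ i, ν i ^ N = 1) →
      ‖(∑ i, ν i) / (Fintype.card ι : ℂ)‖ ≤ 1 := by
    intro ν hν
    rw [norm_div, Complex.norm_natCast, div_le_one hcard]
    refine (norm_sum_le _ _).trans (le_of_eq ?_)
    simp [fun i => Complex.norm_eq_one_of_pow_eq_one (hν i) hN]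
  by_cases h1 : ‖(∑ i, μ i) / (Fintype.card ι : ℂ)‖ = 1
  · exact Or.inr h1
  left
  let K : IntermediateField ℚ ℂ := IntermediateField.adjoin ℚ (Set.range μ)
  have hfin : FiniteDimensional ℚ K := IntermediateField.finiteDimensional_adjoin fun x hx => by
    obtain ⟨i, rfl⟩ := hx
    exact IsIntegral.of_pow (Nat.pos_of_ne_zero hN) (by rw [hμ i]; exact isIntegral_one)
  let m : ι → K := fun i => ⟨μ i, subset_adjoin ℚ _ (Set.mem_range_self i)⟩
  have hm : ∀ i, m i ^ N = 1 := fun i => Subtype.ext (by simp [m, hμ i])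
  let x : K := (∑ i, m i) / (Fintype.card ι : K)
  have hx : K.val x = (∑ i, μ i) / (Fintype.card ι : ℂ) := by
    simp only [x, m, map_div₀, map_sum, map_natCast, IntermediateField.coe_val]
  have hxint : IsIntegral ℤ x := by
    refine (isIntegral_algHom_iff (K.val.restrictScalars ℤ) K.val.injective).mp ?_
    rw [AlgHom.coe_restrictScalars', hx]
    exact hint
  have hnorm_int : IsIntegral ℤ (Algebra.norm ℚ x) := Algebra.isIntegral_norm ℚ hxint
  obtain ⟨z, hz⟩ := IsIntegrallyClosed.isIntegral_iff.mp hnorm_int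
  have hprod := Algebra.norm_eq_prod_embeddings ℚ ℂ x
  let σ0 : K →ₐ[ℚ] ℂ := { K.val.toRingHom with commutes' := fun r => by simp }
  have hlt : ‖∏ σ : K →ₐ[ℚ] ℂ, σ x‖ < 1 := by
    rw [norm_prod, ← Finset.mul_prod_erase Finset.univ (fun σ : K →ₐ[ℚ] ℂ => ‖σ x‖)
      (Finset.mem_univ σ0), show σ0 x = _ from hx]
    have hb : ∀ σ : K →ₐ[ℚ] ℂ, ‖σ x‖ ≤ 1 := fun σ => by
      simp only [x, map_div₀, map_sum, map_natCast]
      exact hle1 (fun i => σ (m i)) fun i => by rw [← map_pow, hm i, map_one]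
    refine mul_lt_one_of_nonneg_of_lt_one_left (norm_nonneg _)
      (lt_of_le_of_ne (hle1 μ hμ) h1) ?_
    exact Finset.prod_le_one (fun σ _ => norm_nonneg _) fun σ _ => hb σ
  rw [← hprod, ← hz] at hlt
  have hz0 : z = 0 := by
    simp only [eq_intCast, map_intCast, Complex.norm_intCast] at hlt
    have : |z| < 1 := by exact_mod_cast hlt
    exact Int.abs_lt_one_iff.mp this
  rw [hz0, map_zero, eq_comm, Algebra.norm_eq_zero_iff] at hz
  rw [← hx, hz, map_zero]

variable {G : Type*} [Group G] [Finite G] {V : Type*} [AddCommGroup V] [Module ℂ V]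
  [FiniteDimensional ℂ V] (ρ : Representation ℂ G V) [ρ.IsIrreducible]

/-- If the degree is prime to the class size, `χ g` is zero or has maximal norm. -/
theorem character_eq_zero_or_norm_eq (g : G)
    (hcop : Nat.Coprime (finrank ℂ V) (Subgroup.centralizer ({g} : Set G)).index) :
    ρ.character g = 0 ∨ ‖ρ.character g‖ = (finrank ℂ V : ℝ) := by
  obtain ⟨b, μ, -, hpow, -, hsum, -⟩ := exists_eigenbasis_apply ρ g
  have hpos := finrank_pos_of_irreducible ρ
  have : Nonempty (Fin (finrank ℂ V)) := ⟨⟨0, hpos⟩⟩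
  have hne : (finrank ℂ V : ℂ) ≠ 0 := finrank_cast_ne_zero ρ
  obtain ⟨u, v, huv⟩ : ∃ u v : ℤ, u * (finrank ℂ V : ℤ) + v * ((Subgroup.centralizer ({g} : Set G)).index : ℤ) = 1 := by
    obtain ⟨u, v, h⟩ := Int.isCoprime_iff_nat_coprime.mpr (show Nat.Coprime (finrank ℂ V : ℤ).natAbs
      (((Subgroup.centralizer ({g} : Set G)).index : ℤ)).natAbs from hcop)
    exact ⟨u, v, h⟩
  have hint : IsIntegral ℤ (ρ.character g / (finrank ℂ V : ℂ)) := by
    have h : ρ.character g / (finrank ℂ V : ℂ) =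
        (u : ℂ) * ρ.character g + (v : ℂ) * (((Subgroup.centralizer ({g} : Set G)).index : ℂ) * ρ.character g / (finrank ℂ V : ℂ)) := by
      have h1 : (u : ℂ) * (finrank ℂ V : ℂ) + (v : ℂ) * ((Subgroup.centralizer ({g} : Set G)).index : ℂ) = 1 := by exact_mod_cast huv
      field_simp
      linear_combination (-ρ.character g) * h1
    rw [h]
    exact ((isIntegral_algebraMap (R := ℤ) (x := u)).mul (isIntegral_character ρ g)).add
      ((isIntegral_algebraMap (R := ℤ) (x := v)).mul (isIntegral_central ρ g))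
  rw [hsum] at hint ⊢
  rcases eq_zero_or_norm_eq_one μ (orderOf_pos g).ne' hpow (by simpa using hint) with h | h
  · left
    simpa [hne] using h
  · right
    rw [Fintype.card_fin, norm_div, Complex.norm_natCast,
      div_eq_one_iff_eq (Nat.cast_ne_zero.mpr hpos.ne')] at h
    exact h

end CfsgLib.CharIntegral
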