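import Cfsg.Agent.Lib.Char.Complete
import Cfsg.Agent.Lib.Char.Coprime
import Mathlib.GroupTheory.Sylow
import Mathlib.GroupTheory.Solvable
import Mathlib.GroupTheory.Nilpotent
import Mathlib.GroupTheory.Subgroup.Simple
import Mathlib.GroupTheory.SpecificGroups.Cyclic

/-!
# Burnside: classes of prime power size in simple groups, and the `p^a q^b` theorem
-/

namespace CfsgLib.Burnside

open Module

/-- A simple group with nontrivial centre has prime order. -/
theorem prime_card_of_center_ne_bot {G : Type*} [Group G] [Finite G] [IsSimpleGroup G]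
    (h : Subgroup.center G ≠ ⊥) : (Nat.card G).Prime := by
  have htop : Subgroup.center G = ⊤ :=
    (IsSimpleGroup.eq_bot_or_eq_top_of_normal (Subgroup.center G) inferInstance).resolve_left h
  let _ : CommGroup G :=
    { (inferInstance : Group G) with
      mul_comm := fun a b => Subgroup.mem_center_iff.mp (htop ▸ Subgroup.mem_top b) a }
  exact IsSimpleGroup.prime_card

/-- In a simple group a nontrivial class of prime power size forces prime order. -/
theorem prime_card_of_prime_pow_class {G : Type*} [Group G] [Finite G] [IsSimpleGroup G]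
    {p k : ℕ} (hp : p.Prime) {g : G} (hg : g ≠ 1)
    (hclass : (Subgroup.centralizer ({g} : Set G)).index = p ^ k) : (Nat.card G).Prime := by
  classical
  by_contra hnp
  have hcen : Subgroup.center G = ⊥ := by
    by_contra h
    exact hnp (prime_card_of_center_ne_bot h)
  have hnc : g ∉ Subgroup.center G := by rw [hcen, Subgroup.mem_bot]; exact hg
  have hk : k ≠ 0 := by
    rintro rfl
    rw [pow_zero, Subgroup.index_eq_one, Subgroup.centralizer_eq_top_iff_subset] at hclass
    exact hnc (hclass (Set.mem_singleton g))
  have := Fintype.ofFinite (Cfsg.IrrCharacter G)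
  have hsum := CfsgLib.Char.sum_degree_mul_apply_of_ne_one hg
  rw [← Finset.add_sum_erase _ _ (Finset.mem_univ (CfsgLib.Char.trivChar G))] at hsum
  simp only [CfsgLib.Char.trivChar_apply, one_mul] at hsum
  have key : ∀ χ : Cfsg.IrrCharacter G, χ ∈ Finset.univ.erase (CfsgLib.Char.trivChar G) →
      IsIntegral ℤ ((χ : G → ℂ) 1 * (χ : G → ℂ) g / (p : ℂ)) := by
    intro χ hχ
    have hne : χ ≠ CfsgLib.Char.trivChar G := (Finset.mem_erase.mp hχ).1
    obtain ⟨n, ρ, hρ, hχρ⟩ := χ.2
    rw [← hχρ]
    by_cases hdiv : p ∣ finrank ℂ (Fin n → ℂ)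
    · obtain ⟨m, hm⟩ := hdiv
      rw [Representation.char_one, hm, Nat.cast_mul, mul_assoc,
        mul_div_cancel_left₀ _ (Nat.cast_ne_zero.mpr hp.ne_zero)]
      exact (isIntegral_algebraMap (R := ℤ) (x := (m : ℤ))).mul
        (CfsgLib.CharIntegral.isIntegral_character ρ g)
    · have hcop : Nat.Coprime (finrank ℂ (Fin n → ℂ))
          (Subgroup.centralizer ({g} : Set G)).index := by
        rw [hclass]
        exact Nat.Coprime.pow_right _ ((hp.coprime_iff_not_dvd.mpr hdiv).symm)
      rcases CfsgLib.CharIntegral.character_eq_zero_or_norm_eq ρ g hcop with h | h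
      · simp [h, isIntegral_zero]
      · exfalso
        obtain ⟨ω, hω⟩ := CfsgLib.CharIntegral.exists_scalar_of_norm_character_eq ρ g h
        rcases IsSimpleGroup.eq_bot_or_eq_top_of_normal (MonoidHom.ker ρ) inferInstance with
          hker | hker
        · refine hnc (Subgroup.mem_center_iff.mpr fun x => ?_)
          refine (MonoidHom.ker_eq_bot_iff ρ).mp hker ?_
          rw [map_mul, map_mul, hω]
          exact LinearMap.ext fun v => map_smul (ρ x) ω v
        · refine hne (Subtype.ext ?_)
          have hall : ∀ x : G, ρ x = 1 := fun x => (MonoidHom.mem_ker).mp (hker ▸ Subgroup.mem_top x)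
          have hn : finrank ℂ (Fin n → ℂ) ≤ 1 := by
            have := Fintype.ofFinite G
            have h2 := CfsgLib.CharIntegral.sum_character_mul_character_inv (ρ := ρ)
              (G := G) (V := Fin n → ℂ)
            simp only [Representation.character, hall, LinearMap.trace_one, Finset.sum_const,
              Finset.card_univ, nsmul_eq_mul, ← Nat.card_eq_fintype_card] at h2
            have h3 : Nat.card G * (finrank ℂ (Fin n → ℂ) * finrank ℂ (Fin n → ℂ)) = Nat.card G := by
              exact_mod_cast h2
            have h4 := Nat.eq_of_mul_eq_mul_left (Nat.card_pos (α := G))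
              (h3.trans (mul_one _).symm)
            exact (Nat.eq_one_of_mul_eq_one_right h4).le
          have hn1 : finrank ℂ (Fin n → ℂ) = 1 :=
            le_antisymm hn (CfsgLib.CharIntegral.finrank_pos_of_irreducible ρ)
          funext x
          rw [CfsgLib.Char.trivChar_apply, ← hχρ, Representation.character, hall,
            LinearMap.trace_one, hn1, Nat.cast_one]
  have hone : IsIntegral ℤ (((1 : ℕ) : ℂ) / (p : ℂ)) := by
    have h := (IsIntegral.sum _ key).neg
    rw [← Finset.sum_div, ← neg_div,
      show -(∑ χ ∈ Finset.univ.erase (CfsgLib.Char.trivChar G),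
        (χ : G → ℂ) 1 * (χ : G → ℂ) g) = 1 by linear_combination -hsum] at h
    rwa [Nat.cast_one]
  exact hp.not_dvd_one (CfsgLib.CharIntegral.dvd_of_isIntegral_div hp.ne_zero hone)

/-- Burnside's `p^a q^b` theorem. -/
theorem isSolvable_of_card_eq {G : Type*} [Group G] [Finite G] {p q a b : ℕ} (hp : p.Prime)
    (hq : q.Prime) (hcard : Nat.card G = p ^ a * q ^ b) : Group.IsSolvable G := by
  induction hN : Nat.card G using Nat.strongRecOn generalizing G a b with
  | ind N ih =>
    subst hN
    have hp' : Fact p.Prime := ⟨hp⟩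
    have hq' : Fact q.Prime := ⟨hq⟩
    have hsplit : ∀ d : ℕ, d ∣ p ^ a * q ^ b → ∃ i j : ℕ, d = p ^ i * q ^ j := by
      intro d hd
      obtain ⟨d₁, d₂, h1, h2, rfl⟩ := Nat.dvd_mul.mp hd
      obtain ⟨i, -, rfl⟩ := (Nat.dvd_prime_pow hp).mp h1
      obtain ⟨j, -, rfl⟩ := (Nat.dvd_prime_pow hq).mp h2
      exact ⟨i, j, rfl⟩
    by_cases hsimple : ∀ N : Subgroup G, N.Normal → N = ⊥ ∨ N = ⊤
    · cases subsingleton_or_nontrivial G
      · infer_instance
      have : IsSimpleGroup G := ⟨hsimple⟩
      by_cases hpq : p = q ∨ b = 0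
      · have : Group.IsNilpotent G := by
          refine IsPGroup.isNilpotent (p := p) ?_
          rcases hpq with rfl | rfl
          · exact IsPGroup.of_card (hcard.trans (pow_add p a b).symm)
          · exact IsPGroup.of_card (hcard.trans (by rw [pow_zero, mul_one]))
        infer_instance
      push Not at hpq
      obtain ⟨Q⟩ : Nonempty (Sylow q G) := inferInstance
      have hQ : Nontrivial Q := by
        rw [← Finite.one_lt_card_iff_nontrivial]
        have h := Q.card_eq_multiplicity
        have hb : 0 < (Nat.card G).factorization q := by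
          refine hq.factorization_pos_of_dvd Nat.card_pos.ne' ?_
          rw [hcard]
          exact Dvd.dvd.mul_left (dvd_pow_self q hpq.2) _
        change 1 < Nat.card Q
        rw [h]
        exact Nat.one_lt_pow hb.ne' hq.one_lt
      have hzc : Nontrivial (Subgroup.center Q) := IsPGroup.center_nontrivial Q.2
      obtain ⟨z, hz⟩ := exists_ne (1 : Subgroup.center Q)
      have hz1 : ((z : Q) : G) ≠ 1 := fun h => hz (Subtype.ext (Subtype.ext h))
      have hle : (Q : Subgroup G) ≤ Subgroup.centralizer {((z : Q) : G)} := by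
        intro x hx
        rw [Subgroup.mem_centralizer_singleton_iff]
        exact congrArg Subtype.val (Subgroup.mem_center_iff.mp z.2 ⟨x, hx⟩)
      have hdvd := Subgroup.index_dvd_of_le hle
      have hidx : (Q : Subgroup G).index ∣ p ^ a := by
        have h1 : (Q : Subgroup G).index ∣ p ^ a * q ^ b := hcard ▸ (Q : Subgroup G).index_dvd_card
        exact ((hq.coprime_iff_not_dvd.mpr Q.not_dvd_index).pow_left b).symm.dvd_of_dvd_mul_right h1
      obtain ⟨i, -, hi⟩ := (Nat.dvd_prime_pow hp).mp (hdvd.trans hidx)
      have hprime := prime_card_of_prime_pow_class hp hz1 hi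
      have := Fact.mk hprime
      have : IsCyclic G := isCyclic_of_prime_card rfl
      exact Group.isSolvable_of_comm fun x y => (IsCyclic.commutative (α := G)).is_comm.comm x y
    · push Not at hsimple
      obtain ⟨N, hN, h1, h2⟩ := hsimple
      have hlt : Nat.card N < Nat.card G := by
        rw [lt_iff_le_and_ne]
        exact ⟨N.card_le_card_group, fun h => h2 (N.eq_top_of_card_eq h)⟩
      have hlt2 : Nat.card (G ⧸ N) < Nat.card G := by
        rw [Subgroup.card_eq_card_quotient_mul_card_subgroup N]
        exact lt_mul_of_one_lt_right Nat.card_pos (N.one_lt_card_iff_ne_bot.mpr h1)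
      obtain ⟨i, j, hij⟩ := hsplit _ (hcard ▸ N.card_subgroup_dvd_card)
      obtain ⟨i', j', hij'⟩ := hsplit _ (hcard ▸ N.card_quotient_dvd_card)
      have hsN : Group.IsSolvable N := ih _ hlt hij rfl
      have hsQ : Group.IsSolvable (G ⧸ N) := ih _ hlt2 hij' rfl
      exact Group.isSolvable_of_ker_le_range N.subtype (QuotientGroup.mk' N)
        (by rw [QuotientGroup.ker_mk', Subgroup.range_subtype])

end CfsgLib.Burnside
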