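import Cfsg.Prelude.Def_Characters
import Mathlib.LinearAlgebra.Eigenspace.Semisimple
import Mathlib.RingTheory.RootsOfUnity.Complex
import Mathlib.FieldTheory.Separable
import Mathlib.Analysis.Complex.Polynomial.Basic
import Mathlib.Analysis.InnerProductSpace.Convex
import Mathlib.LinearAlgebra.Trace

/-!
# Eigenvalues and integrality of character values

For a representation of a finite group on a finite-dimensional complex space every `ρ g` has
a basis of eigenvectors, with roots of unity as eigenvalues.  Consequences: character values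
are algebraic integers, `conj (χ g) = χ g⁻¹`, `‖χ g‖ ≤ χ 1`, with the equality cases.
-/

namespace CfsgLib.CharIntegral

open Module Polynomial
open scoped ComplexConjugate

variable {V : Type*} [AddCommGroup V] [Module ℂ V] [FiniteDimensional ℂ V]

/-- An endomorphism of finite order has a basis of eigenvectors. -/
theorem exists_eigenbasis {f : Module.End ℂ V} {n : ℕ} (hn : n ≠ 0) (hf : f ^ n = 1) :
    ∃ (b : Basis (Fin (finrank ℂ V)) ℂ V) (μ : Fin (finrank ℂ V) → ℂ),
      ∀ i, f (b i) = μ i • b i ∧ μ i ^ n = 1 := by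
  have hp : (X ^ n - 1 : ℂ[X]).Separable :=
    X_pow_sub_one_separable_iff.mpr (Nat.cast_ne_zero.mpr hn)
  have hss : f.IsSemisimple := Module.End.isSemisimple_of_squarefree_aeval_eq_zero hp.squarefree
    (by simp [hf])
  have htop := hss.iSup_eigenspace_eq_top
  let s : Set V := {v | ∃ μ : ℂ, f v = μ • v}
  have hs : ⊤ ≤ Submodule.span ℂ s := by
    rw [← htop]
    exact iSup_le fun μ v hv => Submodule.subset_span ⟨μ, Module.End.mem_eigenspace_iff.mp hv⟩
  let B := Basis.ofSpan hs
  let b := B.reindex (Fintype.equivFinOfCardEq (finrank_eq_card_basis B).symm)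
  have hb : ∀ i, ∃ μ : ℂ, f (b i) = μ • b i := by
    intro i
    simp only [b, Basis.reindex_apply]
    exact Basis.ofSpan_subset hs (Set.mem_range_self _)
  choose μ hμ using hb
  refine ⟨b, μ, fun i => ⟨hμ i, ?_⟩⟩
  have hpow : ∀ m : ℕ, (f ^ m) (b i) = μ i ^ m • b i := by
    intro m
    induction m with
    | zero => simp
    | succ m ih => rw [pow_succ', Module.End.mul_apply, ih, map_smul, hμ i, smul_smul, ← pow_succ]
  have h := hpow n
  rw [hf, Module.End.one_apply] at h
  have h2 : (1 : ℂ) • b i = μ i ^ n • b i := by rw [one_smul]; exact h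
  exact (smul_left_injective ℂ (b.ne_zero i) h2).symm

omit [FiniteDimensional ℂ V] in
/-- The trace in an eigenbasis. -/
theorem trace_eq_sum_of_eigenbasis {ι : Type*} [Fintype ι] [DecidableEq ι] (b : Basis ι ℂ V)
    {f : Module.End ℂ V} {μ : ι → ℂ} (h : ∀ i, f (b i) = μ i • b i) :
    LinearMap.trace ℂ V f = ∑ i, μ i := by
  rw [LinearMap.trace_eq_matrix_trace ℂ b, Matrix.trace]
  exact Finset.sum_congr rfl fun i _ => by simp [LinearMap.toMatrix_apply, h i]

section Group

variable {G : Type*} [Group G] [Finite G] (ρ : Representation ℂ G V) (g : G)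

/-- Eigenbasis of `ρ g`, with eigenvalues roots of unity of order dividing `orderOf g`. -/
theorem exists_eigenbasis_apply :
    ∃ (b : Basis (Fin (finrank ℂ V)) ℂ V) (μ : Fin (finrank ℂ V) → ℂ),
      (∀ i, ρ g (b i) = μ i • b i) ∧ (∀ i, μ i ^ orderOf g = 1) ∧ (∀ i, ‖μ i‖ = 1) ∧
      ρ.character g = ∑ i, μ i ∧ ∀ m : ℕ, ρ.character (g ^ m) = ∑ i, μ i ^ m := by
  have hn : orderOf g ≠ 0 := (orderOf_pos g).ne'
  obtain ⟨b, μ, h⟩ := exists_eigenbasis (f := ρ g) hn
    (by rw [← map_pow, pow_orderOf_eq_one, map_one])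
  refine ⟨b, μ, fun i => (h i).1, fun i => (h i).2,
    fun i => Complex.norm_eq_one_of_pow_eq_one (h i).2 hn,
    trace_eq_sum_of_eigenbasis b fun i => (h i).1, fun m => trace_eq_sum_of_eigenbasis b fun i => ?_⟩
  rw [map_pow]
  induction m with
  | zero => simp
  | succ m ih => rw [pow_succ', Module.End.mul_apply, ih, map_smul, (h i).1, smul_smul, ← pow_succ]

/-- Character values are algebraic integers. -/
theorem isIntegral_character : IsIntegral ℤ (ρ.character g) := by
  obtain ⟨b, μ, -, hpow, -, hsum, -⟩ := exists_eigenbasis_apply ρ g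
  rw [hsum]
  exact IsIntegral.sum _ fun i _ =>
    IsIntegral.of_pow (orderOf_pos g) (by rw [hpow i]; exact isIntegral_one)

/-- `χ g⁻¹` is the complex conjugate of `χ g`. -/
theorem character_inv : ρ.character g⁻¹ = conj (ρ.character g) := by
  obtain ⟨b, μ, hb, hpow, hnorm, hsum, -⟩ := exists_eigenbasis_apply ρ g
  rw [hsum, map_sum]
  refine trace_eq_sum_of_eigenbasis b fun i => ?_
  have h0 : μ i ≠ 0 := norm_ne_zero_iff.mp (by simp [hnorm i])
  rw [← Complex.inv_eq_conj (hnorm i)]
  refine (ρ.apply_bijective g).1 ?_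
  rw [map_smul, hb i, smul_smul, inv_mul_cancel₀ h0, one_smul, ← Module.End.mul_apply, ← map_mul,
    mul_inv_cancel, map_one, Module.End.one_apply]

/-- `‖χ g‖ ≤ χ 1`. -/
theorem norm_character_le : ‖ρ.character g‖ ≤ (finrank ℂ V : ℝ) := by
  obtain ⟨b, μ, -, -, hnorm, hsum, -⟩ := exists_eigenbasis_apply ρ g
  rw [hsum]
  exact (norm_sum_le _ _).trans (by simp [hnorm])

/-- A sum of unit complex numbers of maximal norm has all summands equal. -/
theorem eq_of_norm_sum_eq {ι : Type*} [Fintype ι] (z : ι → ℂ) (hz : ∀ i, ‖z i‖ = 1)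
    (h : ‖∑ i, z i‖ = (Fintype.card ι : ℝ)) (i j : ι) : z i = z j := by
  classical
  by_contra hne
  have hij : i ≠ j := fun e => hne (e ▸ rfl)
  have hlt : ‖z i + z j‖ < 2 := by
    have h1 : ¬ SameRay ℝ (z i) (z j) := fun hs => hne (hs.eq_of_norm_eq (by rw [hz i, hz j]))
    have := norm_add_lt_of_not_sameRay h1
    rw [hz i, hz j] at this
    linarith
  have hcard : 2 ≤ Fintype.card ι := by
    have h := Finset.card_le_univ ({i, j} : Finset ι)
    rw [Finset.card_pair hij] at h
    exact h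
  have hsplit : ∑ k, z k = (z i + z j) + ∑ k ∈ (Finset.univ \ {i, j}), z k := by
    rw [← Finset.sum_pair hij, add_comm, Finset.sum_sdiff (Finset.subset_univ _)]
  have hrest : ‖∑ k ∈ (Finset.univ \ {i, j}), z k‖ ≤ ((Fintype.card ι - 2 : ℕ) : ℝ) := by
    refine (norm_sum_le _ _).trans (le_of_eq ?_)
    simp [hz, Finset.card_univ_sdiff, Finset.card_pair hij]
  rw [Nat.cast_sub hcard] at hrest
  have h2 := norm_add_le (z i + z j) (∑ k ∈ (Finset.univ \ {i, j}), z k)
  rw [← hsplit, h] at h2
  push_cast at hrest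
  linarith

/-- `‖χ g‖ = χ 1` forces `ρ g` to be a scalar. -/
theorem exists_scalar_of_norm_character_eq (h : ‖ρ.character g‖ = (finrank ℂ V : ℝ)) :
    ∃ ω : ℂ, ρ g = ω • (LinearMap.id : V →ₗ[ℂ] V) := by
  obtain ⟨b, μ, hb, -, hnorm, hsum, -⟩ := exists_eigenbasis_apply ρ g
  rw [hsum] at h
  have heq := eq_of_norm_sum_eq μ hnorm (by simpa using h)
  rcases Nat.eq_zero_or_pos (finrank ℂ V) with h0 | h0
  · exact ⟨1, b.ext fun i => absurd i.2 (by omega)⟩
  · refine ⟨μ ⟨0, h0⟩, b.ext fun i => ?_⟩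
    rw [hb i, heq i ⟨0, h0⟩]
    rfl

/-- If `ρ g` is a scalar, `‖χ g‖ = χ 1`. -/
theorem norm_character_eq_of_scalar {ω : ℂ} (h : ρ g = ω • (LinearMap.id : V →ₗ[ℂ] V)) :
    ‖ρ.character g‖ = (finrank ℂ V : ℝ) := by
  obtain ⟨b, μ, hb, -, hnorm, hsum, -⟩ := exists_eigenbasis_apply ρ g
  have hω : ∀ i, μ i = ω := fun i => by
    have := hb i
    rw [h] at this
    exact (smul_left_injective ℂ (b.ne_zero i) this).symm
  rcases Nat.eq_zero_or_pos (finrank ℂ V) with h0 | h0
  · have : IsEmpty (Fin (finrank ℂ V)) := ⟨fun i => absurd i.2 (by omega)⟩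
    simp [hsum, h0]
  · have hω1 : ‖ω‖ = 1 := hω ⟨0, h0⟩ ▸ hnorm ⟨0, h0⟩
    simp [hsum, hω, hω1]

/-- `χ g = χ 1` iff `g` acts trivially. -/
theorem character_eq_finrank_iff :
    ρ.character g = (finrank ℂ V : ℂ) ↔ ρ g = LinearMap.id := by
  constructor
  · intro h
    obtain ⟨ω, hω⟩ := exists_scalar_of_norm_character_eq ρ g (by rw [h]; simp)
    rcases Nat.eq_zero_or_pos (finrank ℂ V) with h0 | h0
    · have : Subsingleton V := Module.finrank_zero_iff.mp h0
      exact LinearMap.ext fun v => Subsingleton.elim _ _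
    · have hω1 : ω = 1 := by
        have h2 := congrArg (LinearMap.trace ℂ V) hω
        rw [map_smul, LinearMap.trace_id] at h2
        rw [Representation.character] at h
        rw [h, smul_eq_mul] at h2
        have hne : (finrank ℂ V : ℂ) ≠ 0 := Nat.cast_ne_zero.mpr (by omega)
        have := mul_right_cancel₀ hne (show (1 : ℂ) * (finrank ℂ V : ℂ) = ω * (finrank ℂ V : ℂ) by
          rw [one_mul]; exact h2)
        exact this.symm
      rw [hω, hω1, one_smul]
  · intro h
    rw [Representation.character, h]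
    exact LinearMap.trace_id ℂ V

/-- Integrality of the values of a character in the sense of `Cfsg.IsCharacter`. -/
theorem isIntegral_of_isCharacter {χ : G → ℂ} (hχ : Cfsg.IsCharacter G χ) (g : G) :
    IsIntegral ℤ (χ g) := by
  obtain ⟨n, ρ, rfl⟩ := hχ
  exact isIntegral_character ρ g

end Group

end CfsgLib.CharIntegral
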