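import Cfsg.Agent.Lib.Char.Virtual
import Cfsg.Agent.Lib.Char.Integral
import Cfsg.Prelude.Def_Solvable
import Mathlib.GroupTheory.Complement

/-!
# Frobenius' theorem: the kernel is a normal complement
-/

namespace CfsgLib.Frobenius

open scoped ComplexConjugate Pointwise
open CfsgLib.Char

variable {G : Type*} [Group G]

theorem mem_conj_smul {H : Subgroup G} {g x : G} :
    x ∈ MulAut.conj g • H ↔ g⁻¹ * x * g ∈ H := by
  rw [Subgroup.mem_pointwise_smul_iff_inv_smul_mem, MulAut.smul_def, ← map_inv, MulAut.conj_apply,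
    inv_inv]

/-- In a Frobenius group only elements of `H` conjugate a nontrivial element of `H` into `H`. -/
theorem mem_of_conj_mem {H : Subgroup G} (hH : Cfsg.IsFrobeniusComplement H) {h x : G}
    (hh : h ∈ H) (h1 : h ≠ 1) (hx : x⁻¹ * h * x ∈ H) : x ∈ H := by
  by_contra hxH
  refine h1 (Subgroup.mem_bot.mp ?_)
  rw [← hH.2.2 x hxH]
  exact ⟨hh, mem_conj_smul.mpr hx⟩

variable [Fintype G] {H : Subgroup G} (hH : Cfsg.IsFrobeniusComplement H)
include hH

/-- Induction of a class function vanishing at `1` restricts back to it. -/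
theorem indFun_coe {ψ : H → ℂ} (hψ : Cfsg.IsClassFunction H ψ) (h0 : ψ 1 = 0) (h : H) :
    Cfsg.indFun H ψ h = ψ h := by
  classical
  by_cases h1 : h = 1
  · subst h1
    rw [Subgroup.coe_one, indFun_apply_one, h0, mul_zero]
  have hne : (h : G) ≠ 1 := fun e => h1 (Subtype.ext e)
  rw [Cfsg.indFun, ← Finset.sum_subset (Finset.subset_univ (Finset.univ.filter (· ∈ H))),
    Finset.sum_congr rfl (g := fun _ => ψ h), Finset.sum_const, nsmul_eq_mul,
    ← Fintype.card_subtype, ← Nat.card_eq_fintype_card, ← mul_assoc,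
    inv_mul_cancel₀ (Nat.cast_ne_zero.mpr Nat.card_pos.ne'), one_mul]
  · intro x hx
    rw [Finset.mem_filter] at hx
    have := hψ h ⟨x, hx.2⟩⁻¹
    rw [inv_inv] at this
    rw [← this]
    exact extendByZero_coe H ψ (⟨x, hx.2⟩⁻¹ * h * ⟨x, hx.2⟩)
  · intro x _ hx
    refine extendByZero_of_notMem H ψ fun hmem => hx ?_
    exact Finset.mem_filter.mpr ⟨Finset.mem_univ _, mem_of_conj_mem hH h.2 hne hmem⟩

/-- An induced function vanishes on the Frobenius kernel if it does so at the identity. -/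
theorem indFun_eq_zero_of_mem_kernel {ψ : H → ℂ} (h0 : ψ 1 = 0) {x : G}
    (hx : x ∈ Cfsg.frobeniusKernel H) : Cfsg.indFun H ψ x = 0 := by
  rcases hx with rfl | hx
  · rw [indFun_apply_one, h0, mul_zero]
  · rw [Cfsg.indFun, Finset.sum_eq_zero, mul_zero]
    exact fun y _ => extendByZero_of_notMem H ψ fun hmem => hx y (mem_conj_smul.mpr hmem)

/-- Induction is an isometry on class functions vanishing at `1`. -/
theorem classInner_indFun [Fintype H] {ψ φ : H → ℂ} (hφ : Cfsg.IsClassFunction H φ)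
    (hφ0 : φ 1 = 0) :
    Cfsg.classInner (Cfsg.indFun H ψ) (Cfsg.indFun H φ) = Cfsg.classInner ψ φ := by
  rw [frobenius_reciprocity H ψ (isClassFunction_indFun H φ)]
  congr 1
  exact funext (indFun_coe hH hφ hφ0)

/-- A nontrivial irreducible character of the complement extends to `G`, with the kernel in the
kernel of the extension. -/
theorem exists_extension (θ : Cfsg.IrrCharacter H) :
    ∃ χ : G → ℂ, Cfsg.IsIrrCharacter G χ ∧ (∀ h : H, χ h = (θ : H → ℂ) h) ∧
      ∀ x ∈ Cfsg.frobeniusKernel H, χ x = χ 1 := by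
  classical
  by_cases hθ : θ = trivChar H
  · exact ⟨fun _ => 1, isIrrCharacter_one, fun h => by rw [hθ]; rfl, fun x _ => rfl⟩
  obtain ⟨n, hn, hθ1⟩ := IsIrr.exists_degree θ.2
  set ψ : H → ℂ := (θ : H → ℂ) - ((n : ℤ) : ℂ) • (fun _ => (1 : ℂ)) with hψdef
  have hψ : Cfsg.IsGeneralizedCharacter H ψ :=
    IsGen.sub (IsGen.of_irr θ.2) (IsGen.intCast_smul _ IsGen.one)
  have hψ0 : ψ 1 = 0 := by simp [hψdef, hθ1]
  have hψcl := IsGen.isClassFunction hψ
  set χ : G → ℂ := Cfsg.indFun H ψ + ((n : ℤ) : ℂ) • (fun _ => (1 : ℂ)) with hχdef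
  have hψθ : Cfsg.classInner (θ : H → ℂ) (fun _ => (1 : ℂ)) = 0 :=
    classInner_irr_of_ne hθ
  have hψθ' : Cfsg.classInner (fun _ => (1 : ℂ)) (θ : H → ℂ) = 0 :=
    classInner_irr_of_ne (Ne.symm hθ)
  have h11 : Cfsg.classInner (fun _ : H => (1 : ℂ)) (fun _ => (1 : ℂ)) = 1 :=
    classInner_irr_self (trivChar H)
  have h11G : Cfsg.classInner (fun _ : G => (1 : ℂ)) (fun _ => (1 : ℂ)) = 1 :=
    classInner_irr_self (trivChar G)
  have hone : Cfsg.classInner (Cfsg.indFun H ψ) (fun _ => (1 : ℂ)) = -(n : ℂ) := by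
    rw [frobenius_reciprocity H ψ (χ := fun _ : G => (1 : ℂ)) (IsGen.isClassFunction IsGen.one),
      hψdef, classInner_sub_left,
      classInner_smul_left, hψθ, h11]
    simp
  have hone' : Cfsg.classInner (fun _ => (1 : ℂ)) (Cfsg.indFun H ψ) = -(n : ℂ) := by
    rw [← classInner_conj_symm, hone]
    simp
  have hnorm : Cfsg.classInner χ χ = 1 := by
    simp only [hχdef, classInner_add_left, classInner_add_right, classInner_smul_left,
      classInner_smul_right, hone, hone', h11G, classInner_indFun hH hψcl hψ0]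
    rw [hψdef]
    simp only [classInner_sub_left, classInner_sub_right, classInner_smul_left,
      classInner_smul_right, hψθ, hψθ', h11, classInner_irr_self θ]
    simp
  have hgen : Cfsg.IsGeneralizedCharacter G χ :=
    IsGen.add (IsGen.indFun hψ) (IsGen.intCast_smul _ IsGen.one)
  have hχ1 : χ 1 = n := by simp [hχdef, indFun_apply_one, hψ0]
  refine ⟨χ, IsGen.isIrr_of_norm_one hgen hnorm (by rw [hχ1]; simpa using hn), fun h => ?_,
    fun x hx => ?_⟩
  · simp only [hχdef, Pi.add_apply, indFun_coe hH hψcl hψ0]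
    simp [hψdef]
  · simp [hχdef, indFun_eq_zero_of_mem_kernel hH hψ0 hx, indFun_apply_one, hψ0]

/-- The kernel has as many elements as the index of the complement. -/
theorem card_frobeniusKernel : Nat.card (Cfsg.frobeniusKernel H) = H.index := by
  classical
  let f : H → ℂ := fun h => if h = 1 then 0 else 1
  have hf : Cfsg.IsClassFunction H f := fun g x => by simp [f]
  have hf0 : f 1 = 0 := by simp [f]
  have hval : ∀ x : G, Cfsg.indFun H f x = if x ∈ Cfsg.frobeniusKernel H then 0 else 1 := by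
    intro x
    split_ifs with hx
    · exact indFun_eq_zero_of_mem_kernel hH hf0 hx
    · simp only [Cfsg.frobeniusKernel, Set.mem_setOf_eq, not_or, not_forall, not_not] at hx
      obtain ⟨hx1, g, hg⟩ := hx
      rw [mem_conj_smul] at hg
      have h := isClassFunction_indFun H f (g⁻¹ * x * g) g
      rw [show g * (g⁻¹ * x * g) * g⁻¹ = x by group] at h
      rw [h, show Cfsg.indFun H f (g⁻¹ * x * g) = f ⟨_, hg⟩ from indFun_coe hH hf hf0 ⟨_, hg⟩]
      refine if_neg fun e => hx1 ?_
      have e' : g⁻¹ * x * g = 1 := congrArg Subtype.val e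
      calc x = g * (g⁻¹ * x * g) * g⁻¹ := by group
        _ = 1 := by rw [e']; group
  have key := frobenius_reciprocity H f (χ := fun _ : G => (1 : ℂ)) (IsGen.isClassFunction IsGen.one)
  have hsumG : ∑ x, Cfsg.indFun H f x =
      ((Nat.card G - Nat.card (Cfsg.frobeniusKernel H) : ℕ) : ℂ) := by
    simp only [hval]
    rw [Finset.sum_ite, Finset.sum_const_zero, zero_add, Finset.sum_const, nsmul_eq_mul, mul_one,
      Finset.filter_not, Finset.card_univ_sdiff, ← Fintype.card_subtype]
    simp [Nat.card_eq_fintype_card]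
  have hsumH : ∑ h, f h = ((Nat.card H - 1 : ℕ) : ℂ) := by
    simp [f, Finset.sum_ite, Finset.filter_ne', Nat.card_eq_fintype_card]
  simp only [Cfsg.classInner, map_one, mul_one, hsumG, hsumH] at key
  have hle : Nat.card (Cfsg.frobeniusKernel H) ≤ Nat.card G :=
    Nat.card_le_card_of_injective _ Subtype.val_injective
  have hH1 : 1 ≤ Nat.card H := Nat.card_pos
  have hidx := H.index_mul_card
  have hG0 : (Nat.card G : ℂ) ≠ 0 := Nat.cast_ne_zero.mpr Nat.card_pos.ne'
  have hH0 : (Nat.card H : ℂ) ≠ 0 := Nat.cast_ne_zero.mpr Nat.card_pos.ne'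
  field_simp at key
  rw [Nat.cast_sub hle, Nat.cast_sub hH1, Nat.cast_one] at key
  have hidxC : (H.index : ℂ) * (Nat.card H : ℂ) = Nat.card G := by exact_mod_cast hidx
  have : ((Nat.card (Cfsg.frobeniusKernel H) : ℕ) : ℂ) * Nat.card H =
      (H.index : ℂ) * Nat.card H := by
    linear_combination -key - hidxC
  exact_mod_cast mul_right_cancel₀ hH0 this

/-- Frobenius' theorem. -/
theorem exists_normal_complement :
    ∃ N : Subgroup G, (N : Set G) = Cfsg.frobeniusKernel H ∧ N.Normal ∧
      Subgroup.IsComplement' N H := by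
  classical
  choose χ hirr hres hker using exists_extension hH
  choose n ρ hρ hχ using hirr
  let N : Subgroup G := ⨅ θ, MonoidHom.ker (ρ θ)
  have hNn : N.Normal := Subgroup.normal_iInf_normal fun θ => inferInstance
  have hmem : ∀ x, x ∈ N ↔ ∀ θ, χ θ x = χ θ 1 := by
    intro x
    rw [Subgroup.mem_iInf]
    refine forall_congr' fun θ => ?_
    rw [MonoidHom.mem_ker, ← hχ θ, Representation.char_one,
      CfsgLib.CharIntegral.character_eq_finrank_iff]
    exact Iff.rfl
  have hinf : ∀ h : H, (h : G) ∈ N → h = 1 := by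
    intro h hN
    by_contra h1
    have hall := (hmem _).mp hN
    have := Fintype.ofFinite (Cfsg.IrrCharacter H)
    have hz := sum_degree_mul_apply_of_ne_one h1
    rw [Finset.sum_congr rfl (g := fun θ : Cfsg.IrrCharacter H => (θ : H → ℂ) 1 ^ 2),
      sum_sq_degree] at hz
    · exact Nat.cast_ne_zero.mpr Nat.card_pos.ne' hz
    · intro θ _
      have h2 := hall θ
      rw [hres θ h] at h2
      have h3 := hres θ 1
      rw [Subgroup.coe_one] at h3
      rw [h2, h3, sq]
  have hN : (N : Set G) = Cfsg.frobeniusKernel H := by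
    ext x
    refine ⟨fun hx => ?_, fun hx => (hmem x).mpr fun θ => hker θ x hx⟩
    refine or_iff_not_imp_left.mpr fun h1 g hg => h1 ?_
    rw [mem_conj_smul] at hg
    have hc : g⁻¹ * x * g ∈ N := by
      have := hNn.conj_mem x hx g⁻¹
      rwa [inv_inv] at this
    have := congrArg Subtype.val (hinf ⟨_, hg⟩ hc)
    calc x = g * (g⁻¹ * x * g) * g⁻¹ := by group
      _ = 1 := by rw [show g⁻¹ * x * g = 1 from this]; group
  refine ⟨N, hN, hNn, Subgroup.isComplement'_of_card_mul_and_disjoint ?_ ?_⟩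
  · rw [← SetLike.coe_sort_coe, hN, card_frobeniusKernel hH, H.index_mul_card]
  · rw [Subgroup.disjoint_def]
    intro x hxN hxH
    exact congrArg Subtype.val (hinf ⟨x, hxH⟩ hxN)

end CfsgLib.Frobenius
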