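import Cfsg.Agent.Lib.Char.Rep
import Mathlib.RepresentationTheory.Character
import Mathlib.LinearAlgebra.FiniteDimensional.Lemmas

/-!
# `IsCharacter`, `IsIrrCharacter`, `classInner`: basic API

`χ.2.map_inv`, `classInner_irr`, `IsCharacter.exists_sum`, closure properties of characters.
-/

namespace CfsgLib.Char

open scoped ComplexConjugate
open Module

variable {G : Type*} [Group G]

section Make

variable {V : Type*} [AddCommGroup V] [Module ℂ V] [FiniteDimensional ℂ V]

theorem isCharacter_rep (ρ : Representation ℂ G V) : Cfsg.IsCharacter G ρ.character :=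
  ⟨_, mapEquiv ρ (finBasis ℂ V).equivFun, character_mapEquiv ρ _⟩

theorem isIrrCharacter_rep (ρ : Representation ℂ G V) [ρ.IsIrreducible] :
    Cfsg.IsIrrCharacter G ρ.character :=
  ⟨_, mapEquiv ρ (finBasis ℂ V).equivFun, isIrreducible_mapEquiv ρ _, character_mapEquiv ρ _⟩

/-- The bundled irreducible character of an irreducible representation. -/
noncomputable def irrOfRep (ρ : Representation ℂ G V) [ρ.IsIrreducible] : Cfsg.IrrCharacter G :=
  ⟨ρ.character, isIrrCharacter_rep ρ⟩

omit [FiniteDimensional ℂ V] in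
theorem isClassFunction_rep (ρ : Representation ℂ G V) :
    Cfsg.IsClassFunction G ρ.character :=
  fun g h => Representation.char_conj ρ g h

end Make

section Props

variable {χ ψ : G → ℂ}

theorem IsIrr.isCharacter (h : Cfsg.IsIrrCharacter G χ) : Cfsg.IsCharacter G χ :=
  let ⟨n, ρ, _, h⟩ := h
  ⟨n, ρ, h⟩

theorem IsChar.isClassFunction (h : Cfsg.IsCharacter G χ) : Cfsg.IsClassFunction G χ := by
  obtain ⟨n, ρ, rfl⟩ := h
  exact isClassFunction_rep ρ

theorem IsChar.map_mul_comm (h : Cfsg.IsCharacter G χ) (a b : G) : χ (a * b) = χ (b * a) := by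
  obtain ⟨n, ρ, rfl⟩ := h
  exact Representation.char_mul_comm ρ b a

theorem IsChar.exists_degree (h : Cfsg.IsCharacter G χ) : ∃ n : ℕ, χ 1 = n := by
  obtain ⟨n, ρ, rfl⟩ := h
  exact ⟨_, Representation.char_one ρ⟩

theorem IsChar.eq_zero_of_apply_one (h : Cfsg.IsCharacter G χ) (h1 : χ 1 = 0) : χ = 0 := by
  obtain ⟨n, ρ, rfl⟩ := h
  rw [Representation.char_one, Nat.cast_eq_zero] at h1
  haveI : Subsingleton (Fin n → ℂ) := finrank_zero_iff.mp h1
  funext g
  rw [Representation.character, Subsingleton.elim (ρ g) 0, map_zero, Pi.zero_apply]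

theorem IsIrr.exists_degree (h : Cfsg.IsIrrCharacter G χ) : ∃ n : ℕ, 0 < n ∧ χ 1 = n := by
  obtain ⟨n, ρ, hρ, rfl⟩ := h
  exact ⟨_, finrank_pos_of_irreducible ρ, Representation.char_one ρ⟩

theorem IsIrr.apply_one_ne_zero (h : Cfsg.IsIrrCharacter G χ) : χ 1 ≠ 0 := by
  obtain ⟨n, hn, h⟩ := IsIrr.exists_degree h
  rw [h]
  exact Nat.cast_ne_zero.mpr hn.ne'

theorem IsIrr.ne_zero (h : Cfsg.IsIrrCharacter G χ) : χ ≠ 0 :=
  fun h0 => IsIrr.apply_one_ne_zero h (by rw [h0]; rfl)

theorem IsChar.map_inv [Finite G] (h : Cfsg.IsCharacter G χ) (g : G) : χ g⁻¹ = conj (χ g) := by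
  obtain ⟨n, ρ, rfl⟩ := h
  exact character_inv ρ g

theorem IsChar.norm_le [Finite G] (h : Cfsg.IsCharacter G χ) (g : G) : ‖χ g‖ ≤ ‖χ 1‖ := by
  obtain ⟨n, ρ, rfl⟩ := h
  rw [Representation.char_one, Complex.norm_natCast]
  exact norm_character_le ρ g

theorem IsChar.isIntegral [Finite G] (h : Cfsg.IsCharacter G χ) (g : G) : IsIntegral ℤ (χ g) := by
  obtain ⟨n, ρ, rfl⟩ := h
  exact isIntegral_character ρ g

theorem IsIrr.isClassFunction (h : Cfsg.IsIrrCharacter G χ) : Cfsg.IsClassFunction G χ :=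
  IsChar.isClassFunction (IsIrr.isCharacter h)

theorem IsIrr.map_inv [Finite G] (h : Cfsg.IsIrrCharacter G χ) (g : G) : χ g⁻¹ = conj (χ g) :=
  IsChar.map_inv (IsIrr.isCharacter h) g

theorem irr_ext {χ ψ : Cfsg.IrrCharacter G} (h : ∀ g, (χ : G → ℂ) g = (ψ : G → ℂ) g) : χ = ψ :=
  Subtype.ext (funext h)

end Props

section Closure

variable {χ ψ : G → ℂ}

theorem isCharacter_zero : Cfsg.IsCharacter G (0 : G → ℂ) :=
  ⟨0, 1, funext fun g => by
    rw [Representation.character, Subsingleton.elim ((1 : Representation ℂ G (Fin 0 → ℂ)) g) 0,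
      map_zero, Pi.zero_apply]⟩

theorem IsChar.add (h₁ : Cfsg.IsCharacter G χ) (h₂ : Cfsg.IsCharacter G ψ) :
    Cfsg.IsCharacter G (χ + ψ) := by
  obtain ⟨m, ρ, rfl⟩ := h₁
  obtain ⟨n, σ, rfl⟩ := h₂
  have h : (ρ.prod σ).character = ρ.character + σ.character :=
    funext fun g => LinearMap.trace_prodMap' (ρ g) (σ g)
  exact h ▸ isCharacter_rep (ρ.prod σ)

theorem IsChar.mul (h₁ : Cfsg.IsCharacter G χ) (h₂ : Cfsg.IsCharacter G ψ) :
    Cfsg.IsCharacter G (χ * ψ) := by
  obtain ⟨m, ρ, rfl⟩ := h₁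
  obtain ⟨n, σ, rfl⟩ := h₂
  exact Representation.char_tensor ρ σ ▸ isCharacter_rep (ρ.tprod σ)

theorem IsChar.sum {ι : Type*} (s : Finset ι) (f : ι → G → ℂ)
    (h : ∀ i ∈ s, Cfsg.IsCharacter G (f i)) : Cfsg.IsCharacter G (∑ i ∈ s, f i) := by
  classical
  induction s using Finset.induction with
  | empty => simpa using isCharacter_zero
  | insert a s ha ih =>
    rw [Finset.sum_insert ha]
    exact IsChar.add (h a (Finset.mem_insert_self a s))
      (ih fun i hi => h i (Finset.mem_insert_of_mem hi))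

theorem IsChar.natCast_smul (m : ℕ) (h : Cfsg.IsCharacter G χ) :
    Cfsg.IsCharacter G ((m : ℂ) • χ) := by
  induction m with
  | zero => simpa using isCharacter_zero
  | succ k ih =>
    rw [Nat.cast_succ, add_smul, one_smul]
    exact IsChar.add ih h

theorem isIrrCharacter_linear (l : G →* ℂˣ) : Cfsg.IsIrrCharacter G (fun g => (l g : ℂ)) := by
  let ρ : Representation ℂ G ℂ :=
    { toFun := fun g => (l g : ℂ) • LinearMap.id
      map_one' := by ext; simp
      map_mul' := fun a b => by ext; simp [mul_comm] }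
  haveI : ρ.IsIrreducible := isIrreducible_of_finrank_eq_one ρ (finrank_self ℂ)
  have h : ρ.character = fun g => (l g : ℂ) := funext fun g => by
    show LinearMap.trace ℂ ℂ ((l g : ℂ) • LinearMap.id) = _
    simp
  exact h ▸ isIrrCharacter_rep ρ

theorem isIrrCharacter_one : Cfsg.IsIrrCharacter G (fun _ => (1 : ℂ)) :=
  isIrrCharacter_linear (1 : G →* ℂˣ)

theorem isCharacter_one : Cfsg.IsCharacter G (fun _ => (1 : ℂ)) :=
  IsIrr.isCharacter isIrrCharacter_one

/-- The trivial character. -/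
def trivChar (G : Type*) [Group G] : Cfsg.IrrCharacter G := ⟨fun _ => 1, isIrrCharacter_one⟩

@[simp]
theorem trivChar_apply (g : G) : (trivChar G : G → ℂ) g = 1 := rfl

theorem exists_linear_of_degree_one (h : Cfsg.IsCharacter G χ) (h1 : χ 1 = 1) :
    ∃ l : G →* ℂˣ, χ = fun g => (l g : ℂ) := by
  obtain ⟨n, ρ, rfl⟩ := h
  rw [Representation.char_one, Nat.cast_eq_one] at h1
  have hsc : ∀ g, ∃ c : ℂ, ρ g = c • LinearMap.id := fun g => by
    obtain ⟨v, hv, hspan⟩ := finrank_eq_one_iff'.mp h1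
    obtain ⟨c, hc⟩ := hspan (ρ g v)
    refine ⟨c, LinearMap.ext fun w => ?_⟩
    obtain ⟨d, rfl⟩ := hspan w
    simp only [LinearMap.smul_apply, LinearMap.id_coe, id_eq, map_smul, ← hc]
  choose c hc using hsc
  have hχ : ∀ g, ρ.character g = c g := fun g => by
    rw [Representation.character, hc, map_smul, LinearMap.trace_id, h1, Nat.cast_one, smul_eq_mul,
      mul_one]
  have hmul : ∀ a b, ρ.character (a * b) = ρ.character a * ρ.character b := fun a b => by
    rw [hχ a, hχ b, Representation.character, map_mul, hc a, hc b, smul_mul_smul_comm,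
      show (LinearMap.id : (Fin n → ℂ) →ₗ[ℂ] _) = 1 from rfl, one_mul, map_smul,
      LinearMap.trace_one, h1, Nat.cast_one, smul_eq_mul, mul_one]
  let m : G →* ℂ :=
    { toFun := ρ.character
      map_one' := by rw [Representation.char_one, h1, Nat.cast_one]
      map_mul' := hmul }
  exact ⟨m.toHomUnits, funext fun g => (MonoidHom.coe_toHomUnits m g).symm⟩

theorem IsChar.comp {H : Type*} [Group H] (f : H →* G) (h : Cfsg.IsCharacter G χ) :
    Cfsg.IsCharacter H (fun x => χ (f x)) := by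
  obtain ⟨n, ρ, rfl⟩ := h
  exact ⟨n, ρ.comp f, rfl⟩

theorem IsChar.restrict (K : Subgroup G) (h : Cfsg.IsCharacter G χ) :
    Cfsg.IsCharacter K (fun x : K => χ x) :=
  IsChar.comp K.subtype h

theorem IsIrr.comp_surjective {H : Type*} [Group H] (f : H →* G) (hf : Function.Surjective f)
    (h : Cfsg.IsIrrCharacter G χ) : Cfsg.IsIrrCharacter H (fun x => χ (f x)) := by
  obtain ⟨n, ρ, hρ, rfl⟩ := h
  refine ⟨n, ρ.comp f, ?_, rfl⟩
  let e : Subrepresentation (ρ.comp f : Representation ℂ H (Fin n → ℂ)) ≃o Subrepresentation ρ :=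
    { toFun := fun S => ⟨S.toSubmodule, fun g v hv => by
        obtain ⟨x, rfl⟩ := hf g
        exact S.apply_mem_toSubmodule x hv⟩
      invFun := fun S => ⟨S.toSubmodule, fun x v hv => S.apply_mem_toSubmodule (f x) hv⟩
      left_inv := fun S => rfl
      right_inv := fun S => rfl
      map_rel_iff' := Iff.rfl }
  exact e.isSimpleOrder

theorem IsChar.conj [Finite G] (h : Cfsg.IsCharacter G χ) :
    Cfsg.IsCharacter G (fun g => conj (χ g)) := by
  obtain ⟨n, ρ, rfl⟩ := h
  have h : ρ.dual.character = fun g => conj (ρ.character g) :=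
    funext fun g => (Representation.char_dual ρ g).trans (character_inv ρ g)
  exact h ▸ isCharacter_rep ρ.dual

end Closure

section Inner

variable [Fintype G] (φ φ₁ φ₂ ψ ψ₁ ψ₂ : G → ℂ) (c : ℂ)

theorem classInner_add_left :
    Cfsg.classInner (φ₁ + φ₂) ψ = Cfsg.classInner φ₁ ψ + Cfsg.classInner φ₂ ψ := by
  simp [Cfsg.classInner, add_mul, Finset.sum_add_distrib, mul_add]

theorem classInner_sub_left :
    Cfsg.classInner (φ₁ - φ₂) ψ = Cfsg.classInner φ₁ ψ - Cfsg.classInner φ₂ ψ := by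
  simp [Cfsg.classInner, sub_mul, Finset.sum_sub_distrib, mul_sub]

theorem classInner_smul_left : Cfsg.classInner (c • φ) ψ = c * Cfsg.classInner φ ψ := by
  simp [Cfsg.classInner, Finset.mul_sum, mul_left_comm, mul_assoc]

@[simp]
theorem classInner_zero_left : Cfsg.classInner (0 : G → ℂ) ψ = 0 := by simp [Cfsg.classInner]

theorem classInner_neg_left : Cfsg.classInner (-φ) ψ = -Cfsg.classInner φ ψ := by
  simp [Cfsg.classInner]

theorem classInner_sum_left {ι : Type*} (s : Finset ι) (f : ι → G → ℂ) :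
    Cfsg.classInner (∑ i ∈ s, f i) ψ = ∑ i ∈ s, Cfsg.classInner (f i) ψ := by
  simp only [Cfsg.classInner, Finset.sum_apply, Finset.sum_mul, ← Finset.mul_sum]
  rw [Finset.sum_comm]

theorem classInner_conj_symm : conj (Cfsg.classInner φ ψ) = Cfsg.classInner ψ φ := by
  simp [Cfsg.classInner, map_sum, mul_comm]

theorem classInner_add_right :
    Cfsg.classInner φ (ψ₁ + ψ₂) = Cfsg.classInner φ ψ₁ + Cfsg.classInner φ ψ₂ := by
  simp [Cfsg.classInner, mul_add, Finset.sum_add_distrib]

theorem classInner_sub_right :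
    Cfsg.classInner φ (ψ₁ - ψ₂) = Cfsg.classInner φ ψ₁ - Cfsg.classInner φ ψ₂ := by
  simp [Cfsg.classInner, Finset.sum_sub_distrib, mul_sub]

theorem classInner_smul_right : Cfsg.classInner φ (c • ψ) = conj c * Cfsg.classInner φ ψ := by
  simp [Cfsg.classInner, Finset.mul_sum, mul_left_comm]

@[simp]
theorem classInner_zero_right : Cfsg.classInner φ (0 : G → ℂ) = 0 := by simp [Cfsg.classInner]

theorem classInner_sum_right {ι : Type*} (s : Finset ι) (f : ι → G → ℂ) :
    Cfsg.classInner φ (∑ i ∈ s, f i) = ∑ i ∈ s, Cfsg.classInner φ (f i) := by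
  rw [← classInner_conj_symm, classInner_sum_left, map_sum]
  exact Finset.sum_congr rfl fun i _ => classInner_conj_symm _ _

end Inner

section Orthogonality

variable [Fintype G] {V W : Type*} [AddCommGroup V] [Module ℂ V] [FiniteDimensional ℂ V]
  [AddCommGroup W] [Module ℂ W] [FiniteDimensional ℂ W]

open scoped Classical in
theorem classInner_rep (ρ : Representation ℂ G V) (σ : Representation ℂ G W) [ρ.IsIrreducible]
    [σ.IsIrreducible] :
    Cfsg.classInner ρ.character σ.character = if Nonempty (σ.Equiv ρ) then 1 else 0 := by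
  haveI : Invertible (Nat.card G : ℂ) := invertibleOfNonzero (Nat.cast_ne_zero.mpr Nat.card_pos.ne')
  rw [← Representation.char_orthonormal ρ σ]
  simp only [Cfsg.classInner, character_inv]

theorem classInner_eq_finrank (ρ : Representation ℂ G V) (σ : Representation ℂ G W) :
    Cfsg.classInner σ.character ρ.character = (finrank ℂ (ρ.IntertwiningMap σ) : ℂ) := by
  haveI : Invertible (Nat.card G : ℂ) := invertibleOfNonzero (Nat.cast_ne_zero.mpr Nat.card_pos.ne')
  rw [← Representation.card_inv_mul_sum_char_mul_char_eq_finrank ρ σ]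
  simp only [Cfsg.classInner, character_inv]

/-- Irreducible representations with the same character are equivalent. -/
theorem nonempty_equiv_of_irreducible (ρ : Representation ℂ G V) (σ : Representation ℂ G W)
    [ρ.IsIrreducible] [σ.IsIrreducible] (h : ρ.character = σ.character) :
    Nonempty (σ.Equiv ρ) := by
  classical
  by_contra hne
  have h0 := classInner_rep ρ σ
  rw [if_neg hne, ← h, classInner_rep ρ ρ, if_pos ⟨Representation.Equiv.refl ρ⟩] at h0
  exact one_ne_zero h0

open scoped Classical in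
theorem classInner_irr (χ ψ : Cfsg.IrrCharacter G) :
    Cfsg.classInner (χ : G → ℂ) (ψ : G → ℂ) = if χ = ψ then 1 else 0 := by
  obtain ⟨n, ρ, hρ, h1⟩ := χ.2
  obtain ⟨m, σ, hσ, h2⟩ := ψ.2
  rw [← h1, ← h2, classInner_rep ρ σ]
  refine if_congr ⟨fun ⟨φ⟩ => Subtype.ext ?_, fun h => ?_⟩ rfl rfl
  · rw [← h1, ← h2]
    exact (Representation.char_iso φ).symm
  · exact nonempty_equiv_of_irreducible ρ σ (by rw [h1, h2, h])

theorem classInner_irr_self (χ : Cfsg.IrrCharacter G) :
    Cfsg.classInner (χ : G → ℂ) (χ : G → ℂ) = 1 := by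
  rw [classInner_irr, if_pos rfl]

theorem classInner_irr_of_ne {χ ψ : Cfsg.IrrCharacter G} (h : χ ≠ ψ) :
    Cfsg.classInner (χ : G → ℂ) (ψ : G → ℂ) = 0 := by
  rw [classInner_irr, if_neg h]

end Orthogonality

section Independent

theorem irr_linearIndependent [Finite G] :
    LinearIndependent ℂ (fun χ : Cfsg.IrrCharacter G => (χ : G → ℂ)) := by
  classical
  haveI := Fintype.ofFinite G
  rw [linearIndependent_iff']
  intro s c hc ψ hψ
  have h := congrArg (fun f => Cfsg.classInner f (ψ : G → ℂ)) hc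
  simpa [classInner_sum_left, classInner_smul_left, classInner_irr, hψ] using h

instance finite_irrCharacter [Finite G] : Finite (Cfsg.IrrCharacter G) :=
  (irr_linearIndependent (G := G)).finite

end Independent

section Decomposition

/-- Every representation's character is a sum of irreducible characters. -/
theorem exists_multiset [Finite G] {V : Type*} [AddCommGroup V] [Module ℂ V]
    [FiniteDimensional ℂ V] (ρ : Representation ℂ G V) :
    ∃ s : Multiset (Cfsg.IrrCharacter G), ρ.character = (s.map Subtype.val).sum := by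
  refine rep_induction (P := fun W _ _ σ =>
    ∃ s : Multiset (Cfsg.IrrCharacter G), σ.character = (s.map Subtype.val).sum) ?_ ?_ ?_ V ρ
  · intro W _ _ σ hW
    refine ⟨0, funext fun g => ?_⟩
    rw [Representation.character, Subsingleton.elim (σ g) 0, map_zero]
    simp
  · intro W _ _ _ σ hσ
    exact ⟨{irrOfRep σ}, by simp [irrOfRep]⟩
  · intro W _ _ _ σ S T hST hS hT
    obtain ⟨s, hs⟩ := hS
    obtain ⟨t, ht⟩ := hT
    exact ⟨s + t, by rw [character_of_isCompl hST, hs, ht]; simp⟩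

/-- A character is an `ℕ`-combination of irreducible characters. -/
theorem IsChar.exists_sum [Finite G] [Fintype (Cfsg.IrrCharacter G)] {χ : G → ℂ}
    (h : Cfsg.IsCharacter G χ) :
    ∃ m : Cfsg.IrrCharacter G → ℕ, χ = ∑ ψ, (m ψ : ℂ) • (ψ : G → ℂ) := by
  classical
  obtain ⟨n, ρ, rfl⟩ := h
  obtain ⟨s, hs⟩ := exists_multiset ρ
  refine ⟨fun ψ => s.count ψ, ?_⟩
  rw [hs, Finset.sum_multiset_map_count]
  simp only [Nat.cast_smul_eq_nsmul]
  exact Finset.sum_subset (Finset.subset_univ _) fun ψ _ hψ => by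
    rw [Multiset.count_eq_zero.mpr (fun hm => hψ (Multiset.mem_toFinset.mpr hm)), zero_smul]

theorem isCharacter_natCast_sum [Fintype (Cfsg.IrrCharacter G)] (m : Cfsg.IrrCharacter G → ℕ) :
    Cfsg.IsCharacter G (∑ ψ, (m ψ : ℂ) • (ψ : G → ℂ)) :=
  IsChar.sum _ _ fun ψ _ => IsChar.natCast_smul _ (IsIrr.isCharacter ψ.2)

theorem isCharacter_iff_exists_sum [Finite G] [Fintype (Cfsg.IrrCharacter G)] {χ : G → ℂ} :
    Cfsg.IsCharacter G χ ↔
      ∃ m : Cfsg.IrrCharacter G → ℕ, χ = ∑ ψ, (m ψ : ℂ) • (ψ : G → ℂ) :=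
  ⟨IsChar.exists_sum, fun ⟨m, hm⟩ => hm ▸ isCharacter_natCast_sum m⟩

theorem classInner_sum_irr [Fintype G] [Fintype (Cfsg.IrrCharacter G)]
    (a : Cfsg.IrrCharacter G → ℂ) (χ : Cfsg.IrrCharacter G) :
    Cfsg.classInner (∑ ψ, a ψ • (ψ : G → ℂ)) (χ : G → ℂ) = a χ := by
  classical
  simp [classInner_sum_left, classInner_smul_left, classInner_irr]

theorem IsChar.classInner_eq_natCast [Fintype G] {χ ψ : G → ℂ} (hχ : Cfsg.IsCharacter G χ)
    (hψ : Cfsg.IsCharacter G ψ) : ∃ n : ℕ, Cfsg.classInner χ ψ = n := by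
  obtain ⟨m, ρ, rfl⟩ := hχ
  obtain ⟨k, σ, rfl⟩ := hψ
  exact ⟨_, classInner_eq_finrank σ ρ⟩

end Decomposition

end CfsgLib.Char
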