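import Cfsg.Agent.Lib.Char.Complete

/-!
# Induction of functions from subgroups
-/

namespace CfsgLib.Char

open scoped ComplexConjugate

variable {G : Type*} [Group G]

theorem extendByZero_coe (H : Subgroup G) (θ : H → ℂ) (h : H) :
    Cfsg.extendByZero H θ (h : G) = θ h :=
  Subtype.val_injective.extend_apply θ 0 h

theorem extendByZero_of_mem (H : Subgroup G) (θ : H → ℂ) {g : G} (hg : g ∈ H) :
    Cfsg.extendByZero H θ g = θ ⟨g, hg⟩ :=
  extendByZero_coe H θ ⟨g, hg⟩

theorem extendByZero_of_notMem (H : Subgroup G) (θ : H → ℂ) {g : G} (hg : g ∉ H) :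
    Cfsg.extendByZero H θ g = 0 :=
  Function.extend_apply' _ _ _ fun ⟨a, ha⟩ => hg (ha ▸ a.2)

theorem sum_extendByZero_mul [Fintype G] (H : Subgroup G) [Fintype H] (θ : H → ℂ) (f : G → ℂ) :
    ∑ g, Cfsg.extendByZero H θ g * f g = ∑ h : H, θ h * f h := by
  classical
  rw [← Finset.sum_subset (Finset.subset_univ (Finset.univ.image (Subtype.val : H → G)))
    (fun g _ hg => by
      rw [extendByZero_of_notMem H θ (fun hgH => hg (Finset.mem_image.mpr
        ⟨⟨g, hgH⟩, Finset.mem_univ _, rfl⟩)), zero_mul]),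
    Finset.sum_image fun a _ b _ h => Subtype.ext h]
  exact Finset.sum_congr rfl fun h _ => by rw [extendByZero_coe]

variable [Fintype G] (H : Subgroup G)

theorem isClassFunction_indFun (θ : H → ℂ) : Cfsg.IsClassFunction G (Cfsg.indFun H θ) := by
  intro g x
  simp only [Cfsg.indFun]
  congr 1
  exact Fintype.sum_equiv (Equiv.mulLeft x⁻¹) _ _ fun y => by simp [mul_assoc]

theorem indFun_add (θ ψ : H → ℂ) :
    Cfsg.indFun H (θ + ψ) = Cfsg.indFun H θ + Cfsg.indFun H ψ := by
  classical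
  funext g
  simp only [Cfsg.indFun, Pi.add_apply, ← mul_add, ← Finset.sum_add_distrib]
  congr 1
  refine Finset.sum_congr rfl fun x _ => ?_
  by_cases h : x⁻¹ * g * x ∈ H
  · simp [extendByZero_of_mem _ _ h]
  · simp [extendByZero_of_notMem _ _ h]

theorem indFun_smul (c : ℂ) (θ : H → ℂ) :
    Cfsg.indFun H (c • θ) = c • Cfsg.indFun H θ := by
  classical
  funext g
  simp only [Cfsg.indFun, Pi.smul_apply, smul_eq_mul]
  rw [mul_left_comm c, Finset.mul_sum (a := c)]
  congr 1
  refine Finset.sum_congr rfl fun x _ => ?_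
  by_cases h : x⁻¹ * g * x ∈ H
  · simp [extendByZero_of_mem _ _ h]
  · simp [extendByZero_of_notMem _ _ h]

theorem indFun_zero : Cfsg.indFun H (0 : H → ℂ) = 0 := by
  have := indFun_smul H (0 : ℂ) (0 : H → ℂ)
  simpa using this

theorem indFun_sum {ι : Type*} (s : Finset ι) (f : ι → H → ℂ) :
    Cfsg.indFun H (∑ i ∈ s, f i) = ∑ i ∈ s, Cfsg.indFun H (f i) := by
  classical
  induction s using Finset.induction with
  | empty => simpa using indFun_zero H
  | insert a s ha ih => rw [Finset.sum_insert ha, Finset.sum_insert ha, indFun_add, ih]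

theorem indFun_sub (θ ψ : H → ℂ) :
    Cfsg.indFun H (θ - ψ) = Cfsg.indFun H θ - Cfsg.indFun H ψ := by
  rw [eq_sub_iff_add_eq, ← indFun_add, sub_add_cancel]

theorem indFun_apply_one (θ : H → ℂ) : Cfsg.indFun H θ 1 = (H.index : ℂ) * θ 1 := by
  have h : ∀ x : G, Cfsg.extendByZero H θ (x⁻¹ * 1 * x) = θ 1 := fun x => by
    rw [mul_one, inv_mul_cancel]
    exact extendByZero_coe H θ 1
  simp only [Cfsg.indFun, h, Finset.sum_const, Finset.card_univ, nsmul_eq_mul]
  rw [← mul_assoc, ← Nat.card_eq_fintype_card, ← H.card_mul_index, Nat.cast_mul, ← mul_assoc,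
    inv_mul_cancel₀ (Nat.cast_ne_zero.mpr Nat.card_pos.ne'), one_mul]

/-- Frobenius reciprocity. -/
theorem frobenius_reciprocity [Fintype H] (θ : H → ℂ) {χ : G → ℂ}
    (hχ : Cfsg.IsClassFunction G χ) :
    Cfsg.classInner (Cfsg.indFun H θ) χ = Cfsg.classInner θ (fun h : H => χ h) := by
  have key : ∀ x : G, ∑ g, Cfsg.extendByZero H θ (x⁻¹ * g * x) * conj (χ g) =
      ∑ h : H, θ h * conj (χ h) := fun x => by
    rw [← sum_extendByZero_mul H θ (fun g => conj (χ g))]
    refine Fintype.sum_equiv (MulAut.conj x⁻¹).toEquiv _ _ fun g => ?_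
    simp only [MulEquiv.toEquiv_eq_coe, MulEquiv.coe_toEquiv, MulAut.conj_apply]
    rw [hχ g x⁻¹]
    simp
  have h2 : ∑ g, Cfsg.indFun H θ g * conj (χ g) =
      (Nat.card H : ℂ)⁻¹ * ((Nat.card G : ℂ) * ∑ h : H, θ h * conj (χ h)) := by
    calc ∑ g, Cfsg.indFun H θ g * conj (χ g)
        = (Nat.card H : ℂ)⁻¹ *
            ∑ g, ∑ x : G, Cfsg.extendByZero H θ (x⁻¹ * g * x) * conj (χ g) := by
          rw [Finset.mul_sum]
          refine Finset.sum_congr rfl fun g _ => ?_
          rw [Cfsg.indFun, mul_assoc, Finset.sum_mul]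
      _ = _ := by
          rw [Finset.sum_comm]
          simp [key, Nat.card_eq_fintype_card]
  simp only [Cfsg.classInner, h2]
  field_simp [Nat.cast_ne_zero.mpr Nat.card_pos.ne']

/-- The character induced from a character is a character. -/
theorem isCharacter_indFun {θ : H → ℂ} (hθ : Cfsg.IsCharacter H θ) :
    Cfsg.IsCharacter G (Cfsg.indFun H θ) := by
  classical
  haveI := Fintype.ofFinite (Cfsg.IrrCharacter G)
  haveI := Fintype.ofFinite H
  have h : ∀ χ : Cfsg.IrrCharacter G, ∃ n : ℕ,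
      Cfsg.classInner (Cfsg.indFun H θ) (χ : G → ℂ) = n := fun χ => by
    rw [frobenius_reciprocity H θ (IsIrr.isClassFunction χ.2)]
    exact IsChar.classInner_eq_natCast hθ (IsChar.restrict H (IsIrr.isCharacter χ.2))
  choose m hm using h
  rw [classFunction_eq_sum (isClassFunction_indFun H θ)]
  simp only [hm]
  exact isCharacter_natCast_sum m

end CfsgLib.Char
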