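import Cfsg.Agent.Lib.Char.Basic
import Mathlib.GroupTheory.GroupAction.Quotient
import Mathlib.LinearAlgebra.Dimension.Finite
import Mathlib.LinearAlgebra.FreeModule.Finite.Matrix
import Mathlib.Algebra.MonoidAlgebra.Module

/-!
# Completeness of the irreducible characters, column orthogonality, the regular character,
irreducibility criteria
-/

namespace CfsgLib.Char

open scoped ComplexConjugate
open Module

variable {G : Type*} [Group G]

theorem isClassFunction_iff_isConj {θ : G → ℂ} :
    Cfsg.IsClassFunction G θ ↔ ∀ a b, IsConj a b → θ a = θ b := by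
  refine ⟨fun h a b hab => ?_, fun h g x => (h _ _ (isConj_iff.mpr ⟨x, rfl⟩)).symm⟩
  obtain ⟨c, rfl⟩ := isConj_iff.mp hab
  exact (h a c).symm

theorem IsClass.map_mul_comm {θ : G → ℂ} (h : Cfsg.IsClassFunction G θ) (a b : G) :
    θ (a * b) = θ (b * a) := by
  have := h (a * b) b
  rw [← this]
  group

section Operator

variable [Fintype G] {V : Type*} [AddCommGroup V] [Module ℂ V]

/-- `∑ g, θ g • ρ g` commutes with the representation when `θ` is a class function. -/
theorem sum_smul_commute {θ : G → ℂ} (hθ : Cfsg.IsClassFunction G θ)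
    (ρ : Representation ℂ G V) (h : G) :
    (∑ g, θ g • ρ g) * ρ h = ρ h * ∑ g, θ g • ρ g := by
  rw [Finset.sum_mul, Finset.mul_sum]
  refine Fintype.sum_equiv (MulAut.conj h⁻¹).toEquiv _ _ fun g => ?_
  rw [smul_mul_assoc, mul_smul_comm, ← map_mul, ← map_mul]
  simp only [MulEquiv.toEquiv_eq_coe, MulEquiv.coe_toEquiv, MulAut.conj_apply]
  rw [hθ g h⁻¹]
  simp [mul_assoc]

variable [FiniteDimensional ℂ V]

/-- The scalar by which an equivariant endomorphism of an irreducible representation acts. -/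
theorem exists_eq_smul_of_commute (ρ : Representation ℂ G V) [ρ.IsIrreducible] (f : Module.End ℂ V)
    (hf : ∀ h, f * ρ h = ρ h * f) : ∃ c : ℂ, f = c • LinearMap.id := by
  let F : ρ.IntertwiningMap ρ := ⟨f, hf⟩
  obtain ⟨c, hc⟩ := (Representation.IsIrreducible.algebraMap_intertwiningMap_bijective_of_isAlgClosed
    (ρ := ρ)).2 F
  refine ⟨c, ?_⟩
  have h2 : (algebraMap ℂ (ρ.IntertwiningMap ρ) c).toLinearMap = f := by rw [hc]
  rw [← h2, Algebra.algebraMap_eq_smul_one]
  rfl

end Operator

/-- A class function orthogonal to all irreducible characters acts as zero on every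
representation. -/
theorem sum_smul_eq_zero [Fintype G] {θ : G → ℂ} (hθ : Cfsg.IsClassFunction G θ)
    (h : ∀ χ : Cfsg.IrrCharacter G, ∑ g, θ g * (χ : G → ℂ) g = 0)
    {V : Type*} [AddCommGroup V] [Module ℂ V] [FiniteDimensional ℂ V] (ρ : Representation ℂ G V) :
    ∀ v, ∑ g, θ g • ρ g v = 0 := by
  refine rep_induction (P := fun W _ _ σ => ∀ v, ∑ g, θ g • σ g v = 0) ?_ ?_ ?_ V ρ
  · intro W _ _ σ hW v
    exact Subsingleton.elim _ _
  · intro W _ _ _ σ hσ v
    obtain ⟨c, hc⟩ := exists_eq_smul_of_commute σ _ (sum_smul_commute hθ σ)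
    have htr := congrArg (LinearMap.trace ℂ W) hc
    simp only [map_sum, map_smul, LinearMap.trace_id, smul_eq_mul] at htr
    have h1 : ∑ g, θ g * σ.character g = 0 := h (irrOfRep σ)
    have h2 : (finrank ℂ W : ℂ) ≠ 0 := Nat.cast_ne_zero.mpr (finrank_pos_of_irreducible σ).ne'
    have hc0 : c = 0 := by
      rcases mul_eq_zero.mp (htr.symm.trans h1) with h0 | h0
      · exact h0
      · exact absurd h0 h2
    rw [hc0, zero_smul] at hc
    simpa using LinearMap.congr_fun hc v
  · intro W _ _ _ σ S T hST hS hT v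
    have hv : v ∈ S.toSubmodule ⊔ T.toSubmodule := hST.sup_eq_top ▸ Submodule.mem_top
    obtain ⟨s, hs, t, ht, rfl⟩ := Submodule.mem_sup.mp hv
    have h1 := congrArg Subtype.val (hS ⟨s, hs⟩)
    have h2 := congrArg Subtype.val (hT ⟨t, ht⟩)
    simp only [Submodule.coe_sum, Submodule.coe_smul, ZeroMemClass.coe_zero,
      Subrepresentation.toRepresentation, MonoidHom.coe_mk, OneHom.coe_mk,
      LinearMap.restrict_apply] at h1 h2
    simp only [map_add, smul_add, Finset.sum_add_distrib, h1, h2, add_zero]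

theorem eq_zero_of_classInner_eq_zero [Fintype G] {θ : G → ℂ} (hθ : Cfsg.IsClassFunction G θ)
    (h : ∀ χ : Cfsg.IrrCharacter G, Cfsg.classInner θ (χ : G → ℂ) = 0) : θ = 0 := by
  classical
  have hne : (Nat.card G : ℂ)⁻¹ ≠ 0 := inv_ne_zero (Nat.cast_ne_zero.mpr Nat.card_pos.ne')
  have hθ' : Cfsg.IsClassFunction G (fun g => θ g⁻¹) := fun g x => by
    show θ (x * g * x⁻¹)⁻¹ = θ g⁻¹
    rw [← hθ g⁻¹ x]
    group
  have h' : ∀ χ : Cfsg.IrrCharacter G, ∑ g, θ g⁻¹ * (χ : G → ℂ) g = 0 := fun χ => by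
    have hh := (mul_eq_zero.mp (h χ)).resolve_left hne
    rw [← hh]
    exact Fintype.sum_equiv (Equiv.inv G) _ _ fun g => by
      simp [← IsIrr.map_inv χ.2]
  have h1 := sum_smul_eq_zero hθ' h' (Representation.leftRegular ℂ G) (MonoidAlgebra.single 1 1)
  funext a
  have h2 := congrArg (fun f : MonoidAlgebra ℂ G => f.coeff a⁻¹) h1
  simpa [Representation.ofMulAction_single, Finsupp.single_apply] using h2

theorem eq_of_classInner_eq [Fintype G] {θ ψ : G → ℂ} (hθ : Cfsg.IsClassFunction G θ)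
    (hψ : Cfsg.IsClassFunction G ψ)
    (h : ∀ χ : Cfsg.IrrCharacter G,
      Cfsg.classInner θ (χ : G → ℂ) = Cfsg.classInner ψ (χ : G → ℂ)) : θ = ψ :=
  sub_eq_zero.mp <| eq_zero_of_classInner_eq_zero
    (fun g x => by simp [hθ g x, hψ g x]) fun χ => by rw [classInner_sub_left, h, sub_self]

theorem isClassFunction_sum_irr [Fintype (Cfsg.IrrCharacter G)]
    (a : Cfsg.IrrCharacter G → ℂ) :
    Cfsg.IsClassFunction G (∑ χ, a χ • (χ : G → ℂ)) := fun g x => by
  simp [fun χ : Cfsg.IrrCharacter G => IsIrr.isClassFunction χ.2 g x]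

/-- A class function is the combination of the irreducible characters given by inner products. -/
theorem classFunction_eq_sum [Fintype G] [Fintype (Cfsg.IrrCharacter G)] {θ : G → ℂ}
    (hθ : Cfsg.IsClassFunction G θ) :
    θ = ∑ χ : Cfsg.IrrCharacter G, Cfsg.classInner θ (χ : G → ℂ) • (χ : G → ℂ) :=
  eq_of_classInner_eq hθ (isClassFunction_sum_irr _) fun χ => by rw [classInner_sum_irr]

theorem classFunction_apply_eq_sum [Fintype G] [Fintype (Cfsg.IrrCharacter G)] {θ : G → ℂ}
    (hθ : Cfsg.IsClassFunction G θ) (g : G) :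
    θ g = ∑ χ : Cfsg.IrrCharacter G, Cfsg.classInner θ (χ : G → ℂ) * (χ : G → ℂ) g := by
  conv_lhs => rw [classFunction_eq_sum hθ]
  simp

/-- Parseval for class functions. -/
theorem classInner_eq_sum [Fintype G] [Fintype (Cfsg.IrrCharacter G)] {θ : G → ℂ}
    (hθ : Cfsg.IsClassFunction G θ) (ψ : G → ℂ) :
    Cfsg.classInner θ ψ = ∑ χ : Cfsg.IrrCharacter G,
      Cfsg.classInner θ (χ : G → ℂ) * conj (Cfsg.classInner ψ (χ : G → ℂ)) := by
  conv_lhs => rw [classFunction_eq_sum hθ]
  simp only [classInner_sum_left, classInner_smul_left, classInner_conj_symm]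

theorem card_irrCharacter [Finite G] :
    Nat.card (Cfsg.IrrCharacter G) = Nat.card (ConjClasses G) := by
  classical
  haveI := Fintype.ofFinite G
  haveI := Fintype.ofFinite (Cfsg.IrrCharacter G)
  haveI : Finite (ConjClasses G) := Finite.of_surjective _ ConjClasses.mk_surjective
  haveI := Fintype.ofFinite (ConjClasses G)
  let f : (ConjClasses G → ℂ) →ₗ[ℂ] (G → ℂ) := LinearMap.funLeft ℂ ℂ ConjClasses.mk
  have hf : Function.Injective f :=
    LinearMap.funLeft_injective_of_surjective ℂ ℂ ConjClasses.mk ConjClasses.mk_surjective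
  have hspan : Submodule.span ℂ (Set.range fun χ : Cfsg.IrrCharacter G => (χ : G → ℂ)) =
      LinearMap.range f := by
    apply le_antisymm
    · rw [Submodule.span_le]
      rintro _ ⟨χ, rfl⟩
      refine ⟨Quotient.lift (χ : G → ℂ) fun a b hab =>
        isClassFunction_iff_isConj.mp (IsIrr.isClassFunction χ.2) a b hab, ?_⟩
      funext g
      rfl
    · rintro _ ⟨a, rfl⟩
      have ha : Cfsg.IsClassFunction G (f a) := isClassFunction_iff_isConj.mpr fun x y hxy => by
        show a (ConjClasses.mk x) = a (ConjClasses.mk y)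
        rw [ConjClasses.mk_eq_mk_iff_isConj.mpr hxy]
      rw [classFunction_eq_sum ha]
      exact Submodule.sum_mem _ fun χ _ => Submodule.smul_mem _ _ (Submodule.subset_span ⟨χ, rfl⟩)
  have h1 := finrank_span_eq_card (irr_linearIndependent (G := G))
  rw [hspan, LinearMap.finrank_range_of_inj hf, finrank_pi] at h1
  rw [Nat.card_eq_fintype_card, Nat.card_eq_fintype_card, h1]

theorem card_carrier_eq_index (g : G) :
    Nat.card (ConjClasses.mk g).carrier = (Subgroup.centralizer ({g} : Set G)).index := by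
  have h : (Subgroup.centralizer ({g} : Set G)).index =
      (MulAction.stabilizer (ConjAct G) g).index :=
    (congrArg Subgroup.index (ConjAct.stabilizer_eq_centralizer g)).symm
  rw [h, MulAction.index_stabilizer, ConjAct.orbit_eq_carrier_conjClasses, Nat.card_coe_set_eq]

/-- Column orthogonality. -/
theorem column_orthogonality [Finite G] [Fintype (Cfsg.IrrCharacter G)] (g h : G)
    [Decidable (IsConj g h)] :
    ∑ χ : Cfsg.IrrCharacter G, (χ : G → ℂ) g * conj ((χ : G → ℂ) h) =
      if IsConj g h then (Nat.card (Subgroup.centralizer ({g} : Set G)) : ℂ) else 0 := by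
  classical
  haveI := Fintype.ofFinite G
  let d : G → ℂ := fun x => if IsConj x h then 1 else 0
  have hd : Cfsg.IsClassFunction G d := isClassFunction_iff_isConj.mpr fun a b hab => by
    simp only [d]
    exact if_congr ⟨fun hh => hab.symm.trans hh, fun hh => hab.trans hh⟩ rfl rfl
  have hinner : ∀ χ : Cfsg.IrrCharacter G, Cfsg.classInner d (χ : G → ℂ) =
      (Nat.card G : ℂ)⁻¹ * ((ConjClasses.mk h).carrier.ncard * conj ((χ : G → ℂ) h)) := fun χ => by
    have hc : (ConjClasses.mk h).carrier.ncard =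
        (Finset.univ.filter (fun x => IsConj x h)).card := by
      rw [← Set.ncard_coe_finset]
      congr 1
      ext x
      simp only [ConjClasses.mem_carrier_iff_mk_eq, Finset.coe_filter, Finset.mem_univ, true_and,
        Set.mem_ofPred_eq]
      exact ConjClasses.mk_eq_mk_iff_isConj
    rw [Cfsg.classInner, hc, ← nsmul_eq_mul]
    congr 1
    simp only [d, ite_mul, one_mul, zero_mul, ← Finset.sum_filter]
    exact Finset.sum_eq_card_nsmul fun x hx => by
      rw [isClassFunction_iff_isConj.mp (IsIrr.isClassFunction χ.2) x h (Finset.mem_filter.mp hx).2]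
  have h1 := classFunction_apply_eq_sum hd g
  simp only [hinner] at h1
  have hne : (Nat.card G : ℂ) ≠ 0 := Nat.cast_ne_zero.mpr Nat.card_pos.ne'
  have hk0 : (ConjClasses.mk h).carrier.ncard ≠ 0 :=
    ((Set.ncard_pos (Set.toFinite _)).mpr ⟨h, ConjClasses.mem_carrier_mk⟩).ne'
  have hk : ((ConjClasses.mk h).carrier.ncard : ℂ) ≠ 0 := Nat.cast_ne_zero.mpr hk0
  have h2 : (∑ χ : Cfsg.IrrCharacter G, (χ : G → ℂ) g * conj ((χ : G → ℂ) h)) =
      (Nat.card G : ℂ) / (ConjClasses.mk h).carrier.ncard * if IsConj g h then 1 else 0 := by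
    rw [show (if IsConj g h then (1 : ℂ) else 0) = d g by simp only [d]; congr, h1,
      Finset.mul_sum]
    exact Finset.sum_congr rfl fun χ _ => by field_simp
  rw [h2]
  by_cases hgh : IsConj g h
  · rw [if_pos hgh, if_pos hgh, mul_one, div_eq_iff hk]
    have hcl : (ConjClasses.mk h).carrier.ncard =
        (Subgroup.centralizer ({g} : Set G)).index := by
      rw [← card_carrier_eq_index, ConjClasses.mk_eq_mk_iff_isConj.mpr hgh,
        Nat.card_coe_set_eq]
    rw [hcl, ← Nat.cast_mul, Subgroup.card_mul_index]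
  · rw [if_neg hgh, if_neg hgh, mul_zero]

theorem sum_sq_degree [Finite G] [Fintype (Cfsg.IrrCharacter G)] :
    ∑ χ : Cfsg.IrrCharacter G, (χ : G → ℂ) 1 ^ 2 = (Nat.card G : ℂ) := by
  classical
  have h := column_orthogonality (1 : G) 1
  rw [if_pos (IsConj.refl 1), show Subgroup.centralizer ({1} : Set G) = ⊤ by
    ext x; simp [Subgroup.mem_centralizer_singleton_iff], Subgroup.card_top] at h
  rw [← h]
  refine Finset.sum_congr rfl fun χ _ => ?_
  obtain ⟨n, -, hn⟩ := IsIrr.exists_degree χ.2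
  simp [hn, sq]

theorem sum_degree_mul_apply_of_ne_one [Finite G] [Fintype (Cfsg.IrrCharacter G)] {g : G}
    (hg : g ≠ 1) : ∑ χ : Cfsg.IrrCharacter G, (χ : G → ℂ) 1 * (χ : G → ℂ) g = 0 := by
  classical
  have h := column_orthogonality g 1
  rw [if_neg (fun hc => hg (isConj_one_left.mp hc))] at h
  rw [← h]
  refine Finset.sum_congr rfl fun χ _ => ?_
  obtain ⟨n, -, hn⟩ := IsIrr.exists_degree χ.2
  simp [hn, mul_comm]

theorem character_leftRegular [Fintype G] [DecidableEq G] (g : G) :
    (Representation.leftRegular ℂ G).character g = if g = 1 then (Nat.card G : ℂ) else 0 := by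
  rw [Representation.character,
    LinearMap.trace_eq_matrix_trace ℂ (MonoidAlgebra.basis G ℂ), Matrix.trace]
  by_cases hg : g = 1
  · subst hg
    simp [Matrix.diag, LinearMap.toMatrix_apply, MonoidAlgebra.basis]
  · rw [if_neg hg]
    refine Finset.sum_eq_zero fun x _ => ?_
    simp [Matrix.diag, LinearMap.toMatrix_apply, MonoidAlgebra.basis, Finsupp.single_apply, hg]

section Criteria

theorem IsChar.classInner_self [Fintype G] [Fintype (Cfsg.IrrCharacter G)]
    (m : Cfsg.IrrCharacter G → ℂ) :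
    Cfsg.classInner (∑ ψ, m ψ • (ψ : G → ℂ)) (∑ ψ, m ψ • (ψ : G → ℂ)) = ∑ ψ, m ψ * conj (m ψ) := by
  rw [classInner_eq_sum (isClassFunction_sum_irr m)]
  simp only [classInner_sum_irr]

theorem IsChar.isIrr_of_classInner_eq_one [Fintype G] {χ : G → ℂ} (h : Cfsg.IsCharacter G χ)
    (h1 : Cfsg.classInner χ χ = 1) : Cfsg.IsIrrCharacter G χ := by
  classical
  haveI := Fintype.ofFinite (Cfsg.IrrCharacter G)
  obtain ⟨m, rfl⟩ := IsChar.exists_sum h
  rw [IsChar.classInner_self] at h1
  simp only [map_natCast] at h1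
  have h2 : ∑ ψ, m ψ * m ψ = 1 := by exact_mod_cast h1
  obtain ⟨ψ₀, hψ₀⟩ : ∃ ψ, m ψ ≠ 0 := by
    by_contra h0
    push Not at h0
    simp [h0] at h2
  rw [← Finset.add_sum_erase _ _ (Finset.mem_univ ψ₀)] at h2
  have h3 : 1 ≤ m ψ₀ * m ψ₀ := Nat.one_le_iff_ne_zero.mpr (mul_ne_zero hψ₀ hψ₀)
  have h4 : m ψ₀ = 1 := by
    have : m ψ₀ ≤ m ψ₀ * m ψ₀ := Nat.le_mul_self _
    omega
  have h5 : ∀ ψ, ψ ≠ ψ₀ → m ψ = 0 := fun ψ hψ => by
    have h6 : ∑ x ∈ Finset.univ.erase ψ₀, m x * m x = 0 := by omega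
    exact mul_self_eq_zero.mp
      (Finset.sum_eq_zero_iff.mp h6 ψ (Finset.mem_erase.mpr ⟨hψ, Finset.mem_univ _⟩))
  rw [Finset.sum_eq_single ψ₀ (fun ψ _ hψ => by rw [h5 ψ hψ, Nat.cast_zero, zero_smul])
    (fun hh => absurd (Finset.mem_univ _) hh), h4, Nat.cast_one, one_smul]
  exact ψ₀.2

theorem isIrr_iff_classInner_eq_one [Fintype G] {χ : G → ℂ} :
    Cfsg.IsIrrCharacter G χ ↔ Cfsg.IsCharacter G χ ∧ Cfsg.classInner χ χ = 1 :=
  ⟨fun h => ⟨IsIrr.isCharacter h, classInner_irr_self ⟨χ, h⟩⟩,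
    fun h => IsChar.isIrr_of_classInner_eq_one h.1 h.2⟩

theorem IsChar.eq_zero_of_classInner_self [Fintype G] {χ : G → ℂ} (h : Cfsg.IsCharacter G χ)
    (h1 : Cfsg.classInner χ χ = 0) : χ = 0 := by
  classical
  haveI := Fintype.ofFinite (Cfsg.IrrCharacter G)
  obtain ⟨m, rfl⟩ := IsChar.exists_sum h
  rw [IsChar.classInner_self] at h1
  simp only [map_natCast] at h1
  have h2 : ∑ ψ, m ψ * m ψ = 0 := by exact_mod_cast h1
  refine Finset.sum_eq_zero fun ψ hψ => ?_
  rw [mul_self_eq_zero.mp (Finset.sum_eq_zero_iff.mp h2 ψ hψ), Nat.cast_zero, zero_smul]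

/-- A representation is irreducible iff its character has norm one. -/
theorem isIrreducible_iff_classInner_eq_one [Fintype G] {V : Type*} [AddCommGroup V] [Module ℂ V]
    [FiniteDimensional ℂ V] (ρ : Representation ℂ G V) :
    ρ.IsIrreducible ↔ Cfsg.classInner ρ.character ρ.character = 1 := by
  classical
  refine ⟨fun h => by rw [classInner_rep ρ ρ, if_pos ⟨Representation.Equiv.refl ρ⟩], fun h => ?_⟩
  rcases subsingleton_or_nontrivial V with hV | hV
  · have h0 : ρ.character = 0 :=
      IsChar.eq_zero_of_apply_one (isCharacter_rep ρ) (by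
        rw [Representation.char_one, finrank_zero_of_subsingleton, Nat.cast_zero])
    rw [h0, classInner_zero_left] at h
    exact absurd h.symm one_ne_zero
  by_contra hi
  obtain ⟨S, T, hST, hS, hT⟩ := exists_isCompl_of_not_irreducible hi
  rw [character_of_isCompl hST] at h
  have hS' := isCharacter_rep S.toRepresentation
  have hT' := isCharacter_rep T.toRepresentation
  obtain ⟨a, ha⟩ := IsChar.classInner_eq_natCast hS' hS'
  obtain ⟨b, hb⟩ := IsChar.classInner_eq_natCast hT' hT'
  obtain ⟨c, hc⟩ := IsChar.classInner_eq_natCast hS' hT'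
  obtain ⟨d, hd⟩ := IsChar.classInner_eq_natCast hT' hS'
  rw [classInner_add_left, classInner_add_right, classInner_add_right, ha, hb, hc, hd] at h
  have h' : a + c + (d + b) = 1 := by exact_mod_cast h
  have pos : ∀ (U : Subrepresentation ρ), U.toSubmodule ≠ ⊥ → ∀ u : ℕ,
      Cfsg.classInner U.toRepresentation.character U.toRepresentation.character = u → u ≠ 0 := by
    intro U hU u hu h0
    rw [h0, Nat.cast_zero] at hu
    have h1 := congrFun (IsChar.eq_zero_of_classInner_self (isCharacter_rep _) hu) 1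
    rw [Representation.char_one, Pi.zero_apply, Nat.cast_eq_zero] at h1
    exact hU (Submodule.finrank_eq_zero.mp h1)
  have := pos S hS a ha
  have := pos T hT b hb
  omega

end Criteria

end CfsgLib.Char
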