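import Cfsg.Agent.Lib.Char.Induced

/-!
# Induction: transitivity, trivial-intersection sets
-/

namespace CfsgLib.Char

open scoped ComplexConjugate

variable {G : Type*} [Group G] [Fintype G]

theorem indFun_indFun (H K : Subgroup G) [Fintype K] (hHK : H ≤ K) (θ : H → ℂ) :
    Cfsg.indFun K (Cfsg.indFun (H.subgroupOf K)
      (fun x => θ ⟨(x : K), Subgroup.mem_subgroupOf.mp x.2⟩)) = Cfsg.indFun H θ := by
  classical
  set θ' : H.subgroupOf K → ℂ := fun x => θ ⟨(x : K), Subgroup.mem_subgroupOf.mp x.2⟩ with hθ'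
  have hcard : Nat.card (H.subgroupOf K) = Nat.card H :=
    Nat.card_congr (Subgroup.subgroupOfEquivOfLe hHK).toEquiv
  have hin : ∀ z : G, Cfsg.extendByZero K (Cfsg.indFun (H.subgroupOf K) θ') z =
      (Nat.card H : ℂ)⁻¹ * ∑ y : K, Cfsg.extendByZero H θ ((y : G)⁻¹ * z * y) := by
    intro z
    by_cases hz : z ∈ K
    · rw [extendByZero_of_mem K _ hz, Cfsg.indFun, hcard]
      congr 1
      refine Finset.sum_congr rfl fun y _ => ?_
      by_cases hy : (y : G)⁻¹ * z * y ∈ H
      · rw [extendByZero_of_mem H θ hy, extendByZero_of_mem _ θ'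
          (show y⁻¹ * ⟨z, hz⟩ * y ∈ H.subgroupOf K by
            rw [Subgroup.mem_subgroupOf]; simpa using hy)]
        rfl
      · rw [extendByZero_of_notMem H θ hy, extendByZero_of_notMem _ θ'
          (fun hmem => hy (by rw [Subgroup.mem_subgroupOf] at hmem; simpa using hmem))]
    · rw [extendByZero_of_notMem K _ hz]
      symm
      rw [Finset.sum_eq_zero, mul_zero]
      intro y _
      refine extendByZero_of_notMem H θ fun hy => hz ?_
      have h := K.mul_mem (K.mul_mem y.2 (hHK hy)) (K.inv_mem y.2)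
      simpa [mul_assoc] using h
  funext g
  calc Cfsg.indFun K (Cfsg.indFun (H.subgroupOf K) θ') g
      = (Nat.card K : ℂ)⁻¹ * ((Nat.card H : ℂ)⁻¹ *
          ∑ y : K, ∑ x : G, Cfsg.extendByZero H θ ((y : G)⁻¹ * (x⁻¹ * g * x) * y)) := by
        rw [Cfsg.indFun, Finset.sum_comm]
        simp only [hin, ← Finset.mul_sum]
    _ = (Nat.card K : ℂ)⁻¹ * ((Nat.card H : ℂ)⁻¹ *
          ((Nat.card K : ℂ) * ∑ x : G, Cfsg.extendByZero H θ (x⁻¹ * g * x))) := by
        congr 2
        rw [Finset.sum_congr rfl fun (y : K) _ => Fintype.sum_equiv (Equiv.mulRight (y : G)) _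
          (fun x => Cfsg.extendByZero H θ (x⁻¹ * g * x)) (fun x => by simp [mul_assoc])]
        simp [Nat.card_eq_fintype_card]
    _ = Cfsg.indFun H θ g := by
        rw [Cfsg.indFun, mul_left_comm (Nat.card H : ℂ)⁻¹, inv_mul_cancel_left₀]
        exact Nat.cast_ne_zero.mpr Nat.card_pos.ne'

variable {T : Set G}

theorem indFun_eq_of_ti (hTI : ∀ g : G, g ∉ Subgroup.normalizer T → ∀ t ∈ T, g * t * g⁻¹ ∈ T → t = 1)
    (ψ : Subgroup.normalizer T → ℂ) (hψ : Cfsg.IsClassFunction (Subgroup.normalizer T) ψ)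
    (hψT : ∀ x : Subgroup.normalizer T, (x : G) ∉ T → ψ x = 0) (t : Subgroup.normalizer T)
    (htT : (t : G) ∈ T) (ht1 : t ≠ 1) : Cfsg.indFun (Subgroup.normalizer T) ψ t = ψ t := by
  classical
  have hterm : ∀ x : G, Cfsg.extendByZero (Subgroup.normalizer T) ψ (x⁻¹ * t * x) = if x ∈ (Subgroup.normalizer T) then ψ t else 0 := by
    intro x
    by_cases hx : x ∈ (Subgroup.normalizer T)
    · rw [if_pos hx, extendByZero_of_mem (Subgroup.normalizer T) ψ ((Subgroup.normalizer T).mul_mem ((Subgroup.normalizer T).mul_mem ((Subgroup.normalizer T).inv_mem hx) t.2) hx)]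
      rw [← hψ t ⟨x⁻¹, (Subgroup.normalizer T).inv_mem hx⟩]
      congr 1
      ext
      simp
    · rw [if_neg hx]
      by_cases hm : x⁻¹ * t * x ∈ (Subgroup.normalizer T)
      · rw [extendByZero_of_mem (Subgroup.normalizer T) ψ hm]
        refine hψT _ fun hT => ht1 (Subtype.ext ?_)
        exact hTI x⁻¹ (fun hh => hx (by simpa using (Subgroup.normalizer T).inv_mem hh)) t htT (by simpa using hT)
      · exact extendByZero_of_notMem (Subgroup.normalizer T) ψ hm
  simp only [Cfsg.indFun, hterm, Finset.sum_ite, Finset.sum_const_zero, add_zero,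
    Finset.sum_const, nsmul_eq_mul]
  rw [← mul_assoc]
  have hc : (Finset.univ.filter fun x => x ∈ (Subgroup.normalizer T)).card = Nat.card (Subgroup.normalizer T) := by
    rw [Nat.card_eq_fintype_card, Fintype.card_subtype]
  rw [hc, inv_mul_cancel₀ (Nat.cast_ne_zero.mpr Nat.card_pos.ne'), one_mul]

end CfsgLib.Char
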