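import Cfsg.Agent.Lib.Char.Integral
import Mathlib.RingTheory.IntegralClosure.IntegrallyClosed
import Mathlib.RingTheory.UniqueFactorizationDomain.Basic
import Mathlib.RingTheory.Int.Basic
import Mathlib.RingTheory.Polynomial.RationalRoot
import Mathlib.Algebra.MonoidAlgebra.Module
import Mathlib.GroupTheory.GroupAction.ConjAct
import Mathlib.Algebra.Group.Conj
import Mathlib.Algebra.Group.ConjFinite

/-!
# Central characters and the degree of an irreducible representation

Schur's lemma in scalar form, the class sums act as algebraic integers, the values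
`|class| * χ g / χ 1` are algebraic integers, and the degree divides the group order.
-/

namespace CfsgLib.CharIntegral

open Module
open scoped ComplexConjugate

variable {G : Type*} [Group G] {V : Type*} [AddCommGroup V] [Module ℂ V] [FiniteDimensional ℂ V]
  (ρ : Representation ℂ G V)

section Schur

/-- Schur's lemma: an endomorphism commuting with an irreducible representation is scalar. -/
theorem exists_scalar_of_commute [ρ.IsIrreducible] (f : Module.End ℂ V)
    (hf : ∀ g, f * ρ g = ρ g * f) : ∃ c : ℂ, f = c • LinearMap.id := by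
  let F : Representation.IntertwiningMap ρ ρ := ⟨f, hf⟩
  obtain ⟨c, hc⟩ :=
    (Representation.IsIrreducible.algebraMap_intertwiningMap_bijective_of_isAlgClosed
      (ρ := ρ)).2 F
  refine ⟨c, ?_⟩
  have h := congrArg Representation.IntertwiningMap.toLinearMap hc
  exact h.symm

omit [FiniteDimensional ℂ V] in
theorem nontrivial_of_irreducible [ρ.IsIrreducible] : Nontrivial V := by
  by_contra h
  rw [not_nontrivial_iff_subsingleton] at h
  obtain ⟨a, b, hab⟩ := exists_pair_ne (Subrepresentation ρ)
  exact hab (Subrepresentation.toSubmodule_injective (Subsingleton.elim _ _))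

theorem finrank_pos_of_irreducible [ρ.IsIrreducible] : 0 < finrank ℂ V :=
  have := nontrivial_of_irreducible ρ
  Module.finrank_pos

theorem finrank_cast_ne_zero [ρ.IsIrreducible] : (finrank ℂ V : ℂ) ≠ 0 :=
  Nat.cast_ne_zero.mpr (finrank_pos_of_irreducible ρ).ne'

end Schur

variable [Finite G]

/-- The conjugacy class as a finite set. -/
noncomputable def classFinset (g : G) : Finset G :=
  (Set.toFinite {x : G | IsConj g x}).toFinset

theorem mem_classFinset {g x : G} : x ∈ classFinset g ↔ IsConj g x := by simp [classFinset]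

theorem card_classFinset (g : G) :
    (classFinset g).card = (Subgroup.centralizer ({g} : Set G)).index := by
  rw [Subgroup.centralizer_eq_comap_stabilizer]
  refine Eq.trans ?_ (Subgroup.index_comap_of_surjective (MulAction.stabilizer (ConjAct G) g)
    (f := (ConjAct.toConjAct : G ≃* ConjAct G).toMonoidHom) ConjAct.toConjAct.surjective).symm
  rw [MulAction.index_stabilizer, classFinset, ← Set.ncard_eq_toFinset_card]
  congr 1
  ext x
  rw [ConjAct.mem_orbit_conjAct, Set.mem_setOf_eq, isConj_comm]

/-- Integral combinations of the operators `ρ x` are integral, so a scalar among them is an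
algebraic integer. -/
theorem isIntegral_of_scalar_mem [ρ.IsIrreducible] (u : MonoidAlgebra ℤ G) {c : ℂ}
    (h : MonoidAlgebra.lift ℤ (Module.End ℂ V) G ρ u = c • LinearMap.id) : IsIntegral ℤ c := by
  have hfg : (MonoidAlgebra.lift ℤ (Module.End ℂ V) G ρ).range.toSubmodule.FG := by
    have : Module.Finite ℤ (MonoidAlgebra ℤ G) := inferInstance
    have h1 : (LinearMap.range (MonoidAlgebra.lift ℤ (Module.End ℂ V) G ρ).toLinearMap).FG :=
      Module.Finite.iff_fg.mp inferInstance
    convert h1 using 1
    ext x
    simp
  have hint : IsIntegral ℤ (c • (LinearMap.id : Module.End ℂ V)) :=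
    IsIntegral.of_mem_of_fg _ hfg _ ⟨u, h⟩
  have := nontrivial_of_irreducible ρ
  have hinj : Function.Injective (algebraMap ℂ (Module.End ℂ V)) := RingHom.injective _
  refine (isIntegral_algHom_iff ((Algebra.ofId ℂ (Module.End ℂ V)).restrictScalars ℤ) hinj).mp ?_
  convert hint using 1
  exact Algebra.algebraMap_eq_smul_one c

/-- The class sum acts as the scalar `|class| * χ g / χ 1`. -/
theorem classSum_eq_scalar [ρ.IsIrreducible] (g : G) :
    ∑ x ∈ classFinset g, ρ x =
      ((Subgroup.centralizer ({g} : Set G)).index * ρ.character g / (finrank ℂ V : ℂ)) •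
        LinearMap.id := by
  have hcomm : ∀ h, (∑ x ∈ classFinset g, ρ x) * ρ h = ρ h * ∑ x ∈ classFinset g, ρ x := by
    intro h
    rw [Finset.sum_mul, Finset.mul_sum]
    refine Finset.sum_nbij' (fun x => h⁻¹ * x * h) (fun x => h * x * h⁻¹) ?_ ?_ ?_ ?_ ?_
    · intro x hx
      rw [mem_classFinset] at hx ⊢
      exact hx.trans (isConj_iff.mpr ⟨h⁻¹, by simp⟩)
    · intro x hx
      rw [mem_classFinset] at hx ⊢
      exact hx.trans (isConj_iff.mpr ⟨h, rfl⟩)
    · intro x _
      group
    · intro x _
      group
    · intro x _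
      rw [← map_mul, ← map_mul]
      congr 1
      group
  obtain ⟨c, hc⟩ := exists_scalar_of_commute ρ _ hcomm
  have htr := congrArg (LinearMap.trace ℂ V) hc
  rw [map_sum, map_smul, LinearMap.trace_id, smul_eq_mul] at htr
  have hsum : ∑ x ∈ classFinset g, LinearMap.trace ℂ V (ρ x) =
      (classFinset g).card * ρ.character g := by
    rw [Finset.sum_congr rfl (g := fun _ => ρ.character g), Finset.sum_const, nsmul_eq_mul]
    intro x hx
    obtain ⟨y, rfl⟩ := isConj_iff.mp (mem_classFinset.mp hx)
    exact ρ.char_conj g y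
  rw [hsum, card_classFinset] at htr
  rw [hc, htr, mul_div_assoc, div_self (finrank_cast_ne_zero ρ), mul_one]

/-- Central character values are algebraic integers. -/
theorem isIntegral_central [ρ.IsIrreducible] (g : G) :
    IsIntegral ℤ
      (((Subgroup.centralizer ({g} : Set G)).index : ℂ) * ρ.character g / (finrank ℂ V : ℂ)) := by
  refine isIntegral_of_scalar_mem ρ (∑ x ∈ classFinset g, MonoidAlgebra.of ℤ G x) ?_
  rw [map_sum, Finset.sum_congr rfl fun x _ => MonoidAlgebra.lift_of (A := Module.End ℂ V) ρ x]
  exact classSum_eq_scalar ρ g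

/-- A rational algebraic integer of the form `a / b` with natural numbers. -/
theorem dvd_of_isIntegral_div {a b : ℕ} (hb : b ≠ 0) (h : IsIntegral ℤ ((a : ℂ) / (b : ℂ))) :
    b ∣ a := by
  have h2 : IsIntegral ℤ ((a : ℚ) / (b : ℚ)) :=
    (isIntegral_algHom_iff ((Algebra.ofId ℚ ℂ).restrictScalars ℤ)
      (algebraMap ℚ ℂ).injective).mp (by
        simpa only [AlgHom.coe_restrictScalars', Algebra.ofId_apply, map_div₀, map_natCast] using h)
  obtain ⟨z, hz⟩ := IsIntegrallyClosed.isIntegral_iff.mp h2
  rw [eq_intCast, eq_div_iff (Nat.cast_ne_zero.mpr hb)] at hz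
  have hz' : (a : ℤ) = (b : ℤ) * z := by
    have : ((a : ℤ) : ℚ) = (((b : ℤ) * z : ℤ) : ℚ) := by push_cast; rw [← hz]; ring
    exact_mod_cast this
  exact Int.natCast_dvd_natCast.mp ⟨z, hz'⟩

omit [Finite G] in
/-- Squared norm of an irreducible character. -/
theorem sum_character_mul_character_inv [Fintype G] [ρ.IsIrreducible] :
    ∑ g : G, ρ.character g * ρ.character g⁻¹ = (Nat.card G : ℂ) := by
  have : Invertible (Nat.card G : ℂ) := invertibleOfNonzero (Nat.cast_ne_zero.mpr Nat.card_pos.ne')
  have h := Representation.char_orthonormal ρ ρ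
  rw [if_pos ⟨Representation.Equiv.refl ρ⟩, inv_mul_eq_one₀ (Nat.cast_ne_zero.mpr Nat.card_pos.ne')] at h
  exact h.symm

/-- The degree of an irreducible representation divides the group order. -/
theorem finrank_dvd_card [ρ.IsIrreducible] : finrank ℂ V ∣ Nat.card G := by
  classical
  have := Fintype.ofFinite G
  have := Fintype.ofFinite (ConjClasses G)
  refine dvd_of_isIntegral_div (finrank_pos_of_irreducible ρ).ne' ?_
  rw [← sum_character_mul_character_inv ρ,
    ← Finset.sum_fiberwise Finset.univ (fun g => ConjClasses.mk g), Finset.sum_div]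
  refine IsIntegral.sum _ fun C _ => ?_
  induction C using Quotient.inductionOn with
  | h g =>
    have hset : (Finset.univ.filter fun x => ConjClasses.mk x = ConjClasses.mk g) = classFinset g := by
      ext x
      rw [Finset.mem_filter, mem_classFinset, ConjClasses.mk_eq_mk_iff_isConj]
      exact ⟨fun h => h.2.symm, fun h => ⟨Finset.mem_univ _, h.symm⟩⟩
    change IsIntegral ℤ
      ((∑ x ∈ Finset.univ.filter fun x => ConjClasses.mk x = ConjClasses.mk g, _) / _)
    rw [hset, Finset.sum_congr rfl (g := fun _ => ρ.character g * ρ.character g⁻¹),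
      Finset.sum_const, nsmul_eq_mul, card_classFinset, ← mul_assoc, mul_div_right_comm]
    · exact (isIntegral_central ρ g).mul (isIntegral_character ρ g⁻¹)
    · intro x hx
      obtain ⟨y, rfl⟩ := isConj_iff.mp (mem_classFinset.mp hx)
      rw [conj_inv, ρ.char_conj, ρ.char_conj]

end CfsgLib.CharIntegral
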