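import Cfsg.Agent.Lib.Char.Complete

/-!
# Conjugate irreducible characters and real classes
-/

namespace CfsgLib.Char

open scoped ComplexConjugate

variable {G : Type*} [Group G]

theorem IsIrr.conj [Finite G] {χ : G → ℂ} (h : Cfsg.IsIrrCharacter G χ) :
    Cfsg.IsIrrCharacter G (fun g => conj (χ g)) := by
  have := Fintype.ofFinite G
  refine IsChar.isIrr_of_classInner_eq_one (IsChar.conj (IsIrr.isCharacter h)) ?_
  have h1 : Cfsg.classInner χ χ = 1 := classInner_irr_self ⟨χ, h⟩
  have h2 : conj (Cfsg.classInner χ χ) = Cfsg.classInner (fun g => conj (χ g)) fun g => conj (χ g) := by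
    simp [Cfsg.classInner, map_sum]
  rw [← h2, h1, map_one]

/-- The complex conjugate of an irreducible character. -/
noncomputable def conjIrr [Finite G] (χ : Cfsg.IrrCharacter G) : Cfsg.IrrCharacter G :=
  ⟨fun g => conj ((χ : G → ℂ) g), IsIrr.conj χ.2⟩

@[simp]
theorem conjIrr_apply [Finite G] (χ : Cfsg.IrrCharacter G) (g : G) :
    (conjIrr χ : G → ℂ) g = conj ((χ : G → ℂ) g) := rfl

@[simp]
theorem conjIrr_conjIrr [Finite G] (χ : Cfsg.IrrCharacter G) : conjIrr (conjIrr χ) = χ :=
  irr_ext fun g => by simp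

theorem conjIrr_eq_iff [Finite G] (χ : Cfsg.IrrCharacter G) :
    conjIrr χ = χ ↔ ∀ g, ((χ : G → ℂ) g).im = 0 := by
  refine ⟨fun h g => Complex.conj_eq_iff_im.mp ?_, fun h => irr_ext fun g => by
    rw [conjIrr_apply, Complex.conj_eq_iff_im.mpr (h g)]⟩
  rw [← conjIrr_apply, h]

theorem card_real_irr_eq_card_real_classes [Finite G] :
    Nat.card {χ : Cfsg.IrrCharacter G // ∀ g : G, ((χ : G → ℂ) g).im = 0} =
      Nat.card {C : ConjClasses G // ∀ g : G, ConjClasses.mk g = C → IsConj g g⁻¹} := by
  classical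
  have := Fintype.ofFinite G
  have := Fintype.ofFinite (Cfsg.IrrCharacter G)
  have : Finite (ConjClasses G) := Finite.of_surjective _ ConjClasses.mk_surjective
  have := Fintype.ofFinite (ConjClasses G)
  rw [Nat.card_congr (Equiv.subtypeEquivRight fun χ => (conjIrr_eq_iff χ).symm)]
  rw [Nat.card_eq_fintype_card, Fintype.card_subtype, Nat.card_eq_fintype_card, Fintype.card_subtype]
  apply Nat.cast_injective (R := ℂ)
  have hN : (Nat.card G : ℂ) ≠ 0 := Nat.cast_ne_zero.mpr Nat.card_pos.ne'
  calc ((Finset.univ.filter fun χ : Cfsg.IrrCharacter G => conjIrr χ = χ).card : ℂ)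
      = ∑ χ : Cfsg.IrrCharacter G, Cfsg.classInner (χ : G → ℂ) (conjIrr χ : G → ℂ) := by
        simp [classInner_irr, eq_comm (b := conjIrr _), Finset.sum_boole]
    _ = (Nat.card G : ℂ)⁻¹ * ∑ g : G,
          if IsConj g g⁻¹ then (Nat.card (Subgroup.centralizer ({g} : Set G)) : ℂ) else 0 := by
        simp only [Cfsg.classInner, ← Finset.mul_sum]
        rw [Finset.sum_comm]
        congr 1
        refine Finset.sum_congr rfl fun g _ => ?_
        rw [← column_orthogonality g g⁻¹]
        refine Finset.sum_congr rfl fun χ _ => ?_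
        simp [IsIrr.map_inv χ.2]
    _ = _ := by
        rw [← Finset.sum_fiberwise Finset.univ ConjClasses.mk, Finset.mul_sum,
          Finset.natCast_card_filter]
        refine Finset.sum_congr rfl fun C _ => ?_
        obtain ⟨h, rfl⟩ := ConjClasses.mk_surjective C
        have hiff : ∀ g, ConjClasses.mk g = ConjClasses.mk h → (IsConj g g⁻¹ ↔ IsConj h h⁻¹) := by
          intro g hg
          obtain ⟨c, hc⟩ := isConj_iff.mp (ConjClasses.mk_eq_mk_iff_isConj.mp hg)
          have hinv : IsConj g⁻¹ h⁻¹ := isConj_iff.mpr ⟨c, by rw [← hc, conj_inv]⟩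
          have hgh : IsConj g h := isConj_iff.mpr ⟨c, hc⟩
          exact ⟨fun h1 => hgh.symm.trans (h1.trans hinv), fun h1 => hgh.trans (h1.trans hinv.symm)⟩
        by_cases hr : IsConj h h⁻¹
        · rw [if_pos fun g hg => (hiff g hg).mpr hr]
          have hsum : ∀ g ∈ Finset.univ.filter (fun g => ConjClasses.mk g = ConjClasses.mk h),
              (if IsConj g g⁻¹ then (Nat.card (Subgroup.centralizer ({g} : Set G)) : ℂ) else 0) =
                (Nat.card G : ℂ) / ((ConjClasses.mk h).carrier.ncard : ℂ) := by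
            intro g hg
            simp only [Finset.mem_filter, Finset.mem_univ, true_and] at hg
            rw [if_pos ((hiff g hg).mpr hr), ← hg, ← Nat.card_coe_set_eq, card_carrier_eq_index]
            rw [eq_div_iff (Nat.cast_ne_zero.mpr Subgroup.index_ne_zero_of_finite), ← Nat.cast_mul,
              Subgroup.card_mul_index]
          rw [Finset.sum_congr rfl hsum, Finset.sum_const, nsmul_eq_mul]
          have hc : (Finset.univ.filter fun g => ConjClasses.mk g = ConjClasses.mk h).card =
              (ConjClasses.mk h).carrier.ncard := by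
            rw [← Set.ncard_coe_finset]
            congr 1
            ext g
            simp [ConjClasses.mem_carrier_iff_mk_eq]
          have hk : ((ConjClasses.mk h).carrier.ncard : ℂ) ≠ 0 := Nat.cast_ne_zero.mpr
            ((Set.ncard_pos (Set.toFinite _)).mpr ⟨h, ConjClasses.mem_carrier_mk⟩).ne'
          rw [hc]
          field_simp
        · rw [if_neg fun hall => hr (hall h rfl), Finset.sum_eq_zero, mul_zero]
          intro g hg
          simp only [Finset.mem_filter, Finset.mem_univ, true_and] at hg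
          rw [if_neg fun h1 => hr ((hiff g hg).mp h1)]

theorem eq_one_of_isConj_inv [Finite G] (hodd : Odd (Nat.card G)) {g : G} (h : IsConj g g⁻¹) :
    g = 1 := by
  obtain ⟨x, hx⟩ := isConj_iff.mp h
  have h2 : Commute (x ^ 2) g := by
    show x ^ 2 * g = g * x ^ 2
    have e : x * g⁻¹ * x⁻¹ = g := by
      have := congrArg (·⁻¹) hx
      simpa [mul_assoc] using this
    calc x ^ 2 * g = x * (x * g * x⁻¹) * x⁻¹ * (x * x) := by rw [sq]; group
      _ = g * x ^ 2 := by rw [hx, e, sq]
  obtain ⟨k, hk⟩ := hodd.of_dvd_nat (orderOf_dvd_natCard x)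
  have hxk : Commute x g := by
    have h3 : (x ^ 2) ^ (k + 1) = x := by
      rw [← pow_mul, show 2 * (k + 1) = orderOf x + 1 by omega, pow_succ, pow_orderOf_eq_one, one_mul]
    exact h3 ▸ h2.pow_left (k + 1)
  have h4 : g = g⁻¹ := by
    rw [← hx, hxk.eq, mul_inv_cancel_right]
  have h5 : g ^ 2 = 1 := by rw [sq]; exact mul_eq_one_iff_eq_inv.mpr h4
  exact orderOf_eq_one_iff.mp (Nat.dvd_one.mp (by
    have h6 := orderOf_dvd_of_pow_eq_one h5
    rcases (Nat.dvd_prime Nat.prime_two).mp h6 with h7 | h7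
    · rw [h7]
    · exact absurd (hodd.of_dvd_nat (h7 ▸ orderOf_dvd_natCard g)) (by decide)))

theorem real_irr_eq_one_of_odd [Finite G] (hodd : Odd (Nat.card G)) (χ : Cfsg.IrrCharacter G)
    (hreal : ∀ g : G, ((χ : G → ℂ) g).im = 0) : χ = trivChar G := by
  classical
  have hcl : Nat.card {C : ConjClasses G // ∀ g : G, ConjClasses.mk g = C → IsConj g g⁻¹} = 1 := by
    rw [Nat.card_eq_one_iff_unique]
    refine ⟨⟨fun a b => ?_⟩, ⟨⟨ConjClasses.mk 1, fun g hg => ?_⟩⟩⟩
    · obtain ⟨ga, hga⟩ := ConjClasses.mk_surjective a.1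
      obtain ⟨gb, hgb⟩ := ConjClasses.mk_surjective b.1
      refine Subtype.ext ?_
      rw [← hga, ← hgb, eq_one_of_isConj_inv hodd (a.2 ga hga), eq_one_of_isConj_inv hodd (b.2 gb hgb)]
    · rw [isConj_one_left.mp (ConjClasses.mk_eq_mk_iff_isConj.mp hg), inv_one]
  rw [← card_real_irr_eq_card_real_classes, Nat.card_eq_one_iff_unique] at hcl
  exact congrArg Subtype.val (hcl.1.elim ⟨χ, hreal⟩ ⟨trivChar G, fun g => by simp⟩)

end CfsgLib.Char
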