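import Cfsg.Agent.Lib.Char.Induced
import Cfsg.Agent.Lib.Char.Real
import Mathlib.GroupTheory.Index

/-!
# Clifford's theorem: conjugate characters of a normal subgroup
-/

namespace CfsgLib.Clifford

open CfsgLib.Char
open scoped ComplexConjugate

variable {G : Type*} [Group G] {N : Subgroup G}

/-- The conjugate `n ↦ θ (g n g⁻¹)` of a function on a normal subgroup. -/
def conjFn (hN : N.Normal) (θ : N → ℂ) (g : G) : N → ℂ :=
  fun n => θ ⟨g * n * g⁻¹, hN.conj_mem n n.2 g⟩

theorem conjFn_apply (hN : N.Normal) (θ : N → ℂ) (g : G) (n : N) :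
    conjFn hN θ g n = θ ⟨g * n * g⁻¹, hN.conj_mem n n.2 g⟩ := rfl

theorem conjFn_one (hN : N.Normal) (θ : N → ℂ) : conjFn hN θ 1 = θ :=
  funext fun n => congrArg θ (Subtype.ext (by simp))

theorem conjFn_mul (hN : N.Normal) (θ : N → ℂ) (g h : G) :
    conjFn hN θ (g * h) = conjFn hN (conjFn hN θ g) h :=
  funext fun n => congrArg θ (Subtype.ext (show g * h * n * (g * h)⁻¹ = g * (h * n * h⁻¹) * g⁻¹ by
    group))

theorem conjFn_conj (hN : N.Normal) (θ : N → ℂ) (g : G) :
    conjFn hN (fun n => conj (θ n)) g = fun n => conj (conjFn hN θ g n) := rfl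

theorem isIrrCharacter_conjFn (hN : N.Normal) {θ : N → ℂ} (hθ : Cfsg.IsIrrCharacter N θ) (g : G) :
    Cfsg.IsIrrCharacter N (conjFn hN θ g) :=
  IsIrr.comp_surjective (f := ((@MulAut.conjNormal G _ N hN) g).toMonoidHom)
    (MulEquiv.surjective _) hθ

variable [Fintype G]

/-- The restriction of an induced function is the average of the conjugates. -/
theorem indFun_coe_normal (hN : N.Normal) (θ : N → ℂ) (n : N) :
    Cfsg.indFun N θ n = (Nat.card N : ℂ)⁻¹ * ∑ g : G, conjFn hN θ g n := by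
  rw [Cfsg.indFun]
  congr 1
  refine Fintype.sum_equiv (Equiv.inv G) _ _ fun g => ?_
  have hmem : g⁻¹ * n * g ∈ N := by
    have h := hN.conj_mem n n.2 g⁻¹
    rwa [inv_inv] at h
  rw [extendByZero_of_mem N θ hmem, conjFn_apply]
  exact congrArg θ (Subtype.ext (by simp))

/-- An induced function vanishes off a normal subgroup. -/
theorem indFun_eq_zero_off_normal (hN : N.Normal) (θ : N → ℂ) {g : G} (hg : g ∉ N) :
    Cfsg.indFun N θ g = 0 := by
  rw [Cfsg.indFun, Finset.sum_eq_zero, mul_zero]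
  intro x _
  refine extendByZero_of_notMem N θ fun h => hg ?_
  have h2 := hN.conj_mem _ h x
  rwa [show x * (x⁻¹ * g * x) * x⁻¹ = g by group] at h2

variable [Fintype N]

theorem classInner_indFun_indFun (hN : N.Normal) {θ φ : N → ℂ} :
    (Nat.card N : ℂ) * Cfsg.classInner (Cfsg.indFun N θ) (Cfsg.indFun N φ) =
      ∑ g : G, Cfsg.classInner θ (conjFn hN φ g) := by
  rw [frobenius_reciprocity N θ (isClassFunction_indFun N φ)]
  have h : (fun h : N => Cfsg.indFun N φ h) =
      (Nat.card N : ℂ)⁻¹ • ∑ g : G, conjFn hN φ g := by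
    funext n
    rw [indFun_coe_normal hN, Pi.smul_apply, Finset.sum_apply, smul_eq_mul]
  rw [h, classInner_smul_right, classInner_sum_right, map_inv₀, map_natCast, ← mul_assoc,
    mul_inv_cancel₀ (Nat.cast_ne_zero.mpr Nat.card_pos.ne'), one_mul]

theorem classInner_irr_conjFn (hN : N.Normal) {θ φ : N → ℂ} (hθ : Cfsg.IsIrrCharacter N θ)
    (hφ : Cfsg.IsIrrCharacter N φ) (g : G) [Decidable (θ = conjFn hN φ g)] :
    Cfsg.classInner θ (conjFn hN φ g) = if θ = conjFn hN φ g then 1 else 0 := by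
  split_ifs with h
  · rw [← h]; exact classInner_irr_self ⟨θ, hθ⟩
  · exact classInner_irr_of_ne (χ := ⟨θ, hθ⟩) (ψ := ⟨_, isIrrCharacter_conjFn hN hφ g⟩)
      fun e => h (congrArg Subtype.val e)

/-- `|N| ⟨θ^G, θ^G⟩` is the order of the inertia group. -/
theorem card_mul_classInner_indFun (hN : N.Normal) {θ : N → ℂ} (hθ : Cfsg.IsIrrCharacter N θ) :
    (Nat.card N : ℂ) * Cfsg.classInner (Cfsg.indFun N θ) (Cfsg.indFun N θ) =
      (Nat.card {g : G // conjFn hN θ g = θ} : ℂ) := by
  classical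
  rw [classInner_indFun_indFun hN, Finset.sum_congr rfl fun g _ => classInner_irr_conjFn hN hθ hθ g,
    Finset.sum_boole, Nat.card_eq_fintype_card, Fintype.card_subtype]
  congr 2
  ext g
  simp [eq_comm]

/-- In a group of odd order the character induced from a nonprincipal irreducible character of a
normal subgroup is orthogonal to its conjugate. -/
theorem classInner_conj_indFun_eq_zero (hN : N.Normal) (hodd : Odd (Nat.card G)) {θ : N → ℂ}
    (hθ : Cfsg.IsIrrCharacter N θ) (hθ1 : θ ≠ fun _ => 1) :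
    Cfsg.classInner (fun g => conj (Cfsg.indFun N θ g)) (Cfsg.indFun N θ) = 0 := by
  classical
  have hc : (fun g => conj (Cfsg.indFun N θ g)) = Cfsg.indFun N (fun n => conj (θ n)) := by
    funext g
    simp only [Cfsg.indFun, map_mul, map_inv₀, map_natCast, map_sum]
    refine congrArg _ (Finset.sum_congr rfl fun x _ => ?_)
    by_cases hx : x⁻¹ * g * x ∈ N
    · rw [extendByZero_of_mem N _ hx, extendByZero_of_mem N _ hx]
    · rw [extendByZero_of_notMem N _ hx, extendByZero_of_notMem N _ hx, map_zero]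
  have hN0 : (Nat.card N : ℂ) ≠ 0 := Nat.cast_ne_zero.mpr Nat.card_pos.ne'
  refine (mul_eq_zero.mp ?_).resolve_left hN0
  rw [hc, classInner_indFun_indFun hN]
  refine Finset.sum_eq_zero fun g _ => ?_
  rw [classInner_irr_conjFn hN (IsIrr.conj hθ) hθ, if_neg]
  intro hg
  have h2 : conjFn hN θ (g * g) = θ := by
    rw [conjFn_mul, ← hg, conjFn_conj, ← hg]
    funext n
    simp
  have hpow : ∀ k : ℕ, conjFn hN θ ((g * g) ^ k) = θ := by
    intro k
    induction k with
    | zero => rw [pow_zero, conjFn_one]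
    | succ k ih => rw [pow_succ, conjFn_mul, ih, h2]
  obtain ⟨k, hk⟩ := Odd.of_dvd_nat hodd (orderOf_dvd_natCard g)
  have hgk : (g * g) ^ (k + 1) = g := by
    rw [← pow_two, ← pow_mul, show 2 * (k + 1) = orderOf g + 1 by omega, pow_succ,
      pow_orderOf_eq_one, one_mul]
  have hfix : conjFn hN θ g = θ := by rw [← hgk]; exact hpow _
  rw [hfix] at hg
  have hoddN : Odd (Nat.card N) := Odd.of_dvd_nat hodd N.card_subgroup_dvd_card
  have h := CfsgLib.Char.real_irr_eq_one_of_odd hoddN ⟨θ, hθ⟩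
    fun n => Complex.conj_eq_iff_im.mp (congrFun hg n)
  exact hθ1 (congrArg Subtype.val h)

open scoped Classical in
/-- Clifford's theorem. -/
theorem restrict_eq_smul_orbit_sum (hN : N.Normal) {θ : G → ℂ} (hθ : Cfsg.IsIrrCharacter G θ)
    {χ : N → ℂ} (hχ : Cfsg.IsIrrCharacter N χ)
    (hconst : Cfsg.classInner (fun n : N => θ n) χ ≠ 0) :
    (fun n : N => θ n) = Cfsg.classInner (fun n : N => θ n) χ •
      ∑ ψ ∈ Finset.univ.image (conjFn hN χ), ψ := by
  have := Fintype.ofFinite (Cfsg.IrrCharacter N)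
  have := Fintype.ofFinite (Cfsg.IrrCharacter G)
  set r : N → ℂ := fun n => θ n with hr
  have hinv : ∀ g, Cfsg.classInner r (conjFn hN χ g) = Cfsg.classInner r χ := by
    intro g
    simp only [Cfsg.classInner]
    congr 1
    refine Fintype.sum_equiv ((@MulAut.conjNormal G _ N hN) g).toEquiv _ _ fun n => ?_
    change θ n * conj (conjFn hN χ g n) = θ (g * n * g⁻¹) * conj (χ _)
    rw [IsIrr.isClassFunction hθ n g]
    rfl
  have hzero : ∀ ψ : Cfsg.IrrCharacter N,
      (ψ : N → ℂ) ∉ Finset.univ.image (conjFn hN χ) → Cfsg.classInner r (ψ : N → ℂ) = 0 := by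
    intro ψ hψ
    set p := Cfsg.indFun N χ with hp
    have hres : Cfsg.classInner (fun n : N => p n) (ψ : N → ℂ) = 0 := by
      have h : (fun n : N => p n) = (Nat.card N : ℂ)⁻¹ • ∑ g : G, conjFn hN χ g := by
        funext n
        rw [hp, indFun_coe_normal hN, Pi.smul_apply, Finset.sum_apply, smul_eq_mul]
      rw [h, classInner_smul_left, classInner_sum_left, Finset.sum_eq_zero, mul_zero]
      intro g _
      exact classInner_irr_of_ne (χ := ⟨_, isIrrCharacter_conjFn hN hχ g⟩) (ψ := ψ)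
        fun e => hψ (Finset.mem_image.mpr ⟨g, Finset.mem_univ g, congrArg Subtype.val e⟩)
    have hexp := classFunction_eq_sum (isClassFunction_indFun N χ)
    rw [← hp] at hexp
    have hres2 : (fun n : N => p n) =
        ∑ φ : Cfsg.IrrCharacter G, Cfsg.classInner p (φ : G → ℂ) • fun n : N => (φ : G → ℂ) n := by
      funext n
      conv_lhs => rw [hexp]
      simp only [Finset.sum_apply, Pi.smul_apply]
    rw [hres2, classInner_sum_left] at hres
    simp only [classInner_smul_left] at hres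
    have hnat : ∀ φ : Cfsg.IrrCharacter G, ∃ a b : ℕ, Cfsg.classInner p (φ : G → ℂ) = a ∧
        Cfsg.classInner (fun n : N => (φ : G → ℂ) n) (ψ : N → ℂ) = b := by
      intro φ
      obtain ⟨a, ha⟩ := IsChar.classInner_eq_natCast
        (isCharacter_indFun N (IsIrr.isCharacter hχ)) (IsIrr.isCharacter φ.2)
      obtain ⟨b, hb⟩ := IsChar.classInner_eq_natCast
        (IsChar.restrict N (IsIrr.isCharacter φ.2)) (IsIrr.isCharacter ψ.2)
      exact ⟨a, b, ha, hb⟩
    choose a b ha hb using hnat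
    simp only [ha, hb] at hres
    have hres' : ∑ φ, a φ * b φ = 0 := by exact_mod_cast hres
    have h0 := Finset.sum_eq_zero_iff.mp hres' ⟨θ, hθ⟩ (Finset.mem_univ _)
    rcases mul_eq_zero.mp h0 with h | h
    · exfalso
      refine hconst ?_
      have h1 := ha ⟨θ, hθ⟩
      rw [h, Nat.cast_zero, hp, frobenius_reciprocity N χ (IsIrr.isClassFunction hθ)] at h1
      rw [← classInner_conj_symm, h1, map_zero]
    · exact (hb ⟨θ, hθ⟩).trans (by rw [h, Nat.cast_zero])
  have hcl : Cfsg.IsClassFunction N r := IsChar.isClassFunction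
    (IsChar.restrict N (IsIrr.isCharacter hθ))
  refine (classFunction_eq_sum hcl).trans ?_
  rw [← Finset.sum_filter_add_sum_filter_not Finset.univ
    (fun ψ : Cfsg.IrrCharacter N => (ψ : N → ℂ) ∈ Finset.univ.image (conjFn hN χ)),
    Finset.sum_eq_zero (s := Finset.univ.filter fun ψ : Cfsg.IrrCharacter N =>
      ¬(ψ : N → ℂ) ∈ Finset.univ.image (conjFn hN χ)), add_zero, Finset.smul_sum]
  · refine Finset.sum_nbij' (fun ψ => (ψ : N → ℂ))
      (fun ψ => if h : Cfsg.IsIrrCharacter N ψ then (⟨ψ, h⟩ : Cfsg.IrrCharacter N) else ⟨χ, hχ⟩)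
      ?_ ?_ ?_ ?_ ?_
    · intro ψ hψ
      exact (Finset.mem_filter.mp hψ).2
    · intro ψ hψ
      obtain ⟨g, -, rfl⟩ := Finset.mem_image.mp hψ
      rw [dif_pos (isIrrCharacter_conjFn hN hχ g), Finset.mem_filter]
      exact ⟨Finset.mem_univ _, Finset.mem_image_of_mem _ (Finset.mem_univ g)⟩
    · intro ψ _
      exact dif_pos ψ.2
    · intro ψ hψ
      obtain ⟨g, -, rfl⟩ := Finset.mem_image.mp hψ
      rw [dif_pos (isIrrCharacter_conjFn hN hχ g)]
    · intro ψ hψ
      obtain ⟨g, -, he⟩ := Finset.mem_image.mp (Finset.mem_filter.mp hψ).2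
      rw [← he, hinv]
  · intro ψ hψ
    rw [hzero ψ (Finset.mem_filter.mp hψ).2, zero_smul]

end CfsgLib.Clifford
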