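import Cfsg.Agent.Lib.Char.DadeMap
import Cfsg.Agent.Lib.Char.Exceptional.Virtual

/-!
# The Dade map preserves generalized characters

`|L| α^τ` is the alternating sum, over the nonempty subsets `B` of `A`, of `|N_L(B)|` times the
functions induced from `H(B) N_L(B)`, `H(B)` being the intersection of the `H a` with `a ∈ B`.
-/

set_option autoImplicit false

namespace CfsgLib.DadeMap

open CfsgLib.Char CfsgLib.Char.Exceptional
open scoped ComplexConjugate
open Cfsg

variable {G : Type*} [Group G] [Fintype G] {A : Set G} {L : Subgroup G} {H : G → Subgroup G}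

open scoped Classical in
/-- Conjugation of a finite set by an element of `L`. -/
noncomputable def cj (x : L) (B : Finset G) : Finset G :=
  B.map (MulAut.conj (x : G)).toEquiv.toEmbedding

omit [Fintype G] in
theorem mem_cj {x : L} {B : Finset G} {b : G} :
    b ∈ cj x B ↔ ∃ a ∈ B, (x : G) * a * (x : G)⁻¹ = b := by
  simp only [cj, Finset.mem_map]
  rfl

omit [Fintype G] in
theorem mem_cj_iff {x : L} {B : Finset G} {b : G} :
    b ∈ cj x B ↔ (x : G)⁻¹ * b * (x : G) ∈ B := by
  rw [mem_cj]
  refine ⟨?_, fun h => ⟨_, h, by group⟩⟩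
  rintro ⟨a, ha, rfl⟩
  rwa [show (x : G)⁻¹ * ((x : G) * a * (x : G)⁻¹) * (x : G) = a by group]

omit [Fintype G] in
theorem cj_one (B : Finset G) : cj (1 : L) B = B := by ext b; simp [mem_cj]

omit [Fintype G] in
theorem cj_mul (x y : L) (B : Finset G) : cj (x * y) B = cj x (cj y B) := by
  ext b
  simp [mem_cj_iff, mul_assoc]

omit [Fintype G] in
theorem card_cj (x : L) (B : Finset G) : (cj x B).card = B.card := Finset.card_map _

/-- The stabilizer in `L` of a finite set. -/
noncomputable def stab (L : Subgroup G) (B : Finset G) : Subgroup L where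
  carrier := {x | cj x B = B}
  one_mem' := cj_one B
  mul_mem' {x y} hx hy := by
    show cj (x * y) B = B
    rw [cj_mul, hy, hx]
  inv_mem' {x} hx := by
    show cj x⁻¹ B = B
    conv_lhs => rw [← hx]
    rw [← cj_mul, inv_mul_cancel, cj_one]

omit [Fintype G] in
theorem mem_stab {x : L} {B : Finset G} : x ∈ stab L B ↔ cj x B = B := Iff.rfl

/-- The intersection of the `H a` for `a` in the set. -/
def interH (H : G → Subgroup G) (B : Finset G) : Subgroup G := ⨅ a ∈ B, H a

omit [Fintype G] in
theorem mem_interH {B : Finset G} {h : G} : h ∈ interH H B ↔ ∀ a ∈ B, h ∈ H a := by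
  simp [interH, Subgroup.mem_iInf]

variable (hD : DadeHypothesis A L H) {B : Finset G} (hB : ∀ a ∈ B, a ∈ A)

include hD in
theorem cj_subset (hB : ∀ a ∈ B, a ∈ A) (x : L) : ∀ a ∈ cj x B, a ∈ A := by
  intro b hb
  obtain ⟨a, ha, rfl⟩ := mem_cj.mp hb
  exact hD.conj_mem x x.2 a (hB a ha)

include hD hB in
theorem conj_mem_interH {x : L} {h : G} (hh : h ∈ interH H B) :
    (x : G) * h * (x : G)⁻¹ ∈ interH H (cj x B) := by
  rw [mem_interH] at hh ⊢
  intro b hb
  obtain ⟨a, ha, rfl⟩ := mem_cj.mp hb
  exact dade_conj_mem_H hD (hB a ha) (hD.conj_mem x x.2 a (hB a ha)) rfl (hh a ha)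

include hD hB in
theorem eq_one_of_mem_interH (hne : B.Nonempty) {h : G} (hh : h ∈ interH H B) (hL : h ∈ L) :
    h = 1 := by
  obtain ⟨a, ha⟩ := hne
  have h1 : h ∈ H a ⊓ (L ⊓ Subgroup.centralizer ({a} : Set G)) :=
    ⟨mem_interH.mp hh a ha, hL, hD.le_centralizer a (hB a ha) (mem_interH.mp hh a ha)⟩
  rwa [hD.inf_eq_bot a (hB a ha), Subgroup.mem_bot] at h1

/-- `H(B) N_L(B)`. -/
noncomputable def prodSubgroup : Subgroup G where
  carrier := {g | ∃ h ∈ interH H B, ∃ l : L, cj l B = B ∧ g = h * l}
  one_mem' := ⟨1, one_mem _, 1, cj_one B, by simp⟩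
  mul_mem' := by
    rintro _ _ ⟨h, hh, l, hl, rfl⟩ ⟨k, hk, m, hm, rfl⟩
    refine ⟨h * ((l : G) * k * (l : G)⁻¹), mul_mem hh ?_, l * m, by rw [cj_mul, hm, hl], ?_⟩
    · have h1 := conj_mem_interH hD hB (x := l) hk
      rwa [hl] at h1
    · rw [Subgroup.coe_mul]; group
  inv_mem' := by
    rintro _ ⟨h, hh, l, hl, rfl⟩
    have hl' : cj l⁻¹ B = B := mem_stab.mp ((stab L B).inv_mem (mem_stab.mpr hl))
    refine ⟨(l : G)⁻¹ * h⁻¹ * (l : G), ?_, l⁻¹, hl', ?_⟩
    · have h1 := conj_mem_interH hD hB (x := l⁻¹) ((interH H B).inv_mem hh)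
      rw [hl'] at h1
      simpa using h1
    · rw [InvMemClass.coe_inv]; group

/-- The function `h l ↦ α l` on `H(B) N_L(B)`. -/
noncomputable def lift (α : L → ℂ) : prodSubgroup hD hB → ℂ :=
  fun m => α (Classical.choose m.2.choose_spec.2)

include hD hB in
theorem decomp_unique (hne : B.Nonempty) {h h' : G} (hh : h ∈ interH H B) (hh' : h' ∈ interH H B)
    {l l' : L} (e : h * l = h' * l') : h = h' ∧ l = l' := by
  have h1 : h'⁻¹ * h = (l' : G) * (l : G)⁻¹ := by
    rw [eq_mul_inv_iff_mul_eq, mul_assoc, e, inv_mul_cancel_left]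
  have h2 := eq_one_of_mem_interH hD hB hne ((interH H B).mul_mem ((interH H B).inv_mem hh') hh)
    (by rw [h1]; exact L.mul_mem l'.2 (L.inv_mem l.2))
  have h3 : h = h' := (inv_mul_eq_one.mp h2).symm
  subst h3
  exact ⟨rfl, Subtype.ext (mul_left_cancel e)⟩

theorem lift_apply (hne : B.Nonempty) (α : L → ℂ) {h : G} (hh : h ∈ interH H B) {l : L}
    (hl : cj l B = B) : lift hD hB α ⟨h * l, h, hh, l, hl, rfl⟩ = α l := by
  set m : prodSubgroup hD hB := ⟨h * l, h, hh, l, hl, rfl⟩
  unfold lift
  obtain ⟨hspec, e⟩ := Classical.choose_spec m.2.choose_spec.2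
  exact congrArg α (decomp_unique hD hB hne hh m.2.choose_spec.1 e).2.symm

/-- The projection onto `L` as a homomorphism. -/
noncomputable def projL (hne : B.Nonempty) : prodSubgroup hD hB →* L where
  toFun m := Classical.choose m.2.choose_spec.2
  map_one' := by
    set m : prodSubgroup hD hB := 1
    obtain ⟨-, e⟩ := Classical.choose_spec m.2.choose_spec.2
    exact (decomp_unique hD hB hne (one_mem _) m.2.choose_spec.1 (l := 1)
      (by rw [← e]; simp [m])).2.symm
  map_mul' := by
    intro x y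
    obtain ⟨hx, ex⟩ := Classical.choose_spec x.2.choose_spec.2
    obtain ⟨hy, ey⟩ := Classical.choose_spec y.2.choose_spec.2
    obtain ⟨-, exy⟩ := Classical.choose_spec (x * y).2.choose_spec.2
    set lx := Classical.choose x.2.choose_spec.2
    set ly := Classical.choose y.2.choose_spec.2
    refine (decomp_unique hD hB hne (h := x.2.choose * ((lx : G) * y.2.choose * (lx : G)⁻¹))
      (mul_mem x.2.choose_spec.1 ?_) (x * y).2.choose_spec.1 (l := lx * ly) ?_).2.symm
    · have h1 := conj_mem_interH hD hB (x := lx) y.2.choose_spec.1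
      rwa [hx] at h1
    · refine Eq.trans ?_ exy
      rw [Subgroup.coe_mul, Subgroup.coe_mul]
      exact Eq.trans (show _ = (x.2.choose * (lx : G)) * (y.2.choose * (ly : G)) by group)
        (congrArg₂ (· * ·) ex.symm ey.symm)

theorem lift_eq_comp (hne : B.Nonempty) (α : L → ℂ) :
    lift hD hB α = fun m => α (projL hD hB hne m) := rfl

open scoped Classical in
/-- The number of `x` with `x⁻¹ g x = y`. -/
noncomputable def conjCount (g y : G) : ℂ :=
  ((Finset.univ.filter fun x : G => x⁻¹ * g * x = y).card : ℂ)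

theorem isClassFunction_conjCount (g : G) : IsClassFunction G (conjCount g) := by
  classical
  intro y z
  unfold conjCount
  congr 1
  refine Finset.card_bij (fun x _ => x * z) (fun x hx => ?_) (fun x _ y _ h => mul_right_cancel h)
    (fun x hx => ⟨x * z⁻¹, ?_, by group⟩)
  · simp only [Finset.mem_filter, Finset.mem_univ, true_and] at hx ⊢
    calc (x * z)⁻¹ * g * (x * z) = z⁻¹ * (x⁻¹ * g * x) * z := by group
      _ = z⁻¹ * (z * y * z⁻¹) * z := by rw [hx]
      _ = y := by group
  · simp only [Finset.mem_filter, Finset.mem_univ, true_and] at hx ⊢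
    rw [← hx]; group

theorem sum_conj_eq (g : G) (F : G → ℂ) : ∑ x : G, F (x⁻¹ * g * x) = ∑ y, conjCount g y * F y := by
  classical
  rw [← Finset.sum_fiberwise Finset.univ (fun x : G => x⁻¹ * g * x)]
  refine Finset.sum_congr rfl fun y _ => ?_
  rw [Finset.sum_congr rfl fun x hx => congrArg F (Finset.mem_filter.mp hx).2, Finset.sum_const,
    nsmul_eq_mul]
  rfl

/-- The average of `φ` over `H(B) l`. -/
noncomputable def coAvg (H : G → Subgroup G) (φ : G → ℂ) (B : Finset G) (l : G) : ℂ :=
  (Nat.card (interH H B) : ℂ)⁻¹ * ∑ᶠ h ∈ (interH H B : Set G), φ (h * l)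

open scoped Classical in
theorem card_stab_mul_indFun [Fintype L] (hne : B.Nonempty) (α : L → ℂ) (g : G) :
    (Nat.card (stab L B) : ℂ) * Cfsg.indFun (prodSubgroup hD hB) (lift hD hB α) g =
      ∑ l : L, if cj l B = B then α l * coAvg H (conjCount g) B l else 0 := by
  have := Fintype.ofFinite (interH H B)
  have := Fintype.ofFinite (prodSubgroup hD hB)
  have := Fintype.ofFinite (stab L B)
  let e : stab L B × interH H B → prodSubgroup hD hB := fun p =>
    ⟨(p.2 : G) * (p.1 : L), p.2, p.2.2, p.1, p.1.2, rfl⟩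
  have he : Function.Bijective e := by
    refine ⟨fun p q h => ?_, ?_⟩
    · obtain ⟨h1, h2⟩ := decomp_unique hD hB hne p.2.2 q.2.2 (congrArg Subtype.val h)
      exact Prod.ext (Subtype.ext h2) (Subtype.ext h1)
    · rintro ⟨_, h, hh, l, hl, rfl⟩
      exact ⟨(⟨l, hl⟩, ⟨h, hh⟩), rfl⟩
  have hcard : Nat.card (prodSubgroup hD hB) = Nat.card (stab L B) * Nat.card (interH H B) := by
    rw [← Nat.card_prod, Nat.card_eq_of_bijective e he]
  have hsum : ∑ x : G, Cfsg.extendByZero (prodSubgroup hD hB) (lift hD hB α) (x⁻¹ * g * x) =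
      ∑ l : stab L B, ∑ h : interH H B, α (l : L) * conjCount g ((h : G) * (l : L)) := by
    rw [sum_conj_eq g, Finset.sum_congr rfl fun y _ => mul_comm _ _,
      sum_extendByZero_mul, ← Fintype.sum_bijective e he
        (fun p => α (p.1 : L) * conjCount g ((p.2 : G) * (p.1 : L))) _ (fun p => ?_),
      Fintype.sum_prod_type]
    rw [lift_apply hD hB hne α p.2.2 p.1.2]
  rw [Cfsg.indFun, hsum, hcard, Nat.cast_mul, ← Finset.sum_filter,
    Finset.sum_subtype (p := fun l : L => l ∈ stab L B) _ (fun l => by simp [mem_stab]),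
    Finset.mul_sum, Finset.mul_sum]
  refine Finset.sum_congr rfl fun l _ => ?_
  rw [coAvg, finsum_coe_subgroup, ← Finset.mul_sum]
  have h1 : (Nat.card (stab L B) : ℂ) ≠ 0 := Nat.cast_ne_zero.mpr Nat.card_pos.ne'
  field_simp

omit [Fintype G] in
include hD hB in
/-- Adding a fixed element of `A` intersects `H(B)` with its centralizer. -/
theorem interH_insert [Finite G] [DecidableEq G] {l : G} (hl : l ∈ A) (hne : B.Nonempty) :
    interH H (insert l B) = interH H B ⊓ Subgroup.centralizer ({l} : Set G) := by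
  ext h
  constructor
  · intro hh
    rw [mem_interH] at hh
    exact ⟨mem_interH.mpr fun a ha => hh a (Finset.mem_insert_of_mem ha),
      hD.le_centralizer l hl (hh l (Finset.mem_insert_self l B))⟩
  · rintro ⟨hh, hc⟩
    refine mem_interH.mpr fun a ha => ?_
    rcases Finset.mem_insert.mp ha with rfl | ha
    · obtain ⟨b, hb⟩ := hne
      rw [dade_mem_H_iff hD hl hc]
      exact Nat.Coprime.coprime_dvd_left
        (Subgroup.orderOf_dvd_natCard _ (mem_interH.mp hh b hb)) (hD.coprime b (hB b hb) a hl)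
    · exact mem_interH.mp hh a ha

open scoped Classical in
/-- The sets over which the alternating sum runs. -/
noncomputable def family (A : Set G) : Finset (Finset G) :=
  Finset.univ.filter fun B => B.Nonempty ∧ ∀ a ∈ B, a ∈ A

theorem mem_family {B : Finset G} : B ∈ family A ↔ B.Nonempty ∧ ∀ a ∈ B, a ∈ A := by
  classical
  simp [family]

open scoped Classical in
/-- The summand of the alternating sum. -/
noncomputable def term (hD : DadeHypothesis A L H) (α : L → ℂ) (B : Finset G) : G → ℂ :=
  if h : B ∈ family A then Cfsg.indFun (prodSubgroup hD (mem_family.mp h).2)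
    (lift hD (mem_family.mp h).2 α) else 0

include hD in
open scoped Classical in
theorem card_stab_mul_term [Fintype L] (hB : B ∈ family A) (α : L → ℂ) (g : G) :
    (Nat.card (stab L B) : ℂ) * term hD α B g =
      ∑ l : L, if cj l B = B then α l * coAvg H (conjCount g) B l else 0 := by
  rw [term, dif_pos hB]
  exact card_stab_mul_indFun hD (mem_family.mp hB).2 (mem_family.mp hB).1 α g

include hD in
open scoped Classical in
theorem coAvg_cancel (B : Finset G) {φ : G → ℂ} (hφ : IsClassFunction G φ) {l : L}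
    (hl : (l : G) ∈ A) (hB : B ∈ family A) (hfix : cj l B = B) (hnl : (l : G) ∉ B) :
    coAvg H φ (insert (l : G) B) (l : G) = coAvg H φ B (l : G) := by
  obtain ⟨hne, hBA⟩ := mem_family.mp hB
  have := Fintype.ofFinite (interH H B)
  have := Fintype.ofFinite (interH H (insert (l : G) B))
  have hnorm : ∀ k ∈ interH H B, (l : G) * k * (l : G)⁻¹ ∈ interH H B := fun k hk => by
    have h1 := conj_mem_interH hD hBA (x := l) hk
    rwa [hfix] at h1
  have hcop : (orderOf (l : G)).Coprime (Nat.card (interH H B)) := by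
    obtain ⟨b, hb⟩ := hne
    refine ((hD.coprime b (hBA b hb) l hl).symm.coprime_dvd_left
      (Subgroup.orderOf_dvd_natCard _ (dade_mem_centralizer_self hD hl))).coprime_dvd_right ?_
    exact Subgroup.card_dvd_of_le fun h hh => mem_interH.mp hh b hb
  rw [coAvg, coAvg, finsum_coe_subgroup, finsum_coe_subgroup,
    sum_coset_reduce (interH H B) hnorm hcop hφ (interH_insert hD hBA hl hne)]

include hD in
open scoped Classical in
theorem sum_fixed [Fintype L] {φ : G → ℂ} (hφ : IsClassFunction G φ) {l : L} (hl : (l : G) ∈ A) :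
    ∑ B ∈ (family A).filter (fun B => cj l B = B), (-1 : ℂ) ^ (B.card + 1) * coAvg H φ B (l : G) =
      avg H φ (l : G) := by
  set S := (family A).filter (fun B => cj l B = B) with hS
  have hmem : ∀ B, B ∈ S ↔ (B.Nonempty ∧ ∀ a ∈ B, a ∈ A) ∧ cj l B = B := fun B => by
    rw [hS, Finset.mem_filter, mem_family]
  have hfixl : ∀ b : G, (l : G)⁻¹ * b * (l : G) = (l : G) ↔ b = (l : G) := fun b => by
    refine ⟨fun h => ?_, fun h => by rw [h]; group⟩
    calc b = (l : G) * ((l : G)⁻¹ * b * (l : G)) * (l : G)⁻¹ := by group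
      _ = (l : G) := by rw [h]; group
  have hins : ∀ B, cj l B = B → cj l (insert (l : G) B) = insert (l : G) B := fun B hB => by
    ext b
    rw [mem_cj_iff, Finset.mem_insert, Finset.mem_insert, hfixl, ← mem_cj_iff, hB]
  have hera : ∀ B, cj l B = B → cj l (B.erase (l : G)) = B.erase (l : G) := fun B hB => by
    ext b
    rw [mem_cj_iff, Finset.mem_erase, Finset.mem_erase, ne_eq, ne_eq, hfixl, ← mem_cj_iff, hB]
  have hsingle : ({(l : G)} : Finset G) ∈ S := (hmem _).mpr
    ⟨⟨Finset.singleton_nonempty _, fun a ha => Finset.mem_singleton.mp ha ▸ hl⟩, by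
      ext b; rw [mem_cj_iff, Finset.mem_singleton, Finset.mem_singleton, hfixl]⟩
  let tog : Finset G → Finset G := fun B =>
    if (l : G) ∈ B then B.erase (l : G) else insert (l : G) B
  have hzero : ∑ B ∈ S.erase {(l : G)}, (-1 : ℂ) ^ (B.card + 1) * coAvg H φ B (l : G) = 0 := by
    refine Finset.sum_involution (fun B _ => tog B) (fun B hB => ?_) (fun B hB _ => ?_)
      (fun B hB => ?_) (fun B hB => ?_)
    · obtain ⟨hne, hB'⟩ := Finset.mem_erase.mp hB
      obtain ⟨⟨hBne, hBA⟩, hfix⟩ := (hmem B).mp hB'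
      by_cases hlB : (l : G) ∈ B
      · have hB2 : (B.erase (l : G)).Nonempty := by
          rw [Finset.nonempty_iff_ne_empty]
          intro h0
          rcases (Finset.erase_eq_empty_iff _ _).mp h0 with h1 | h1
          · exact hBne.ne_empty h1
          · exact hne h1
        have h1 := coAvg_cancel hD (B.erase (l : G)) hφ hl
          (mem_family.mpr ⟨hB2, fun a ha => hBA a (Finset.mem_of_mem_erase ha)⟩) (hera B hfix)
          (Finset.notMem_erase _ _)
        rw [Finset.insert_erase hlB] at h1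
        simp only [tog, if_pos hlB]
        rw [← Finset.card_erase_add_one hlB, h1, pow_succ]
        ring
      · have h1 := coAvg_cancel hD B hφ hl (mem_family.mpr ⟨hBne, hBA⟩) hfix hlB
        simp only [tog, if_neg hlB]
        rw [Finset.card_insert_of_notMem hlB, h1, pow_succ (-1 : ℂ) (B.card + 1)]
        ring
    · simp only [tog]
      split_ifs with hlB
      · exact fun h => (Finset.erase_ne_self.mpr hlB) h
      · exact fun h => hlB (h ▸ Finset.mem_insert_self _ _)
    · obtain ⟨hne, hB'⟩ := Finset.mem_erase.mp hB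
      obtain ⟨⟨hBne, hBA⟩, hfix⟩ := (hmem B).mp hB'
      simp only [tog]
      split_ifs with hlB
      · refine Finset.mem_erase.mpr ⟨fun h => Finset.notMem_erase (l : G) B
          (h ▸ Finset.mem_singleton_self _), (hmem _).mpr ⟨⟨?_, fun a ha =>
            hBA a (Finset.mem_of_mem_erase ha)⟩, hera B hfix⟩⟩
        rw [Finset.nonempty_iff_ne_empty]
        intro h0
        rcases (Finset.erase_eq_empty_iff _ _).mp h0 with h1 | h1
        · exact hBne.ne_empty h1
        · exact hne h1
      · refine Finset.mem_erase.mpr ⟨fun h => ?_, (hmem _).mpr ⟨⟨Finset.insert_nonempty _ _,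
          fun a ha => (Finset.mem_insert.mp ha).elim (fun e => e ▸ hl) (hBA a)⟩, hins B hfix⟩⟩
        obtain ⟨b, hb⟩ := hBne
        have h2 : b ∈ ({(l : G)} : Finset G) := h ▸ Finset.mem_insert_of_mem hb
        exact hlB (Finset.mem_singleton.mp h2 ▸ hb)
    · simp only [tog]
      by_cases hlB : (l : G) ∈ B
      · rw [if_pos hlB, if_neg (Finset.notMem_erase _ _), Finset.insert_erase hlB]
      · rw [if_neg hlB, if_pos (Finset.mem_insert_self _ _), Finset.erase_insert hlB]
  rw [← Finset.add_sum_erase S _ hsingle, hzero, add_zero, Finset.card_singleton, neg_one_sq,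
    one_mul]
  have e : interH H ({(l : G)} : Finset G) = H (l : G) := by ext h; simp [mem_interH]
  rw [coAvg, avg, e]
  congr 1
  refine finsum_congr fun u => finsum_congr fun hu => ?_
  rw [mem_centralizer_singleton.1 (hD.le_centralizer _ hl hu)]

include hD in
theorem alternating_sum [Fintype L] {α : L → ℂ} (hα : IsClassFunction L α)
    (hαA : ∀ x : L, (x : G) ∉ A → α x = 0) (g : G) :
    ∑ B ∈ family A, (-1 : ℂ) ^ (B.card + 1) * ((Nat.card (stab L B) : ℂ) * term hD α B g) =
      (Nat.card L : ℂ) * dadeIsometry A L H α g := by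
  classical
  set φ := conjCount g with hφdef
  have hφ := isClassFunction_conjCount g
  have h1 : ∑ B ∈ family A, (-1 : ℂ) ^ (B.card + 1) * ((Nat.card (stab L B) : ℂ) * term hD α B g) =
      ∑ l : L, α l * ∑ B ∈ (family A).filter (fun B => cj l B = B),
        (-1 : ℂ) ^ (B.card + 1) * coAvg H φ B (l : G) := by
    rw [Finset.sum_congr rfl fun B hB => by rw [card_stab_mul_term hD hB α g]]
    simp only [Finset.mul_sum, Finset.sum_filter]
    rw [Finset.sum_comm]
    refine Finset.sum_congr rfl fun l _ => Finset.sum_congr rfl fun B _ => ?_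
    split_ifs <;> ring
  have h2 := sum_support hD (F := fun y => dadeIsometry A L H α y * φ y)
    (fun y z => by
      show _ * φ (z * y * z⁻¹) = _
      rw [isClassFunction_dade hD hα, hφdef, hφ])
    (fun y hy => by rw [apply_zero hy, zero_mul])
  have h3 : ∑ y : G, dadeIsometry A L H α y * φ y =
      (Nat.card G : ℂ) * dadeIsometry A L H α g := by
    rw [Finset.sum_congr rfl fun y _ => mul_comm _ _, hφdef, ← sum_conj_eq g,
      Finset.sum_congr rfl (g := fun _ => dadeIsometry A L H α g) fun x _ => by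
        have := isClassFunction_dade hD hα g x⁻¹
        rwa [inv_inv] at this,
      Finset.sum_const, Finset.card_univ, nsmul_eq_mul, ← Nat.card_eq_fintype_card]
  have h4 : ∑ l : L, α l * (∑ B ∈ (family A).filter (fun B => cj l B = B),
      (-1 : ℂ) ^ (B.card + 1) * coAvg H φ B (l : G)) =
      ∑ l : L, if (l : G) ∈ A then avg H (fun y => dadeIsometry A L H α y * φ y) l else 0 := by
    refine Finset.sum_congr rfl fun l _ => ?_
    by_cases hl : (l : G) ∈ A
    · rw [if_pos hl, sum_fixed hD hφ hl, avg_dade hD hα hl φ]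
    · rw [if_neg hl, hαA l hl, zero_mul]
  rw [h1, h4]
  rw [h3] at h2
  refine mul_left_cancel₀ (Nat.cast_ne_zero.mpr Nat.card_pos.ne' : (Nat.card G : ℂ) ≠ 0) ?_
  rw [← h2]
  ring

include hD in
theorem cj_mem_family {x : L} (hB : B ∈ family A) : cj x B ∈ family A := by
  obtain ⟨hne, hBA⟩ := mem_family.mp hB
  exact mem_family.mpr ⟨hne.map, cj_subset hD hBA x⟩

include hD in
theorem term_cj [Fintype L] {α : L → ℂ} (hα : IsClassFunction L α) {x : L} (hB : B ∈ family A) :
    Nat.card (stab L (cj x B)) = Nat.card (stab L B) ∧ term hD α (cj x B) = term hD α B := by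
  classical
  obtain ⟨hne, hBA⟩ := mem_family.mp hB
  have hconj : ∀ l : L, cj (x * l * x⁻¹) (cj x B) = cj x B ↔ cj l B = B := fun l => by
    rw [← cj_mul, inv_mul_cancel_right, cj_mul]
    refine ⟨fun h => ?_, fun h => by rw [h]⟩
    have := congrArg (cj x⁻¹) h
    simpa only [← cj_mul, ← mul_assoc, inv_mul_cancel, one_mul, cj_one] using this
  have hcard : Nat.card (stab L (cj x B)) = Nat.card (stab L B) := by
    refine Nat.card_congr (Equiv.subtypeEquiv (MulAut.conj x).toEquiv (fun l => ?_)).symm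
    show cj l B = B ↔ cj (x * l * x⁻¹) (cj x B) = cj x B
    exact (hconj l).symm
  refine ⟨hcard, funext fun g => mul_left_cancel₀
    (Nat.cast_ne_zero.mpr Nat.card_pos.ne' : (Nat.card (stab L B) : ℂ) ≠ 0) ?_⟩
  rw [card_stab_mul_term hD hB α g, ← hcard, card_stab_mul_term hD (cj_mem_family hD hB) α g]
  refine (Fintype.sum_equiv (MulAut.conj x).toEquiv _ _ fun l => ?_).symm
  show _ = if cj (x * l * x⁻¹) (cj x B) = cj x B then
    α (x * l * x⁻¹) * coAvg H (conjCount g) (cj x B) ((x * l * x⁻¹ : L) : G) else 0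
  refine if_congr (hconj l).symm ?_ rfl
  rw [hα l x]
  congr 1
  have := Fintype.ofFinite (interH H B)
  have := Fintype.ofFinite (interH H (cj x B))
  let e : interH H B → interH H (cj x B) := fun h =>
    ⟨(x : G) * h * (x : G)⁻¹, conj_mem_interH hD hBA h.2⟩
  have he : Function.Bijective e := by
    refine ⟨fun a b h => Subtype.ext ?_, fun h => ?_⟩
    · have := congrArg Subtype.val h
      simpa [e] using this
    · have h1 := conj_mem_interH hD (cj_subset hD hBA x) (x := x⁻¹) h.2
      rw [← cj_mul, inv_mul_cancel, cj_one] at h1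
      refine ⟨⟨_, h1⟩, Subtype.ext ?_⟩
      show (x : G) * ((x⁻¹ : L) * (h : G) * ((x⁻¹ : L) : G)⁻¹) * (x : G)⁻¹ = h
      rw [InvMemClass.coe_inv]; group
  rw [coAvg, coAvg, finsum_coe_subgroup, finsum_coe_subgroup, Nat.card_eq_of_bijective e he]
  congr 1
  refine Fintype.sum_bijective e he _ _ fun h => ?_
  show _ = conjCount g ((x : G) * h * (x : G)⁻¹ * ((x * l * x⁻¹ : L) : G))
  rw [← isClassFunction_conjCount g ((h : G) * (l : G)) (x : G)]
  congr 1
  simp only [Subgroup.coe_mul, InvMemClass.coe_inv]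
  group

include hD in
theorem isGeneralizedCharacter_dade [Fintype L] {α : L → ℂ} (hα : IsGeneralizedCharacter L α)
    (hαA : ∀ x : L, (x : G) ∉ A → α x = 0) :
    IsGeneralizedCharacter G (dadeIsometry A L H α) := by
  classical
  have hαc := CfsgLib.Char.IsGen.isClassFunction hα
  refine CfsgLib.Char.isGeneralizedCharacter_of_classInner (isClassFunction_dade hD hαc) fun ψ => ?_
  have hz : ∀ B ∈ family A, ∃ m : ℤ, classInner (term hD α B) (ψ : G → ℂ) = m := by
    intro B hB
    obtain ⟨hne, hBA⟩ := mem_family.mp hB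
    refine CfsgLib.Char.IsGen.exists_classInner_eq_intCast ?_ (CfsgLib.Char.IsGen.of_irr ψ.2)
    rw [term, dif_pos hB]
    refine CfsgLib.Char.IsGen.indFun ?_
    rw [lift_eq_comp hD (mem_family.mp hB).2 hne]
    exact CfsgLib.Char.IsGen.comp _ hα
  choose! z hz using hz
  have hsum : (Nat.card L : ℂ) * classInner (dadeIsometry A L H α) (ψ : G → ℂ) =
      ((∑ B ∈ family A, (-1 : ℤ) ^ (B.card + 1) * ((Nat.card (stab L B) : ℤ) * z B) : ℤ) : ℂ) := by
    rw [← CfsgLib.Char.classInner_smul_left, show (Nat.card L : ℂ) • dadeIsometry A L H α =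
      ∑ B ∈ family A, ((-1 : ℂ) ^ (B.card + 1) * (Nat.card (stab L B) : ℂ)) • term hD α B from
      funext fun g => by
        rw [Pi.smul_apply, smul_eq_mul, ← alternating_sum hD hαc hαA g, Finset.sum_apply]
        exact Finset.sum_congr rfl fun B _ => by rw [Pi.smul_apply, smul_eq_mul, mul_assoc],
      CfsgLib.Char.classInner_sum_left]
    push_cast
    exact Finset.sum_congr rfl fun B hB => by
      rw [CfsgLib.Char.classInner_smul_left, hz B hB, mul_assoc]
  let orb : Finset G → Finset (Finset G) := fun B => Finset.univ.image fun x : L => cj x B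
  have hdvd : (Nat.card L : ℤ) ∣
      ∑ B ∈ family A, (-1 : ℤ) ^ (B.card + 1) * ((Nat.card (stab L B) : ℤ) * z B) := by
    rw [← Finset.sum_fiberwise_of_maps_to (t := (family A).image orb) (g := orb)
      (fun B hB => Finset.mem_image_of_mem _ hB)]
    refine Finset.dvd_sum fun O hO => ?_
    obtain ⟨B, hB, rfl⟩ := Finset.mem_image.mp hO
    have hfil : (family A).filter (fun B' => orb B' = orb B) = orb B := by
      ext B'
      rw [Finset.mem_filter]
      constructor
      · rintro ⟨-, h⟩
        rw [← h]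
        exact Finset.mem_image.mpr ⟨1, Finset.mem_univ _, cj_one B'⟩
      · intro h
        obtain ⟨x, -, rfl⟩ := Finset.mem_image.mp h
        refine ⟨cj_mem_family hD hB, ?_⟩
        ext C
        simp only [orb, Finset.mem_image, Finset.mem_univ, true_and]
        exact ⟨fun ⟨y, hy⟩ => ⟨y * x, by rw [cj_mul, hy]⟩,
          fun ⟨y, hy⟩ => ⟨y * x⁻¹, by rw [← cj_mul, inv_mul_cancel_right, hy]⟩⟩
    have hconst : ∀ B' ∈ orb B, (-1 : ℤ) ^ (B'.card + 1) * ((Nat.card (stab L B') : ℤ) * z B') =
        (Nat.card (stab L B) : ℤ) * ((-1 : ℤ) ^ (B.card + 1) * z B) := by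
      intro B' hB'
      obtain ⟨x, -, rfl⟩ := Finset.mem_image.mp hB'
      obtain ⟨h1, h2⟩ := term_cj hD hαc (x := x) hB
      have hzeq : z (cj x B) = z B := by
        have h3 := hz _ (cj_mem_family (x := x) hD hB)
        rw [h2, hz B hB] at h3
        exact_mod_cast h3.symm
      rw [card_cj, h1, hzeq]
      ring
    rw [hfil, Finset.sum_congr rfl hconst, Finset.sum_const, nsmul_eq_mul]
    have hcard : (orb B).card * Nat.card (stab L B) = Nat.card L := by
      have h1 := Finset.card_eq_sum_card_fiberwise (s := (Finset.univ : Finset L)) (t := orb B)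
        (f := fun x => cj x B) fun x _ => Finset.mem_image_of_mem _ (Finset.mem_univ x)
      rw [Finset.card_univ] at h1
      rw [Nat.card_eq_fintype_card (α := L), h1, Finset.sum_congr rfl (g := fun _ =>
        Nat.card (stab L B)) fun B' hB' => ?_, Finset.sum_const, smul_eq_mul]
      obtain ⟨x, -, rfl⟩ := Finset.mem_image.mp hB'
      rw [Nat.card_eq_fintype_card]
      rw [← Finset.card_univ]
      refine (Finset.card_bij (fun (s : stab L B) _ => x * (s : L))
        (fun s _ => Finset.mem_filter.mpr ⟨Finset.mem_univ _, by rw [cj_mul, mem_stab.mp s.2]⟩)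
        (fun a _ b _ h => Subtype.ext (mul_left_cancel h))
        (fun y hy => ⟨⟨x⁻¹ * y, mem_stab.mpr ?_⟩, Finset.mem_univ _, mul_inv_cancel_left _ _⟩)).symm
      rw [cj_mul, (Finset.mem_filter.mp hy).2, ← cj_mul, inv_mul_cancel, cj_one]
    exact ⟨(-1 : ℤ) ^ (B.card + 1) * z B, by rw [← hcard]; push_cast; ring⟩
  obtain ⟨k, hk⟩ := hdvd
  refine ⟨k, mul_left_cancel₀ (Nat.cast_ne_zero.mpr Nat.card_pos.ne' : (Nat.card L : ℂ) ≠ 0) ?_⟩
  rw [hsum, hk]
  push_cast
  ring

end CfsgLib.DadeMap
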