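import Cfsg.Agent.Lib.Char.Complete

/-!
# Brauer's permutation lemma for a group automorphism
-/

namespace CfsgLib.Char

open scoped ComplexConjugate

/-- An automorphism fixes as many irreducible characters as conjugacy classes. -/
theorem card_fixed_classes_eq_card_fixed_irr {G : Type*} [Group G] [Finite G] (α : G ≃* G) :
    Nat.card {C : ConjClasses G // ConjClasses.map α.toMonoidHom C = C} =
      Nat.card {χ : Cfsg.IrrCharacter G // (χ : G → ℂ) ∘ α = (χ : G → ℂ)} := by
  classical
  have := Fintype.ofFinite G
  have := Fintype.ofFinite (Cfsg.IrrCharacter G)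
  have : Finite (ConjClasses G) := Finite.of_surjective _ ConjClasses.mk_surjective
  have := Fintype.ofFinite (ConjClasses G)
  apply Nat.cast_injective (R := ℂ)
  have hN : (Nat.card G : ℂ) ≠ 0 := Nat.cast_ne_zero.mpr Nat.card_pos.ne'
  have hR : (Nat.card {χ : Cfsg.IrrCharacter G // (χ : G → ℂ) ∘ α = (χ : G → ℂ)} : ℂ) =
      (Nat.card G : ℂ)⁻¹ * ∑ g : G,
        if IsConj (α g) g then (Nat.card (Subgroup.centralizer ({α g} : Set G)) : ℂ) else 0 := by
    have h1 : ∀ χ : Cfsg.IrrCharacter G, Cfsg.classInner ((χ : G → ℂ) ∘ α) (χ : G → ℂ) =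
        if (χ : G → ℂ) ∘ α = (χ : G → ℂ) then 1 else 0 := by
      intro χ
      have hirr : Cfsg.IsIrrCharacter G ((χ : G → ℂ) ∘ α) :=
        IsIrr.comp_surjective α.toMonoidHom α.surjective χ.2
      split_ifs with h
      · rw [h]; exact classInner_irr_self χ
      · exact classInner_irr_of_ne (χ := ⟨_, hirr⟩) (ψ := χ) fun e => h (congrArg Subtype.val e)
    rw [Nat.card_eq_fintype_card, Fintype.card_subtype, ← Finset.sum_boole,
      ← Finset.sum_congr rfl fun χ _ => h1 χ]
    simp only [Cfsg.classInner, ← Finset.mul_sum, Function.comp_apply]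
    rw [Finset.sum_comm]
    exact congrArg _ (Finset.sum_congr rfl fun g _ => column_orthogonality (α g) g)
  rw [hR, ← Finset.sum_fiberwise Finset.univ ConjClasses.mk, Finset.mul_sum,
    Nat.card_eq_fintype_card, Fintype.card_subtype, Finset.natCast_card_filter]
  refine Finset.sum_congr rfl fun C _ => ?_
  obtain ⟨h, rfl⟩ := ConjClasses.mk_surjective C
  have hiff : ∀ g, ConjClasses.mk g = ConjClasses.mk h →
      (IsConj (α g) g ↔ ConjClasses.map α.toMonoidHom (ConjClasses.mk h) = ConjClasses.mk h) := by
    intro g hg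
    rw [← hg]
    exact (ConjClasses.mk_eq_mk_iff_isConj (a := α g) (b := g)).symm
  by_cases hfix : ConjClasses.map α.toMonoidHom (ConjClasses.mk h) = ConjClasses.mk h
  · rw [if_pos hfix, Finset.sum_congr rfl (g := fun _ =>
      (Nat.card (Subgroup.centralizer ({h} : Set G)) : ℂ)), Finset.sum_const, nsmul_eq_mul]
    · have hc : (Finset.univ.filter fun g => ConjClasses.mk g = ConjClasses.mk h).card =
          (Subgroup.centralizer ({h} : Set G)).index := by
        rw [← card_carrier_eq_index, ← Fintype.card_subtype, ← Nat.card_eq_fintype_card]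
        exact Nat.card_congr (Equiv.subtypeEquivRight fun g => ConjClasses.mem_carrier_iff_mk_eq.symm)
      rw [hc, ← Nat.cast_mul, Subgroup.index_mul_card, inv_mul_cancel₀ hN]
    · intro g hg
      have hg' := (Finset.mem_filter.mp hg).2
      have hconj := (hiff g hg').mpr hfix
      rw [if_pos hconj]
      have hgh : IsConj (α g) h := hconj.trans (ConjClasses.mk_eq_mk_iff_isConj.mp hg')
      have e := card_carrier_eq_index (α g)
      have e' := card_carrier_eq_index h
      rw [ConjClasses.mk_eq_mk_iff_isConj.mpr hgh] at e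
      have k1 := Subgroup.card_mul_index (Subgroup.centralizer ({α g} : Set G))
      have k2 := Subgroup.card_mul_index (Subgroup.centralizer ({h} : Set G))
      rw [← e, e'] at k1
      exact_mod_cast Nat.eq_of_mul_eq_mul_right (Nat.pos_of_ne_zero Subgroup.index_ne_zero_of_finite)
        (k1.trans k2.symm)
  · rw [if_neg hfix, Finset.sum_eq_zero, mul_zero]
    intro g hg
    rw [if_neg fun hc => hfix ((hiff g (Finset.mem_filter.mp hg).2).mp hc)]

end CfsgLib.Char
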