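import Cfsg.Agent.Lib.Char.CliffordRestrict
import Cfsg.Agent.Lib.Char.BrauerPerm
import Mathlib.GroupTheory.GroupAction.CardCommute
import Mathlib.GroupTheory.Complement
import Mathlib.GroupTheory.GroupAction.Quotient

/-!
# Groups `K H` with fixed-point-free action of `H` on the normal subgroup `K`
-/

namespace CfsgLib.Frobenius

open CfsgLib.Char CfsgLib.Clifford

variable {G : Type*} [Group G] [Fintype G] {K H : Subgroup G}

section

variable (hK : K.Normal) (hKH : K ⊓ H = ⊥) (hKH' : K ⊔ H = ⊤)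
  (hfpf : ∀ h ∈ H, h ≠ 1 → ∀ k ∈ K, h * k = k * h → k = 1)
include hK hKH hKH' hfpf

omit [Fintype G] hfpf in
theorem exists_mul (g : G) : ∃ k ∈ K, ∃ h ∈ H, g = k * h := by
  have := hK
  have h1 : g ∈ ((K ⊔ H : Subgroup G) : Set G) := hKH' ▸ Subgroup.mem_top g
  rw [Subgroup.normal_mul] at h1
  obtain ⟨k, hk, h, hh, rfl⟩ := h1
  exact ⟨k, hk, h, hh, rfl⟩

omit [Fintype G] hKH' hfpf hK in
theorem mul_inj {k k' h h' : G} (hk : k ∈ K) (hk' : k' ∈ K) (hh : h ∈ H) (hh' : h' ∈ H)
    (e : k * h = k' * h') : k = k' ∧ h = h' := by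
  have h1 : k'⁻¹ * k ∈ K ⊓ H := by
    refine ⟨K.mul_mem (K.inv_mem hk') hk, ?_⟩
    have : k'⁻¹ * k = h' * h⁻¹ := by
      rw [inv_mul_eq_iff_eq_mul, ← mul_assoc, ← e, mul_inv_cancel_right]
    rw [this]
    exact H.mul_mem hh' (H.inv_mem hh)
  rw [hKH, Subgroup.mem_bot, inv_mul_eq_one] at h1
  subst h1
  exact ⟨rfl, mul_left_cancel e⟩

omit [Fintype G] in
theorem conj_inj {k k' h h' : G} (hk : k ∈ K) (hk' : k' ∈ K) (hh : h ∈ H) (h1 : h ≠ 1)
    (hh' : h' ∈ H) (e : k * h * k⁻¹ = k' * h' * k'⁻¹) : k = k' ∧ h = h' := by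
  have hsplit : ∀ a b : G, a * b * a⁻¹ = (a * (b * a⁻¹ * b⁻¹)) * b := fun a b => by group
  have hm : ∀ a ∈ K, ∀ b : G, a * (b * a⁻¹ * b⁻¹) ∈ K := fun a ha b =>
    K.mul_mem ha (hK.conj_mem _ (K.inv_mem ha) b)
  obtain ⟨-, rfl⟩ := mul_inj hKH (hm k hk h) (hm k' hk' h') hh hh'
    (by rw [← hsplit, ← hsplit]; exact e)
  refine ⟨?_, rfl⟩
  have hc : h * (k'⁻¹ * k) = (k'⁻¹ * k) * h := by
    calc h * (k'⁻¹ * k) = k'⁻¹ * (k' * h * k'⁻¹) * k := by group
      _ = k'⁻¹ * (k * h * k⁻¹) * k := by rw [e]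
      _ = (k'⁻¹ * k) * h := by group
  exact (inv_mul_eq_one.mp (hfpf h hh h1 _ (K.mul_mem (K.inv_mem hk') hk) hc)).symm

/-- The elements outside `K` are exactly the `k h k⁻¹` with `h ≠ 1`. -/
theorem exists_conj_of_notMem {g : G} (hg : g ∉ K) :
    ∃ k ∈ K, ∃ h ∈ H, h ≠ 1 ∧ g = k * h * k⁻¹ := by
  classical
  let S : Finset (G × G) := Finset.univ.filter fun p => p.1 ∈ K ∧ p.2 ∈ H ∧ p.2 ≠ 1
  have hmem : ∀ p, p ∈ S ↔ p.1 ∈ K ∧ p.2 ∈ H ∧ p.2 ≠ 1 := fun p => by simp [S]
  let T : Finset G := Finset.univ.filter fun x => x ∉ K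
  have h1 : S.image (fun p => p.1 * p.2 * p.1⁻¹) ⊆ T := by
    intro x hx
    obtain ⟨p, hp, rfl⟩ := Finset.mem_image.mp hx
    rw [hmem] at hp
    simp only [T, Finset.mem_filter, Finset.mem_univ, true_and]
    intro hxK
    refine hp.2.2 ((Subgroup.mem_bot).mp (hKH ▸ ⟨?_, hp.2.1⟩))
    have := K.mul_mem (K.mul_mem (K.inv_mem hp.1) hxK) hp.1
    rwa [show p.1⁻¹ * (p.1 * p.2 * p.1⁻¹) * p.1 = p.2 by group] at this
  have h2 : (S.image fun p => p.1 * p.2 * p.1⁻¹).card = S.card := by
    refine Finset.card_image_of_injOn fun p hp q hq e => ?_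
    rw [Finset.mem_coe, hmem] at hp hq
    obtain ⟨e1, e2⟩ := conj_inj hK hKH hKH' hfpf hp.1 hq.1 hp.2.1 hp.2.2 hq.2.1 e
    exact Prod.ext e1 e2
  have h3 : T.card ≤ S.card := by
    choose a ha b hb hab using fun x : G => exists_mul hK hKH hKH' x
    refine Finset.card_le_card_of_injOn (fun x => (a x, b x)) (fun x hx => ?_) fun x _ y _ e => ?_
    · rw [Finset.mem_coe, hmem]
      refine ⟨ha x, hb x, fun e => ?_⟩
      simp only [T, Finset.coe_filter, Finset.mem_univ, true_and, Set.mem_setOf_eq] at hx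
      exact hx (by rw [hab x, show b x = 1 from e, mul_one]; exact ha x)
    · rw [hab x, hab y, show a x = a y from congrArg Prod.fst e, show b x = b y from congrArg Prod.snd e]
  have h4 := Finset.eq_of_subset_of_card_le h1 (by rw [h2]; exact h3)
  have hgT : g ∈ T := by simp [T, hg]
  rw [← h4, Finset.mem_image] at hgT
  obtain ⟨p, hp, e⟩ := hgT
  rw [hmem] at hp
  exact ⟨p.1, hp.1, p.2, hp.2.1, hp.2.2, e.symm⟩

/-- The centralizer of a nontrivial element of `K` lies in `K`. -/
theorem mem_of_commute {k g : G} (hk : k ∈ K) (hk1 : k ≠ 1) (hc : g * k = k * g) : g ∈ K := by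
  by_contra hg
  obtain ⟨a, ha, h, hh, h1, rfl⟩ := exists_conj_of_notMem hK hKH hKH' hfpf hg
  refine hk1 ?_
  have hmem : a⁻¹ * k * a ∈ K := K.mul_mem (K.mul_mem (K.inv_mem ha) hk) ha
  have hcc : h * (a⁻¹ * k * a) = (a⁻¹ * k * a) * h := by
    calc h * (a⁻¹ * k * a) = a⁻¹ * ((a * h * a⁻¹) * k) * a := by group
      _ = a⁻¹ * (k * (a * h * a⁻¹)) * a := by rw [hc]
      _ = (a⁻¹ * k * a) * h := by group
  have := hfpf h hh h1 _ hmem hcc
  calc k = a * (a⁻¹ * k * a) * a⁻¹ := by group
    _ = 1 := by rw [this]; group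

theorem card_mul_card : Nat.card K * Nat.card H = Nat.card G :=
  (Subgroup.isComplement'_of_disjoint_and_mul_eq_univ (disjoint_iff.mpr hKH)
    (Set.eq_univ_of_forall fun g => by
      obtain ⟨k, hk, h, hh, rfl⟩ := exists_mul hK hKH hKH' g
      exact Set.mul_mem_mul hk hh)).card_mul

/-- A nonprincipal irreducible character of `K` induces irreducibly. -/
theorem isIrrCharacter_indFun {τ : K → ℂ} (hτ : Cfsg.IsIrrCharacter K τ) (hτ1 : τ ≠ fun _ => 1) :
    Cfsg.IsIrrCharacter G (Cfsg.indFun K τ) := by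
  classical
  have hinert : ∀ g : G, conjFn hK τ g = τ → g ∈ K := by
    intro g hfix
    by_contra hg
    let α : K ≃* K := (@MulAut.conjNormal G _ K hK) g
    have htriv : ∀ C : ConjClasses K, ConjClasses.map α.toMonoidHom C = C → C = ConjClasses.mk 1 := by
      intro C hC
      obtain ⟨k, rfl⟩ := ConjClasses.mk_surjective C
      have hC' : IsConj (α k) k := ConjClasses.mk_eq_mk_iff_isConj.mp hC
      obtain ⟨y, hy⟩ := isConj_iff.mp hC'
      by_contra hne
      have hk1 : k ≠ 1 := fun e => hne (by rw [e])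
      refine hg ?_
      have hy' : (y : G) * (g * k * g⁻¹) * (y : G)⁻¹ = k := congrArg Subtype.val hy
      have hcomm : ((y : G) * g) * k = k * ((y : G) * g) := by
        calc ((y : G) * g) * k = ((y : G) * (g * k * g⁻¹) * (y : G)⁻¹) * ((y : G) * g) := by group
          _ = k * ((y : G) * g) := by rw [hy']
      have := mem_of_commute hK hKH hKH' hfpf k.2 (fun e => hk1 (Subtype.ext e)) hcomm
      have h2 := K.mul_mem (K.inv_mem y.2) this
      rwa [inv_mul_cancel_left] at h2
    have hcl : Nat.card {C : ConjClasses K // ConjClasses.map α.toMonoidHom C = C} = 1 := by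
      rw [Nat.card_eq_one_iff_unique]
      refine ⟨⟨fun a b => Subtype.ext ((htriv _ a.2).trans (htriv _ b.2).symm)⟩,
        ⟨⟨ConjClasses.mk 1, ?_⟩⟩⟩
      exact ConjClasses.mk_eq_mk_iff_isConj.mpr (by rw [map_one])
    rw [card_fixed_classes_eq_card_fixed_irr, Nat.card_eq_one_iff_unique] at hcl
    have := hcl.1
    have he := Subsingleton.elim (α := {χ : Cfsg.IrrCharacter K // (χ : K → ℂ) ∘ α = (χ : K → ℂ)})
      ⟨⟨τ, hτ⟩, hfix⟩ ⟨trivChar K, rfl⟩
    exact hτ1 (congrArg (fun χ => (χ.1 : K → ℂ)) he)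
  refine IsChar.isIrr_of_classInner_eq_one (isCharacter_indFun K (IsIrr.isCharacter hτ)) ?_
  have h := card_mul_classInner_indFun hK hτ
  have hcard : Nat.card {g : G // conjFn hK τ g = τ} = Nat.card K := by
    refine Nat.card_congr (Equiv.subtypeEquivRight fun g => ⟨hinert g, fun hg => ?_⟩)
    funext n
    rw [conjFn_apply]
    have := IsIrr.isClassFunction hτ n ⟨g, hg⟩
    rw [← this]
    rfl
  rw [hcard] at h
  exact mul_left_cancel₀ (Nat.cast_ne_zero.mpr Nat.card_pos.ne') (h.trans (mul_one _).symm)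

/-- The class number of a Frobenius group. -/
theorem class_count :
    Nat.card H * Nat.card (ConjClasses G) + 1 =
      Nat.card H * Nat.card (ConjClasses H) + Nat.card (ConjClasses K) := by
  classical
  let cG : G → ℕ := fun g => (Finset.univ.filter fun y => Commute g y).card
  have hfib : ∀ (X : Type _) [Group X] [Fintype X] [DecidableRel (Commute : X → X → Prop)],
      ∑ x : X, (Finset.univ.filter fun y => Commute x y).card =
        Nat.card (ConjClasses X) * Nat.card X := by
    intro X _ _ _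
    rw [← card_comm_eq_card_conjClasses_mul_card, Nat.card_eq_fintype_card, Fintype.card_subtype]
    simp only [Finset.card_filter]
    rw [Fintype.sum_prod_type]
  have hG := hfib G
  have hKc := hfib K
  have hHc := hfib H
  have hKH'' := card_mul_card hK hKH hKH' hfpf
  -- split according to `K`
  have h1 : cG 1 = Nat.card G := by
    simp [cG, Nat.card_eq_fintype_card]
  have hKc1 : (Finset.univ.filter fun y : K => Commute (1 : K) y).card = Nat.card K := by
    simp [Nat.card_eq_fintype_card]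
  have hHc1 : (Finset.univ.filter fun y : H => Commute (1 : H) y).card = Nat.card H := by
    simp [Nat.card_eq_fintype_card]
  have hin : ∀ k : K, k ≠ 1 → cG k = (Finset.univ.filter fun y : K => Commute k y).card := by
    intro k hk
    symm
    refine Finset.card_nbij (fun y => (y : G)) (fun y hy => ?_) (fun y _ z _ e => Subtype.ext e)
      fun y hy => ?_
    · simp only [Finset.coe_filter, Finset.mem_filter, Finset.mem_univ, true_and, cG, Set.mem_setOf_eq] at hy ⊢
      exact congrArg Subtype.val hy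
    · simp only [Finset.coe_filter, Finset.mem_univ, true_and, Set.mem_setOf_eq, cG] at hy
      refine ⟨⟨y, mem_of_commute hK hKH hKH' hfpf k.2 (fun e => hk (Subtype.ext e)) hy.eq.symm⟩,
        ?_, rfl⟩
      simp only [Finset.coe_filter, Finset.mem_univ, true_and, Set.mem_setOf_eq]
      exact Subtype.ext hy
  have hout : ∀ (a : K) (h : H), h ≠ 1 → cG ((a : G) * h * (a : G)⁻¹) =
      (Finset.univ.filter fun y : H => Commute h y).card := by
    intro a h hh
    symm
    refine Finset.card_nbij (fun y => (a : G) * y * (a : G)⁻¹) (fun y hy => ?_)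
      (fun y _ z _ e => Subtype.ext (mul_left_cancel (mul_right_cancel e))) fun y hy => ?_
    · simp only [Finset.coe_filter, Finset.mem_filter, Finset.mem_univ, true_and, cG, Set.mem_setOf_eq] at hy ⊢
      have hy' : (h : G) * y = y * h := congrArg Subtype.val hy
      calc (a : G) * h * (a : G)⁻¹ * ((a : G) * y * (a : G)⁻¹) = (a : G) * (h * y) * (a : G)⁻¹ := by group
        _ = (a : G) * (y * h) * (a : G)⁻¹ := by rw [hy']
        _ = _ := by group
    · simp only [Finset.coe_filter, Finset.mem_univ, true_and, Set.mem_setOf_eq, cG] at hy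
      obtain ⟨k, hk, b, hb, hkb⟩ := exists_mul hK hKH hKH' ((a : G)⁻¹ * y * a)
      have hcomm : (h : G) * (k * b) = (k * b) * h := by
        rw [← hkb]
        calc (h : G) * ((a : G)⁻¹ * y * a) = (a : G)⁻¹ * ((a : G) * h * (a : G)⁻¹ * y) * a := by group
          _ = (a : G)⁻¹ * (y * ((a : G) * h * (a : G)⁻¹)) * a := by rw [hy.eq]
          _ = _ := by group
      have e : ((h : G) * k * (h : G)⁻¹) * ((h : G) * b) = k * (b * h) := by
        calc ((h : G) * k * (h : G)⁻¹) * ((h : G) * b) = (h : G) * (k * b) := by group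
          _ = (k * b) * h := hcomm
          _ = k * (b * h) := by group
      obtain ⟨e1, e2⟩ := mul_inj hKH (hK.conj_mem k hk h) hk (H.mul_mem h.2 hb)
        (H.mul_mem hb h.2) e
      have hk1 : k = 1 := hfpf h h.2 (fun e => hh (Subtype.ext e)) k hk (mul_inv_eq_iff_eq_mul.mp e1)
      refine ⟨⟨b, hb⟩, ?_, ?_⟩
      · simp only [Finset.coe_filter, Finset.mem_univ, true_and, Set.mem_setOf_eq]
        exact Subtype.ext e2
      · change (a : G) * b * (a : G)⁻¹ = y
        rw [show b = (a : G)⁻¹ * y * a by rw [hkb, hk1, one_mul]]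
        group
  have hsplit : ∑ g, cG g = ∑ k : K, cG k +
      ∑ p ∈ (Finset.univ : Finset (K × H)).filter (fun p => p.2 ≠ 1),
        cG ((p.1 : G) * p.2 * (p.1 : G)⁻¹) := by
    rw [← Finset.sum_filter_add_sum_filter_not Finset.univ (fun g : G => g ∈ K) cG]
    congr 1
    · exact (Finset.sum_subtype _ (fun x => by simp) cG)
    · symm
      refine Finset.sum_nbij (fun p : K × H => (p.1 : G) * p.2 * (p.1 : G)⁻¹) (fun p hp => ?_)
        (fun p hp q hq e => ?_) (fun g hg => ?_) fun p _ => rfl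
      · simp only [Finset.mem_filter, Finset.mem_univ, true_and] at hp ⊢
        intro hxK
        refine hp (Subtype.ext ((Subgroup.mem_bot).mp (hKH ▸ ⟨?_, p.2.2⟩)))
        have := K.mul_mem (K.mul_mem (K.inv_mem p.1.2) hxK) p.1.2
        rwa [show (p.1 : G)⁻¹ * ((p.1 : G) * p.2 * (p.1 : G)⁻¹) * p.1 = p.2 by group] at this
      · simp only [Finset.coe_filter, Finset.mem_univ, true_and, Set.mem_setOf_eq] at hp
        obtain ⟨e1, e2⟩ := conj_inj hK hKH hKH' hfpf p.1.2 q.1.2 p.2.2
          (fun h => hp (Subtype.ext h)) q.2.2 e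
        exact Prod.ext (Subtype.ext e1) (Subtype.ext e2)
      · simp only [Finset.coe_filter, Finset.mem_univ, true_and, Set.mem_setOf_eq] at hg
        obtain ⟨k, hk, h, hh, h1, rfl⟩ := exists_conj_of_notMem hK hKH hKH' hfpf hg
        exact ⟨(⟨k, hk⟩, ⟨h, hh⟩), by simp [h1], rfl⟩
  have hA : ∑ k : K, cG k + Nat.card K = Nat.card G + Nat.card (ConjClasses K) * Nat.card K := by
    rw [← hKc, ← Finset.add_sum_erase _ _ (Finset.mem_univ (1 : K)),
      ← Finset.add_sum_erase _ _ (Finset.mem_univ (1 : K)), hKc1,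
      Finset.sum_congr rfl fun k hk => hin k (Finset.ne_of_mem_erase hk), Subgroup.coe_one, h1]
    ring
  have hB : ∑ p ∈ (Finset.univ : Finset (K × H)).filter (fun p => p.2 ≠ 1),
        cG ((p.1 : G) * p.2 * (p.1 : G)⁻¹) + Nat.card K * Nat.card H =
      Nat.card K * (Nat.card (ConjClasses H) * Nat.card H) := by
    rw [Finset.sum_congr rfl fun p hp => hout p.1 p.2 (Finset.mem_filter.mp hp).2, ← hHc,
      ← Finset.add_sum_erase (Finset.univ : Finset H) _ (Finset.mem_univ 1), hHc1,
      show (Finset.univ : Finset (K × H)).filter (fun p => p.2 ≠ 1) =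
        (Finset.univ : Finset K) ×ˢ (Finset.univ : Finset H).erase 1 by ext; simp,
      Finset.sum_product]
    simp only [Finset.sum_const, smul_eq_mul, Finset.card_univ, Nat.card_eq_fintype_card]
    ring
  have hG' : ∑ g, cG g = Nat.card (ConjClasses G) * Nat.card G := hG
  rw [← hKH''] at hG' hA
  have hpos : 0 < Nat.card K := Nat.card_pos
  refine Nat.eq_of_mul_eq_mul_left hpos ?_
  linarith

end

end CfsgLib.Frobenius
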