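import Cfsg.Agent.Lib.Char.Brauer
import Cfsg.Agent.Lib.Char.Complete

/-!
# Galois twists of characters: `g ↦ χ (g ^ k)` for `k` prime to the group order
-/

namespace CfsgLib.Char

open scoped ComplexConjugate

variable {G : Type*} [Group G]

theorem mem_iff_pow_mem [Finite G] (H : Subgroup G) {k : ℕ} (hk : k.Coprime (Nat.card G)) (g : G) :
    g ^ k ∈ H ↔ g ∈ H := by
  refine ⟨fun h => ?_, fun h => pow_mem h k⟩
  obtain ⟨m, hm⟩ := exists_pow_eq_self_of_coprime (x := g)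
    (hk.coprime_dvd_right (orderOf_dvd_natCard g))
  exact hm ▸ pow_mem h m

variable [Fintype G]

theorem indFun_apply_pow (H : Subgroup G) (l : H →* ℂˣ) {k : ℕ} (hk : k.Coprime (Nat.card G))
    (g : G) :
    Cfsg.indFun H (fun h => (l h : ℂ)) (g ^ k) = Cfsg.indFun H (fun h => ((l ^ k) h : ℂ)) g := by
  classical
  simp only [Cfsg.indFun]
  congr 1
  refine Finset.sum_congr rfl fun x _ => ?_
  have e : x⁻¹ * g ^ k * x = (x⁻¹ * g * x) ^ k := by
    have h := conj_pow (i := k) (a := x⁻¹) (b := g)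
    rw [inv_inv] at h
    exact h.symm
  by_cases hg : x⁻¹ * g * x ∈ H
  · rw [e, extendByZero_of_mem H _ (pow_mem hg k), extendByZero_of_mem H _ hg,
      MonoidHom.pow_apply, ← map_pow]
    rfl
  · rw [extendByZero_of_notMem H _ hg, extendByZero_of_notMem H]
    rw [e, mem_iff_pow_mem H hk]
    exact hg

theorem isGeneralizedCharacter_pow {χ : G → ℂ} (hχ : Cfsg.IsGeneralizedCharacter G χ) {k : ℕ}
    (hk : k.Coprime (Nat.card G)) : Cfsg.IsGeneralizedCharacter G fun g => χ (g ^ k) := by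
  obtain ⟨l, -, rfl⟩ := CfsgLib.Brauer.exists_list hχ
  clear hχ
  induction l with
  | nil => exact IsGen.zero
  | cons t l ih =>
    refine IsGen.add (θ := fun g => (t.2.2 : ℂ) * Cfsg.indFun t.1 (fun e => (t.2.1 e : ℂ)) (g ^ k))
      ?_ ih
    simp only [indFun_apply_pow t.1 t.2.1 hk]
    exact IsGen.intCast_smul _ (IsGen.indFun (IsGen.of_irr (isIrrCharacter_linear _)))

theorem isIrrCharacter_pow {χ : G → ℂ} (hχ : Cfsg.IsIrrCharacter G χ) {k : ℕ}
    (hk : k.Coprime (Nat.card G)) : Cfsg.IsIrrCharacter G fun g => χ (g ^ k) := by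
  refine IsGen.isIrr_of_norm_one (isGeneralizedCharacter_pow (IsGen.of_irr hχ) hk) ?_ ?_
  · refine Eq.trans ?_ (classInner_irr_self ⟨χ, hχ⟩)
    simp only [Cfsg.classInner]
    congr 1
    exact Fintype.sum_equiv (powCoprime hk.symm) _ _ fun g => rfl
  · obtain ⟨n, hn0, hn⟩ := IsIrr.exists_degree hχ
    rw [one_pow, hn, Complex.natCast_re]
    exact_mod_cast hn0

omit [Fintype G] in
theorem isCharacter_pow [Finite G] {χ : G → ℂ} (hχ : Cfsg.IsCharacter G χ) {k : ℕ}
    (hk : k.Coprime (Nat.card G)) : Cfsg.IsCharacter G fun g => χ (g ^ k) := by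
  classical
  have := Fintype.ofFinite G
  have := Fintype.ofFinite (Cfsg.IrrCharacter G)
  obtain ⟨m, rfl⟩ := IsChar.exists_sum hχ
  rw [show (fun g : G => (∑ ψ, (m ψ : ℂ) • (ψ : G → ℂ)) (g ^ k)) =
    ∑ ψ : Cfsg.IrrCharacter G, (m ψ : ℂ) • fun g => (ψ : G → ℂ) (g ^ k) from
    funext fun g => by simp]
  exact IsChar.sum _ _ fun ψ _ =>
    IsChar.natCast_smul _ (IsIrr.isCharacter (isIrrCharacter_pow ψ.2 hk))

end CfsgLib.Char
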