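import Cfsg.Agent.Lib.Char.Rep
import Mathlib.RingTheory.RootsOfUnity.Complex
import Mathlib.RingTheory.Trace.Basic
import Mathlib.FieldTheory.IntermediateField.Adjoin.Basic
import Mathlib.RingTheory.Polynomial.Cyclotomic.Roots

/-!
# Rationality of character values
-/

namespace CfsgLib.CharRational

open Module Polynomial

variable {G : Type*} [Group G] [Finite G] {V : Type*} [AddCommGroup V] [Module ℂ V]
  [FiniteDimensional ℂ V] (ρ : Representation ℂ G V) (g : G)

/-- Character values at the powers of `g` are values of one polynomial at powers of a primitive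
`|G|`-th root of unity. -/
theorem exists_polynomial :
    ∃ (P : ℚ[X]) (ζ : ℂ), IsPrimitiveRoot ζ (Nat.card G) ∧
      ∀ m : ℕ, ρ.character (g ^ m) = aeval (ζ ^ m) P := by
  classical
  obtain ⟨ε, hε, -, hpow, -⟩ := CfsgLib.Char.exists_eigenvalues ρ g
  have hN : Nat.card G ≠ 0 := Nat.card_pos.ne'
  have hζ := Complex.isPrimitiveRoot_exp (Nat.card G) hN
  have : NeZero (Nat.card G) := ⟨hN⟩
  obtain ⟨d, hd⟩ := orderOf_dvd_natCard g
  choose j hj using fun i => hζ.eq_pow_of_pow_eq_one (ξ := ε i)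
    (by rw [hd, pow_mul, hε i, one_pow])
  refine ⟨∑ i, X ^ j i, _, hζ, fun m => ?_⟩
  rw [hpow]
  simp only [map_sum, map_pow, aeval_X]
  exact Finset.sum_congr rfl fun i _ => by rw [← (hj i).2, ← pow_mul, ← pow_mul, Nat.mul_comm]

/-- A rational value is shared by the powers prime to the group order. -/
theorem apply_pow_eq_of_eq_rat {q : ℚ} (hq : ρ.character g = (q : ℂ)) {m : ℕ}
    (hm : m.Coprime (Nat.card G)) : ρ.character (g ^ m) = (q : ℂ) := by
  obtain ⟨P, ζ, hζ, hP⟩ := exists_polynomial ρ g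
  have hN : 0 < Nat.card G := Nat.card_pos
  have hmin : minpoly ℚ (ζ ^ m) = minpoly ℚ ζ := by
    rw [← cyclotomic_eq_minpoly_rat (hζ.pow_of_coprime m hm) hN,
      ← cyclotomic_eq_minpoly_rat hζ hN]
  have hroot : aeval ζ (P - C q) = 0 := by
    have h := hP 1
    rw [pow_one, pow_one, hq] at h
    rw [map_sub, ← h, aeval_C, eq_ratCast, sub_self]
  have h2 := Polynomial.aeval_eq_zero_of_dvd_aeval_eq_zero
    (hmin ▸ minpoly.dvd ℚ ζ hroot) (minpoly.aeval ℚ (ζ ^ m))
  rw [map_sub, aeval_C, eq_ratCast, sub_eq_zero, ← hP] at h2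
  exact h2

/-- A value constant on the powers prime to the group order is rational. -/
theorem exists_rat_of_apply_pow_eq
    (h : ∀ m : ℕ, m.Coprime (Nat.card G) → ρ.character (g ^ m) = ρ.character g) :
    ∃ q : ℚ, ρ.character g = (q : ℂ) := by
  classical
  obtain ⟨P, ζ, hζ, hP⟩ := exists_polynomial ρ g
  have hN : 0 < Nat.card G := Nat.card_pos
  let K : IntermediateField ℚ ℂ := IntermediateField.adjoin ℚ {ζ}
  have hfin : FiniteDimensional ℚ K :=
    IntermediateField.adjoin.finiteDimensional (IsIntegral.of_pow hN (by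
      rw [hζ.pow_eq_one]; exact isIntegral_one))
  let z : K := ⟨ζ, IntermediateField.mem_adjoin_simple_self ℚ ζ⟩
  have hz : IsPrimitiveRoot z (Nat.card G) :=
    IsPrimitiveRoot.of_map_of_injective (f := K.val) hζ K.val.injective
  have : NeZero (Nat.card G) := ⟨hN.ne'⟩
  let x : K := aeval z P
  have hσ : ∀ σ : K →ₐ[ℚ] ℂ, σ x = ρ.character g := by
    intro σ
    have h1 : IsPrimitiveRoot (σ z) (Nat.card G) := hz.map_of_injective σ.injective
    obtain ⟨i, -, hi⟩ := hζ.eq_pow_of_pow_eq_one h1.pow_eq_one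
    rw [← hi] at h1
    rw [← aeval_algHom_apply, ← hi, ← hP i, h i ((hζ.pow_iff_coprime hN i).mp h1)]
  have htr := trace_eq_sum_embeddings (E := ℂ) (K := ℚ) (x := x)
  simp only [hσ] at htr
  refine ⟨Algebra.trace ℚ K x / (Fintype.card (K →ₐ[ℚ] ℂ) : ℚ), ?_⟩
  have hne : (Fintype.card (K →ₐ[ℚ] ℂ) : ℂ) ≠ 0 := by
    rw [AlgHom.card]
    exact Nat.cast_ne_zero.mpr Module.finrank_pos.ne'
  rw [Finset.sum_const, nsmul_eq_mul, Finset.card_univ, eq_ratCast] at htr
  rw [Rat.cast_div, Rat.cast_natCast, eq_div_iff hne, htr, mul_comm]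

end CfsgLib.CharRational
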