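import Cfsg.Agent.Lib.Char.Induced
import Mathlib.Algebra.Ring.Subring.Basic
import Mathlib.Algebra.Ring.Subring.Defs
import Mathlib.Tactic.Abel

/-!
# Generalized characters

Closure properties of `Cfsg.IsGeneralizedCharacter`, integer coordinates, the ring of
generalized characters, and the norm-one criterion.
-/

namespace CfsgLib.Char

open scoped ComplexConjugate

universe u

variable {G : Type u} [Group G] {θ φ χ : G → ℂ}

theorem IsGen.of_isCharacter (h : Cfsg.IsCharacter G χ) : Cfsg.IsGeneralizedCharacter G χ :=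
  ⟨χ, 0, h, isCharacter_zero, (sub_zero χ).symm⟩

theorem IsGen.of_irr (h : Cfsg.IsIrrCharacter G χ) : Cfsg.IsGeneralizedCharacter G χ :=
  IsGen.of_isCharacter (IsIrr.isCharacter h)

theorem IsGen.zero : Cfsg.IsGeneralizedCharacter G (0 : G → ℂ) :=
  IsGen.of_isCharacter isCharacter_zero

theorem IsGen.one : Cfsg.IsGeneralizedCharacter G (1 : G → ℂ) :=
  IsGen.of_isCharacter isCharacter_one

theorem IsGen.add (h₁ : Cfsg.IsGeneralizedCharacter G θ) (h₂ : Cfsg.IsGeneralizedCharacter G φ) :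
    Cfsg.IsGeneralizedCharacter G (θ + φ) := by
  obtain ⟨a, b, ha, hb, rfl⟩ := h₁
  obtain ⟨c, d, hc, hd, rfl⟩ := h₂
  exact ⟨a + c, b + d, IsChar.add ha hc, IsChar.add hb hd, by abel⟩

theorem IsGen.neg (h : Cfsg.IsGeneralizedCharacter G θ) :
    Cfsg.IsGeneralizedCharacter G (-θ) := by
  obtain ⟨a, b, ha, hb, rfl⟩ := h
  exact ⟨b, a, hb, ha, neg_sub a b⟩

theorem IsGen.sub (h₁ : Cfsg.IsGeneralizedCharacter G θ) (h₂ : Cfsg.IsGeneralizedCharacter G φ) :
    Cfsg.IsGeneralizedCharacter G (θ - φ) := by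
  rw [sub_eq_add_neg]
  exact IsGen.add h₁ (IsGen.neg h₂)

theorem IsGen.mul (h₁ : Cfsg.IsGeneralizedCharacter G θ) (h₂ : Cfsg.IsGeneralizedCharacter G φ) :
    Cfsg.IsGeneralizedCharacter G (θ * φ) := by
  obtain ⟨a, b, ha, hb, rfl⟩ := h₁
  obtain ⟨c, d, hc, hd, rfl⟩ := h₂
  exact ⟨a * c + b * d, a * d + b * c, IsChar.add (IsChar.mul ha hc) (IsChar.mul hb hd),
    IsChar.add (IsChar.mul ha hd) (IsChar.mul hb hc), by ring⟩

theorem IsGen.intCast_smul (m : ℤ) (h : Cfsg.IsGeneralizedCharacter G θ) :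
    Cfsg.IsGeneralizedCharacter G ((m : ℂ) • θ) := by
  induction m using Int.induction_on with
  | zero => simpa using IsGen.zero
  | succ n ih => rw [Int.cast_add, add_smul, Int.cast_one, one_smul]; exact IsGen.add ih h
  | pred n ih => rw [Int.cast_sub, sub_smul, Int.cast_one, one_smul]; exact IsGen.sub ih h

theorem IsGen.sum {ι : Type*} (s : Finset ι) (f : ι → G → ℂ)
    (h : ∀ i ∈ s, Cfsg.IsGeneralizedCharacter G (f i)) :
    Cfsg.IsGeneralizedCharacter G (∑ i ∈ s, f i) :=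
  Finset.sum_induction _ _ (fun _ _ => IsGen.add) IsGen.zero h

theorem IsGen.comp {H : Type*} [Group H] (f : H →* G) (h : Cfsg.IsGeneralizedCharacter G θ) :
    Cfsg.IsGeneralizedCharacter H (fun x => θ (f x)) := by
  obtain ⟨a, b, ha, hb, rfl⟩ := h
  exact ⟨fun x => a (f x), fun x => b (f x), IsChar.comp f ha, IsChar.comp f hb, rfl⟩

theorem IsGen.restrict (K : Subgroup G) (h : Cfsg.IsGeneralizedCharacter G θ) :
    Cfsg.IsGeneralizedCharacter K (fun x : K => θ x) :=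
  IsGen.comp K.subtype h

theorem IsGen.indFun [Fintype G] {H : Subgroup G} {ψ : H → ℂ}
    (h : Cfsg.IsGeneralizedCharacter H ψ) :
    Cfsg.IsGeneralizedCharacter G (Cfsg.indFun H ψ) := by
  obtain ⟨a, b, ha, hb, rfl⟩ := h
  exact ⟨_, _, isCharacter_indFun H ha, isCharacter_indFun H hb, indFun_sub H a b⟩

theorem IsGen.isClassFunction (h : Cfsg.IsGeneralizedCharacter G θ) :
    Cfsg.IsClassFunction G θ := by
  obtain ⟨a, b, ha, hb, rfl⟩ := h
  intro g x
  simp only [Pi.sub_apply, IsChar.isClassFunction ha g x, IsChar.isClassFunction hb g x]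

theorem IsGen.exists_int_apply_one (h : Cfsg.IsGeneralizedCharacter G θ) :
    ∃ m : ℤ, θ 1 = (m : ℂ) := by
  obtain ⟨a, b, ha, hb, rfl⟩ := h
  obtain ⟨m, hm⟩ := IsChar.exists_degree ha
  obtain ⟨n, hn⟩ := IsChar.exists_degree hb
  exact ⟨(m : ℤ) - n, by simp [hm, hn]⟩

theorem IsGen.map_inv [Finite G] (h : Cfsg.IsGeneralizedCharacter G θ) (g : G) :
    θ g⁻¹ = conj (θ g) := by
  obtain ⟨a, b, ha, hb, rfl⟩ := h
  simp [IsChar.map_inv ha g, IsChar.map_inv hb g]

theorem IsGen.isIntegral [Finite G] (h : Cfsg.IsGeneralizedCharacter G θ) (g : G) :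
    IsIntegral ℤ (θ g) := by
  obtain ⟨a, b, ha, hb, rfl⟩ := h
  exact (IsChar.isIntegral ha g).sub (IsChar.isIntegral hb g)

/-- The ring of generalized characters. -/
def genSubring (G : Type*) [Group G] : Subring (G → ℂ) where
  carrier := {θ | Cfsg.IsGeneralizedCharacter G θ}
  mul_mem' := IsGen.mul
  one_mem' := IsGen.one
  add_mem' := IsGen.add
  zero_mem' := IsGen.zero
  neg_mem' := IsGen.neg

theorem mem_genSubring {θ : G → ℂ} : θ ∈ genSubring G ↔ Cfsg.IsGeneralizedCharacter G θ :=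
  Iff.rfl

/-- A generalized character is an integral combination of irreducible characters. -/
theorem IsGen.exists_sum [Finite G] [Fintype (Cfsg.IrrCharacter G)]
    (h : Cfsg.IsGeneralizedCharacter G θ) :
    ∃ m : Cfsg.IrrCharacter G → ℤ, θ = ∑ ψ, (m ψ : ℂ) • (ψ : G → ℂ) := by
  obtain ⟨a, b, ha, hb, rfl⟩ := h
  obtain ⟨m, rfl⟩ := IsChar.exists_sum ha
  obtain ⟨n, rfl⟩ := IsChar.exists_sum hb
  refine ⟨fun ψ => (m ψ : ℤ) - n ψ, ?_⟩
  simp [sub_smul, Finset.sum_sub_distrib]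

theorem IsGen.intCast_sum [Fintype (Cfsg.IrrCharacter G)] (m : Cfsg.IrrCharacter G → ℤ) :
    Cfsg.IsGeneralizedCharacter G (∑ ψ, (m ψ : ℂ) • (ψ : G → ℂ)) :=
  IsGen.sum _ _ fun ψ _ => IsGen.intCast_smul _ (IsGen.of_irr ψ.2)

theorem IsGen.exists_classInner_eq_intCast [Fintype G] (h₁ : Cfsg.IsGeneralizedCharacter G θ)
    (h₂ : Cfsg.IsGeneralizedCharacter G φ) : ∃ m : ℤ, Cfsg.classInner θ φ = m := by
  obtain ⟨a, b, ha, hb, rfl⟩ := h₁
  obtain ⟨c, d, hc, hd, rfl⟩ := h₂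
  obtain ⟨k, hk⟩ := IsChar.classInner_eq_natCast ha hc
  obtain ⟨l, hl⟩ := IsChar.classInner_eq_natCast ha hd
  obtain ⟨m, hm⟩ := IsChar.classInner_eq_natCast hb hc
  obtain ⟨n, hn⟩ := IsChar.classInner_eq_natCast hb hd
  refine ⟨(k : ℤ) - l - ((m : ℤ) - n), ?_⟩
  simp [classInner_sub_left, classInner_sub_right, hk, hl, hm, hn]
  ring

/-- A class function with integral coordinates is a generalized character. -/
theorem isGeneralizedCharacter_of_classInner [Fintype G] (hθ : Cfsg.IsClassFunction G θ)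
    (h : ∀ ψ : Cfsg.IrrCharacter G, ∃ m : ℤ, Cfsg.classInner θ (ψ : G → ℂ) = m) :
    Cfsg.IsGeneralizedCharacter G θ := by
  have := Fintype.ofFinite (Cfsg.IrrCharacter G)
  choose m hm using h
  rw [classFunction_eq_sum hθ]
  simp only [hm]
  exact IsGen.intCast_sum m

theorem IsGen.classInner_self [Fintype G] [Fintype (Cfsg.IrrCharacter G)]
    (m : Cfsg.IrrCharacter G → ℤ) :
    Cfsg.classInner (∑ ψ, (m ψ : ℂ) • (ψ : G → ℂ)) (∑ ψ, (m ψ : ℂ) • (ψ : G → ℂ)) =
      ((∑ ψ, m ψ * m ψ : ℤ) : ℂ) := by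
  rw [IsChar.classInner_self]
  simp

/-- A generalized character of norm one is plus or minus an irreducible character. -/
theorem IsGen.isIrr_or_neg [Fintype G] (h : Cfsg.IsGeneralizedCharacter G θ)
    (h1 : Cfsg.classInner θ θ = 1) :
    Cfsg.IsIrrCharacter G θ ∨ Cfsg.IsIrrCharacter G (-θ) := by
  classical
  have := Fintype.ofFinite (Cfsg.IrrCharacter G)
  obtain ⟨m, rfl⟩ := IsGen.exists_sum h
  rw [IsGen.classInner_self] at h1
  have h2 : ∑ ψ, m ψ * m ψ = 1 := by exact_mod_cast h1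
  obtain ⟨ψ₀, hψ₀⟩ : ∃ ψ, m ψ ≠ 0 := by
    by_contra h0
    push Not at h0
    simp [h0] at h2
  rw [← Finset.add_sum_erase _ _ (Finset.mem_univ ψ₀)] at h2
  have hrest : 0 ≤ ∑ x ∈ Finset.univ.erase ψ₀, m x * m x :=
    Finset.sum_nonneg fun x _ => mul_self_nonneg _
  have h3 : 0 < m ψ₀ * m ψ₀ := mul_self_pos.mpr hψ₀
  have h4 : m ψ₀ * m ψ₀ = 1 := by omega
  have h6 : ∑ x ∈ Finset.univ.erase ψ₀, m x * m x = 0 := by omega
  have h5 : ∀ ψ, ψ ≠ ψ₀ → m ψ = 0 := fun ψ hψ => mul_self_eq_zero.mp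
    ((Finset.sum_eq_zero_iff_of_nonneg fun x _ => mul_self_nonneg _).mp h6 ψ
      (Finset.mem_erase.mpr ⟨hψ, Finset.mem_univ _⟩))
  rw [Finset.sum_eq_single ψ₀ (fun ψ _ hψ => by rw [h5 ψ hψ, Int.cast_zero, zero_smul])
    (fun hh => absurd (Finset.mem_univ _) hh)]
  rcases mul_self_eq_one_iff.mp h4 with hm | hm
  · left
    rw [hm, Int.cast_one, one_smul]
    exact ψ₀.2
  · right
    rw [hm, Int.cast_neg, Int.cast_one, neg_smul, one_smul, neg_neg]
    exact ψ₀.2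

/-- A generalized character of norm one with positive degree is irreducible. -/
theorem IsGen.isIrr_of_norm_one [Fintype G] (h : Cfsg.IsGeneralizedCharacter G θ)
    (h1 : Cfsg.classInner θ θ = 1) (hpos : 0 < (θ 1).re) : Cfsg.IsIrrCharacter G θ := by
  refine (IsGen.isIrr_or_neg h h1).resolve_right fun hn => ?_
  obtain ⟨n, hn0, hn⟩ := IsIrr.exists_degree hn
  rw [Pi.neg_apply, neg_eq_iff_eq_neg] at hn
  rw [hn] at hpos
  simp only [Complex.neg_re, Complex.natCast_re] at hpos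
  linarith [Nat.cast_nonneg (α := ℝ) n]

end CfsgLib.Char
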