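import Cfsg.Agent.Lib.Char.Central
import Mathlib.GroupTheory.QuotientGroup.Basic

/-!
# The degree of an irreducible representation divides the index of the centre
-/

namespace CfsgLib.CharIntegral

open Module
open scoped ComplexConjugate

variable {G : Type*} [Group G] {V : Type*} [AddCommGroup V] [Module ℂ V] [FiniteDimensional ℂ V]

/-- Central elements act as scalars in an irreducible representation. -/
theorem exists_scalar_of_mem_center (ρ : Representation ℂ G V) [ρ.IsIrreducible] {z : G}
    (hz : z ∈ Subgroup.center G) : ∃ c : ℂ, ρ z = c • LinearMap.id :=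
  exists_scalar_of_commute ρ _ fun g => by rw [← map_mul, ← map_mul, Subgroup.mem_center_iff.mp hz g]

theorem character_smul_of_scalar (ρ : Representation ℂ G V) {z : G} {c : ℂ}
    (h : ρ z = c • LinearMap.id) (x : G) : ρ.character (z * x) = c * ρ.character x := by
  rw [Representation.character, Representation.character, map_mul, h, ← smul_eq_mul (a := c),
    ← map_smul (LinearMap.trace ℂ V) c (ρ x)]
  exact congrArg (LinearMap.trace ℂ V) (LinearMap.ext fun v => rfl)

theorem faithful_case {G : Type*} [Group G] [Finite G] {V : Type*} [AddCommGroup V] [Module ℂ V]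
    [FiniteDimensional ℂ V] (ρ : Representation ℂ G V) [ρ.IsIrreducible]
    (hf : ∀ g, ρ g = 1 → g = 1) : finrank ℂ V ∣ (Subgroup.center G).index := by
  classical
  have := Fintype.ofFinite G
  have := Fintype.ofFinite (ConjClasses G)
  set Z := Subgroup.center G with hZ
  choose ω hω using fun z : Z => exists_scalar_of_mem_center ρ z.2
  have hzc : ∀ (z : Z) (x : G), ρ.character ((z : G) * x) = ω z * ρ.character x :=
    fun z x => character_smul_of_scalar ρ (hω z) x
  have hcentral : ∀ (z : Z) (x y : G), IsConj x y → IsConj ((z : G) * x) (z * y) := by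
    intro z x y h
    obtain ⟨c, rfl⟩ := isConj_iff.mp h
    refine isConj_iff.mpr ⟨c, ?_⟩
    rw [← mul_assoc c, Subgroup.mem_center_iff.mp z.2 c]
    group
  have hfree : ∀ (z : Z) (x : G), ρ.character x ≠ 0 → IsConj x ((z : G) * x) → z = 1 := by
    intro z x hx h
    obtain ⟨c, hc⟩ := isConj_iff.mp h
    have h1 : ρ.character ((z : G) * x) = ρ.character x := by rw [← hc, ρ.char_conj]
    rw [hzc z x, mul_left_eq_self₀] at h1
    exact Subtype.ext (hf _ (by rw [hω z, h1.resolve_right hx, one_smul]; rfl))
  let f : G → ℂ := fun x =>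
    ((Subgroup.centralizer ({x} : Set G)).index : ℂ) * ρ.character x / (finrank ℂ V : ℂ) *
      ρ.character x⁻¹
  have hfint : ∀ x, IsIntegral ℤ (f x) := fun x =>
    (isIntegral_central ρ x).mul (isIntegral_character ρ x⁻¹)
  have hinv_center : ∀ z : Z, ω z * ω z⁻¹ = 1 := by
    intro z
    have h : ρ ((z : G) * ((z⁻¹ : Z) : G)) = (ω z * ω z⁻¹) • LinearMap.id := by
      rw [map_mul, hω z, hω z⁻¹, ← smul_smul]
      exact LinearMap.ext fun v => rfl
    rw [Subgroup.coe_inv, mul_inv_cancel, map_one] at h
    have h2 := congrArg (LinearMap.trace ℂ V) h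
    rw [map_smul, LinearMap.trace_id, LinearMap.trace_one, smul_eq_mul] at h2
    exact mul_right_cancel₀ (finrank_cast_ne_zero ρ) (by rw [one_mul]; exact h2.symm)
  have hcentz : ∀ (z : Z) (x : G),
      Subgroup.centralizer ({(z : G) * x} : Set G) = Subgroup.centralizer ({x} : Set G) := by
    intro z x
    ext c
    rw [Subgroup.mem_centralizer_singleton_iff, Subgroup.mem_centralizer_singleton_iff,
      ← mul_assoc c, Subgroup.mem_center_iff.mp z.2 c, mul_assoc, mul_assoc, mul_left_cancel_iff]
  have hfz : ∀ (z : Z) (x : G), f ((z : G) * x) = f x := by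
    intro z x
    have hinv : ((z : G) * x)⁻¹ = ((z⁻¹ : Z) : G) * x⁻¹ := by
      rw [mul_inv_rev, Subgroup.coe_inv]
      exact Subgroup.mem_center_iff.mp (inv_mem z.2) x⁻¹
    simp only [f, hcentz, hinv, hzc]
    linear_combination (((Subgroup.centralizer ({x} : Set G)).index : ℂ) * ρ.character x /
      (finrank ℂ V : ℂ) * ρ.character x⁻¹) * hinv_center z
  have hfconj : ∀ x y : G, IsConj x y → f x = f y := by
    intro x y h
    obtain ⟨c, rfl⟩ := isConj_iff.mp h
    simp only [f, conj_inv, ρ.char_conj, ← card_classFinset]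
    have hcl : classFinset (c * x * c⁻¹) = classFinset x := by
      ext w
      rw [mem_classFinset, mem_classFinset]
      exact ⟨fun h2 => (isConj_iff.mpr ⟨c, rfl⟩ : IsConj x (c * x * c⁻¹)).trans h2,
        fun h2 => (isConj_iff.mpr ⟨c, rfl⟩ : IsConj x (c * x * c⁻¹)).symm.trans h2⟩
    rw [hcl]
  let F : ConjClasses G → ℂ := fun C => f C.out
  have hF : ∀ x, F (ConjClasses.mk x) = f x := fun x =>
    hfconj _ _ (ConjClasses.mk_eq_mk_iff_isConj.mp (Quotient.out_eq (ConjClasses.mk x)))
  have hsum : (Nat.card G : ℂ) / (finrank ℂ V : ℂ) = ∑ C, F C := by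
    rw [← sum_character_mul_character_inv ρ,
      ← Finset.sum_fiberwise Finset.univ (fun g => ConjClasses.mk g), Finset.sum_div]
    refine Finset.sum_congr rfl fun C _ => ?_
    induction C using Quotient.inductionOn with
    | h g =>
      change (∑ x ∈ Finset.univ.filter fun x => ConjClasses.mk x = ConjClasses.mk g, _) / _ =
        F (ConjClasses.mk g)
      have hset : (Finset.univ.filter fun x => ConjClasses.mk x = ConjClasses.mk g) =
          classFinset g := by
        ext x
        rw [Finset.mem_filter, mem_classFinset, ConjClasses.mk_eq_mk_iff_isConj]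
        exact ⟨fun h => h.2.symm, fun h => ⟨Finset.mem_univ _, h.symm⟩⟩
      rw [hset, hF, Finset.sum_congr rfl (g := fun _ => ρ.character g * ρ.character g⁻¹),
        Finset.sum_const, nsmul_eq_mul, card_classFinset]
      · simp only [f]
        ring
      · intro x hx
        obtain ⟨y, rfl⟩ := isConj_iff.mp (mem_classFinset.mp hx)
        rw [conj_inv, ρ.char_conj, ρ.char_conj]
  have key : ∀ C, F C ≠ 0 → ∀ s : Finset (ConjClasses G),
      s = Finset.univ.filter (fun D => ConjClasses.map (QuotientGroup.mk' Z) D =
        ConjClasses.map (QuotientGroup.mk' Z) C) →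
      s.card = Nat.card Z ∧ ∀ D ∈ s, F D = F C := by
    intro C hC s hs
    induction C using Quotient.inductionOn with
    | h g =>
      change F (ConjClasses.mk g) ≠ 0 at hC
      rw [hF] at hC
      have hχ : ρ.character g ≠ 0 := fun h0 => hC (by simp [f, h0])
      have hs' : s = Finset.univ.image (fun z : Z => ConjClasses.mk ((z : G) * g)) := by
        rw [hs]
        ext D
        induction D using Quotient.inductionOn with
        | h x =>
          change ConjClasses.mk x ∈ Finset.univ.filter (fun D =>
            ConjClasses.map (QuotientGroup.mk' Z) D =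
              ConjClasses.map (QuotientGroup.mk' Z) (ConjClasses.mk g)) ↔
            ConjClasses.mk x ∈ Finset.univ.image (fun z : Z => ConjClasses.mk ((z : G) * g))
          simp only [Finset.mem_filter, Finset.mem_univ, true_and, Finset.mem_image]
          change ConjClasses.mk (QuotientGroup.mk' Z x) = ConjClasses.mk (QuotientGroup.mk' Z g) ↔
            ∃ z : Z, ConjClasses.mk ((z : G) * g) = ConjClasses.mk x
          simp only [ConjClasses.mk_eq_mk_iff_isConj]
          constructor
          · intro h
            obtain ⟨c, hc⟩ := isConj_iff.mp h.symm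
            obtain ⟨c, rfl⟩ := QuotientGroup.mk'_surjective Z c
            rw [← map_inv, ← map_mul, ← map_mul, QuotientGroup.mk'_apply, QuotientGroup.mk'_apply,
              QuotientGroup.eq] at hc
            refine ⟨⟨_, hc⟩, isConj_iff.mpr ⟨c, ?_⟩⟩
            calc c * ((c * g * c⁻¹)⁻¹ * x * g) * c⁻¹
                = c * (c * g * c⁻¹)⁻¹ * x * (g * c⁻¹) := by group
              _ = _ := by
                  have hcomm := Subgroup.mem_center_iff.mp hc (c * g * c⁻¹)
                  calc c * (c * g * c⁻¹)⁻¹ * x * (g * c⁻¹)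
                      = c * (((c * g * c⁻¹)⁻¹ * x) * (g * c⁻¹)) := by group
                    _ = c * ((g * c⁻¹) * ((c * g * c⁻¹)⁻¹ * x)) := by
                        rw [Subgroup.mem_center_iff.mp hc (g * c⁻¹)]
                    _ = x := by group
          · rintro ⟨z, h⟩
            have h2 := (QuotientGroup.mk' Z).map_isConj h
            rw [map_mul, show QuotientGroup.mk' Z (z : G) = 1 from
              (QuotientGroup.eq_one_iff _).mpr z.2, one_mul] at h2
            exact h2.symm
      refine ⟨?_, fun D hD => ?_⟩
      · rw [hs', Finset.card_image_of_injective, Finset.card_univ, Nat.card_eq_fintype_card]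
        intro z w h
        rw [ConjClasses.mk_eq_mk_iff_isConj] at h
        have h3 := hcentral w⁻¹ _ _ h.symm
        rw [← mul_assoc, Subgroup.coe_inv, inv_mul_cancel, one_mul, ← mul_assoc] at h3
        have h2 := hfree (w⁻¹ * z) g hχ (by rw [Subgroup.coe_mul, Subgroup.coe_inv]; exact h3)
        exact (inv_mul_eq_one.mp h2).symm
      · rw [hs'] at hD
        obtain ⟨z, -, rfl⟩ := Finset.mem_image.mp hD
        change _ = F (ConjClasses.mk g)
        rw [hF, hF, hfz]
  have hint : IsIntegral ℤ ((∑ C, F C) / (Nat.card Z : ℂ)) := by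
    rw [← Finset.sum_filter_ne_zero, ← Finset.sum_fiberwise_of_maps_to
      (g := ConjClasses.map (QuotientGroup.mk' Z))
      (t := (Finset.univ.filter fun C => F C ≠ 0).image (ConjClasses.map (QuotientGroup.mk' Z)))
      (fun C hC => Finset.mem_image_of_mem _ hC), Finset.sum_div]
    refine IsIntegral.sum _ fun D hD => ?_
    obtain ⟨C, hC, rfl⟩ := Finset.mem_image.mp hD
    rw [Finset.mem_filter] at hC
    obtain ⟨hcard, hval⟩ := key C hC.2 _ rfl
    have hZ0 : (Nat.card Z : ℂ) ≠ 0 := Nat.cast_ne_zero.mpr Nat.card_pos.ne'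
    rw [Finset.filter_filter, Finset.filter_congr (q := fun D => ConjClasses.map (QuotientGroup.mk' Z) D =
      ConjClasses.map (QuotientGroup.mk' Z) C) ?_, Finset.sum_congr rfl hval, Finset.sum_const,
      hcard, nsmul_eq_mul, mul_div_cancel_left₀ _ hZ0]
    · exact hfint _
    · intro D _
      refine ⟨fun h => h.2, fun h => ⟨?_, h⟩⟩
      rw [hval D (Finset.mem_filter.mpr ⟨Finset.mem_univ _, h⟩)]
      exact hC.2
  rw [← hsum, div_div, ← Subgroup.index_mul_card Z, Nat.cast_mul,
    mul_div_mul_right _ _ (Nat.cast_ne_zero.mpr Nat.card_pos.ne')] at hint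
  exact dvd_of_isIntegral_div (finrank_pos_of_irreducible ρ).ne' hint

/-- The degree divides the index of a subgroup central modulo the kernel. -/
theorem finrank_dvd_index_of_le_center [Finite G] (ρ : Representation ℂ G V) [ρ.IsIrreducible]
    {A : Subgroup G}
    (hle : A ≤ (Subgroup.center (G ⧸ MonoidHom.ker ρ)).comap
      (QuotientGroup.mk' (MonoidHom.ker ρ))) :
    finrank ℂ V ∣ A.index := by
  let N : Subgroup G := MonoidHom.ker ρ
  let σ : Representation ℂ (G ⧸ N) V := QuotientGroup.lift N ρ le_rfl
  have hσ : ∀ g : G, σ g = ρ g := fun g => rfl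
  have : σ.IsIrreducible := by
    have : Nontrivial (Subrepresentation σ) := by
      have := nontrivial_of_irreducible ρ
      refine ⟨⊥, ⊤, fun h => ?_⟩
      exact bot_ne_top (α := Submodule ℂ V) (congrArg Subrepresentation.toSubmodule h)
    constructor
    intro p
    rcases eq_bot_or_eq_top (⟨p.toSubmodule, fun g v hv => p.apply_mem_toSubmodule (g : G ⧸ N) hv⟩ :
      Subrepresentation ρ) with h | h
    · exact Or.inl (Subrepresentation.toSubmodule_injective
        (congrArg Subrepresentation.toSubmodule h :))
    · exact Or.inr (Subrepresentation.toSubmodule_injective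
        (congrArg Subrepresentation.toSubmodule h :))
  refine (faithful_case σ fun q hq => ?_).trans ?_
  · induction q using QuotientGroup.induction_on with
    | H g => exact (QuotientGroup.eq_one_iff g).mpr hq
  · have h := Subgroup.index_dvd_of_le hle
    rwa [Subgroup.index_comap_of_surjective _ (QuotientGroup.mk'_surjective N)] at h

/-- The degree divides the index of any subgroup acting by scalars. -/
theorem finrank_dvd_index_of_scalar [Finite G] (ρ : Representation ℂ G V) [ρ.IsIrreducible]
    {A : Subgroup G} (hA : ∀ a : A, ∃ c : ℂ, ρ (a : G) = c • LinearMap.id) :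
    finrank ℂ V ∣ A.index := by
  refine finrank_dvd_index_of_le_center ρ ?_
  intro z hz
  rw [Subgroup.mem_comap, Subgroup.mem_center_iff]
  intro q
  induction q using QuotientGroup.induction_on with
  | H g =>
    rw [QuotientGroup.mk'_apply, ← QuotientGroup.mk_mul, ← QuotientGroup.mk_mul, QuotientGroup.eq,
      MonoidHom.mem_ker]
    obtain ⟨c, hc⟩ := hA ⟨z, hz⟩
    have hcomm : ρ (g * z) = ρ (z * g) := by
      rw [map_mul, map_mul, hc]
      exact LinearMap.ext fun v => map_smul (ρ g) c v
    rw [map_mul, ← hcomm, ← map_mul, inv_mul_cancel, map_one]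

/-- The degree divides the index of the centre. -/
theorem finrank_dvd_index_center [Finite G] (ρ : Representation ℂ G V) [ρ.IsIrreducible] :
    finrank ℂ V ∣ (Subgroup.center G).index := by
  refine finrank_dvd_index_of_scalar ρ fun a => exists_scalar_of_mem_center ρ a.2

end CfsgLib.CharIntegral
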