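import Cfsg.Agent.Lib.Char.BrauerPerm
import Cfsg.Agent.Lib.Char.Virtual
import Mathlib.GroupTheory.Index
import Mathlib.Data.Finset.Card

/-!
# Exceptional characters of a self-centralizing subgroup
-/

namespace CfsgLib.CA

open CfsgLib.Char
open scoped ComplexConjugate

variable {G : Type*} [Group G]

/-- `A` is the centralizer of each of its non-identity elements. -/
def SelfCent (A : Subgroup G) : Prop := ∀ x ∈ A, x ≠ 1 → Subgroup.centralizer ({x} : Set G) = A

/-- Conjugation by an element of the normalizer, restricted to the subgroup. -/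
noncomputable def cj (A : Subgroup G) (g : Subgroup.normalizer (A : Set G)) : A ≃* A where
  toFun a := ⟨(g : G) * a * (g : G)⁻¹, (Subgroup.mem_normalizer_iff.mp g.2 a).mp a.2⟩
  invFun a := ⟨(g : G)⁻¹ * a * g, (Subgroup.mem_normalizer_iff''.mp g.2 a).mp a.2⟩
  left_inv a := Subtype.ext (by simp [mul_assoc])
  right_inv a := Subtype.ext (by simp [mul_assoc])
  map_mul' a b := Subtype.ext (by simp [mul_assoc])

theorem coe_cj {A : Subgroup G} (g : Subgroup.normalizer (A : Set G)) (a : A) :
    ((cj A g a : A) : G) = (g : G) * a * (g : G)⁻¹ := rfl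

theorem cj_mul {A : Subgroup G} (g h : Subgroup.normalizer (A : Set G)) (a : A) :
    cj A (g * h) a = cj A g (cj A h a) :=
  Subtype.ext (by simp [coe_cj, mul_assoc])

theorem cj_one {A : Subgroup G} (a : A) : cj A 1 a = a := Subtype.ext (by simp [coe_cj])

variable {A : Subgroup G} (hA : SelfCent A)
include hA

theorem comm (a b : A) : a * b = b * a := by
  by_cases ha : (a : G) = 1
  · have : a = 1 := Subtype.ext ha
    rw [this, one_mul, mul_one]
  · have hb : (b : G) ∈ Subgroup.centralizer ({(a : G)} : Set G) := by rw [hA a a.2 ha]; exact b.2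
    exact Subtype.ext (Subgroup.mem_centralizer_singleton_iff.mp hb).symm

theorem isMulCommutative : IsMulCommutative A := ⟨⟨comm hA⟩⟩

theorem mem_normalizer_of_conj_mem {a x : G} (ha : a ∈ A) (ha1 : a ≠ 1) (hx : x * a * x⁻¹ ∈ A) :
    x ∈ Subgroup.normalizer (A : Set G) := by
  have h1 := hA a ha ha1
  have h2 := hA _ hx (fun h => ha1 (conj_eq_one_iff.mp h))
  rw [Subgroup.mem_normalizer_iff]
  intro y
  constructor
  · intro hy
    rw [← h2, Subgroup.mem_centralizer_singleton_iff]
    rw [← h1, Subgroup.mem_centralizer_singleton_iff] at hy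
    calc x * y * x⁻¹ * (x * a * x⁻¹) = x * (y * a) * x⁻¹ := by group
      _ = x * (a * y) * x⁻¹ := by rw [hy]
      _ = _ := by group
  · intro hy
    rw [← h1, Subgroup.mem_centralizer_singleton_iff]
    rw [← h2, Subgroup.mem_centralizer_singleton_iff] at hy
    calc y * a = x⁻¹ * (x * y * x⁻¹ * (x * a * x⁻¹)) * x := by group
      _ = x⁻¹ * (x * a * x⁻¹ * (x * y * x⁻¹)) * x := by rw [hy]
      _ = _ := by group

/-- An element of the normalizer fixing a nontrivial element lies in `A`. -/
theorem mem_of_cj_eq {g : Subgroup.normalizer (A : Set G)} {a : A} (ha : a ≠ 1)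
    (h : cj A g a = a) : (g : G) ∈ A := by
  refine (hA a a.2 (fun e => ha (Subtype.ext e))).le (Subgroup.mem_centralizer_singleton_iff.mpr ?_)
  exact mul_inv_eq_iff_eq_mul.mp (congrArg Subtype.val h)

variable [Fintype G]

omit hA in
/-- Induced functions vanishing at `1` vanish where no conjugate meets `A \ 1`. -/
theorem indFun_eq_zero {f : A → ℂ} (h0 : f 1 = 0) {y : G}
    (hy : ∀ x : G, x⁻¹ * y * x ∈ A → x⁻¹ * y * x = 1) : Cfsg.indFun A f y = 0 := by
  rw [Cfsg.indFun, Finset.sum_eq_zero, mul_zero]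
  intro x _
  by_cases hx : x⁻¹ * y * x ∈ A
  · rw [extendByZero_of_mem A f hx, show (⟨_, hx⟩ : A) = 1 from Subtype.ext (hy x hx), h0]
  · exact extendByZero_of_notMem A f hx

variable [Fintype A] [Fintype (Subgroup.normalizer (A : Set G))]

omit [Fintype A] in
theorem indFun_coe {f : A → ℂ} (h0 : f 1 = 0) (a : A) :
    Cfsg.indFun A f a =
      (Nat.card A : ℂ)⁻¹ * ∑ g : Subgroup.normalizer (A : Set G), f (cj A g a) := by
  classical
  by_cases ha : a = 1
  · subst ha
    rw [Subgroup.coe_one, indFun_apply_one, h0, mul_zero, Finset.sum_eq_zero, mul_zero]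
    exact fun g _ => by rw [map_one, h0]
  rw [Cfsg.indFun, ← Equiv.sum_comp (Equiv.inv G)]
  congr 1
  rw [← Finset.sum_subset (Finset.subset_univ
    (Finset.univ.filter fun x : G => x ∈ Subgroup.normalizer (A : Set G))),
    Finset.sum_subtype (p := fun x : G => x ∈ Subgroup.normalizer (A : Set G)) _ (fun x => by simp)]
  · refine Finset.sum_congr rfl fun g _ => ?_
    simp only [Equiv.inv_apply, inv_inv]
    exact extendByZero_coe A f (cj A g a)
  · intro x _ hx
    simp only [Equiv.inv_apply, inv_inv]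
    refine extendByZero_of_notMem A f fun h => hx ?_
    exact Finset.mem_filter.mpr ⟨Finset.mem_univ _,
      mem_normalizer_of_conj_mem hA a.2 (fun e => ha (Subtype.ext e)) h⟩

theorem classInner_indFun (f : A → ℂ) {f' : A → ℂ} (h0 : f' 1 = 0) :
    (Nat.card A : ℂ) * Cfsg.classInner (Cfsg.indFun A f) (Cfsg.indFun A f') =
      ∑ g : Subgroup.normalizer (A : Set G), Cfsg.classInner f (f' ∘ cj A g) := by
  rw [frobenius_reciprocity A f (isClassFunction_indFun A f'),
    show (fun h : A => Cfsg.indFun A f' h) =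
      (Nat.card A : ℂ)⁻¹ • ∑ g : Subgroup.normalizer (A : Set G), f' ∘ cj A g from ?_,
    classInner_smul_right, classInner_sum_right, map_inv₀, map_natCast, ← mul_assoc,
    mul_inv_cancel₀ (Nat.cast_ne_zero.mpr Nat.card_pos.ne'), one_mul]
  funext a
  rw [indFun_coe hA h0, Pi.smul_apply, Finset.sum_apply, smul_eq_mul]
  rfl

omit [Fintype G] [Fintype A] [Fintype (Subgroup.normalizer (A : Set G))] in
theorem degree_one [Finite A] (lam : Cfsg.IrrCharacter A) : (lam : A → ℂ) 1 = 1 := by
  obtain ⟨n, ρ, hρ, h⟩ := lam.2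
  have := isMulCommutative hA
  rw [← h, Representation.char_one, Representation.IsIrreducible.finrank_eq_one_of_isMulCommutative ρ,
    Nat.cast_one]

omit hA [Fintype G] [Fintype A] [Fintype (Subgroup.normalizer (A : Set G))] in
/-- The action of the normalizer on characters of `A`. -/
theorem isIrr_comp_cj (g : Subgroup.normalizer (A : Set G)) (lam : Cfsg.IrrCharacter A) :
    Cfsg.IsIrrCharacter A ((lam : A → ℂ) ∘ cj A g) :=
  IsIrr.comp_surjective (cj A g).toMonoidHom (cj A g).surjective lam.2

omit hA [Fintype G] [Fintype A] [Fintype (Subgroup.normalizer (A : Set G))] in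
theorem comp_cj_mul (g h : Subgroup.normalizer (A : Set G)) (f : A → ℂ) :
    f ∘ cj A (g * h) = (f ∘ cj A g) ∘ cj A h :=
  funext fun a => congrArg f (cj_mul g h a)

omit [Fintype A] [Fintype (Subgroup.normalizer (A : Set G))] in
/-- Only the elements of `A` fix a nonprincipal character of `A`. -/
theorem fix_iff {lam : Cfsg.IrrCharacter A} (h1 : lam ≠ trivChar A)
    (g : Subgroup.normalizer (A : Set G)) :
    (lam : A → ℂ) ∘ cj A g = (lam : A → ℂ) ↔ (g : G) ∈ A := by
  classical
  have := Fintype.ofFinite A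
  constructor
  · intro hfix
    by_contra hg
    have hcl : Nat.card {C : ConjClasses A // ConjClasses.map (cj A g).toMonoidHom C = C} = 1 := by
      rw [Nat.card_eq_one_iff_unique]
      have htriv : ∀ C : ConjClasses A, ConjClasses.map (cj A g).toMonoidHom C = C →
          C = ConjClasses.mk 1 := by
        intro C hC
        obtain ⟨k, rfl⟩ := ConjClasses.mk_surjective C
        obtain ⟨c, hc⟩ := isConj_iff.mp
          (ConjClasses.mk_eq_mk_iff_isConj.mp hC : IsConj (cj A g k) k)
        rw [comm hA c, mul_inv_cancel_right] at hc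
        by_contra hne
        exact hg (mem_of_cj_eq hA (fun e : k = 1 => hne (by rw [e])) hc)
      exact ⟨⟨fun a b => Subtype.ext ((htriv _ a.2).trans (htriv _ b.2).symm)⟩,
        ⟨⟨ConjClasses.mk 1, ConjClasses.mk_eq_mk_iff_isConj.mpr (by rw [map_one])⟩⟩⟩
    rw [card_fixed_classes_eq_card_fixed_irr, Nat.card_eq_one_iff_unique] at hcl
    have := hcl.1
    have he := Subsingleton.elim
      (α := {χ : Cfsg.IrrCharacter A // (χ : A → ℂ) ∘ cj A g = (χ : A → ℂ)})
      ⟨lam, hfix⟩ ⟨trivChar A, rfl⟩
    exact h1 (congrArg Subtype.val he)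
  · intro hg
    funext a
    have : cj A g a = a := Subtype.ext (by
      have h := congrArg Subtype.val (comm hA ⟨g, hg⟩ a)
      simp only [Subgroup.coe_mul] at h
      rw [coe_cj, h, mul_inv_cancel_right])
    rw [Function.comp_apply, this]

omit [Fintype A] in
theorem card_fix {lam : Cfsg.IrrCharacter A} (h1 : lam ≠ trivChar A)
    [DecidablePred fun g : Subgroup.normalizer (A : Set G) => (lam : A → ℂ) ∘ cj A g = (lam : A → ℂ)] :
    (Finset.univ.filter fun g : Subgroup.normalizer (A : Set G) =>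
      (lam : A → ℂ) ∘ cj A g = (lam : A → ℂ)).card = Nat.card A := by
  classical
  have := Fintype.ofFinite A
  rw [← Fintype.card_subtype, ← Nat.card_eq_fintype_card]
  refine Nat.card_congr ⟨fun g => ⟨(g.1 : G), (fix_iff hA h1 g.1).mp g.2⟩,
    fun a => ⟨⟨(a : G), Subgroup.le_normalizer a.2⟩, (fix_iff hA h1 _).mpr a.2⟩,
    fun _ => rfl, fun _ => rfl⟩

/-- The orbit representatives: `n * e + 1 = |A|`. -/
theorem exists_reps : ∃ (n : ℕ) (r : Fin n → Cfsg.IrrCharacter A),
    n * A.relIndex (Subgroup.normalizer (A : Set G)) + 1 = Nat.card A ∧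
    (∀ j, r j ≠ trivChar A) ∧
    (∀ j k, j ≠ k → ∀ g : Subgroup.normalizer (A : Set G),
      (r j : A → ℂ) ∘ cj A g ≠ (r k : A → ℂ)) ∧
    (∀ lam : Cfsg.IrrCharacter A, lam ≠ trivChar A →
      ∃ j, ∃ g : Subgroup.normalizer (A : Set G), (r j : A → ℂ) ∘ cj A g = (lam : A → ℂ)) ∧
    ∀ j, Nat.card {lam : Cfsg.IrrCharacter A //
      ∃ g : Subgroup.normalizer (A : Set G), (r j : A → ℂ) ∘ cj A g = (lam : A → ℂ)} =
        A.relIndex (Subgroup.normalizer (A : Set G)) := by
  classical
  have := Fintype.ofFinite (Cfsg.IrrCharacter A)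
  let act : Subgroup.normalizer (A : Set G) → Cfsg.IrrCharacter A → Cfsg.IrrCharacter A :=
    fun g lam => ⟨_, isIrr_comp_cj g lam⟩
  let O : Cfsg.IrrCharacter A → Finset (Cfsg.IrrCharacter A) :=
    fun lam => Finset.univ.image fun g => act g lam
  have hactm : ∀ g h lam, act h (act g lam) = act (g * h) lam := fun g h lam =>
    Subtype.ext (comp_cj_mul g h (lam : A → ℂ)).symm
  have hact1 : ∀ lam, act 1 lam = lam := fun lam =>
    Subtype.ext (funext fun a => congrArg (lam : A → ℂ) (cj_one a))
  have hself : ∀ lam, lam ∈ O lam := fun lam =>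
    Finset.mem_image.mpr ⟨1, Finset.mem_univ _, hact1 lam⟩
  have hOeq : ∀ lam mu, mu ∈ O lam → O mu = O lam := by
    intro lam mu hmu
    obtain ⟨g, -, rfl⟩ := Finset.mem_image.mp hmu
    ext nu
    simp only [O, Finset.mem_image, Finset.mem_univ, true_and]
    constructor
    · rintro ⟨h, rfl⟩; exact ⟨g * h, (hactm g h lam).symm⟩
    · rintro ⟨h, rfl⟩; exact ⟨g⁻¹ * h, by rw [hactm, mul_inv_cancel_left]⟩
  let S := (Finset.univ : Finset (Cfsg.IrrCharacter A)).erase (trivChar A)
  have hact0 : ∀ g lam, lam ≠ trivChar A → act g lam ≠ trivChar A := by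
    intro g lam hne h
    refine hne ?_
    calc lam = act g⁻¹ (act g lam) := by rw [hactm, mul_inv_cancel, hact1]
      _ = act g⁻¹ (trivChar A) := by rw [h]
      _ = trivChar A := rfl
  have hOcard : ∀ lam ∈ S, (O lam).card = A.relIndex (Subgroup.normalizer (A : Set G)) := by
    intro lam hlam
    have hlam1 := (Finset.mem_erase.mp hlam).1
    have h := Finset.card_eq_sum_card_image (fun g => act g lam)
      (Finset.univ : Finset (Subgroup.normalizer (A : Set G)))
    rw [Finset.sum_congr rfl (g := fun _ => Nat.card A), Finset.sum_const, smul_eq_mul,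
      Finset.card_univ] at h
    · have h2 := Subgroup.index_mul_card (A.subgroupOf (Subgroup.normalizer (A : Set G)))
      rw [Nat.card_congr (Subgroup.subgroupOfEquivOfLe (Subgroup.le_normalizer)).toEquiv,
        ← Subgroup.relIndex, Nat.card_eq_fintype_card (α := Subgroup.normalizer (A : Set G)), h] at h2
      exact (Nat.eq_of_mul_eq_mul_right Nat.card_pos h2).symm
    · intro mu hmu
      obtain ⟨g₀, -, rfl⟩ := Finset.mem_image.mp hmu
      rw [← card_fix hA hlam1]
      refine Finset.card_bij' (fun g _ => g * g₀⁻¹) (fun g _ => g * g₀) ?_ ?_ ?_ ?_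
      · intro g hg
        simp only [Finset.mem_filter, Finset.mem_univ, true_and] at hg ⊢
        have : act (g * g₀⁻¹) lam = lam := by rw [← hactm, hg, hactm, mul_inv_cancel, hact1]
        exact congrArg Subtype.val this
      · intro g hg
        simp only [Finset.mem_filter, Finset.mem_univ, true_and] at hg ⊢
        have : act g lam = lam := Subtype.ext hg
        rw [← hactm, this]
      · intro g _; simp
      · intro g _; simp
  let 𝒪 := S.image O
  have hrep : ∀ j : 𝒪, ∃ lam ∈ S, O lam = (j : Finset (Cfsg.IrrCharacter A)) := fun j => by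
    obtain ⟨lam, h1, h2⟩ := Finset.mem_image.mp j.2
    exact ⟨lam, h1, h2⟩
  choose rep hrepS hrepO using hrep
  let eq := (Finset.equivFin 𝒪).symm
  refine ⟨𝒪.card, fun j => rep (eq j), ?_, fun j => (Finset.mem_erase.mp (hrepS _)).1, ?_, ?_,
    fun j => ?_⟩
  · have h := Finset.card_eq_sum_card_image O S
    rw [Finset.sum_congr rfl (g := fun _ => A.relIndex (Subgroup.normalizer (A : Set G))),
      Finset.sum_const, smul_eq_mul] at h
    · rw [← h, Finset.card_erase_of_mem (Finset.mem_univ _), Finset.card_univ]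
      have hk : Fintype.card (Cfsg.IrrCharacter A) = Nat.card A := by
        rw [← Nat.card_eq_fintype_card, card_irrCharacter]
        refine (Nat.card_congr (Equiv.ofBijective ConjClasses.mk
          ⟨fun a b h => ?_, ConjClasses.mk_surjective⟩)).symm
        obtain ⟨c, hc⟩ := isConj_iff.mp (ConjClasses.mk_eq_mk_iff_isConj.mp h)
        rwa [comm hA c, mul_inv_cancel_right] at hc
      rw [hk]
      exact Nat.sub_add_cancel Nat.card_pos
    · intro o ho
      obtain ⟨lam, hlam, rfl⟩ := Finset.mem_image.mp ho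
      rw [← hOcard lam hlam]
      congr 1
      ext mu
      rw [Finset.mem_filter]
      refine ⟨fun h => h.2 ▸ hself mu, fun h => ⟨?_, hOeq lam mu h⟩⟩
      obtain ⟨g, -, rfl⟩ := Finset.mem_image.mp h
      exact Finset.mem_erase.mpr ⟨hact0 g lam (Finset.mem_erase.mp hlam).1, Finset.mem_univ _⟩
  · intro j k hjk g h
    refine hjk (eq.injective (Subtype.ext ?_))
    rw [← hrepO (eq j), ← hrepO (eq k)]
    exact (hOeq _ _ (Finset.mem_image.mpr ⟨g, Finset.mem_univ _, Subtype.ext h⟩)).symm
  · intro lam hlam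
    have hlamS : lam ∈ S := Finset.mem_erase.mpr ⟨hlam, Finset.mem_univ _⟩
    refine ⟨eq.symm ⟨O lam, Finset.mem_image_of_mem O hlamS⟩, ?_⟩
    have hmem : lam ∈ O (rep (eq (eq.symm ⟨O lam, Finset.mem_image_of_mem O hlamS⟩))) := by
      rw [hrepO, Equiv.apply_symm_apply]
      exact hself lam
    obtain ⟨g, -, hg⟩ := Finset.mem_image.mp hmem
    exact ⟨g, congrArg Subtype.val hg⟩
  · refine Eq.trans ?_ (hOcard _ (hrepS (eq j)))
    refine Eq.trans ?_ (Nat.card_eq_finsetCard _)
    refine Nat.card_congr (Equiv.subtypeEquivRight fun mu => ?_)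
    simp only [O, Finset.mem_image, Finset.mem_univ, true_and]
    exact ⟨fun ⟨g, hg⟩ => ⟨g, Subtype.ext hg⟩, fun ⟨g, hg⟩ => ⟨g, congrArg Subtype.val hg⟩⟩

end CfsgLib.CA
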