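import Cfsg.Agent.Lib.Char.Complete
import Mathlib.GroupTheory.GroupAction.MultiplePrimitivity

/-!
# Permutation characters
-/

namespace CfsgLib.Char

open scoped ComplexConjugate
open Module

variable {G : Type*} [Group G]

/-- The permutation character. -/
noncomputable def permChar (G : Type*) [Group G] (X : Type*) [MulAction G X] : G → ℂ :=
  fun g => (Nat.card (MulAction.fixedBy X g) : ℂ)

theorem character_ofMulAction {X : Type*} [MulAction G X] [Finite X] :
    (Representation.ofMulAction ℂ G X).character = permChar G X := by
  classical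
  have := Fintype.ofFinite X
  funext g
  rw [Representation.character, LinearMap.trace_eq_matrix_trace ℂ (MonoidAlgebra.basis X ℂ),
    Matrix.trace, permChar, Nat.card_coe_set_eq]
  simp only [Matrix.diag, LinearMap.toMatrix_apply, MonoidAlgebra.basis_apply,
    Representation.ofMulAction_single]
  simp [MonoidAlgebra.basis, Finsupp.single_apply, Finset.sum_boole, MulAction.fixedBy,
    ← Set.ncard_coe_finset]

theorem isCharacter_permChar {X : Type*} [MulAction G X] [Finite X] :
    Cfsg.IsCharacter G (permChar G X) := by
  have : Module.Finite ℂ (MonoidAlgebra ℂ X) := Module.Finite.of_basis (MonoidAlgebra.basis X ℂ)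
  rw [← character_ofMulAction]
  exact isCharacter_rep _

theorem classInner_permChar_one [Fintype G] {X : Type*} [MulAction G X] [Finite X] :
    Cfsg.classInner (permChar G X) (fun _ => 1) =
      (Nat.card (MulAction.orbitRel.Quotient G X) : ℂ) := by
  classical
  have := Fintype.ofFinite X
  have h := MulAction.sum_card_fixedBy_eq_card_orbits_mul_card_group G X
  simp only [Cfsg.classInner, permChar, map_one, mul_one]
  rw [inv_mul_eq_iff_eq_mul₀ (Nat.cast_ne_zero.mpr Nat.card_pos.ne'), ← Nat.cast_sum, ← Nat.cast_mul,
    Nat.cast_inj, mul_comm]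
  simpa [Nat.card_eq_fintype_card] using h

theorem classInner_permChar_self [Fintype G] {X : Type*} [MulAction G X] [Finite X] :
    Cfsg.classInner (permChar G X) (permChar G X) =
      (Nat.card (MulAction.orbitRel.Quotient G (X × X)) : ℂ) := by
  rw [← classInner_permChar_one]
  simp only [Cfsg.classInner, permChar, map_natCast, map_one, mul_one]
  congr 1
  refine Finset.sum_congr rfl fun g _ => ?_
  rw [← Nat.cast_mul, ← Nat.card_prod]
  congr 1
  exact Nat.card_congr
    { toFun := fun p => ⟨(p.1.1, p.2.1), Prod.ext p.1.2 p.2.2⟩
      invFun := fun q => (⟨q.1.1, congrArg Prod.fst q.2⟩, ⟨q.1.2, congrArg Prod.snd q.2⟩) }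

/-- The permutation character of a transitive action minus one is a character. -/
theorem isCharacter_permChar_sub_one [Finite G] {X : Type*} [MulAction G X] [Finite X]
    [MulAction.IsPretransitive G X] [Nonempty X] :
    Cfsg.IsCharacter G (fun g => permChar G X g - 1) := by
  classical
  have := Fintype.ofFinite G
  have := Fintype.ofFinite (Cfsg.IrrCharacter G)
  obtain ⟨m, hm⟩ := IsChar.exists_sum (isCharacter_permChar (G := G) (X := X))
  have h1 : m (trivChar G) = 1 := by
    have h := classInner_sum_irr (fun ψ => (m ψ : ℂ)) (trivChar G)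
    rw [← hm] at h
    have h' : Nat.card (MulAction.orbitRel.Quotient G X) = 1 := by
      rw [Nat.card_eq_one_iff_unique]
      exact ⟨(MulAction.pretransitive_iff_subsingleton_quotient G X).mp inferInstance,
        ⟨Quotient.mk'' (Classical.arbitrary X)⟩⟩
    have h2 := classInner_permChar_one (G := G) (X := X)
    rw [h', Nat.cast_one] at h2
    exact_mod_cast h.symm.trans h2
  have heq : (fun g => permChar G X g - 1) =
      ∑ ψ, ((if ψ = trivChar G then 0 else m ψ : ℕ) : ℂ) • (ψ : G → ℂ) := by
    funext g
    rw [congrFun hm g]
    simp only [Finset.sum_apply, Pi.smul_apply, smul_eq_mul]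
    rw [← Finset.add_sum_erase _ _ (Finset.mem_univ (trivChar G)),
      ← Finset.add_sum_erase _ (fun x => ((if x = trivChar G then 0 else m x : ℕ) : ℂ) * _)
        (Finset.mem_univ (trivChar G)), h1]
    simp only [trivChar_apply, Nat.cast_one, mul_one, if_pos, Nat.cast_zero, zero_mul, zero_add,
      add_sub_cancel_left]
    exact Finset.sum_congr rfl fun ψ hψ => by rw [if_neg (Finset.ne_of_mem_erase hψ)]
  rw [heq]
  exact isCharacter_natCast_sum _

theorem orbits_pairs_eq_two_iff (G : Type*) [Group G] (X : Type*) [MulAction G X] [Finite X]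
    [MulAction.IsPretransitive G X] (hX : 2 ≤ Nat.card X) :
    Nat.card (MulAction.orbitRel.Quotient G (X × X)) = 2 ↔
      MulAction.IsMultiplyPretransitive G X 2 := by
  classical
  rw [MulAction.is_two_pretransitive_iff]
  let f : MulAction.orbitRel.Quotient G (X × X) → Bool :=
    Quotient.lift (fun p : X × X => decide (p.1 = p.2)) fun a b hab => by
      obtain ⟨g, rfl⟩ := MulAction.mem_orbit_iff.mp hab
      simp
  have hsurj : Function.Surjective f := by
    have : Nontrivial X := Finite.one_lt_card_iff_nontrivial.mp hX
    obtain ⟨x, y, hxy⟩ := exists_pair_ne X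
    intro b
    cases b
    · exact ⟨Quotient.mk'' (x, y), by show decide (x = y) = false; simp [hxy]⟩
    · exact ⟨Quotient.mk'' (x, x), by show decide (x = x) = true; simp⟩
  constructor
  · intro h a b c d hab hcd
    have hinj : Function.Injective f :=
      (Nat.bijective_iff_surjective_and_card f).mpr ⟨hsurj, by simp [h]⟩ |>.1
    have h1 : (Quotient.mk'' (c, d) : MulAction.orbitRel.Quotient G (X × X)) = Quotient.mk'' (a, b) :=
      hinj (by show decide (c = d) = decide (a = b); simp [hab, hcd])
    obtain ⟨g, hg⟩ := MulAction.mem_orbit_iff.mp (Quotient.exact' h1)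
    exact ⟨g, congrArg Prod.fst hg, congrArg Prod.snd hg⟩
  · intro h
    have hinj : Function.Injective f := by
      intro p q hpq
      induction p using Quotient.inductionOn' with | _ p => ?_
      induction q using Quotient.inductionOn' with | _ q => ?_
      have hpq' : decide (p.1 = p.2) = decide (q.1 = q.2) := hpq
      apply Quotient.sound'
      refine MulAction.mem_orbit_iff.mpr ?_
      by_cases hq : q.1 = q.2
      · have hp : p.1 = p.2 := by simpa [hq] using hpq'
        obtain ⟨g, hg⟩ := MulAction.exists_smul_eq G q.1 p.1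
        exact ⟨g, Prod.ext hg (by rw [Prod.smul_snd, ← hq, hg, hp])⟩
      · have hp : p.1 ≠ p.2 := by simpa [hq] using hpq'
        obtain ⟨g, hg1, hg2⟩ := h hq hp
        exact ⟨g, Prod.ext hg1 hg2⟩
    rw [Nat.card_eq_of_bijective f ⟨hinj, hsurj⟩]
    simp

theorem isIrrCharacter_permChar_sub_one_iff [Finite G] (X : Type*) [MulAction G X] [Finite X]
    [MulAction.IsPretransitive G X] (hX : 2 ≤ Nat.card X) :
    Cfsg.IsIrrCharacter G (fun g => permChar G X g - 1) ↔
      MulAction.IsMultiplyPretransitive G X 2 := by
  have := Fintype.ofFinite G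
  have : Nonempty X := (Nat.card_pos_iff.mp (by omega)).1
  rw [← orbits_pairs_eq_two_iff G X hX, isIrr_iff_classInner_eq_one]
  simp only [isCharacter_permChar_sub_one, true_and]
  have h' : Nat.card (MulAction.orbitRel.Quotient G X) = 1 := by
    rw [Nat.card_eq_one_iff_unique]
    exact ⟨(MulAction.pretransitive_iff_subsingleton_quotient G X).mp inferInstance,
      ⟨Quotient.mk'' (Classical.arbitrary X)⟩⟩
  have h1 := classInner_permChar_one (G := G) (X := X)
  rw [h', Nat.cast_one] at h1
  have h2 : Cfsg.classInner (fun _ : G => (1 : ℂ)) (permChar G X) = 1 := by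
    rw [← classInner_conj_symm, h1, map_one]
  have h3 : Cfsg.classInner (fun _ : G => (1 : ℂ)) (fun _ => 1) = 1 :=
    classInner_irr_self (trivChar G)
  rw [show (fun g => permChar G X g - 1) = permChar G X - (fun _ => 1) from rfl,
    classInner_sub_left, classInner_sub_right, classInner_sub_right, classInner_permChar_self,
    h1, h2, h3]
  constructor
  · intro h
    have : (Nat.card (MulAction.orbitRel.Quotient G (X × X)) : ℂ) = (2 : ℕ) := by
      push_cast
      linear_combination h
    exact_mod_cast this
  · intro h
    rw [h]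
    norm_num

end CfsgLib.Char
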