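import Cfsg.Agent.Lib.Char.Real
import Mathlib.LinearAlgebra.TensorProduct.Basis
import Mathlib.LinearAlgebra.Trace

/-!
# The Frobenius-Schur indicator
-/

namespace CfsgLib.Char

open scoped ComplexConjugate TensorProduct
open Module

variable {G : Type*} [Group G] [Fintype G]

/-- The Frobenius-Schur indicator of a function. -/
noncomputable def fsInd (χ : G → ℂ) : ℂ := (Nat.card G : ℂ)⁻¹ * ∑ s : G, χ (s * s)

section

variable {V : Type*} [AddCommGroup V] [Module ℂ V] [FiniteDimensional ℂ V]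

theorem exists_natCast_trace_of_idem {W : Type*} [AddCommGroup W] [Module ℂ W]
    [FiniteDimensional ℂ W] {f : Module.End ℂ W} (h : f * f = f) :
    ∃ n : ℕ, LinearMap.trace ℂ W f = n :=
  ⟨_, LinearMap.IsProj.trace (p := LinearMap.range f)
    ⟨fun x => LinearMap.mem_range_self f x, fun x hx => by
      obtain ⟨y, rfl⟩ := hx
      exact LinearMap.congr_fun h y⟩⟩

/-- The swap on `V ⊗ V`. -/
noncomputable def tswap (V : Type*) [AddCommGroup V] [Module ℂ V] :
    Module.End ℂ (V ⊗[ℂ] V) :=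
  (TensorProduct.comm ℂ V V).toLinearMap

theorem trace_tprod_tswap (ρ : Representation ℂ G V) (g : G) :
    LinearMap.trace ℂ (V ⊗[ℂ] V) (ρ.tprod ρ g * tswap V) = ρ.character (g * g) := by
  classical
  obtain ⟨b, ε, hb, -⟩ := exists_eigenbasis ρ g
  have h2 : ρ.character (g * g) = ∑ i, ε i * ε i := by
    rw [Representation.character, LinearMap.trace_eq_matrix_trace ℂ b, Matrix.trace]
    refine Finset.sum_congr rfl fun i _ => ?_
    simp [Matrix.diag, LinearMap.toMatrix_apply, hb, mul_comm]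
  rw [h2, LinearMap.trace_eq_matrix_trace ℂ (b.tensorProduct b), Matrix.trace, Fintype.sum_prod_type]
  refine Finset.sum_congr rfl fun i _ => ?_
  rw [Finset.sum_eq_single i]
  · simp [Matrix.diag, LinearMap.toMatrix_apply, tswap, hb, TensorProduct.smul_tmul', mul_comm]
  · intro j _ hj
    simp [Matrix.diag, LinearMap.toMatrix_apply, tswap, hb, TensorProduct.smul_tmul', hj, Ne.symm hj,
      Finsupp.single_apply]
  · simp

theorem exists_fsInd_decomp (ρ : Representation ℂ G V) :
    ∃ a b : ℕ, fsInd ρ.character = (a : ℂ) - b ∧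
      Cfsg.classInner ρ.character (fun g => conj (ρ.character g)) = (a : ℂ) + b := by
  set T : Representation ℂ G (V ⊗[ℂ] V) := ρ.tprod ρ with hT
  set τ : Module.End ℂ (V ⊗[ℂ] V) := tswap V with hτ
  set N : ℂ := (Nat.card G : ℂ) with hN
  have hN0 : N ≠ 0 := Nat.cast_ne_zero.mpr Nat.card_pos.ne'
  set E : Module.End ℂ (V ⊗[ℂ] V) := N⁻¹ • ∑ g, T g with hE
  have hττ : τ * τ = 1 := TensorProduct.ext' fun x y => by simp [hτ, tswap]
  have hcomm : ∀ g, τ * T g = T g * τ := fun g =>
    TensorProduct.ext' fun x y => by simp [hτ, hT, tswap]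
  have hEτ : E * τ = τ * E := by
    simp only [hE, smul_mul_assoc, mul_smul_comm, Finset.sum_mul, Finset.mul_sum, hcomm]
  have habs : ∀ g, T g * E = E := fun g => by
    simp only [hE, mul_smul_comm, Finset.mul_sum, ← map_mul]
    congr 1
    exact Fintype.sum_equiv (Equiv.mulLeft g) _ _ fun x => rfl
  have hEE : E * E = E := by
    conv_lhs => arg 1; rw [hE]
    rw [smul_mul_assoc, Finset.sum_mul]
    simp only [habs, Finset.sum_const, Finset.card_univ]
    rw [← Nat.cast_smul_eq_nsmul ℂ, smul_smul, ← Nat.card_eq_fintype_card, ← hN,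
      inv_mul_cancel₀ hN0, one_smul]
  have hidem : ∀ c : ℂ, c * c = 1 → ((2 : ℂ)⁻¹ • (E + c • (E * τ))) * ((2 : ℂ)⁻¹ • (E + c • (E * τ))) =
      (2 : ℂ)⁻¹ • (E + c • (E * τ)) := by
    intro c hc
    have e1 : E * τ * E = E * τ := by rw [mul_assoc, ← hEτ, ← mul_assoc, hEE]
    have e2 : E * τ * (E * τ) = E := by rw [← mul_assoc, e1, mul_assoc, hττ, mul_one]
    have e3 : E * (E * τ) = E * τ := by rw [← mul_assoc, hEE]
    simp only [smul_mul_assoc, mul_smul_comm, add_mul, mul_add, hEE, e1, e2, e3, smul_add,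
      smul_smul]
    match_scalars <;> first | ring1 | linear_combination (4⁻¹ : ℂ) * hc | linear_combination (4⁻¹ * N⁻¹ : ℂ) * hc
  obtain ⟨a, ha⟩ := exists_natCast_trace_of_idem (hidem 1 (one_mul 1))
  obtain ⟨b, hb⟩ := exists_natCast_trace_of_idem (hidem (-1) (by norm_num))
  have t1 : LinearMap.trace ℂ _ E =
      Cfsg.classInner ρ.character (fun g => conj (ρ.character g)) := by
    simp only [hE, map_smul, map_sum, Cfsg.classInner, smul_eq_mul, Complex.conj_conj, ← hN]
    congr 1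
    exact Finset.sum_congr rfl fun g _ => congrFun (Representation.char_tensor ρ ρ) g
  have t2 : LinearMap.trace ℂ _ (E * τ) = fsInd ρ.character := by
    simp only [hE, smul_mul_assoc, Finset.sum_mul, map_smul, map_sum, fsInd, smul_eq_mul, ← hN, hT,
      hτ, trace_tprod_tswap]
  simp only [map_smul, map_add, smul_eq_mul, t1, t2] at ha hb
  exact ⟨a, b, by rw [← ha, ← hb]; ring, by rw [← ha, ← hb]; ring⟩

theorem fsInd_trichotomy (ρ : Representation ℂ G V) [ρ.IsIrreducible] :
    (fsInd ρ.character = 0 ∨ fsInd ρ.character = 1 ∨ fsInd ρ.character = -1) ∧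
      (fsInd ρ.character = 0 ↔ ∃ s : G, (ρ.character s).im ≠ 0) := by
  classical
  obtain ⟨a, b, h1, h2⟩ := exists_fsInd_decomp ρ
  have h3 : Cfsg.classInner (irrOfRep ρ : G → ℂ) (conjIrr (irrOfRep ρ) : G → ℂ) = (a : ℂ) + b := h2
  rw [classInner_irr] at h3
  by_cases hr : irrOfRep ρ = conjIrr (irrOfRep ρ)
  · rw [if_pos hr] at h3
    have h4 : a + b = 1 := by exact_mod_cast h3.symm
    have him : ∀ s, (ρ.character s).im = 0 := fun s => (conjIrr_eq_iff (irrOfRep ρ)).mp hr.symm s
    have hne : fsInd ρ.character ≠ 0 := by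
      rw [h1]
      rcases (show a = 0 ∧ b = 1 ∨ a = 1 ∧ b = 0 by omega) with ⟨rfl, rfl⟩ | ⟨rfl, rfl⟩ <;> simp
    refine ⟨Or.inr ?_, iff_of_false hne fun ⟨s, hs⟩ => hs (him s)⟩
    rw [h1]
    rcases (show a = 0 ∧ b = 1 ∨ a = 1 ∧ b = 0 by omega) with ⟨rfl, rfl⟩ | ⟨rfl, rfl⟩ <;> simp
  · rw [if_neg hr] at h3
    have h4 : a + b = 0 := by exact_mod_cast h3.symm
    have h5 : fsInd ρ.character = 0 := by
      rw [h1, show a = 0 by omega, show b = 0 by omega]; simp
    refine ⟨Or.inl h5, iff_of_true h5 ?_⟩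
    by_contra hno
    push Not at hno
    exact hr ((conjIrr_eq_iff (irrOfRep ρ)).mpr hno).symm

theorem conj_fsInd {χ : G → ℂ} (h : Cfsg.IsCharacter G χ) : conj (fsInd χ) = fsInd χ := by
  obtain ⟨n, ρ, rfl⟩ := h
  obtain ⟨a, b, h1, -⟩ := exists_fsInd_decomp ρ
  simp [h1]

end

theorem card_sqrt_eq_sum [Fintype (Cfsg.IrrCharacter G)] (g : G) :
    (Nat.card {s : G // s * s = g} : ℂ) =
      ∑ χ : Cfsg.IrrCharacter G, fsInd (χ : G → ℂ) * (χ : G → ℂ) g := by
  classical
  let θ : G → ℂ := fun x => (Nat.card {s : G // s * s = x} : ℂ)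
  have hθ : Cfsg.IsClassFunction G θ := fun x c => by
    simp only [θ, Nat.cast_inj]
    exact (Nat.card_congr ((MulAut.conj c).toEquiv.subtypeEquiv fun s => by
      show s * s = x ↔ c * s * c⁻¹ * (c * s * c⁻¹) = c * x * c⁻¹
      rw [conj_mul, mul_left_inj, mul_right_inj])).symm
  have h := classFunction_apply_eq_sum hθ g
  refine h.trans (Finset.sum_congr rfl fun χ _ => ?_)
  congr 1
  rw [← conj_fsInd (IsIrr.isCharacter χ.2)]
  simp only [θ, Cfsg.classInner, fsInd, map_mul, map_inv₀, map_natCast, map_sum]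
  congr 1
  conv_rhs => rw [← Finset.sum_fiberwise Finset.univ (fun s : G => s * s)]
  refine Finset.sum_congr rfl fun x _ => ?_
  rw [Finset.sum_congr rfl fun s hs => by rw [(Finset.mem_filter.mp hs).2], Finset.sum_const,
    nsmul_eq_mul, Nat.card_eq_fintype_card, Fintype.card_subtype]

end CfsgLib.Char
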