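import Cfsg.Agent.Lib.Char.CNTI
import Cfsg.Agent.Lib.PGroups.Basic

/-!
# The character-theoretic contradiction for CN-groups of odd order

A finite group of odd order cannot be partitioned by the conjugates of nilpotent TI subgroups
containing their centralizers, of pairwise coprime orders and properly contained in their proper
normalizers.  Only the exceptional characters of the linear characters are used.
-/

set_option linter.unusedSectionVars false

namespace CfsgLib.CNTI

open CfsgLib.Char CfsgLib.CA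
open scoped ComplexConjugate Classical

/-- A nilpotent group with derived subgroup of prime index is commutative. -/
theorem commutator_eq_bot_of_prime_index {A : Type*} [Group A] [Finite A] [Group.IsNilpotent A]
    (hp : (commutator A).index.Prime) : commutator A = ⊥ := by
  obtain ⟨x, hx⟩ : ∃ x : A, x ∉ commutator A := by
    by_contra h
    push Not at h
    rw [show commutator A = ⊤ from eq_top_iff.mpr fun x _ => h x, Subgroup.index_top] at hp
    exact Nat.not_prime_one hp
  have hsup : commutator A ⊔ Subgroup.zpowers x = ⊤ := by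
    have h : (commutator A ⊔ Subgroup.zpowers x).index ∣ (commutator A).index :=
      Subgroup.index_dvd_of_le le_sup_left
    rcases (Nat.dvd_prime hp).mp h with h1 | h1
    · exact Subgroup.index_eq_one.mp h1
    · have hle : commutator A ≤ commutator A ⊔ Subgroup.zpowers x := le_sup_left
      have := Subgroup.relIndex_mul_index hle
      rw [h1, mul_eq_right₀ hp.ne_zero, Subgroup.relIndex_eq_one] at this
      exact absurd (this (Subgroup.mem_sup_right (Subgroup.mem_zpowers x))) hx
  have htop : Subgroup.zpowers x = ⊤ := by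
    refine frattini_nongenerating (eq_top_iff.mpr (hsup.ge.trans ?_))
    rw [sup_comm]
    exact sup_le_sup_left CfsgLib.PGroups.commutator_le_frattini _
  rw [commutator_eq_bot_iff_center_eq_top, eq_top_iff]
  intro y _
  rw [Subgroup.mem_center_iff]
  intro g
  obtain ⟨i, rfl⟩ := Subgroup.mem_zpowers_iff.mp (htop ▸ Subgroup.mem_top y)
  obtain ⟨j, rfl⟩ := Subgroup.mem_zpowers_iff.mp (htop ▸ Subgroup.mem_top g)
  exact (Commute.zpow_zpow_self x j i).eq

variable {G : Type*} [Group G] [Fintype G]

/-- Representatives of the classes of maximal nilpotent subgroups. -/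
structure Partition (G : Type*) [Group G] (ι : Type*) where
  A : ι → Subgroup G
  tik : ∀ l, TIK (A l)
  nilpotent : ∀ l, Group.IsNilpotent (A l)
  derived : ∀ l, commutator (A l) ≠ ⊤
  cover : ∀ y : G, y ≠ 1 → ∃ l, ∃ g : G, ∃ a ∈ A l, g * a * g⁻¹ = y
  disj : ∀ l m, ∀ a ∈ A l, a ≠ 1 → ∀ g : G, g * a * g⁻¹ ∈ A m → l = m
  coprime : ∀ l m, l ≠ m → (Nat.card (A l)).Coprime (Nat.card (A m))
  relIndex_ne_one : ∀ l, (A l).relIndex (Subgroup.normalizer (A l : Set G)) ≠ 1
  normalizer_ne_top : ∀ l, Subgroup.normalizer (A l : Set G) ≠ ⊤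

variable {ι : Type*} [Fintype ι] (P : Partition G ι)

theorem sum_partition {M : Type*} [AddCommGroup M] {f : G → M}
    (hf : ∀ g h : G, f (h * g * h⁻¹) = f g) :
    ∑ x : G, f x = f 1 + ∑ l, (Subgroup.normalizer (P.A l : Set G)).index •
      ∑ a : P.A l, if a = 1 then 0 else f a := by
  let Φ : (Σ l, (G ⧸ Subgroup.normalizer (P.A l : Set G)) × {a : P.A l // a ≠ 1}) → {y : G // y ≠ 1} :=
    fun p => ⟨p.2.1.out * p.2.2.1 * p.2.1.out⁻¹,
      fun h => p.2.2.2 (Subtype.ext (conj_eq_one_iff.mp h))⟩
  have hΦ : Function.Bijective Φ := by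
    constructor
    · rintro ⟨l, q, a, ha⟩ ⟨m, q', b, hb⟩ h
      have h' : q.out * (a : G) * q.out⁻¹ = q'.out * (b : G) * q'.out⁻¹ := congrArg Subtype.val h
      have hx : (q'.out⁻¹ * q.out) * (a : G) * (q'.out⁻¹ * q.out)⁻¹ = b := by
        calc _ = q'.out⁻¹ * (q.out * (a : G) * q.out⁻¹) * q'.out := by group
          _ = _ := by rw [h']; group
      have hlm : l = m := P.disj l m a a.2 (fun e => ha (Subtype.ext e)) _ (hx ▸ b.2)
      subst hlm
      have hq : q = q' := by
        rw [← q.out_eq', ← q'.out_eq', eq_comm, QuotientGroup.eq]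
        exact mem_normalizer_of_conj_mem (P.tik l) a.2 (fun e => ha (Subtype.ext e)) (hx ▸ b.2)
      subst hq
      have : a = b := Subtype.ext (mul_left_cancel (mul_right_cancel h'))
      subst this
      rfl
    · rintro ⟨y, hy⟩
      obtain ⟨l, g, a, ha, rfl⟩ := P.cover y hy
      obtain ⟨⟨c, hc⟩, hcg⟩ := QuotientGroup.mk_out_eq_mul (Subgroup.normalizer (P.A l : Set G)) g
      refine ⟨⟨l, (g : G ⧸ Subgroup.normalizer (P.A l : Set G)),
        ⟨⟨c⁻¹ * a * c, (Subgroup.mem_normalizer_iff''.mp hc a).mp ha⟩, fun e => hy ?_⟩⟩, ?_⟩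
      · have he : c⁻¹ * a * c = 1 := congrArg Subtype.val e
        have : a = 1 := by
          calc a = c * (c⁻¹ * a * c) * c⁻¹ := by group
            _ = 1 := by rw [he]; group
        rw [this]; group
      · refine Subtype.ext ?_
        simp only [Φ]
        rw [show ((g : G ⧸ Subgroup.normalizer (P.A l : Set G))).out = g * c from hcg]
        group
  rw [← Finset.add_sum_erase _ _ (Finset.mem_univ (1 : G)),
    Finset.sum_subtype (Finset.univ.erase (1 : G)) (p := fun y => y ≠ 1) (fun x => by simp) f,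
    ← Fintype.sum_bijective Φ hΦ (fun p => f p.2.2.1) _ (fun p => (hf _ _).symm), Fintype.sum_sigma]
  congr 1
  refine Finset.sum_congr rfl fun l _ => ?_
  rw [Fintype.sum_prod_type, Fintype.sum_congr (fun q : G ⧸ Subgroup.normalizer (P.A l : Set G) =>
      ∑ y : {a : P.A l // a ≠ 1}, f (y.1 : G)) (fun _ => ∑ y : {a : P.A l // a ≠ 1}, f (y.1 : G))
      (fun _ => rfl),
    Finset.sum_const, Finset.card_univ, ← Nat.card_eq_fintype_card, ← Subgroup.index]
  congr 1
  rw [← Finset.sum_subtype (Finset.univ.erase (1 : P.A l)) (p := fun a => a ≠ 1) (fun x => by simp)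
    (fun a : P.A l => f a), ← Finset.add_sum_erase _ _ (Finset.mem_univ (1 : P.A l)),
    if_pos rfl, zero_add]
  exact Finset.sum_congr rfl fun a ha => (if_neg (Finset.ne_of_mem_erase ha)).symm

theorem sum_ne_one_const (A : Subgroup G) {M : Type*} [AddCommGroup M] (c : M) :
    ∑ a : A, (if a = 1 then 0 else c) = (Nat.card A - 1) • c := by
  rw [Finset.sum_ite, Finset.sum_const_zero, zero_add, Finset.sum_const, Finset.filter_ne',
    Finset.card_erase_of_mem (Finset.mem_univ _), Finset.card_univ, Nat.card_eq_fintype_card]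

theorem index_mul (l : ι) : (Subgroup.normalizer (P.A l : Set G)).index *
    (P.A l).relIndex (Subgroup.normalizer (P.A l : Set G)) * Nat.card (P.A l) = Nat.card G := by
  rw [mul_comm _ ((P.A l).relIndex _), Subgroup.relIndex_mul_index (Subgroup.le_normalizer),
    Subgroup.index_mul_card]

theorem inner_diff_eq_zero {l m : ι} (hlm : l ≠ m) (f : P.A l → ℂ) {f' : P.A m → ℂ}
    (h0 : f' 1 = 0) :
    Cfsg.classInner (Cfsg.indFun (P.A l) f) (Cfsg.indFun (P.A m) f') = 0 := by
  rw [frobenius_reciprocity _ f (isClassFunction_indFun _ f')]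
  have : (fun h : P.A l => Cfsg.indFun (P.A m) f' h) = 0 := by
    funext h
    refine CA.indFun_eq_zero h0 fun x hx => ?_
    by_contra hne
    refine hlm (P.disj l m h h.2 (fun e => hne ?_) x⁻¹ (by rwa [inv_inv]))
    rw [e]; group
  rw [this, classInner_zero_right]

/-- The final estimate. -/
theorem false_of_estimates {e E q h G₀ sW sT : ℝ} (he : 3 ≤ e) (hE : e ≤ E) (hq : 0 < q)
    (hh : 0 < h) (hG : 2 * (e * h) ≤ G₀) (hlow : 2 * E / (2 * E + 1) * sT ≤ sW)
    (hsT : 1 - 1 / G₀ - (1 - 1 / h) / e - (e - 1) / (2 * E) ≤ sT)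
    (hup : sW < e / q)
    (hcase : 4 * e + 1 ≤ q ∨ (q = 2 * e + 1 ∧ e + 2 ≤ E ∧ (5 ≤ e ∨ (e = 3 ∧ h = 7)))) :
    False := by
  have he0 : 0 < e := by linarith
  have hE0 : 0 < E := by linarith
  have heh : 0 < e * h := mul_pos he0 hh
  have hG0 : 0 < G₀ := by linarith
  have hinv : 1 / G₀ ≤ 1 / (2 * (e * h)) := one_div_le_one_div_of_le (by positivity) hG
  have hsT' : (1 - 1 / e) + 1 / (2 * (e * h)) - (e - 1) / (2 * E) ≤ sT := by
    refine le_trans ?_ hsT
    have : (1 - 1 / h) / e = 1 / e - 2 * (1 / (2 * (e * h))) := by field_simp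
    linarith
  have hfac : (0 : ℝ) ≤ 2 * E / (2 * E + 1) := by positivity
  have hpos : 0 ≤ 1 / (2 * (e * h)) := by positivity
  rcases hcase with hq4 | ⟨hq2, hE2, hsub⟩
  · have h1 : (e - 1) / (2 * E) ≤ (e - 1) / (2 * e) :=
      div_le_div_of_nonneg_left (by linarith) (by linarith) (by linarith)
    have h2 : (e - 1) / (2 * e) ≤ sT := by
      refine le_trans ?_ hsT'
      have : 1 - 1 / e = 2 * ((e - 1) / (2 * e)) := by field_simp
      linarith
    have h3 : 2 * e / (2 * e + 1) ≤ 2 * E / (2 * E + 1) := by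
      rw [div_le_div_iff₀ (by linarith) (by linarith)]; nlinarith
    have h4 : (e - 1) / (2 * e + 1) ≤ sW := by
      refine le_trans ?_ hlow
      calc (e - 1) / (2 * e + 1) = 2 * e / (2 * e + 1) * ((e - 1) / (2 * e)) := by field_simp
        _ ≤ _ := mul_le_mul h3 h2 (div_nonneg (by linarith) (by linarith)) hfac
    have h5 : e / q ≤ e / (4 * e + 1) := div_le_div_of_nonneg_left he0.le (by linarith) hq4
    have h6 : e / (4 * e + 1) ≤ (e - 1) / (2 * e + 1) := by
      rw [div_le_div_iff₀ (by linarith) (by linarith)]; nlinarith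
    linarith
  · subst hq2
    have h1 : (e - 1) / (2 * E) ≤ (e - 1) / (2 * (e + 2)) :=
      div_le_div_of_nonneg_left (by linarith) (by linarith) (by linarith)
    have h3 : 2 * (e + 2) / (2 * (e + 2) + 1) ≤ 2 * E / (2 * E + 1) := by
      rw [div_le_div_iff₀ (by linarith) (by linarith)]; nlinarith
    rcases hsub with he5 | ⟨rfl, rfl⟩
    · have h2 : (e - 1) * (e + 4) / (2 * e * (e + 2)) ≤ sT := by
        refine le_trans ?_ hsT'
        have : (e - 1) * (e + 4) / (2 * e * (e + 2)) = (1 - 1 / e) - (e - 1) / (2 * (e + 2)) := by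
          field_simp; ring
        linarith
      have hnn : 0 ≤ (e - 1) * (e + 4) / (2 * e * (e + 2)) :=
        div_nonneg (mul_nonneg (by linarith) (by linarith)) (by positivity)
      have h4 := le_trans (mul_le_mul h3 h2 hnn hfac) hlow
      have h6 : e / (2 * e + 1) ≤
          2 * (e + 2) / (2 * (e + 2) + 1) * ((e - 1) * (e + 4) / (2 * e * (e + 2))) := by
        rw [div_mul_div_comm, div_le_div_iff₀ (by linarith) (by positivity)]
        nlinarith [mul_nonneg (mul_nonneg he0.le (show 0 ≤ e + 2 by linarith))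
          (show 0 ≤ 2 * e * e - 5 * e - 4 by nlinarith)]
      linarith
    · have h2 : (103 : ℝ) / 210 ≤ sT := by
        refine le_trans ?_ hsT'
        norm_num at h1 ⊢
        linarith
      have h4 := le_trans (mul_le_mul h3 h2 (by norm_num) hfac) hlow
      norm_num at h4 hup
      linarith

theorem false_of_partition (P : Partition G ι) [Nonempty ι] (hodd : Odd (Nat.card G)) : False := by
  have hF : ∀ l, Nonempty (Fam (P.A l)) := fun l => exists_fam (P.tik l) hodd (P.derived l)
  let F : ∀ l, Fam (P.A l) := fun l => (hF l).some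
  have hrel := fun l j => (F l).rel j
  have hs0 : ∀ l, ((F l).sgn : ℂ) ≠ 0 := fun l h => by
    have := (F l).sgn_sq
    rw [Int.cast_eq_zero] at h
    simp [h] at this
  let d' : ∀ l, Fin (F l).n → P.A l → ℂ := fun l k =>
    ((F l).r k : P.A l → ℂ) - ((F l).r (F l).z : P.A l → ℂ)
  -- the families are disjoint
  have hdiff : ∀ l m, l ≠ m → ∀ j k, Cfsg.classInner
      (((F l).θ j : G → ℂ) - ((F l).θ (F l).z : G → ℂ))
      (((F m).θ k : G → ℂ) - ((F m).θ (F m).z : G → ℂ)) = 0 := by
    intro l m hlm j k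
    have h := inner_diff_eq_zero P hlm (d' l j) (f' := d' m k) (diff_one (F m) k)
    simp only [d'] at h
    rw [hrel, hrel, classInner_smul_left, classInner_smul_right] at h
    simp only [map_intCast, mul_eq_zero, hs0, false_or] at h
    exact h
  have hdis : ∀ l m, l ≠ m → ∀ j k, (F l).θ j ≠ (F m).θ k := by
    intro l m hlm j k e
    have hd : ∀ j' k', Cfsg.classInner (((F l).θ j : G → ℂ) - ((F l).θ j' : G → ℂ))
        (((F m).θ k : G → ℂ) - ((F m).θ k' : G → ℂ)) = 0 := by
      intro j' k'
      rw [show ((F l).θ j : G → ℂ) - ((F l).θ j' : G → ℂ) =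
        (((F l).θ j : G → ℂ) - ((F l).θ (F l).z : G → ℂ)) -
          (((F l).θ j' : G → ℂ) - ((F l).θ (F l).z : G → ℂ)) by abel,
        show ((F m).θ k : G → ℂ) - ((F m).θ k' : G → ℂ) =
        (((F m).θ k : G → ℂ) - ((F m).θ (F m).z : G → ℂ)) -
          (((F m).θ k' : G → ℂ) - ((F m).θ (F m).z : G → ℂ)) by abel]
      simp only [classInner_sub_left, classInner_sub_right]
      have a := hdiff l m hlm j k
      have b := hdiff l m hlm j k'
      have c := hdiff l m hlm j' k
      have d := hdiff l m hlm j' k'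
      simp only [classInner_sub_left, classInner_sub_right] at a b c d
      linear_combination a - b - c + d
    have := Fin.nontrivial_iff_two_le.mpr (F l).two_le
    have := Fin.nontrivial_iff_two_le.mpr (F m).two_le
    obtain ⟨j', hj'⟩ := exists_ne j
    obtain ⟨k', hk'⟩ := exists_ne k
    have h := hd j' k'
    simp only [classInner_sub_left, classInner_sub_right, classInner_irr] at h
    rw [if_pos e, if_neg (fun e' : (F l).θ j = (F m).θ k' => hk' ((F m).θ_inj (e'.symm.trans e))),
      if_neg (fun e' : (F l).θ j' = (F m).θ k => hj' ((F l).θ_inj (e'.trans e.symm)))] at h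
    split_ifs at h <;> norm_num at h
  have := Fintype.ofFinite (Cfsg.IrrCharacter G)
  -- integer coefficients
  have hc' : ∀ l (χ : Cfsg.IrrCharacter G), ∃ c : ℤ,
      Cfsg.classInner (psi (F l)) (χ : G → ℂ) = (c : ℂ) := fun l χ =>
    IsGen.exists_classInner_eq_intCast (psi_gen (F l)) (IsGen.of_irr χ.2)
  choose c hc using hc'
  have hone : ∀ l, c l (trivChar G) = 1 := fun l => by
    have h := psi_triv (F l)
    rw [hc] at h
    exact_mod_cast h
  have htrivF : ∀ l j, trivChar G ≠ (F l).θ j := fun l =>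
    (uniform_iff (F l) _).2 fun lam hl hne => by
      rw [show (fun x : P.A l => (trivChar G : G → ℂ) x) = (trivChar (P.A l) : P.A l → ℂ) from rfl,
        classInner_irr_of_ne (Ne.symm hne), classInner_irr_of_ne (Ne.symm ((F l).r_ne _))]
  have hconst : ∀ l m, m ≠ l → ∀ k, c l ((F m).θ k) = c l ((F m).θ (F m).z) := by
    intro l m hml k
    have h := inner_diff_eq_zero P (Ne.symm hml)
      ((fun _ : P.A l => (1 : ℂ)) - ((F l).r (F l).z : P.A l → ℂ)) (f' := d' m k) (diff_one (F m) k)
    simp only [d'] at h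
    rw [hrel, classInner_smul_right, classInner_sub_right] at h
    simp only [map_intCast, mul_eq_zero, hs0, false_or, sub_eq_zero] at h
    change Cfsg.classInner (psi (F l)) _ = Cfsg.classInner (psi (F l)) _ at h
    rw [hc, hc] at h
    exact_mod_cast h
  let b : ι → ι → ℤ := fun m l => c l ((F m).θ (F m).z)
  -- the coefficients on the own family
  have hown : ∀ l j, j ≠ (F l).z → c l ((F l).θ j) = c l ((F l).θ (F l).z) + (F l).sgn := by
    intro l j hj
    have h := psi_tau (P.tik l) (F l) hj
    rw [hrel, classInner_smul_right, classInner_sub_right, hc, hc, map_intCast] at h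
    have : (F l).sgn * (c l ((F l).θ j) - c l ((F l).θ (F l).z)) = 1 := by exact_mod_cast h
    linear_combination (F l).sgn * this - (c l ((F l).θ j) - c l ((F l).θ (F l).z)) * (F l).sgn_sq
  have hownsum : ∀ l, Odd (∑ j, c l ((F l).θ j)) := by
    intro l
    rw [← Finset.add_sum_erase _ _ (Finset.mem_univ (F l).z),
      Finset.sum_congr rfl fun j hj => hown l j (Finset.ne_of_mem_erase hj), Finset.sum_const,
      Finset.card_erase_of_mem (Finset.mem_univ _), Finset.card_univ, Fintype.card_fin, nsmul_eq_mul]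
    obtain ⟨k, hk⟩ := (F l).even
    have h2 := (F l).two_le
    have hs : (F l).sgn = 1 ∨ (F l).sgn = -1 :=
      ((Int.mul_eq_one_iff_eq_one_or_neg_one).mp (F l).sgn_sq).imp And.left And.left
    have hk' : (((F l).n - 1 : ℕ) : ℤ) = 2 * k - 1 := by omega
    rw [hk']
    rcases hs with h | h <;> rw [h]
    · exact ⟨k * c l ((F l).θ (F l).z) + k - 1, by ring⟩
    · exact ⟨k * c l ((F l).θ (F l).z) - k, by ring⟩
  -- parity
  have hpar : ∀ i l, i ≠ l → b l i = 0 → b i l ≠ 0 := by
    intro i l hil hb0 hb1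
    have h := inner_diff_eq_zero P hil
      ((fun _ : P.A i => (1 : ℂ)) - ((F i).r (F i).z : P.A i → ℂ))
      (f' := (fun _ : P.A l => (1 : ℂ)) - ((F l).r (F l).z : P.A l → ℂ)) (base_one (F l))
    change Cfsg.classInner (psi (F i)) (psi (F l)) = 0 at h
    rw [classInner_eq_sum (IsGen.isClassFunction (psi_gen _))] at h
    simp only [hc, map_intCast] at h
    have h' : ∑ χ, c i χ * c l χ = 0 := by exact_mod_cast h
    let Fi : Finset (Cfsg.IrrCharacter G) := Finset.univ.image (F i).θ
    let Fl : Finset (Cfsg.IrrCharacter G) := Finset.univ.image (F l).θ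
    have hFi : ∑ χ ∈ Fi, c i χ * c l χ = 0 := by
      rw [Finset.sum_image fun a _ b _ e => (F i).θ_inj e]
      refine Finset.sum_eq_zero fun k _ => ?_
      rw [hconst l i hil k, show c l ((F i).θ (F i).z) = 0 from hb1, mul_zero]
    have hFl : ∑ χ ∈ Fl, c i χ * c l χ = 0 := by
      rw [Finset.sum_image fun a _ b _ e => (F l).θ_inj e]
      refine Finset.sum_eq_zero fun k _ => ?_
      rw [hconst i l (Ne.symm hil) k, show c i ((F l).θ (F l).z) = 0 from hb0, zero_mul]
    let S : Finset (Cfsg.IrrCharacter G) := {trivChar G} ∪ (Fi ∪ Fl)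
    have hS : ∑ χ ∈ S, c i χ * c l χ = 1 := by
      rw [Finset.sum_union, Finset.sum_union, Finset.sum_singleton, hone, hone, hFi, hFl]
      · norm_num
      · refine Finset.disjoint_left.mpr fun χ h1 h2 => ?_
        simp only [Fi, Fl, Finset.mem_image, Finset.mem_univ, true_and] at h1 h2
        obtain ⟨j, rfl⟩ := h1
        obtain ⟨k, hk⟩ := h2
        exact hdis i l hil j k hk.symm
      · refine Finset.disjoint_left.mpr fun χ h1 h2 => ?_
        rw [Finset.mem_singleton] at h1
        subst h1
        simp only [Fi, Fl, Finset.mem_union, Finset.mem_image, Finset.mem_univ, true_and] at h2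
        rcases h2 with ⟨j, hj⟩ | ⟨j, hj⟩
        · exact htrivF i j hj.symm
        · exact htrivF l j hj.symm
    have hrest : ∑ χ ∈ Finset.univ \ S, ((c i χ * c l χ : ℤ) : ZMod 2) = 0 := by
      have hmem : ∀ χ ∈ Finset.univ \ S, χ ≠ trivChar G ∧ (∀ j, χ ≠ (F i).θ j) ∧
          ∀ j, χ ≠ (F l).θ j := by
        intro χ hχ
        simp only [S, Fi, Fl, Finset.mem_sdiff, Finset.mem_univ, true_and, Finset.mem_union,
          Finset.mem_singleton, Finset.mem_image, not_or, not_exists] at hχ
        exact ⟨hχ.1, fun j e => hχ.2.1 j e.symm, fun j e => hχ.2.2 j e.symm⟩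
      have hsym : ∀ (m : ι) (χ : Cfsg.IrrCharacter G), (∀ j, χ ≠ (F m).θ j) →
          c m (conjIrr χ) = c m χ := fun m χ hχ => by
        have h := (uniform_conj (F m) χ hχ).2
        rw [hc, hc] at h
        exact_mod_cast h
      refine Finset.sum_involution (fun χ _ => conjIrr χ) ?_ ?_ ?_ ?_
      · intro χ hχ
        obtain ⟨-, hi', hl'⟩ := hmem χ hχ
        rw [hsym i χ hi', hsym l χ hl', CharTwo.add_self_eq_zero]
      · intro χ hχ _ e
        exact (hmem χ hχ).1 (real_irr_eq_one_of_odd hodd χ ((conjIrr_eq_iff χ).mp e))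
      · intro χ hχ
        obtain ⟨h1, hi', hl'⟩ := hmem χ hχ
        simp only [S, Fi, Fl, Finset.mem_sdiff, Finset.mem_univ, true_and, Finset.mem_union,
          Finset.mem_singleton, Finset.mem_image, not_or, not_exists]
        refine ⟨fun e => h1 ?_, fun j e => (uniform_conj (F i) χ hi').1 j e.symm,
          fun j e => (uniform_conj (F l) χ hl').1 j e.symm⟩
        rw [← conjIrr_conjIrr χ, e]
        exact irr_ext fun x => by simp
      · intro χ _
        exact conjIrr_conjIrr χ
    rw [← Finset.sum_sdiff (Finset.subset_univ S), hS] at h'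
    have h2 := congrArg (Int.cast : ℤ → ZMod 2) h'
    rw [Int.cast_add, Int.cast_sum, hrest, zero_add, Int.cast_one, Int.cast_zero] at h2
    exact one_ne_zero h2
  -- numerical invariants
  let e : ι → ℕ := fun l => (P.A l).relIndex (Subgroup.normalizer (P.A l : Set G))
  let q : ι → ℕ := fun l => linCard (P.A l)
  have heq : ∀ l, (F l).n * e l + 1 = q l := fun l => (F l).card_eq
  have heodd : ∀ l, Odd (e l) := fun l => odd_relIndex hodd
  have he3 : ∀ l, 3 ≤ e l := fun l => by
    obtain ⟨k, hk⟩ := heodd l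
    have := P.relIndex_ne_one l
    simp only [e] at hk ⊢
    omega
  have hn2 : ∀ l, 2 ≤ (F l).n := fun l => (F l).two_le
  have hqle : ∀ l, 2 * e l + 1 ≤ q l := fun l => by
    rw [← heq l]
    have := Nat.mul_le_mul_right (e l) (hn2 l)
    omega
  -- the choice of `i`
  obtain ⟨i, E, hmin, hEi, hcase⟩ : ∃ i E, (∀ l, l ≠ i → E ≤ e l) ∧ e i ≤ E ∧
      (4 * e i + 1 ≤ q i ∨ (q i = 2 * e i + 1 ∧ e i + 2 ≤ E)) := by
    obtain ⟨i₀, -, hi₀⟩ := Finset.exists_min_image Finset.univ e Finset.univ_nonempty
    by_cases h4 : ∃ l, e l = e i₀ ∧ 4 * e l + 1 ≤ q l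
    · obtain ⟨l, hl, hl4⟩ := h4
      exact ⟨l, e i₀, fun m _ => hi₀ m (Finset.mem_univ _), hl.le, Or.inl hl4⟩
    · push Not at h4
      have hq2 : ∀ l, e l = e i₀ → q l = 2 * e l + 1 := by
        intro l hl
        have h := h4 l hl
        rw [← heq l] at h ⊢
        obtain ⟨k, hk⟩ := (F l).even
        have := hn2 l
        have hk2 : k < 2 := by
          by_contra hk2
          push Not at hk2
          have := Nat.mul_le_mul_right (e l) (show 4 ≤ (F l).n by omega)
          omega
        rw [show (F l).n = 2 by omega]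
      refine ⟨i₀, e i₀ + 2, fun m hm => ?_, by omega, Or.inr ⟨hq2 i₀ rfl, le_rfl⟩⟩
      have h1 : e i₀ ≤ e m := hi₀ m (Finset.mem_univ _)
      have h2 : e m ≠ e i₀ := fun heq' => by
        have hdvd : ∀ l, q l ∣ Nat.card (P.A l) := fun l => ⟨_, (linCard_mul_derCard _).symm⟩
        have := Nat.eq_one_of_dvd_coprimes (P.coprime m i₀ hm) (hdvd m)
          (by rw [hq2 m heq', heq', ← hq2 i₀ rfl]; exact hdvd i₀)
        have := hqle m
        have := he3 m
        omega
      obtain ⟨a, ha⟩ := heodd m
      obtain ⟨a₀, ha₀⟩ := heodd i₀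
      omega
  let R : Finset ι := Finset.univ.erase i
  let L := R.filter fun l => b l i ≠ 0
  let W := R.filter fun l => b l i = 0
  -- norm of `psi`
  have hnorm : 2 * (L.card : ℤ) ≤ (e i : ℤ) - 1 := by
    have h := psi_inner_self (P.tik i) (F i)
    rw [classInner_eq_sum (IsGen.isClassFunction (psi_gen _))] at h
    simp only [hc, map_intCast] at h
    have h' : ∑ χ, c i χ * c i χ = (e i : ℤ) + 1 := by
      have : ((∑ χ, c i χ * c i χ : ℤ) : ℂ) = (((e i : ℤ) + 1 : ℤ) : ℂ) := by
        push_cast; exact h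
      exact_mod_cast this
    let o : Option (Σ l, Fin (F l).n) → Cfsg.IrrCharacter G := fun o =>
      o.elim (trivChar G) fun p => (F p.1).θ p.2
    have ho : Function.Injective o := by
      rintro (_ | ⟨l, j⟩) (_ | ⟨m, k⟩) h
      · rfl
      · exact absurd h (htrivF m k)
      · exact absurd h.symm (htrivF l j)
      · by_cases hlm : l = m
        · subst hlm
          have : j = k := (F l).θ_inj h
          subst this; rfl
        · exact absurd h (hdis l m hlm j k)
    have hle : ∑ p, c i (o p) * c i (o p) ≤ (e i : ℤ) + 1 := by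
      rw [← h', ← Finset.sum_image (f := fun χ => c i χ * c i χ) fun a _ b _ e => ho e]
      exact Finset.sum_le_sum_of_subset_of_nonneg (Finset.subset_univ _)
        fun _ _ _ => mul_self_nonneg _
    rw [Fintype.sum_option, Fintype.sum_sigma, ← Finset.add_sum_erase _ _ (Finset.mem_univ i)] at hle
    simp only [o, Option.elim_none, Option.elim_some, hone] at hle
    have hpos : 1 ≤ ∑ k, c i ((F i).θ k) * c i ((F i).θ k) := by
      obtain ⟨k, hk⟩ : ∃ k, c i ((F i).θ k) ≠ 0 := by
        by_contra hall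
        push Not at hall
        have h := hownsum i
        rw [Finset.sum_eq_zero fun k _ => hall k] at h
        exact Int.not_odd_iff_even.mpr Even.zero h
      refine le_trans ?_ (Finset.single_le_sum (fun k _ => mul_self_nonneg _) (Finset.mem_univ k))
      exact Int.add_one_le_of_lt (mul_self_pos.mpr hk)
    have hL : 2 * (L.card : ℤ) ≤ ∑ l ∈ R, ∑ k, c i ((F l).θ k) * c i ((F l).θ k) := by
      rw [mul_comm, ← nsmul_eq_mul, ← Finset.sum_const]
      refine le_trans (Finset.sum_le_sum fun l hl => ?_)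
        (Finset.sum_le_sum_of_subset_of_nonneg (Finset.filter_subset _ _)
          fun l _ _ => Finset.sum_nonneg fun _ _ => mul_self_nonneg _)
      obtain ⟨hlR, hbl⟩ := Finset.mem_filter.mp hl
      rw [Finset.sum_congr rfl fun k _ => by rw [hconst i l (Finset.ne_of_mem_erase hlR) k],
        Finset.sum_const, Finset.card_univ, Fintype.card_fin, nsmul_eq_mul]
      have hb1 : 1 ≤ b l i * b l i := Int.add_one_le_of_lt (mul_self_pos.mpr hbl)
      have h2 : (2 : ℤ) ≤ (F l).n := by exact_mod_cast hn2 l
      simp only [b] at hb1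
      nlinarith
    simp only [R] at hL
    linarith
  -- real invariants
  let G₀ : ℝ := Nat.card G
  let eR : ι → ℝ := fun l => e l
  let hR : ι → ℝ := fun l => Nat.card (P.A l)
  let qR : ι → ℝ := fun l => q l
  let dR : ι → ℝ := fun l => derCard (P.A l)
  let NR : ι → ℝ := fun l => (Subgroup.normalizer (P.A l : Set G)).index
  have hNeh : ∀ l, NR l * eR l * hR l = G₀ := fun l => by
    simp only [NR, eR, hR, G₀, e]
    exact_mod_cast index_mul P l
  have hqd : ∀ l, qR l * dR l = hR l := fun l => by
    simp only [qR, dR, hR, q]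
    exact_mod_cast linCard_mul_derCard (P.A l)
  have hepos : ∀ l, 0 < eR l := fun l => by
    have := he3 l
    simp only [eR]; positivity
  have hhpos : ∀ l, 0 < hR l := fun l => Nat.cast_pos.mpr Nat.card_pos
  have hqpos : ∀ l, 0 < qR l := fun l => by
    have := hqle l
    simp only [qR]; exact_mod_cast (by omega : 0 < q l)
  have hG0pos : 0 < G₀ := Nat.cast_pos.mpr Nat.card_pos
  -- total count
  have htot : ∑ l, (1 - 1 / hR l) / eR l = 1 - 1 / G₀ := by
    have h := sum_partition P (f := fun _ => (1 : ℝ)) (fun _ _ => rfl)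
    rw [Finset.sum_const, Finset.card_univ, nsmul_one, ← Nat.card_eq_fintype_card] at h
    have hterm : ∀ l, (Subgroup.normalizer (P.A l : Set G)).index •
        (∑ a : P.A l, if a = 1 then (0 : ℝ) else 1) = G₀ * ((1 - 1 / hR l) / eR l) := by
      intro l
      rw [sum_ne_one_const, nsmul_eq_mul, nsmul_one, Nat.cast_sub Nat.card_pos, ← hNeh l]
      have := hepos l
      have := hhpos l
      simp only [NR, hR] at *
      field_simp
      push_cast
      ring
    rw [Finset.sum_congr rfl fun l _ => hterm l, ← Finset.mul_sum] at h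
    have hG : G₀ = (Nat.card G : ℝ) := rfl
    rw [← hG] at h
    field_simp
    linarith
  -- the row of a family member
  set θ := (F i).θ (F i).z
  have hrow : ∑ l ∈ W, (1 - 1 / qR l) / eR l < eR i / qR i := by
    have h := classInner_irr_self θ
    rw [Cfsg.classInner, inv_mul_eq_one₀ (Nat.cast_ne_zero.mpr Nat.card_pos.ne')] at h
    have hG : G₀ = ∑ g : G, Complex.normSq ((θ : G → ℂ) g) := by
      have h1 := congrArg Complex.re h
      rw [Complex.re_sum, Complex.natCast_re,
        Finset.sum_congr rfl fun g _ => by rw [Complex.mul_conj, Complex.ofReal_re]] at h1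
      exact h1
    rw [sum_partition P (f := fun g => Complex.normSq ((θ : G → ℂ) g))
        (fun g h => by simp only [IsIrr.isClassFunction θ.2 g h]),
      ← Finset.add_sum_erase _ _ (Finset.mem_univ i)] at hG
    simp only [nsmul_eq_mul] at hG
    have h1 : 0 < Complex.normSq ((θ : G → ℂ) 1) :=
      Complex.normSq_pos.mpr (IsIrr.apply_one_ne_zero θ.2)
    have hNi : 0 ≤ NR i := Nat.cast_nonneg _
    have hown' : G₀ * (1 - eR i / qR i) ≤
        NR i * ∑ a : P.A i, (if a = 1 then 0 else Complex.normSq ((θ : G → ℂ) a)) := by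
      refine le_trans (le_of_eq ?_) (mul_le_mul_of_nonneg_left (self_bound (F i)) hNi)
      rw [← hNeh i, ← hqd i]
      have := hqpos i
      simp only [eR, qR, dR, e, q] at this ⊢
      field_simp
    have hoth : G₀ * ∑ l ∈ W, (1 - 1 / qR l) / eR l ≤ ∑ l ∈ R,
        NR l * ∑ a : P.A l, (if a = 1 then 0 else Complex.normSq ((θ : G → ℂ) a)) := by
      rw [Finset.mul_sum]
      refine le_trans (Finset.sum_le_sum fun l hl => ?_)
        (Finset.sum_le_sum_of_subset_of_nonneg (Finset.filter_subset _ _) fun l _ _ =>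
          mul_nonneg (Nat.cast_nonneg _) (Finset.sum_nonneg fun a _ => ?_))
      · obtain ⟨hlR, hbl⟩ := Finset.mem_filter.mp hl
        have hli := Finset.ne_of_mem_erase hlR
        have hb := other_bound (F l) θ (fun j => hdis i l (Ne.symm hli) _ j) (hc l θ)
        have hb1 : (1 : ℝ) ≤ (c l θ : ℝ) ^ 2 := by
          have : 1 ≤ c l θ ^ 2 := by
            have hne : c l θ ≠ 0 := hpar i l (Ne.symm hli) hbl
            rw [pow_two]
            exact Int.add_one_le_of_lt (mul_self_pos.mpr hne)
          exact_mod_cast this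
        have hdle : dR l ≤ hR l := by
          simp only [dR, hR, derCard]
          exact_mod_cast Nat.le_of_dvd Nat.card_pos (Subgroup.card_subgroup_dvd_card _)
        refine le_trans ?_ (mul_le_mul_of_nonneg_left hb (Nat.cast_nonneg _))
        show G₀ * ((1 - 1 / qR l) / eR l) ≤ NR l * ((hR l - dR l) * (c l θ : ℝ) ^ 2)
        refine le_trans (le_of_eq ?_) (mul_le_mul_of_nonneg_left
          (le_mul_of_one_le_right (sub_nonneg.mpr hdle) hb1) (Nat.cast_nonneg _))
        rw [← hNeh l, ← hqd l]
        have := hqpos l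
        have := hepos l
        field_simp
      · split_ifs
        · exact le_rfl
        · exact Complex.normSq_nonneg _
    have hlt : G₀ * (1 - eR i / qR i) + G₀ * ∑ l ∈ W, (1 - 1 / qR l) / eR l < G₀ := by
      have hR' : R = Finset.univ.erase i := rfl
      rw [← hR'] at hG
      linarith
    rw [← mul_add] at hlt
    have := (mul_lt_iff_lt_one_right hG0pos).mp hlt
    linarith
  -- the estimates
  have hEpos : (0 : ℝ) < E := by
    have := he3 i
    exact_mod_cast (by omega : 0 < E)
  have hlow : 2 * (E : ℝ) / (2 * E + 1) * ∑ l ∈ W, 1 / eR l ≤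
      ∑ l ∈ W, (1 - 1 / qR l) / eR l := by
    rw [Finset.mul_sum]
    refine Finset.sum_le_sum fun l hl => ?_
    rw [mul_one_div]
    refine div_le_div_of_nonneg_right ?_ (hepos l).le
    have hle : (2 * E + 1 : ℝ) ≤ qR l := by
      have h1 := hmin l (Finset.ne_of_mem_erase (Finset.mem_filter.mp hl).1)
      have h2 := hqle l
      simp only [qR]
      exact_mod_cast (show 2 * E + 1 ≤ q l by omega)
    rw [div_le_iff₀ (by linarith), sub_mul, one_div_mul_eq_div]
    have : (2 * (E : ℝ) + 1) / qR l ≤ 1 := (div_le_one (hqpos l)).mpr hle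
    linarith
  have hsT : 1 - 1 / G₀ - (1 - 1 / hR i) / eR i - (eR i - 1) / (2 * E) ≤ ∑ l ∈ W, 1 / eR l := by
    have h1 : ∑ l ∈ L, (1 - 1 / hR l) / eR l ≤ (eR i - 1) / (2 * E) := by
      refine le_trans (Finset.sum_le_card_nsmul _ _ (1 / (E : ℝ)) fun l hl => ?_) ?_
      · have hh := hhpos l
        have hel : (E : ℝ) ≤ eR l := by
          simp only [eR]
          exact_mod_cast hmin l (Finset.ne_of_mem_erase (Finset.mem_filter.mp hl).1)
        calc (1 - 1 / hR l) / eR l ≤ 1 / eR l :=
              div_le_div_of_nonneg_right (sub_le_self _ (by positivity)) (hepos l).le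
          _ ≤ 1 / (E : ℝ) := one_div_le_one_div_of_le hEpos hel
      · have hn : 2 * (L.card : ℝ) ≤ eR i - 1 := by
          simp only [eR]
          exact_mod_cast hnorm
        rw [nsmul_eq_mul, mul_one_div, div_le_div_iff₀ hEpos (by linarith)]
        nlinarith
    have h2 : ∑ l ∈ W, (1 - 1 / hR l) / eR l ≤ ∑ l ∈ W, 1 / eR l :=
      Finset.sum_le_sum fun l _ => by
        have := hhpos l
        exact div_le_div_of_nonneg_right (sub_le_self _ (by positivity)) (hepos l).le
    have h3 : ∑ l, (1 - 1 / hR l) / eR l = (1 - 1 / hR i) / eR i +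
        (∑ l ∈ W, (1 - 1 / hR l) / eR l + ∑ l ∈ L, (1 - 1 / hR l) / eR l) := by
      rw [← Finset.add_sum_erase _ _ (Finset.mem_univ i),
        Finset.sum_filter_add_sum_filter_not]
    linarith
  have hG2 : 2 * (eR i * hR i) ≤ G₀ := by
    have hN2 : (2 : ℝ) ≤ NR i := by
      have h1 : (Subgroup.normalizer (P.A i : Set G)).index ≠ 1 := fun h =>
        P.normalizer_ne_top i (Subgroup.index_eq_one.mp h)
      have h0 : (Subgroup.normalizer (P.A i : Set G)).index ≠ 0 :=
        Subgroup.index_ne_zero_of_finite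
      simp only [NR]
      exact_mod_cast (by omega : 2 ≤ (Subgroup.normalizer (P.A i : Set G)).index)
    rw [← hNeh i, mul_assoc]
    exact mul_le_mul_of_nonneg_right hN2 (mul_pos (hepos i) (hhpos i)).le
  refine false_of_estimates (e := eR i) (E := (E : ℝ)) (by simp only [eR]; exact_mod_cast he3 i)
    (by simp only [eR]; exact_mod_cast hEi) (hqpos i) (hhpos i) hG2 hlow hsT hrow ?_
  rcases hcase with h4 | ⟨h2, hE2⟩
  · left; simp only [eR, qR]; exact_mod_cast h4
  · refine Or.inr ⟨by simp only [eR, qR]; exact_mod_cast h2,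
      by simp only [eR]; exact_mod_cast hE2, ?_⟩
    have := he3 i
    obtain ⟨a, ha⟩ := heodd i
    rcases Nat.lt_or_ge (e i) 5 with he5 | he5
    · have he : e i = 3 := by omega
      right
      refine ⟨by simp only [eR, he]; norm_num, ?_⟩
      have h7 : q i = 7 := by omega
      have := P.nilpotent i
      have hbot := commutator_eq_bot_of_prime_index (A := P.A i)
        (by show (q i).Prime; rw [h7]; norm_num)
      have hc := linCard_mul_derCard (P.A i)
      rw [derCard, hbot, Subgroup.card_bot, mul_one] at hc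
      simp only [hR]
      rw [← hc]
      exact_mod_cast h7
    · left; simp only [eR]; exact_mod_cast he5

end CfsgLib.CNTI
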