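import Cfsg.Agent.Lib.Char.Extension
import Cfsg.Agent.Lib.Char.CliffordRestrict
import Cfsg.Agent.Lib.Char.Complete
import Cfsg.Agent.Lib.Char.Induced

/-!
# Gallagher's theorem

If the restriction to a normal subgroup `N` of an irreducible character `χ` is irreducible, then
`β ↦ β χ` is a bijection from the irreducible characters of `G ⧸ N` onto those over `χ|N`.
-/

namespace CfsgLib.Gallagher

open CfsgLib.Char CfsgLib.Clifford
open scoped ComplexConjugate
open Module

variable {G : Type*} [Group G] [Fintype G] {N : Subgroup G} [hN : N.Normal]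

/-- The product of a character of the quotient with a character of the group. -/
def twistBy (χ : G → ℂ) (β : G ⧸ N → ℂ) : G → ℂ := fun g => β (QuotientGroup.mk' N g) * χ g

omit [Fintype G] in
theorem twistBy_apply (χ : G → ℂ) (β : G ⧸ N → ℂ) (g : G) :
    twistBy χ β g = β (QuotientGroup.mk' N g) * χ g := rfl

omit [Fintype G] in
theorem isCharacter_twistBy {χ : G → ℂ} {β : G ⧸ N → ℂ} (hχ : Cfsg.IsCharacter G χ)
    (hβ : Cfsg.IsCharacter (G ⧸ N) β) : Cfsg.IsCharacter G (twistBy χ β) :=
  IsChar.mul (IsChar.comp (QuotientGroup.mk' N) hβ) hχ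

omit [Fintype G] in
theorem twistBy_apply_coe (χ : G → ℂ) (β : G ⧸ N → ℂ) (n : N) :
    twistBy χ β n = β 1 * χ n := by
  rw [twistBy_apply, show QuotientGroup.mk' N (n : G) = 1 from (QuotientGroup.eq_one_iff _).mpr n.2]

theorem indFun_restrict_eq_sum {χ : G → ℂ} (hχ : Cfsg.IsClassFunction G χ)
    [Fintype (Cfsg.IrrCharacter (G ⧸ N))] :
    Cfsg.indFun N (fun n : N => χ n) =
      ∑ β : Cfsg.IrrCharacter (G ⧸ N), (β : G ⧸ N → ℂ) 1 • twistBy χ (β : G ⧸ N → ℂ) := by
  classical
  funext g
  simp only [Finset.sum_apply, Pi.smul_apply, smul_eq_mul, twistBy_apply, ← mul_assoc]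
  rw [← Finset.sum_mul]
  by_cases hg : g ∈ N
  · rw [show (QuotientGroup.mk' N g : G ⧸ N) = 1 from (QuotientGroup.eq_one_iff g).mpr hg]
    simp only [← sq]
    rw [sum_sq_degree, indFun_coe_normal hN _ ⟨g, hg⟩]
    have h : ∀ x : G, conjFn hN (fun n : N => χ n) x ⟨g, hg⟩ = χ g := fun x => hχ g x
    rw [Finset.sum_congr rfl fun x _ => h x, Finset.sum_const, Finset.card_univ, nsmul_eq_mul,
      ← Nat.card_eq_fintype_card, Subgroup.card_eq_card_quotient_mul_card_subgroup N]
    have : (Nat.card N : ℂ) ≠ 0 := Nat.cast_ne_zero.mpr Nat.card_pos.ne'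
    push_cast
    field_simp
  · rw [sum_degree_mul_apply_of_ne_one (g := QuotientGroup.mk' N g)
      (fun h => hg ((QuotientGroup.eq_one_iff g).mp h)), zero_mul]
    exact indFun_eq_zero_off_normal hN _ hg

variable [Fintype N]

theorem classInner_indFun_restrict {χ : G → ℂ} (hχ : Cfsg.IsClassFunction G χ)
    (hres : Cfsg.IsIrrCharacter N fun n : N => χ n) :
    Cfsg.classInner (Cfsg.indFun N fun n : N => χ n) (Cfsg.indFun N fun n : N => χ n) =
      (N.index : ℂ) := by
  have h := card_mul_classInner_indFun hN hres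
  have hall : ∀ g : G, conjFn hN (fun n : N => χ n) g = fun n : N => χ n := fun g =>
    funext fun n => hχ n g
  rw [Nat.card_congr (Equiv.subtypeUnivEquiv hall), ← N.card_mul_index, Nat.cast_mul] at h
  exact mul_left_cancel₀ (Nat.cast_ne_zero.mpr Nat.card_pos.ne') h

/-- Orthonormality of the twists. -/
theorem classInner_twistBy {χ : G → ℂ} (hχ : Cfsg.IsCharacter G χ)
    (hres : Cfsg.IsIrrCharacter N fun n : N => χ n) (β γ : Cfsg.IrrCharacter (G ⧸ N))
    [Decidable (β = γ)] :
    Cfsg.classInner (twistBy χ (β : G ⧸ N → ℂ)) (twistBy χ (γ : G ⧸ N → ℂ)) =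
      if β = γ then 1 else 0 := by
  classical
  have := Fintype.ofFinite (Cfsg.IrrCharacter (G ⧸ N))
  choose d hd0 hd using fun β : Cfsg.IrrCharacter (G ⧸ N) => IsIrr.exists_degree β.2
  have hchar : ∀ β : Cfsg.IrrCharacter (G ⧸ N), Cfsg.IsCharacter G (twistBy χ (β : G ⧸ N → ℂ)) :=
    fun β => isCharacter_twistBy hχ (IsIrr.isCharacter β.2)
  have hnat : ∀ β γ : Cfsg.IrrCharacter (G ⧸ N), ∃ a : ℕ,
      Cfsg.classInner (twistBy χ (β : G ⧸ N → ℂ)) (twistBy χ (γ : G ⧸ N → ℂ)) = a := by
    intro β γ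
    obtain ⟨n, ρ, hρ⟩ := hchar β
    obtain ⟨m, σ, hσ⟩ := hchar γ
    rw [← hρ, ← hσ]
    exact ⟨_, classInner_eq_finrank σ ρ⟩
  choose a ha using hnat
  have hdiag : ∀ β, 1 ≤ a β β := by
    intro β
    refine Nat.one_le_iff_ne_zero.mpr fun h0 => ?_
    have h := IsChar.eq_zero_of_classInner_self (hchar β) (by rw [ha, h0, Nat.cast_zero])
    have h1 := congrFun h 1
    rw [twistBy_apply, map_one, Pi.zero_apply, mul_eq_zero] at h1
    exact h1.elim (IsIrr.apply_one_ne_zero β.2) fun h0 => IsIrr.apply_one_ne_zero hres (by simpa using h0)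
  have htotal : ∑ p : _ × _, d p.1 * d p.2 * a p.1 p.2 =
      ∑ p : Cfsg.IrrCharacter (G ⧸ N) × Cfsg.IrrCharacter (G ⧸ N),
        if p.1 = p.2 then d p.1 * d p.2 else 0 := by
    apply Nat.cast_injective (R := ℂ)
    push_cast
    rw [Fintype.sum_prod_type, Fintype.sum_prod_type]
    simp only [Finset.sum_ite_eq, Finset.mem_univ, if_true]
    have h := classInner_indFun_restrict (IsChar.isClassFunction hχ) hres
    rw [indFun_restrict_eq_sum (IsChar.isClassFunction hχ), classInner_sum_left] at h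
    simp only [classInner_sum_right, classInner_smul_left, classInner_smul_right, hd,
      map_natCast, ha, Finset.mul_sum] at h
    have h2 := sum_sq_degree (G := G ⧸ N)
    simp only [hd, sq] at h2
    rw [h2, ← N.index_eq_card, ← h]
    exact Finset.sum_congr rfl fun _ _ => Finset.sum_congr rfl fun _ _ => by ring
  have hle : ∀ p ∈ (Finset.univ : Finset (Cfsg.IrrCharacter (G ⧸ N) × Cfsg.IrrCharacter (G ⧸ N))),
      (if p.1 = p.2 then d p.1 * d p.2 else 0) ≤ d p.1 * d p.2 * a p.1 p.2 := by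
    intro p _
    split_ifs with hp
    · rw [hp]; exact Nat.le_mul_of_pos_right _ (hdiag _)
    · exact Nat.zero_le _
  have h := (Finset.sum_eq_sum_iff_of_le hle).mp htotal.symm (β, γ) (Finset.mem_univ _)
  have hpos : 0 < d β * d γ := Nat.mul_pos (hd0 β) (hd0 γ)
  dsimp only at h
  rw [ha]
  split_ifs with hp
  · rw [if_pos hp] at h
    exact_mod_cast ((Nat.mul_eq_left hpos.ne').mp h.symm)
  · rw [if_neg hp] at h
    exact_mod_cast (Nat.mul_eq_zero.mp h.symm).resolve_left hpos.ne'

theorem isIrr_twistBy {χ : G → ℂ} (hχ : Cfsg.IsCharacter G χ)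
    (hres : Cfsg.IsIrrCharacter N fun n : N => χ n) (β : Cfsg.IrrCharacter (G ⧸ N)) :
    Cfsg.IsIrrCharacter G (twistBy χ (β : G ⧸ N → ℂ)) := by
  classical
  exact IsChar.isIrr_of_classInner_eq_one (isCharacter_twistBy hχ (IsIrr.isCharacter β.2))
    (by rw [classInner_twistBy hχ hres, if_pos rfl])

theorem twistBy_injective {χ : G → ℂ} (hχ : Cfsg.IsCharacter G χ)
    (hres : Cfsg.IsIrrCharacter N fun n : N => χ n) :
    Function.Injective fun β : Cfsg.IrrCharacter (G ⧸ N) => twistBy χ (β : G ⧸ N → ℂ) := by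
  classical
  intro β γ h
  by_contra hne
  have h1 := classInner_twistBy hχ hres β γ
  rw [if_neg hne, ← (show twistBy χ (β : G ⧸ N → ℂ) = twistBy χ (γ : G ⧸ N → ℂ) from h),
    classInner_twistBy hχ hres, if_pos rfl] at h1
  exact one_ne_zero h1

/-- Every irreducible character over `χ|N` is a twist of `χ`. -/
theorem exists_eq_twistBy {χ : G → ℂ} (hχ : Cfsg.IsCharacter G χ)
    (hres : Cfsg.IsIrrCharacter N fun n : N => χ n) (ψ : Cfsg.IrrCharacter G)
    (hc : Cfsg.classInner (fun n : N => (ψ : G → ℂ) n) (fun n : N => χ n) ≠ 0) :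
    ∃ β : Cfsg.IrrCharacter (G ⧸ N), (ψ : G → ℂ) = twistBy χ (β : G ⧸ N → ℂ) := by
  classical
  have := Fintype.ofFinite (Cfsg.IrrCharacter (G ⧸ N))
  have h : Cfsg.classInner (Cfsg.indFun N fun n : N => χ n) (ψ : G → ℂ) ≠ 0 := by
    rw [frobenius_reciprocity N _ (IsIrr.isClassFunction ψ.2), ← classInner_conj_symm]
    simpa using hc
  rw [indFun_restrict_eq_sum (IsChar.isClassFunction hχ), classInner_sum_left] at h
  obtain ⟨β, -, hβ⟩ := Finset.exists_ne_zero_of_sum_ne_zero h
  rw [classInner_smul_left] at hβ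
  refine ⟨β, by_contra fun hne => right_ne_zero_of_mul hβ ?_⟩
  exact classInner_irr_of_ne (χ := ⟨_, isIrr_twistBy hχ hres β⟩) (ψ := ψ)
    fun e => hne (congrArg Subtype.val e).symm

omit [Fintype G] [Fintype N] in
theorem classInner_twistBy_restrict [Fintype N] (χ : G → ℂ) (β : G ⧸ N → ℂ)
    (hres : Cfsg.IsIrrCharacter N fun n : N => χ n) :
    Cfsg.classInner (fun n : N => twistBy χ β n) (fun n : N => χ n) = β 1 := by
  rw [show (fun n : N => twistBy χ β n) = β 1 • fun n : N => χ n from
    funext fun n => twistBy_apply_coe χ β n, classInner_smul_left]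
  exact (congrArg (β 1 * ·) (classInner_irr_self ⟨_, hres⟩)).trans (mul_one _)

/-- Gallagher's correspondence. -/
noncomputable def equivOver {χ : G → ℂ} (hχ : Cfsg.IsCharacter G χ)
    (hres : Cfsg.IsIrrCharacter N fun n : N => χ n) :
    Cfsg.IrrCharacter (G ⧸ N) ≃ {ψ : Cfsg.IrrCharacter G //
      Cfsg.classInner (fun n : N => (ψ : G → ℂ) n) (fun n : N => χ n) ≠ 0} :=
  Equiv.ofBijective
    (fun β => ⟨⟨_, isIrr_twistBy hχ hres β⟩, by
      show Cfsg.classInner (fun n : N => twistBy χ (β : G ⧸ N → ℂ) n) (fun n : N => χ n) ≠ 0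
      rw [classInner_twistBy_restrict χ _ hres]
      exact IsIrr.apply_one_ne_zero β.2⟩)
    ⟨fun β γ h => twistBy_injective hχ hres (congrArg (fun x => (x.1 : G → ℂ)) h),
      fun ψ => by
        obtain ⟨β, hβ⟩ := exists_eq_twistBy hχ hres ψ.1 ψ.2
        exact ⟨β, Subtype.ext (Subtype.ext hβ.symm)⟩⟩

/-- Two extensions of an irreducible character whose determinantal orders and degree are prime
to the index coincide. -/
theorem eq_of_extensions {V W : Type*} [AddCommGroup V] [Module ℂ V] [FiniteDimensional ℂ V]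
    [AddCommGroup W] [Module ℂ W] [FiniteDimensional ℂ W]
    (ρ : Representation ℂ G V) (τ : Representation ℂ G W)
    (hres : Cfsg.IsIrrCharacter N fun n : N => ρ.character n)
    (heq : ∀ n : N, τ.character n = ρ.character n)
    (hρ : (orderOf (CharExt.detHom ρ)).Coprime N.index)
    (hτ : (orderOf (CharExt.detHom τ)).Coprime N.index)
    (hd : (finrank ℂ V).Coprime N.index) : τ.character = ρ.character := by
  classical
  have hVW : finrank ℂ W = finrank ℂ V := by
    have h := heq 1
    rw [OneMemClass.coe_one, Representation.char_one, Representation.char_one] at h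
    exact_mod_cast h
  have := Fintype.ofFinite N
  have hτirr : Cfsg.IsIrrCharacter G τ.character := by
    obtain ⟨k, σ, hσ, hσc⟩ := hres
    have := hσ
    let τN : Representation ℂ N W := τ.comp N.subtype
    obtain ⟨φ⟩ := nonempty_equiv_of_character_eq τN σ ((funext heq).trans hσc.symm)
    have : τN.IsIrreducible := (isIrreducible_iff_of_equiv φ).mpr hσ
    have := CharExt.isIrreducible_of_restrict τ N.subtype τN fun _ => rfl
    exact isIrrCharacter_rep τ
  obtain ⟨β, hβ⟩ := exists_eq_twistBy (isCharacter_rep ρ) hres ⟨_, hτirr⟩ (by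
    rw [show (fun n : N => τ.character n) = fun n : N => ρ.character n from funext heq]
    rw [classInner_irr_self ⟨_, hres⟩]
    exact one_ne_zero)
  have hβ1 : (β : G ⧸ N → ℂ) 1 = 1 := by
    have h := congrFun hβ 1
    rw [twistBy_apply, map_one] at h
    change τ.character 1 = _ at h
    rw [show τ.character 1 = ρ.character 1 from heq 1] at h
    exact (mul_eq_right₀ (IsIrr.apply_one_ne_zero hres)).mp h.symm
  obtain ⟨l, hl⟩ := exists_linear_of_degree_one (IsIrr.isCharacter β.2) hβ1
  set L : G →* ℂˣ := l.comp (QuotientGroup.mk' N) with hL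
  have hchar : τ.character = (CharExt.twistRep ρ L).character := by
    rw [CharExt.character_twistRep, show τ.character = twistBy ρ.character (β : G ⧸ N → ℂ) from hβ]
    exact funext fun g => by rw [twistBy_apply, hl]; rfl
  have hdet : CharExt.detHom τ = L ^ finrank ℂ V * CharExt.detHom ρ := by
    rw [CharExt.detHom_eq_of_character_eq τ _ hchar, CharExt.detHom_twistRep]
  have hidx : L ^ N.index = 1 := CharExt.hom_pow_index_eq_one L fun n hn => by
    rw [hL, MonoidHom.comp_apply, QuotientGroup.mk'_apply, (QuotientGroup.eq_one_iff n).mpr hn,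
      map_one]
  have hL1 : L = 1 := by
    refine MonoidHom.ext fun g => ?_
    have h1 : L g ^ N.index = 1 := by rw [← MonoidHom.pow_apply, hidx]; rfl
    have hpow : ∀ f : G →* ℂˣ, f g ^ orderOf f = 1 := fun f => by
      rw [← MonoidHom.pow_apply, pow_orderOf_eq_one]; rfl
    have h2 : L g ^ finrank ℂ V = CharExt.detHom τ g * (CharExt.detHom ρ g)⁻¹ := by
      rw [hdet, MonoidHom.mul_apply, MonoidHom.pow_apply, mul_inv_cancel_right]
    have h3 : L g ^ (finrank ℂ V *
        (orderOf (CharExt.detHom τ) * orderOf (CharExt.detHom ρ))) = 1 := by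
      rw [pow_mul, h2, mul_pow, pow_mul, hpow, one_pow, inv_pow, mul_comm (orderOf _), pow_mul,
        hpow, one_pow, inv_one, one_mul]
    have h := pow_gcd_eq_one.mpr ⟨h3, h1⟩
    rwa [Nat.Coprime.gcd_eq_one (hd.mul_left (hτ.mul_left hρ)), pow_one] at h
  rw [hchar, CharExt.character_twistRep, hL1]
  simp

end CfsgLib.Gallagher
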