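import Cfsg.Prelude.Def_Characters
import Mathlib.GroupTheory.Sylow
import Mathlib.GroupTheory.GroupAction.Quotient
import Mathlib.GroupTheory.SpecificGroups.Cyclic
import Mathlib.GroupTheory.Perm.Basic
import Mathlib.Tactic.Group

/-!
# Quasi-elementary subgroups and the combination of permutation characters giving `1`
-/

namespace CfsgLib.QE

/-- A quasi-elementary group for `p`: a cyclic normal subgroup of order prime to `p` with index a
power of `p`. -/
def IsQE (p : ℕ) (H : Type*) [Group H] : Prop :=
  ∃ C : Subgroup H, C.Normal ∧ IsCyclic C ∧ (Nat.card C).Coprime p ∧ ∃ k, C.index = p ^ k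

theorem isCyclic_comap {K H : Type*} [Group K] [Group H] (f : K →* H) (hf : Function.Injective f)
    (C : Subgroup H) [IsCyclic C] : IsCyclic (C.comap f) :=
  isCyclic_of_injective (f.subgroupComap C)
    fun a b h => Subtype.ext (hf (congrArg Subtype.val h))

theorem card_comap_dvd {K H : Type*} [Group K] [Group H] (f : K →* H) (hf : Function.Injective f)
    (C : Subgroup H) : Nat.card (C.comap f) ∣ Nat.card C :=
  Subgroup.card_dvd_of_injective (f.subgroupComap C)
    fun a b h => Subtype.ext (hf (congrArg Subtype.val h))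

theorem IsQE.of_injective {p : ℕ} (hp : p.Prime) {K H : Type*} [Group K] [Group H] (f : K →* H)
    (hf : Function.Injective f) (h : IsQE p H) : IsQE p K := by
  obtain ⟨C, hC, hcyc, hcop, k, hk⟩ := h
  refine ⟨C.comap f, hC.comap f, isCyclic_comap f hf C,
    hcop.coprime_dvd_left (card_comap_dvd f hf C), ?_⟩
  have h1 : (C.comap f).index ∣ p ^ k := by
    rw [Subgroup.index_comap, ← hk]
    exact Subgroup.relIndex_dvd_index_of_normal _ _
  obtain ⟨j, -, hj⟩ := (Nat.dvd_prime_pow hp).mp h1
  exact ⟨j, hj⟩

theorem isElementary_of_injective {p : ℕ} (hp : p.Prime) {K H : Type*} [Group K] [Finite K]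
    [Group H] (f : K →* H) (hf : Function.Injective f) (h : Cfsg.IsElementary p H) :
    Cfsg.IsElementary p K := by
  obtain ⟨x, hx, hcop, k, hk⟩ := h
  have := isCyclic_comap f hf (Subgroup.zpowers x)
  obtain ⟨⟨y, hy⟩, hgen⟩ := IsCyclic.exists_generator (α := (Subgroup.zpowers x).comap f)
  have hzy : Subgroup.zpowers y = (Subgroup.zpowers x).comap f := by
    refine le_antisymm (Subgroup.zpowers_le.mpr hy) fun a ha => ?_
    obtain ⟨i, hi⟩ := Subgroup.mem_zpowers_iff.mp (hgen ⟨a, ha⟩)
    exact ⟨i, congrArg Subtype.val hi⟩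
  obtain ⟨i, hi⟩ := Subgroup.mem_zpowers_iff.mp (Subgroup.mem_comap.mp hy)
  refine ⟨y, Subgroup.mem_center_iff.mpr fun a => hf ?_, ?_, ?_⟩
  · rw [map_mul, map_mul, ← hi]
    exact Subgroup.mem_center_iff.mp (zpow_mem hx i) (f a)
  · refine hcop.coprime_dvd_left ?_
    rw [← orderOf_injective f hf y, ← hi]
    exact orderOf_dvd_of_mem_zpowers (zpow_mem (Subgroup.mem_zpowers x) i)
  · have : (Subgroup.zpowers x).Normal := ⟨fun a ha g => by
      obtain ⟨j, rfl⟩ := Subgroup.mem_zpowers_iff.mp ha
      rw [Subgroup.mem_center_iff.mp (zpow_mem hx j) g, mul_inv_cancel_right]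
      exact ha⟩
    have h1 : (Subgroup.zpowers y).index ∣ p ^ k := by
      rw [hzy, Subgroup.index_comap, ← hk]
      exact Subgroup.relIndex_dvd_index_of_normal _ _
    obtain ⟨j, -, hj⟩ := (Nat.dvd_prime_pow hp).mp h1
    exact ⟨j, hj⟩

variable {G : Type*} [Group G] [Finite G]

/-- The permutation character of a finite `G`-set, integer valued. -/
noncomputable def permChar (X : Type*) [MulAction G X] : G → ℤ :=
  fun g => (Nat.card (MulAction.fixedBy X g) : ℤ)

/-- The span of the permutation characters on cosets of quasi-elementary subgroups. -/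
noncomputable def qeSpan (G : Type*) [Group G] : AddSubgroup (G → ℤ) :=
  AddSubgroup.closure {f | ∃ H : Subgroup G, (∃ p : ℕ, p.Prime ∧ IsQE p H) ∧ f = permChar (G ⧸ H)}

/-- Decomposition of a permutation character along orbits. -/
theorem permChar_mem (X : Type*) [MulAction G X] [Finite X]
    (h : ∀ x : X, ∃ p : ℕ, p.Prime ∧ IsQE p (MulAction.stabilizer G x)) :
    permChar X ∈ qeSpan G := by
  classical
  have := Fintype.ofFinite X
  let Ω := Quotient (MulAction.orbitRel G X)
  have := Fintype.ofFinite Ω
  have key : permChar X = ∑ ω : Ω, permChar (G := G) (G ⧸ MulAction.stabilizer G ω.out) := by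
    funext g
    rw [Finset.sum_apply]
    simp only [permChar]
    rw [← Nat.cast_sum, ← Nat.card_sigma]
    refine congrArg Nat.cast (Nat.card_congr (Equiv.symm ?_))
    refine Equiv.ofBijective (fun z => ⟨MulAction.ofQuotientStabilizer G z.1.out z.2.1, ?_⟩) ⟨?_, ?_⟩
    · rw [MulAction.mem_fixedBy, ← MulAction.ofQuotientStabilizer_smul,
        show g • z.2.1 = z.2.1 from z.2.2]
    · rintro ⟨ω, q, hq⟩ ⟨ω', q', hq'⟩ he
      have he' := congrArg Subtype.val he
      change MulAction.ofQuotientStabilizer G ω.out q = MulAction.ofQuotientStabilizer G ω'.out q' at he'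
      have hω : ω = ω' := by
        have h1 := MulAction.ofQuotientStabilizer_mem_orbit G ω.out q
        have h2 := MulAction.ofQuotientStabilizer_mem_orbit G ω'.out q'
        rw [he'] at h1
        have h3 := (MulAction.orbit_eq_iff.mpr h1).symm.trans (MulAction.orbit_eq_iff.mpr h2)
        have h4 : (MulAction.orbitRel G X) ω.out ω'.out := by
          rw [MulAction.orbitRel_apply, ← MulAction.orbit_eq_iff]
          exact h3
        have h5 := Quotient.sound h4
        rwa [Quotient.out_eq, Quotient.out_eq] at h5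
      subst hω
      have := MulAction.injective_ofQuotientStabilizer G ω.out he'
      subst this
      rfl
    · rintro ⟨x, hx⟩
      obtain ⟨a, ha⟩ := (MulAction.orbitRel_apply.mp
        (Quotient.exact (Quotient.out_eq (Quotient.mk (MulAction.orbitRel G X) x)).symm))
      change a • _ = x at ha
      refine ⟨⟨Quotient.mk _ x, (a : G ⧸ _), ?_⟩, Subtype.ext ?_⟩
      · rw [MulAction.mem_fixedBy]
        apply MulAction.injective_ofQuotientStabilizer G
        rw [MulAction.ofQuotientStabilizer_smul, MulAction.ofQuotientStabilizer_mk, ha]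
        exact hx
      · exact (MulAction.ofQuotientStabilizer_mk G _ a).trans ha
  rw [key]
  exact AddSubgroup.sum_mem _ fun ω _ => AddSubgroup.subset_closure ⟨_, h ω.out, rfl⟩

/-- The span is closed under multiplication. -/
theorem mul_mem_qeSpan {f h : G → ℤ} (hf : f ∈ qeSpan G) (hh : h ∈ qeSpan G) :
    f * h ∈ qeSpan G := by
  induction hf using AddSubgroup.closure_induction with
  | zero => rw [zero_mul]; exact zero_mem _
  | add a b _ _ ha hb => rw [add_mul]; exact add_mem ha hb
  | neg a _ ha => rw [neg_mul]; exact neg_mem ha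
  | mem a ha =>
    induction hh using AddSubgroup.closure_induction with
    | zero => rw [mul_zero]; exact zero_mem _
    | add x y _ _ hx hy => rw [mul_add]; exact add_mem hx hy
    | neg x _ hx => rw [mul_neg]; exact neg_mem hx
    | mem x hx =>
      obtain ⟨H, ⟨p, hp, hH⟩, rfl⟩ := ha
      obtain ⟨K, -, rfl⟩ := hx
      have hprod : permChar (G := G) (G ⧸ H) * permChar (G ⧸ K) = permChar ((G ⧸ H) × (G ⧸ K)) := by
        funext g
        simp only [Pi.mul_apply, permChar]
        rw [← Nat.cast_mul, ← Nat.card_prod]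
        exact congrArg Nat.cast (Nat.card_congr
          ⟨fun z => ⟨(z.1.1, z.2.1), Prod.ext z.1.2 z.2.2⟩,
           fun z => (⟨z.1.1, congrArg Prod.fst z.2⟩, ⟨z.1.2, congrArg Prod.snd z.2⟩),
           fun _ => rfl, fun _ => rfl⟩)
      rw [hprod]
      refine permChar_mem _ fun z => ⟨p, hp, ?_⟩
      obtain ⟨a, ha⟩ := QuotientGroup.mk_surjective z.1
      have hin : ∀ s : MulAction.stabilizer G z, a⁻¹ * (s : G) * a ∈ H := by
        intro s
        have h1 : (s : G) • z.1 = z.1 := congrArg Prod.fst (MulAction.mem_stabilizer_iff.mp s.2)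
        rw [← ha, MulAction.Quotient.smul_mk, eq_comm, QuotientGroup.eq] at h1
        rw [mul_assoc]
        exact h1
      let c : MulAction.stabilizer G z →* H :=
        { toFun := fun s => ⟨a⁻¹ * (s : G) * a, hin s⟩
          map_one' := Subtype.ext (by simp)
          map_mul' := fun s t => Subtype.ext (by
            simp only [Subgroup.coe_mul]
            group) }
      refine IsQE.of_injective hp c (fun s t hst => Subtype.ext ?_) hH
      exact mul_left_cancel (mul_right_cancel (congrArg Subtype.val hst))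

/-- For every element and prime some member of the span has value prime to `p` there. -/
theorem exists_not_dvd (g : G) {p : ℕ} (hp : p.Prime) :
    ∃ f ∈ qeSpan G, ¬ (p : ℤ) ∣ f g := by
  classical
  have hp' : Fact p.Prime := ⟨hp⟩
  set n := orderOf g with hn
  set e := n.factorization p with he
  set c := g ^ p ^ e with hc
  have hcop : (orderOf c).Coprime p := by
    rw [hc, orderOf_pow' g (pow_ne_zero e hp.ne_zero),
      Nat.gcd_eq_right (Nat.ordProj_dvd n p)]
    exact (Nat.coprime_ordCompl hp (orderOf_pos g).ne').symm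
  set C := Subgroup.zpowers c with hC
  set N := Subgroup.normalizer (C : Set G) with hN
  have hCN : C ≤ N := Subgroup.le_normalizer
  have hgN : g ∈ N := by
    have hgc : ∀ y ∈ C, g * y * g⁻¹ = y := by
      intro y hy
      obtain ⟨i, rfl⟩ := Subgroup.mem_zpowers_iff.mp hy
      rw [hc, ((Commute.refl g).pow_right _).zpow_right i |>.eq, mul_inv_cancel_right]
    rw [Subgroup.mem_normalizer_iff]
    intro y
    refine ⟨fun hy => by rw [hgc y hy]; exact hy, fun hy => ?_⟩
    have h2 := hgc _ hy
    have h3 : g * y * g⁻¹ = y := mul_left_cancel (mul_right_cancel h2)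
    rwa [h3] at hy
  have : (C.subgroupOf N).Normal := Subgroup.normal_in_normalizer
  have hgp : IsPGroup p (Subgroup.zpowers ((⟨g, hgN⟩ : N) : N ⧸ C.subgroupOf N)) := by
    refine IsPGroup.of_card_dvd_pow (n := e) ?_
    rw [Nat.card_zpowers, orderOf_dvd_iff_pow_eq_one, ← QuotientGroup.mk_pow,
      QuotientGroup.eq_one_iff, Subgroup.mem_subgroupOf]
    exact Subgroup.mem_zpowers c
  obtain ⟨Q, hQ⟩ := hgp.exists_le_sylow
  set H₀ := (Q : Subgroup (N ⧸ C.subgroupOf N)).comap (QuotientGroup.mk' (C.subgroupOf N)) with hH₀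
  set H := H₀.map N.subtype with hH
  have hgH : g ∈ H :=
    ⟨⟨g, hgN⟩, Subgroup.mem_comap.mpr (hQ (Subgroup.mem_zpowers _)), rfl⟩
  have hCle : C.subgroupOf N ≤ H₀ := by
    intro x hx
    rw [hH₀, Subgroup.mem_comap, QuotientGroup.mk'_apply, (QuotientGroup.eq_one_iff x).mpr hx]
    exact one_mem _
  have hCH : C ≤ H := fun x hx => ⟨⟨x, hCN hx⟩, hCle hx, rfl⟩
  have hHN : H ≤ N := Subgroup.map_subtype_le H₀
  have hHsub : H.subgroupOf N = H₀ :=
    Subgroup.comap_map_eq_self_of_injective N.subtype_injective H₀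
  have hCn : (C.subgroupOf H).Normal := Subgroup.normal_subgroupOf_iff hCH |>.mpr fun x h hx hh =>
    (Subgroup.mem_normalizer_iff.mp (hHN hh) x).mp hx
  obtain ⟨k, hk⟩ : ∃ k, C.relIndex H = p ^ k := by
    obtain ⟨k, hk⟩ := IsPGroup.iff_card.mp Q.2
    refine ⟨k, ?_⟩
    have h1 : C.relIndex H = (C.subgroupOf N).relIndex H₀ := by
      rw [← hHsub, Subgroup.relIndex_subgroupOf hHN]
    rw [h1, ← hk, ← Subgroup.relIndex_bot_left (Q : Subgroup (N ⧸ C.subgroupOf N))]
    rw [← Subgroup.map_comap_eq_self_of_surjective (QuotientGroup.mk'_surjective (C.subgroupOf N))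
      (Q : Subgroup (N ⧸ C.subgroupOf N)), ← Subgroup.relIndex_comap, MonoidHom.comap_bot,
      QuotientGroup.ker_mk']
  have hqe : IsQE p H := by
    refine ⟨C.subgroupOf H, hCn, ?_, ?_, k, hk⟩
    · have : IsCyclic C := Subgroup.isCyclic_zpowers c
      exact isCyclic_of_injective (Subgroup.subgroupOfEquivOfLe hCH).toMonoidHom (MulEquiv.injective _)
    · rwa [Nat.card_congr (Subgroup.subgroupOfEquivOfLe hCH).toEquiv, Nat.card_zpowers]
  refine ⟨permChar (G ⧸ H), AddSubgroup.subset_closure ⟨H, ⟨p, hp, hqe⟩, rfl⟩, ?_⟩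
  -- fixed points of `c` are the cosets inside `N`
  let S := MulAction.fixedBy (G ⧸ H) c
  have hS : Nat.card S = (H.subgroupOf N).index := by
    symm
    refine Nat.card_congr (Equiv.ofBijective
      (fun q => ⟨Quotient.liftOn' q (fun x : N => ((x : G) : G ⧸ H))
        (fun x y h => QuotientGroup.eq.mpr (by
          rw [QuotientGroup.leftRel_apply] at h
          exact h)), ?_⟩) ⟨?_, ?_⟩)
    · induction q using Quotient.inductionOn' with
      | h x =>
        change c • ((x : G) : G ⧸ H) = ((x : G) : G ⧸ H)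
        rw [MulAction.Quotient.smul_mk, eq_comm, QuotientGroup.eq, smul_eq_mul]
        apply hCH
        rw [← mul_assoc]
        have := (Subgroup.mem_normalizer_iff.mp (inv_mem x.2) c).mp (Subgroup.mem_zpowers c)
        rwa [inv_inv] at this
    · intro q q' h
      induction q using Quotient.inductionOn' with
      | h x =>
        induction q' using Quotient.inductionOn' with
        | h y =>
          refine Quotient.sound' ?_
          rw [QuotientGroup.leftRel_apply]
          have h' : ((x : G) : G ⧸ H) = ((y : G) : G ⧸ H) := congrArg Subtype.val h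
          exact Subgroup.mem_subgroupOf.mpr (QuotientGroup.eq.mp h')
    · rintro ⟨z, hz⟩
      induction z using QuotientGroup.induction_on with
      | H x =>
        have hx : x⁻¹ * c * x ∈ H := by
          change c • (x : G ⧸ H) = x at hz
          rw [MulAction.Quotient.smul_mk, eq_comm, QuotientGroup.eq] at hz
          rw [mul_assoc]
          exact hz
        have hxC : x⁻¹ * c * x ∈ C := by
          have h1 : orderOf (⟨x⁻¹ * c * x, hx⟩ : H) = orderOf c := by
            rw [← Subgroup.orderOf_coe]
            refine Eq.trans ?_ ((MulAut.conj x⁻¹).orderOf_eq c)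
            simp [MulAut.conj_apply]
          have h2 : ((⟨x⁻¹ * c * x, hx⟩ : H) : H ⧸ C.subgroupOf H) = 1 := by
            rw [← orderOf_eq_one_iff]
            refine Nat.eq_one_of_dvd_coprimes (hcop.pow_right k) ?_ ?_
            · rw [← h1]
              exact orderOf_map_dvd (QuotientGroup.mk' (C.subgroupOf H)) _
            · rw [← hk]
              exact orderOf_dvd_natCard _
          exact (QuotientGroup.eq_one_iff (N := C.subgroupOf H) (⟨_, hx⟩ : H)).mp h2
        have hxN : x ∈ N := by
          have hle : C.map (MulAut.conj x⁻¹).toMonoidHom ≤ C := by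
            rw [hC, MonoidHom.map_zpowers, Subgroup.zpowers_le]
            simpa [MulAut.conj_apply] using hxC
          have heq : C.map (MulAut.conj x⁻¹).toMonoidHom = C :=
            Subgroup.eq_of_le_of_card_ge hle
              (Nat.card_congr (C.equivMapOfInjective _ (MulAut.conj x⁻¹).injective).toEquiv).le
          rw [← inv_mem_iff (H := N), Subgroup.mem_normalizer_iff]
          intro y
          constructor
          · intro hy
            rw [← heq]
            exact ⟨y, hy, by simp [MulAut.conj_apply]⟩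
          · intro hy
            rw [← heq] at hy
            obtain ⟨z, hz, hzy⟩ := hy
            have : z = y := by
              simpa [MulAut.conj_apply] using hzy
            rwa [← this]
        exact ⟨Quotient.mk'' ⟨x, hxN⟩, rfl⟩
  have hgc : ∀ z : G ⧸ H, z ∈ S → g • z ∈ S := by
    intro z hz
    change c • g • z = g • z
    rw [smul_smul, hc, ← pow_succ, pow_succ', ← smul_smul]
    exact congrArg (g • ·) hz
  have hgc' : ∀ z : G ⧸ H, g • z ∈ S → z ∈ S := by
    intro z hz
    change c • g • z = g • z at hz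
    rw [smul_smul, hc, ← pow_succ, pow_succ', ← smul_smul] at hz
    exact MulAction.injective g hz
  let σ : Equiv.Perm S := (MulAction.toPerm g : Equiv.Perm (G ⧸ H)).subtypePerm
    (fun z => ⟨hgc' z, hgc z⟩)
  have hpow : ∀ (m : ℕ) (z : S), (((σ ^ m) z : S) : G ⧸ H) = g ^ m • (z : G ⧸ H) := by
    intro m z
    induction m with
    | zero => simp
    | succ m ih =>
      rw [pow_succ', Equiv.Perm.mul_apply, pow_succ', ← smul_smul, ← ih]
      rfl
  have hσ : IsPGroup p (Subgroup.zpowers σ) := by
    refine IsPGroup.of_card_dvd_pow (n := e) ?_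
    rw [Nat.card_zpowers, orderOf_dvd_iff_pow_eq_one]
    refine Equiv.ext fun z => Subtype.ext ?_
    rw [hpow, ← hc]
    exact z.2
  have hmod := hσ.card_modEq_card_fixedPoints S
  have hsub : ∀ z : G ⧸ H, g • z = z → z ∈ S := by
    intro z h
    change c • z = z
    rw [hc]
    exact (MulAction.stabilizer G z).pow_mem (show g ∈ MulAction.stabilizer G z from h) _
  have hfix : Nat.card (MulAction.fixedPoints (Subgroup.zpowers σ) S) =
      Nat.card (MulAction.fixedBy (G ⧸ H) g) := by
    refine Nat.card_congr ⟨fun z => ⟨(z.1 : G ⧸ H), ?_⟩,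
      fun z => ⟨⟨z.1, hsub z.1 z.2⟩, ?_⟩, fun _ => rfl, fun _ => rfl⟩
    · exact congrArg Subtype.val (z.2 ⟨σ, Subgroup.mem_zpowers σ⟩)
    · rintro ⟨τ, hτ⟩
      have h : σ ∈ MulAction.stabilizer (Equiv.Perm S) (⟨z.1, hsub z.1 z.2⟩ : S) :=
        MulAction.mem_stabilizer_iff.mpr (Subtype.ext z.2)
      exact MulAction.mem_stabilizer_iff.mp (Subgroup.zpowers_le.mpr h hτ)
  intro hdvd
  rw [permChar, Int.natCast_dvd_natCast] at hdvd
  rw [← hfix] at hdvd
  have hpS : p ∣ Nat.card S := (Nat.modEq_zero_iff_dvd).mp (hmod.trans (Nat.modEq_zero_iff_dvd.mpr hdvd))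
  rw [hS, hHsub, hH₀, Subgroup.index_comap_of_surjective _ (QuotientGroup.mk'_surjective _)] at hpS
  exact Q.not_dvd_index hpS

/-- `1` is an integral combination of quasi-elementary permutation characters. -/
theorem one_mem_qeSpan : (1 : G → ℤ) ∈ qeSpan G := by
  classical
  have hval : ∀ g : G, ∃ f ∈ qeSpan G, f g = 1 := by
    intro g
    let I := (qeSpan G).map (Pi.evalAddMonoidHom (fun _ : G => ℤ) g)
    obtain ⟨a, ha⟩ := Int.subgroup_cyclic I
    rw [← AddSubgroup.zmultiples_eq_closure] at ha
    by_cases h1 : a.natAbs = 1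
    · have ha1 : (1 : ℤ) ∈ I := by
        rw [ha, Int.mem_zmultiples_iff]
        exact Int.natAbs_dvd_natAbs.mp (by rw [h1]; exact one_dvd _)
      obtain ⟨f, hf, hfg⟩ := ha1
      exact ⟨f, hf, hfg⟩
    · obtain ⟨p, hp, hpa⟩ := Nat.exists_prime_and_dvd h1
      obtain ⟨f, hf, hfg⟩ := exists_not_dvd g hp
      refine absurd ?_ hfg
      have hmem : f g ∈ I := ⟨f, hf, rfl⟩
      rw [ha, Int.mem_zmultiples_iff] at hmem
      exact (Int.natCast_dvd.mpr hpa).trans hmem
  have hfin : ∀ s : Finset G, ∃ f ∈ qeSpan G, ∀ g ∈ s, f g = 1 := by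
    intro s
    induction s using Finset.induction with
    | empty => exact ⟨0, zero_mem _, by simp⟩
    | insert a s _ ih =>
      obtain ⟨f, hf, hfs⟩ := ih
      obtain ⟨h, hh, hha⟩ := hval a
      refine ⟨f + h - f * h, sub_mem (add_mem hf hh) (mul_mem_qeSpan hf hh), fun g hg => ?_⟩
      rcases Finset.mem_insert.mp hg with rfl | hg
      · simp [hha]
      · simp [hfs g hg]
  have := Fintype.ofFinite G
  obtain ⟨f, hf, hf1⟩ := hfin Finset.univ
  rwa [show f = 1 from funext fun g => hf1 g (Finset.mem_univ g)] at hf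

end CfsgLib.QE
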