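import Cfsg.Agent.Lib.Char.Monomial
import Cfsg.Agent.Lib.Char.Virtual
import Cfsg.Agent.Lib.Char.QuasiElem
import Cfsg.Agent.S0190
import Mathlib.GroupTheory.Complement
import Mathlib.GroupTheory.SchurZassenhaus

/-!
# Brauer's induction theorem and characterization of characters
-/

namespace CfsgLib.Brauer

open Module CfsgLib.Char CfsgLib.Clifford
open scoped ComplexConjugate

/-- Integral combinations of characters induced from linear characters of elementary subgroups. -/
noncomputable def elemSpan (G : Type*) [Group G] [Fintype G] : AddSubgroup (G → ℂ) :=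
  AddSubgroup.closure {f | ∃ (E : Subgroup G) (lam : E →* ℂˣ),
    (∃ p : ℕ, p.Prime ∧ Cfsg.IsElementary p E) ∧ f = Cfsg.indFun E fun e => (lam e : ℂ)}

section

variable {G : Type*} [Group G] [Fintype G]

/-- Induction carries the span of a subgroup into the span of the group. -/
theorem indFun_mem_elemSpan (T : Subgroup G) [Fintype T] {f : T → ℂ} (hf : f ∈ elemSpan T) :
    Cfsg.indFun T f ∈ elemSpan G := by
  induction hf using AddSubgroup.closure_induction with
  | zero => rw [indFun_zero]; exact zero_mem _
  | add a b _ _ ha hb => rw [indFun_add]; exact add_mem ha hb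
  | neg a _ ha =>
    rw [← zero_sub a, indFun_sub, indFun_zero]
    exact sub_mem (zero_mem _) ha
  | mem a ha =>
    obtain ⟨K, lam, ⟨p, hp, hel⟩, rfl⟩ := ha
    let f : (K.map T.subtype) →* K :=
      (K.equivMapOfInjective T.subtype T.subtype_injective).symm.toMonoidHom
    refine AddSubgroup.subset_closure ⟨K.map T.subtype, lam.comp f, ⟨p, hp, ?_⟩, ?_⟩
    · exact CfsgLib.QE.isElementary_of_injective hp f (MulEquiv.injective _) hel
    · rw [← indFun_indFun (K.map T.subtype) T (Subgroup.map_subtype_le K)]
      refine congrArg _ (indFun_congr ?_ fun x => ?_)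
      · exact (Subgroup.comap_map_eq_self_of_injective T.subtype_injective K).symm
      · simp only [MonoidHom.comp_apply]
        refine congrArg (fun y => (lam y : ℂ)) ?_
        refine (K.equivMapOfInjective T.subtype T.subtype_injective).injective ?_
        refine Eq.trans ?_ (MulEquiv.apply_symm_apply _ _).symm
        rfl

theorem intCast_smul_mem {f : G → ℂ} (m : ℤ) (hf : f ∈ elemSpan G) :
    (m : ℂ) • f ∈ elemSpan G := by
  rw [Int.cast_smul_eq_zsmul]
  exact zsmul_mem hf m

/-- An elementary group is nilpotent. -/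
theorem isNilpotent_of_isElementary {p : ℕ} (hp : p.Prime) {E : Type*} [Group E] [Finite E]
    (h : Cfsg.IsElementary p E) : Group.IsNilpotent E := by
  obtain ⟨x, hx, -, k, hk⟩ := h
  have hle : Subgroup.zpowers x ≤ Subgroup.center E := Subgroup.zpowers_le.mpr hx
  have : (Subgroup.zpowers x).Normal := ⟨fun a ha g => by
    rw [Subgroup.mem_center_iff.mp (hle ha) g, mul_inv_cancel_right]
    exact ha⟩
  have hq : IsPGroup p (E ⧸ Subgroup.zpowers x) :=
    IsPGroup.of_card (by rw [← Subgroup.index_eq_card]; exact hk)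
  have := Fact.mk hp
  have := hq.isNilpotent
  exact Subgroup.isNilpotent_of_ker_le_center (QuotientGroup.mk' (Subgroup.zpowers x))
    (by rwa [QuotientGroup.ker_mk'])

/-- All generalized characters of an elementary group lie in its span. -/
theorem mem_elemSpan_of_isElementary {p : ℕ} (hp : p.Prime) (h : Cfsg.IsElementary p G)
    {θ : G → ℂ} (hθ : Cfsg.IsGeneralizedCharacter G θ) : θ ∈ elemSpan G := by
  classical
  have := Fintype.ofFinite (Cfsg.IrrCharacter G)
  have := isNilpotent_of_isElementary hp h
  obtain ⟨m, rfl⟩ := IsGen.exists_sum hθ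
  refine AddSubgroup.sum_mem _ fun ψ _ => intCast_smul_mem _ ?_
  obtain ⟨K, lam, hK⟩ := isMonomial_of_isNilpotent (ψ : G → ℂ) ψ.2
  exact AddSubgroup.subset_closure ⟨K, lam,
    ⟨p, hp, CfsgLib.QE.isElementary_of_injective hp K.subtype K.subtype_injective h⟩, hK⟩

/-- Projection formula. -/
theorem indFun_mul (H : Subgroup G) (f : H → ℂ) {χ : G → ℂ} (hχ : Cfsg.IsClassFunction G χ) :
    Cfsg.indFun H f * χ = Cfsg.indFun H (f * fun h : H => χ h) := by
  funext g
  simp only [Pi.mul_apply, Cfsg.indFun, Finset.mul_sum, Finset.sum_mul]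
  refine Finset.sum_congr rfl fun x _ => ?_
  by_cases hx : x⁻¹ * g * x ∈ H
  · rw [extendByZero_of_mem H _ hx, extendByZero_of_mem H _ hx, mul_assoc, Pi.mul_apply]
    have h := hχ g x⁻¹
    rw [inv_inv] at h
    rw [h]
  · rw [extendByZero_of_notMem H _ hx, extendByZero_of_notMem H _ hx]
    ring

/-- The span is an ideal in the generalized characters. -/
theorem mul_mem_elemSpan {f χ : G → ℂ} (hf : f ∈ elemSpan G)
    (hχ : Cfsg.IsGeneralizedCharacter G χ) : f * χ ∈ elemSpan G := by
  induction hf using AddSubgroup.closure_induction with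
  | zero => rw [zero_mul]; exact zero_mem _
  | add a b _ _ ha hb => rw [add_mul]; exact add_mem ha hb
  | neg a _ ha => rw [neg_mul]; exact neg_mem ha
  | mem a ha =>
    obtain ⟨E, lam, ⟨p, hp, hel⟩, rfl⟩ := ha
    classical
    rw [indFun_mul E _ (IsGen.isClassFunction hχ)]
    exact indFun_mem_elemSpan E (mem_elemSpan_of_isElementary hp hel
      (IsGen.mul (IsGen.of_irr (isIrrCharacter_linear lam)) (IsGen.restrict E hχ)))

theorem mem_elemSpan_of_one_mem (h1 : (1 : G → ℂ) ∈ elemSpan G) {χ : G → ℂ}
    (hχ : Cfsg.IsGeneralizedCharacter G χ) : χ ∈ elemSpan G := by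
  rw [← one_mul χ]
  exact mul_mem_elemSpan h1 hχ

end

/-- A quasi-elementary group has the trivial character in its span. -/
theorem one_mem_elemSpan_of_isQE : ∀ {G : Type*} [Group G] [Fintype G] {p : ℕ}, p.Prime →
    CfsgLib.QE.IsQE p G → (1 : G → ℂ) ∈ elemSpan G := by
  intro G _ _ p hp hQ
  classical
  induction hn : Nat.card G using Nat.strongRecOn generalizing G with
  | ind m ih =>
    have hind : ∀ (T : Subgroup G), T ≠ ⊤ → ∀ ψ : T → ℂ, Cfsg.IsGeneralizedCharacter T ψ →
        Cfsg.indFun T ψ ∈ elemSpan G := by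
      intro T hT ψ hψ
      refine indFun_mem_elemSpan T (mem_elemSpan_of_one_mem (ih _ ?_ (G := T) (hQ.of_injective hp
        T.subtype T.subtype_injective) rfl) hψ)
      rw [← hn, lt_iff_le_and_ne]
      exact ⟨T.card_le_card_group, fun h => hT (T.eq_top_of_card_eq h)⟩
    obtain ⟨C, hC, hcyc, hcop, k, hk⟩ := hQ
    by_cases hcent : C ≤ Subgroup.center G
    · obtain ⟨⟨x, hx⟩, hgen⟩ := IsCyclic.exists_generator (α := C)
      have hzx : Subgroup.zpowers x = C := by
        refine le_antisymm (Subgroup.zpowers_le.mpr hx) fun a ha => ?_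
        obtain ⟨i, hi⟩ := Subgroup.mem_zpowers_iff.mp (hgen ⟨a, ha⟩)
        exact ⟨i, congrArg Subtype.val hi⟩
      have hel : Cfsg.IsElementary p G :=
        ⟨x, hcent hx, by rwa [← Nat.card_zpowers, hzx], k, by rw [hzx, hk]⟩
      exact mem_elemSpan_of_isElementary hp hel IsGen.one
    obtain ⟨P, hP⟩ : ∃ P : Subgroup G, C.IsComplement' P :=
      Subgroup.exists_right_complement'_of_coprime (by rw [hk]; exact hcop.pow_right k)
    have hcomm : ∀ a b : C, a * b = b * a := fun a b => (IsCyclic.commutative (α := C)).is_comm.comm a b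
    set Z := C ⊓ Subgroup.centralizer (P : Set G) with hZ
    set E := Z ⊔ P with hE
    have hE' : E ≠ ⊤ := by
      intro htop
      refine hcent fun c hc => ?_
      have hPn : P.Normal := by
        refine Subgroup.normalizer_eq_top_iff.mp (top_le_iff.mp ?_)
        rw [← htop]
        refine sup_le ?_ Subgroup.le_normalizer
        intro z hz
        rw [Subgroup.mem_normalizer_iff]
        intro y
        have hzc : ∀ y ∈ P, y * z = z * y := fun y hy =>
          Subgroup.mem_centralizer_iff.mp hz.2 y hy
        constructor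
        · intro hy
          rw [← hzc y hy, mul_inv_cancel_right]
          exact hy
        · intro hy
          have h2 := hzc _ hy
          rw [inv_mul_cancel_right] at h2
          have h3 : y = z * y * z⁻¹ := mul_left_cancel h2
          rw [h3]
          exact hy
      rw [Subgroup.mem_center_iff]
      intro g
      obtain ⟨⟨a, b⟩, rfl⟩ := hP.2 g
      have h1 : (b : G) * c = c * b :=
        Subgroup.commute_of_normal_of_disjoint P C hPn hC hP.disjoint.symm b c b.2 hc
      have h2 : (a : G) * c = c * a := congrArg Subtype.val (hcomm a ⟨c, hc⟩)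
      change (a : G) * b * c = c * ((a : G) * b)
      rw [mul_assoc, h1, ← mul_assoc, h2, mul_assoc]
    -- constituents of the induced trivial character
    have := Fintype.ofFinite (Cfsg.IrrCharacter G)
    set π := Cfsg.indFun E (fun _ => (1 : ℂ)) with hπ
    have hπmem : π ∈ elemSpan G := hind E hE' _ IsGen.one
    have hrec : ∀ χ : Cfsg.IrrCharacter G, Cfsg.classInner π (χ : G → ℂ) =
        Cfsg.classInner (fun _ : E => (1 : ℂ)) (fun h : E => (χ : G → ℂ) h) :=
      fun χ => frobenius_reciprocity E _ (IsIrr.isClassFunction χ.2)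
    have hother : ∀ χ : Cfsg.IrrCharacter G, χ ≠ trivChar G →
        Cfsg.classInner π (χ : G → ℂ) ≠ 0 → (χ : G → ℂ) ∈ elemSpan G := by
      intro χ hne hmul
      obtain ⟨n, ρ, hρ, hχ⟩ := χ.2
      rw [← hχ] at hmul ⊢
      by_cases hns : ∀ a : C, ∃ c : ℂ, ρ (a : G) = c • LinearMap.id
      swap
      · obtain ⟨T, ψ, hT, -, hψ, he⟩ := exists_induced_of_not_scalar ρ C
          (fun a b => (show Commute (a : G) (b : G) from congrArg Subtype.val (hcomm a b)).map ρ) hns
        rw [he]
        exact hind T hT ψ (IsGen.of_irr hψ)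
      have hnil : Group.IsNilpotent (G ⧸ MonoidHom.ker ρ) := by
        set N := MonoidHom.ker ρ
        have hle : C ≤ (Subgroup.center (G ⧸ N)).comap (QuotientGroup.mk' N) := by
          intro a ha
          obtain ⟨c, hc⟩ := hns ⟨a, ha⟩
          rw [Subgroup.mem_comap, Subgroup.mem_center_iff]
          intro q
          induction q using QuotientGroup.induction_on with
          | H g =>
            rw [QuotientGroup.mk'_apply, ← QuotientGroup.mk_mul, ← QuotientGroup.mk_mul,
              QuotientGroup.eq, MonoidHom.mem_ker]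
            have h : ρ (g * a) = ρ (a * g) := by
              rw [map_mul, map_mul, hc]
              exact LinearMap.ext fun v => map_smul (ρ g) c v
            rw [map_mul, ← h, ← map_mul, inv_mul_cancel, map_one]
        have h := Subgroup.index_dvd_of_le hle
        rw [Subgroup.index_comap_of_surjective _ (QuotientGroup.mk'_surjective N), hk] at h
        have := Fact.mk hp
        exact Group.of_quotient_center_nilpotent
          (IsPGroup.of_card_dvd_pow (n := k) (by rwa [← Subgroup.index_eq_card])).isNilpotent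
      by_cases h1 : finrank ℂ (Fin n → ℂ) = 1
      · exfalso
        obtain ⟨l, hl⟩ := exists_linear_of_degree_one (isCharacter_rep ρ)
          (by rw [Representation.char_one, h1, Nat.cast_one])
        have hlE : ∀ e : E, l (e : G) = 1 := by
          by_contra hne2
          refine hmul ?_
          rw [hχ, hrec χ, ← hχ, hl]
          have hne3 : trivChar E ≠ ⟨_, isIrrCharacter_linear (l.comp E.subtype)⟩ := by
            intro h
            refine hne2 fun e => Units.ext ?_
            exact (congrFun (congrArg Subtype.val h) e).symm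
          exact classInner_irr_of_ne hne3
        have hlP : ∀ x ∈ P, l x = 1 := fun x hx => hlE ⟨x, (le_sup_right : P ≤ E) hx⟩
        have hlZ : ∀ x ∈ Z, l x = 1 := fun x hx => hlE ⟨x, (le_sup_left : Z ≤ E) hx⟩
        have hlC : ∀ x ∈ C, l x = 1 := by
          intro x hx
          let _ : CommGroup C := { (inferInstance : Group C) with mul_comm := hcomm }
          let cj : G →* MulAut C := MulAut.conjNormal
          let Nm : C := ∏ y : P, cj (y : G) ⟨x, hx⟩
          have hNm : (Nm : G) ∈ Z := by
            refine ⟨Nm.2, Subgroup.mem_centralizer_iff.mpr fun q hq => ?_⟩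
            have h : cj q Nm = Nm := by
              simp only [Nm, map_prod]
              refine Fintype.prod_equiv (Equiv.mulLeft (⟨q, hq⟩ : P)) _ _ fun y => ?_
              rw [Equiv.coe_mulLeft, Subgroup.coe_mul, map_mul, MulAut.mul_apply]
            have h2 := congrArg Subtype.val h
            rw [MulAut.conjNormal_apply] at h2
            exact mul_inv_eq_iff_eq_mul.mp h2
          have h1 : l (Nm : G) = l x ^ Nat.card P := by
            change (l.comp C.subtype) Nm = _
            rw [map_prod, Finset.prod_congr rfl (g := fun _ => l x), Finset.prod_const,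
              Finset.card_univ, Nat.card_eq_fintype_card]
            intro y _
            simp only [MonoidHom.comp_apply, Subgroup.coe_subtype]
            rw [MulAut.conjNormal_apply, map_mul, map_mul, mul_comm (l (y : G)), mul_assoc,
              ← map_mul, mul_inv_cancel, map_one, mul_one]
          rw [hlZ _ hNm] at h1
          have h2 : l x ^ Nat.card C = 1 := by
            have h := congrArg (l.comp C.subtype) (pow_card_eq_one' (x := (⟨x, hx⟩ : C)))
            rwa [map_pow, map_one] at h
          have hcopP : (Nat.card P).Coprime (Nat.card C) := by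
            rw [← hP.symm.index_eq_card, hk]
            exact (hcop.pow_right k).symm
          rw [← orderOf_eq_one_iff]
          exact Nat.eq_one_of_dvd_coprimes hcopP (orderOf_dvd_of_pow_eq_one h1.symm)
            (orderOf_dvd_of_pow_eq_one h2)
        refine hne (Subtype.ext ?_)
        funext g
        rw [trivChar_apply, ← hχ, hl]
        obtain ⟨⟨a, b⟩, rfl⟩ := hP.2 g
        simp [hlC a a.2, hlP b b.2]
      · obtain ⟨A, hA, hAc, hAns⟩ := exists_normal_commute_not_scalar ρ hnil h1
        obtain ⟨T, ψ, hT, -, hψ, he⟩ := exists_induced_of_not_scalar ρ A hAc hAns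
        rw [he]
        exact hind T hT ψ (IsGen.of_irr hψ)
    have htriv : Cfsg.classInner π ((trivChar G : Cfsg.IrrCharacter G) : G → ℂ) = 1 := by
      rw [hrec]
      exact classInner_irr_self (trivChar E)
    have hsum := classFunction_eq_sum (isClassFunction_indFun E (fun _ : E => (1 : ℂ)))
    rw [← Finset.add_sum_erase _ _ (Finset.mem_univ (trivChar G)), htriv, one_smul] at hsum
    have hrest : ∑ χ ∈ Finset.univ.erase (trivChar G),
        Cfsg.classInner π (χ : G → ℂ) • (χ : G → ℂ) ∈ elemSpan G := by
      refine AddSubgroup.sum_mem _ fun χ hχ => ?_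
      obtain ⟨d, hd⟩ := IsGen.exists_classInner_eq_intCast (G := G)
        (IsGen.indFun (IsGen.one : Cfsg.IsGeneralizedCharacter E _)) (IsGen.of_irr χ.2)
      by_cases h0 : Cfsg.classInner π (χ : G → ℂ) = 0
      · rw [h0, zero_smul]; exact zero_mem _
      · rw [show Cfsg.classInner π (χ : G → ℂ) = (d : ℂ) from hd]
        exact intCast_smul_mem d (hother χ (Finset.mem_erase.mp hχ).1 h0)
    have : (1 : G → ℂ) = π - ∑ χ ∈ Finset.univ.erase (trivChar G),
        Cfsg.classInner π (χ : G → ℂ) • (χ : G → ℂ) := by
      rw [eq_sub_iff_add_eq]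
      exact hsum.symm
    rw [this]
    exact sub_mem hπmem hrest

variable {G : Type*} [Group G] [Fintype G]

/-- The trivial character is in the span. -/
theorem one_mem_elemSpan : (1 : G → ℂ) ∈ elemSpan G := by
  classical
  have h := CfsgLib.QE.one_mem_qeSpan (G := G)
  have hmap : ∀ f ∈ CfsgLib.QE.qeSpan G, (fun g => (f g : ℂ)) ∈ elemSpan G := by
    intro f hf
    induction hf using AddSubgroup.closure_induction with
    | zero => exact (show (fun g : G => (((0 : G → ℤ) g) : ℂ)) = 0 by funext g; simp) ▸ zero_mem _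
    | add a b _ _ ha hb =>
      rw [show (fun g => ((a + b) g : ℂ)) = (fun g => (a g : ℂ)) + (fun g => (b g : ℂ)) by
        funext g; simp]
      exact add_mem ha hb
    | neg a _ ha =>
      rw [show (fun g => ((-a) g : ℂ)) = -(fun g => (a g : ℂ)) by funext g; simp]
      exact neg_mem ha
    | mem a ha =>
      obtain ⟨H, ⟨p, hp, hH⟩, rfl⟩ := ha
      have h1 := Cfsg.Agent.S0190.result (G := G) (G ⧸ H) ((1 : G) : G ⧸ H)
      have h2 : (fun g => (CfsgLib.QE.permChar (G ⧸ H) g : ℂ)) =
          Cfsg.indFun H (fun _ => (1 : ℂ)) := by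
        rw [← indFun_congr (θ := fun _ => (1 : ℂ)) (MulAction.stabilizer_quotient H) fun _ => rfl,
          ← h1]
        funext g
        simp [CfsgLib.QE.permChar]
      rw [h2]
      exact indFun_mem_elemSpan H (one_mem_elemSpan_of_isQE hp hH)
  have h3 := hmap 1 h
  rwa [show (fun g : G => ((1 : G → ℤ) g : ℂ)) = 1 by funext g; simp] at h3

/-- Every generalized character is in the span (Brauer). -/
theorem mem_elemSpan {χ : G → ℂ} (hχ : Cfsg.IsGeneralizedCharacter G χ) : χ ∈ elemSpan G :=
  mem_elemSpan_of_one_mem one_mem_elemSpan hχ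

/-- Brauer's characterization of generalized characters. -/
theorem isGeneralizedCharacter_of_elementary {θ : G → ℂ} (hθ : Cfsg.IsClassFunction G θ)
    (hE : ∀ (E : Subgroup G) (p : ℕ), p.Prime → Cfsg.IsElementary p E →
      Cfsg.IsGeneralizedCharacter E (fun e : E => θ e)) :
    Cfsg.IsGeneralizedCharacter G θ := by
  have key : ∀ f ∈ elemSpan G, Cfsg.IsGeneralizedCharacter G (f * θ) := by
    intro f hf
    induction hf using AddSubgroup.closure_induction with
    | zero => rw [zero_mul]; exact IsGen.zero
    | add a b _ _ ha hb => rw [add_mul]; exact IsGen.add ha hb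
    | neg a _ ha => rw [neg_mul]; exact IsGen.neg ha
    | mem a ha =>
      obtain ⟨E, lam, ⟨p, hp, hel⟩, rfl⟩ := ha
      rw [indFun_mul E _ hθ]
      exact IsGen.indFun (IsGen.mul (IsGen.of_irr (isIrrCharacter_linear lam)) (hE E p hp hel))
  have h := key 1 one_mem_elemSpan
  rwa [one_mul] at h

/-- List form of Brauer induction. -/
theorem exists_list {χ : G → ℂ} (hχ : Cfsg.IsGeneralizedCharacter G χ) :
    ∃ l : List ((E : Subgroup G) × ((E →* ℂˣ) × ℤ)),
      (∀ t ∈ l, ∃ p : ℕ, p.Prime ∧ Cfsg.IsElementary p t.1) ∧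
      χ = (l.map fun t => (t.2.2 : ℂ) • Cfsg.indFun t.1 (fun e => (t.2.1 e : ℂ))).sum := by
  refine AddSubgroup.closure_induction (p := fun f _ => ∃ l : List ((E : Subgroup G) × ((E →* ℂˣ) × ℤ)),
      (∀ t ∈ l, ∃ p : ℕ, p.Prime ∧ Cfsg.IsElementary p t.1) ∧
      f = (l.map fun t => (t.2.2 : ℂ) • Cfsg.indFun t.1 (fun e => (t.2.1 e : ℂ))).sum)
    ?_ ?_ ?_ ?_ (mem_elemSpan hχ)
  · rintro _ ⟨E, lam, hel, rfl⟩
    exact ⟨[⟨E, lam, 1⟩], by simpa using hel, by simp⟩
  · exact ⟨[], by simp, by simp⟩
  · rintro a b - - ⟨l, hl, rfl⟩ ⟨l', hl', rfl⟩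
    refine ⟨l ++ l', fun t ht => (List.mem_append.mp ht).elim (hl t) (hl' t), ?_⟩
    rw [List.map_append, List.sum_append]
  · rintro a - ⟨l, hl, rfl⟩
    refine ⟨l.map fun t => ⟨t.1, t.2.1, -t.2.2⟩, fun t ht => ?_, ?_⟩
    · obtain ⟨u, hu, rfl⟩ := List.mem_map.mp ht
      exact hl u hu
    · clear hl
      induction l with
      | nil => simp
      | cons u l ih =>
        simp only [List.map_cons, List.sum_cons, neg_add, ih, Int.cast_neg, neg_smul]

end CfsgLib.Brauer
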