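import Cfsg.Agent.Lib.Char.Clifford
import Cfsg.Agent.Lib.Char.TI
import Cfsg.Agent.Lib.Char.DegreeCenter
import Mathlib.GroupTheory.Nilpotent

/-!
# Nilpotent groups are monomial; Itô's degree theorem
-/

namespace CfsgLib.Clifford

open Module CfsgLib.Char

/-- A nontrivial nilpotent group has nontrivial centre. -/
theorem center_ne_bot_of_nilpotent (G : Type*) [Group G] [Group.IsNilpotent G] [Nontrivial G] :
    Subgroup.center G ≠ ⊥ := by
  intro h
  obtain ⟨n, hn⟩ := Group.IsNilpotent.nilpotent G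
  have hbot : ∀ k, Subgroup.upperCentralSeries G k = ⊥ := by
    intro k
    induction k with
    | zero => simp
    | succ k ih =>
      rw [eq_bot_iff]
      intro x hx
      rw [Subgroup.mem_upperCentralSeries_succ_iff] at hx
      rw [← h, Subgroup.mem_center_iff]
      intro y
      have hxy := hx y
      rw [ih, Subgroup.mem_bot] at hxy
      exact (commutatorElement_eq_one_iff_mul_comm.mp hxy).symm
  exact bot_ne_top (α := Subgroup G) ((hbot n).symm.trans hn)

variable {G : Type*} [Group G] [Finite G] {V : Type*} [AddCommGroup V] [Module ℂ V]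
  [FiniteDimensional ℂ V]

omit [Finite G] in
/-- If every operator is scalar, an irreducible representation has dimension one. -/
theorem finrank_eq_one_of_all_scalar (ρ : Representation ℂ G V) [ρ.IsIrreducible]
    (h : ∀ g, ∃ c : ℂ, ρ g = c • LinearMap.id) : finrank ℂ V = 1 := by
  have := CfsgLib.CharIntegral.nontrivial_of_irreducible ρ
  obtain ⟨v, hv⟩ := exists_ne (0 : V)
  have htop : ℂ ∙ v = ⊤ := by
    refine CfsgLib.CharWeights.eq_top_of_invariant ρ _ (fun g x hx => ?_)
      (by simpa [Submodule.span_singleton_eq_bot] using hv)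
    obtain ⟨c, hc⟩ := h g
    rw [hc]
    exact Submodule.smul_mem _ c hx
  rw [← finrank_top ℂ V, ← htop, finrank_span_singleton hv]

/-- A representation with commutative image and irreducible is one-dimensional. -/
theorem finrank_eq_one_of_commute (ρ : Representation ℂ G V) [ρ.IsIrreducible]
    (h : ∀ a b : G, Commute (ρ a) (ρ b)) : finrank ℂ V = 1 :=
  finrank_eq_one_of_all_scalar ρ fun g =>
    CfsgLib.CharIntegral.exists_scalar_of_commute ρ _ fun x => (h g x).eq

/-- In a nilpotent linear group of degree `> 1` some normal subgroup has commutative non-scalar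
image. -/
theorem exists_normal_commute_not_scalar (ρ : Representation ℂ G V) [ρ.IsIrreducible]
    (hnil : Group.IsNilpotent (G ⧸ MonoidHom.ker ρ)) (h1 : finrank ℂ V ≠ 1) :
    ∃ A : Subgroup G, A.Normal ∧ (∀ a b : A, Commute (ρ (a : G)) (ρ (b : G))) ∧
      ¬ ∀ a : A, ∃ c : ℂ, ρ (a : G) = c • LinearMap.id := by
  set N := MonoidHom.ker ρ with hN
  have hker : ∀ x y : G, (x : G ⧸ N) = (y : G ⧸ N) → ρ x = ρ y := fun x y h => by
    rw [← mul_inv_cancel_left x y, map_mul, show ρ (x⁻¹ * y) = 1 from QuotientGroup.eq.mp h, mul_one]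
  have hnc : Subgroup.center (G ⧸ N) ≠ ⊤ := by
    intro hc
    refine h1 (finrank_eq_one_of_commute ρ fun a b => ?_)
    have h := Subgroup.mem_center_iff.mp (hc ▸ Subgroup.mem_top (a : G ⧸ N)) (b : G ⧸ N)
    rw [Commute, SemiconjBy, ← map_mul, ← map_mul]
    exact hker _ _ h.symm
  set Z := Subgroup.center (G ⧸ N) with hZ
  have : Nontrivial ((G ⧸ N) ⧸ Z) := by
    obtain ⟨x, hx⟩ : ∃ x, x ∉ Z := by
      by_contra h0
      push Not at h0
      exact hnc ((Subgroup.eq_top_iff' Z).mpr h0)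
    exact ⟨⟨(x : (G ⧸ N) ⧸ Z), 1, fun h => hx ((QuotientGroup.eq_one_iff x).mp h)⟩⟩
  have hcn : Nontrivial (Subgroup.center ((G ⧸ N) ⧸ Z)) :=
    (Subgroup.nontrivial_iff_ne_bot _).mpr fun h => by
      exact absurd h (CfsgLib.Clifford.center_ne_bot_of_nilpotent ((G ⧸ N) ⧸ Z))
  obtain ⟨z, hz⟩ := exists_ne (1 : Subgroup.center ((G ⧸ N) ⧸ Z))
  let A₀ : Subgroup (G ⧸ N) := (Subgroup.zpowers (z : (G ⧸ N) ⧸ Z)).comap (QuotientGroup.mk' Z)
  have hA₀ : A₀.Normal := by
    refine Subgroup.Normal.comap ⟨fun x hx g => ?_⟩ _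
    obtain ⟨k, rfl⟩ := Subgroup.mem_zpowers_iff.mp hx
    rw [Subgroup.mem_center_iff.mp (zpow_mem z.2 k) g, mul_inv_cancel_right]
    exact hx
  obtain ⟨w, hw⟩ := QuotientGroup.mk'_surjective Z (z : (G ⧸ N) ⧸ Z)
  have hA₀c : ∀ a ∈ A₀, ∀ b ∈ A₀, a * b = b * a := by
    have hform : ∀ a ∈ A₀, ∃ (i : ℤ), ∃ c ∈ Z, a = w ^ i * c := by
      intro a ha
      obtain ⟨i, hi⟩ := Subgroup.mem_zpowers_iff.mp (Subgroup.mem_comap.mp ha)
      refine ⟨i, (w ^ i)⁻¹ * a, ?_, by group⟩
      rw [← hw, ← map_zpow] at hi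
      exact QuotientGroup.eq.mp hi
    intro a ha b hb
    obtain ⟨i, c, hc, rfl⟩ := hform a ha
    obtain ⟨j, d, hd, rfl⟩ := hform b hb
    have hc' := Subgroup.mem_center_iff.mp hc
    have hd' := Subgroup.mem_center_iff.mp hd
    calc w ^ i * c * (w ^ j * d) = w ^ i * (c * w ^ j) * d := by group
      _ = w ^ i * (w ^ j * c) * d := by rw [← hc' (w ^ j)]
      _ = w ^ i * w ^ j * (c * d) := by group
      _ = w ^ j * w ^ i * (d * c) := by rw [(Commute.zpow_zpow_self w i j).eq, hd' c]
      _ = w ^ j * (w ^ i * d) * c := by group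
      _ = w ^ j * (d * w ^ i) * c := by rw [hd' (w ^ i)]
      _ = w ^ j * d * (w ^ i * c) := by group
  refine ⟨A₀.comap (QuotientGroup.mk' N), hA₀.comap _, fun a b => ?_, fun hall => ?_⟩
  · rw [Commute, SemiconjBy, ← map_mul, ← map_mul]
    exact hker _ _ (hA₀c _ a.2 _ b.2)
  · obtain ⟨u, hu⟩ := QuotientGroup.mk'_surjective N w
    obtain ⟨c, hc⟩ := hall ⟨u, by
      rw [Subgroup.mem_comap, hu, Subgroup.mem_comap, hw]
      exact Subgroup.mem_zpowers _⟩
    refine hz (Subtype.ext ?_)
    have hwZ : w ∈ Z := by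
      rw [Subgroup.mem_center_iff]
      intro g
      obtain ⟨g, rfl⟩ := QuotientGroup.mk'_surjective N g
      rw [← hu, ← map_mul, ← map_mul]
      refine QuotientGroup.eq.mpr ?_
      rw [hN, MonoidHom.mem_ker]
      have hcomm : ρ (g * u) = ρ (u * g) := by
        rw [map_mul, map_mul, hc]
        exact LinearMap.ext fun v => map_smul (ρ g) c v
      rw [map_mul, ← hcomm, ← map_mul, inv_mul_cancel, map_one]
    rw [← hw]
    exact (QuotientGroup.eq_one_iff w).mpr hwZ

/-- Congruence for induction along equal subgroups. -/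
theorem indFun_congr [Fintype G] {K K' : Subgroup G} (h : K = K') {θ : K → ℂ} {θ' : K' → ℂ}
    (hθ : ∀ x : K, θ x = θ' ⟨x, h ▸ x.2⟩) : Cfsg.indFun K θ = Cfsg.indFun K' θ' := by
  subst h
  exact congrArg _ (funext hθ)

/-- Monomiality passes through induction. -/
theorem monomial_of_indFun [Fintype G] (T : Subgroup G) [Fintype T] {ψ : T → ℂ}
    (h : ∃ (K : Subgroup T) (lam : K →* ℂˣ), ψ = Cfsg.indFun K fun x => (lam x : ℂ)) :
    ∃ (K : Subgroup G) (lam : K →* ℂˣ),
      Cfsg.indFun T ψ = Cfsg.indFun K fun x => (lam x : ℂ) := by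
  obtain ⟨K, lam, rfl⟩ := h
  let f : (K.map T.subtype) →* K :=
    (K.equivMapOfInjective T.subtype T.subtype_injective).symm.toMonoidHom
  refine ⟨K.map T.subtype, lam.comp f, ?_⟩
  rw [← indFun_indFun (K.map T.subtype) T (Subgroup.map_subtype_le K)]
  refine congrArg _ (indFun_congr ?_ fun x => ?_)
  · exact (Subgroup.comap_map_eq_self_of_injective T.subtype_injective K).symm
  · simp only [MonoidHom.comp_apply]
    refine congrArg (fun y => (lam y : ℂ)) ?_
    refine (K.equivMapOfInjective T.subtype T.subtype_injective).injective ?_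
    refine Eq.trans ?_ (MulEquiv.apply_symm_apply _ _).symm
    rfl

theorem monomial_linear [Fintype G] (lam : G →* ℂˣ) :
    (fun g => (lam g : ℂ)) =
      Cfsg.indFun (⊤ : Subgroup G) fun x => ((lam.comp (⊤ : Subgroup G).subtype) x : ℂ) := by
  funext g
  rw [Cfsg.indFun, Finset.sum_congr rfl (g := fun _ => (lam g : ℂ)), Finset.sum_const,
    nsmul_eq_mul, Subgroup.card_top, Nat.card_eq_fintype_card, ← Finset.card_univ, ← mul_assoc,
    inv_mul_cancel₀ (Nat.cast_ne_zero.mpr (Finset.card_ne_zero.mpr Finset.univ_nonempty)), one_mul]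
  intro x _
  rw [extendByZero_of_mem _ _ (Subgroup.mem_top _)]
  simp only [MonoidHom.comp_apply, Subgroup.coe_subtype, map_mul, map_inv]
  rw [mul_comm (lam x)⁻¹, mul_assoc, inv_mul_cancel, mul_one]

/-- Nilpotent groups are monomial. -/
theorem isMonomial_of_isNilpotent : ∀ {G : Type*} [Group G] [Fintype G] [Group.IsNilpotent G]
    (χ : G → ℂ), Cfsg.IsIrrCharacter G χ →
      ∃ (H : Subgroup G) (lam : H →* ℂˣ), χ = Cfsg.indFun H fun h => (lam h : ℂ) := by
  intro G _ _ _ χ hχ
  classical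
  induction hn : Nat.card G using Nat.strongRecOn generalizing G with
  | ind m ih =>
    obtain ⟨n, ρ, hρ, rfl⟩ := hχ
    by_cases h1 : finrank ℂ (Fin n → ℂ) = 1
    · obtain ⟨l, hl⟩ := exists_linear_of_degree_one (isCharacter_rep ρ)
        (by rw [Representation.char_one, h1, Nat.cast_one])
      exact ⟨⊤, _, hl.trans (monomial_linear l)⟩
    · obtain ⟨A, hA, hcomm, hns⟩ := exists_normal_commute_not_scalar ρ inferInstance h1
      obtain ⟨T, ψ, hT, -, hψ, he⟩ := exists_induced_of_not_scalar ρ A hcomm hns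
      rw [he]
      refine monomial_of_indFun T (ih _ ?_ (G := T) ψ hψ rfl)
      rw [← hn, lt_iff_le_and_ne]
      exact ⟨T.card_le_card_group, fun h => hT (T.eq_top_of_card_eq h)⟩

/-- Itô: the degree divides the index of an abelian normal subgroup. -/
theorem finrank_dvd_index : ∀ {G : Type*} [Group G] [Finite G] (n : ℕ)
    (ρ : Representation ℂ G (Fin n → ℂ)) [ρ.IsIrreducible] (A : Subgroup G) [A.Normal],
    (∀ a ∈ A, ∀ b ∈ A, a * b = b * a) → finrank ℂ (Fin n → ℂ) ∣ A.index := by
  intro G _ _ n ρ _ A _ hA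
  classical
  induction hn : Nat.card G using Nat.strongRecOn generalizing G n with
  | ind m ih =>
    have := Fintype.ofFinite G
    by_cases hs : ∀ a : A, ∃ c : ℂ, ρ (a : G) = c • LinearMap.id
    · exact CfsgLib.CharIntegral.finrank_dvd_index_of_scalar ρ hs
    obtain ⟨T, ψ, hT, hAT, hψ, he⟩ := exists_induced_of_not_scalar ρ A
      (fun a b => (show Commute (a : G) (b : G) from hA a a.2 b b.2).map ρ) hs
    obtain ⟨k, σ, hσ, rfl⟩ := hψ
    have hlt : Nat.card T < m := by
      rw [← hn, lt_iff_le_and_ne]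
      exact ⟨T.card_le_card_group, fun h => hT (T.eq_top_of_card_eq h)⟩
    have hdvd := ih _ hlt k σ (A.subgroupOf T) (fun a ha b hb => by
      exact Subtype.ext (hA a ha b hb)) rfl
    have h1 : finrank ℂ (Fin n → ℂ) = T.index * finrank ℂ (Fin k → ℂ) := by
      have h := congrFun he 1
      rw [indFun_apply_one, Representation.char_one, Representation.char_one] at h
      exact_mod_cast h
    rw [h1, ← Subgroup.relIndex_mul_index hAT, mul_comm (A.relIndex T)]
    exact Nat.mul_dvd_mul_left _ hdvd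

end CfsgLib.Clifford
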