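import Cfsg.Agent.Lib.Char.CliffordCorr
import Cfsg.Agent.Lib.Char.Gallagher
import Cfsg.Agent.Lib.Char.Monomial

/-!
# Induction from a normal subgroup with abelian inertia quotient
-/

namespace CfsgLib.Clifford

open CfsgLib.Char CfsgLib.Gallagher
open scoped ComplexConjugate
open Module

theorem apply_one_eq_one_of_commute {A : Type*} [Group A] [Finite A]
    (hA : ∀ a b : A, a * b = b * a) (l : Cfsg.IrrCharacter A) : (l : A → ℂ) 1 = 1 := by
  obtain ⟨n, ρ, hρ, hc⟩ := l.2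
  have := hρ
  rw [← hc, Representation.char_one, finrank_eq_one_of_commute ρ (fun a b => by
    rw [Commute, SemiconjBy, ← map_mul, ← map_mul, hA]), Nat.cast_one]

variable {G : Type*} [Group G] [Fintype G] {N : Subgroup G} [Fintype N] (hN : N.Normal)
variable {θ : N → ℂ} (hθ : Cfsg.IsIrrCharacter N θ) {T : Subgroup G} [Fintype T] (hle : N ≤ T)

include hN hθ in
/-- With abelian quotient, all characters over `θ` have the same multiplicity. -/
theorem resTo_eq_of_abelian (hab : ∀ x ∈ T, ∀ y ∈ T, x * y * x⁻¹ * y⁻¹ ∈ N) {ψ₀ ψ : T → ℂ}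
    (hψ₀ : Cfsg.IsIrrCharacter T ψ₀) (hψ : Cfsg.IsIrrCharacter T ψ) {e : ℕ} (he : 0 < e)
    (hres : resTo hle ψ₀ = (e : ℂ) • θ) (hc : Cfsg.classInner (resTo hle ψ) θ ≠ 0) :
    resTo hle ψ = (e : ℂ) • θ := by
  classical
  let M := N.subgroupOf T
  have hM : M.Normal := hN.subgroupOf T
  have := Fintype.ofFinite M
  have := Fintype.ofFinite (Cfsg.IrrCharacter (T ⧸ M))
  let f : M ≃* N := Subgroup.subgroupOfEquivOfLe hle
  have hcomm : ∀ a b : T ⧸ M, a * b = b * a := by
    intro a b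
    induction a using QuotientGroup.induction_on with
    | H x =>
      induction b using QuotientGroup.induction_on with
      | H y =>
        rw [← QuotientGroup.mk_mul, ← QuotientGroup.mk_mul, QuotientGroup.eq]
        have h := hab _ (inv_mem y.2) _ (inv_mem x.2)
        show ((x : G) * y)⁻¹ * (y * x) ∈ N
        convert h using 1
        group
  have h : Cfsg.classInner (Cfsg.indFun M fun m : M => ψ₀ m) ψ ≠ 0 := by
    rw [frobenius_reciprocity M _ (IsIrr.isClassFunction hψ),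
      show (fun m : M => ψ₀ m) = (e : ℂ) • fun m : M => θ (f m) from
        funext fun m => congrFun hres (f m), classInner_smul_left,
      ← classInner_conj_symm]
    refine mul_ne_zero (Nat.cast_ne_zero.mpr he.ne') ?_
    rw [map_ne_zero]
    rw [show Cfsg.classInner (fun m : M => ψ m) (fun m => θ (f m)) =
      Cfsg.classInner (resTo hle ψ) θ from classInner_comp_equiv f (resTo hle ψ) θ]
    exact hc
  rw [indFun_restrict_eq_sum (IsIrr.isClassFunction hψ₀), classInner_sum_left] at h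
  obtain ⟨l, -, hl⟩ := Finset.exists_ne_zero_of_sum_ne_zero h
  rw [classInner_smul_left] at hl
  have hl1 := apply_one_eq_one_of_commute hcomm l
  obtain ⟨L, hL⟩ := exists_linear_of_degree_one (IsIrr.isCharacter l.2) hl1
  have hirr : Cfsg.IsIrrCharacter T (twistBy ψ₀ (l : T ⧸ M → ℂ)) := by
    refine IsChar.isIrr_of_classInner_eq_one
      (isCharacter_twistBy (IsIrr.isCharacter hψ₀) (IsIrr.isCharacter l.2)) ?_
    have hone : Cfsg.classInner ψ₀ ψ₀ = 1 := classInner_irr_self ⟨ψ₀, hψ₀⟩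
    refine Eq.trans ?_ hone
    simp only [Cfsg.classInner, twistBy_apply, map_mul]
    congr 1
    refine Finset.sum_congr rfl fun t _ => ?_
    have hu : (l : T ⧸ M → ℂ) (QuotientGroup.mk' M t) *
        conj ((l : T ⧸ M → ℂ) (QuotientGroup.mk' M t)) = 1 := by
      rw [← IsIrr.map_inv l.2, hL]
      show (L _ : ℂ) * (L _ : ℂ) = 1
      rw [← Units.val_mul, ← map_mul, mul_inv_cancel, map_one, Units.val_one]
    linear_combination (ψ₀ t * conj (ψ₀ t)) * hu
  have heq : ψ = twistBy ψ₀ (l : T ⧸ M → ℂ) := by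
    by_contra hne
    exact right_ne_zero_of_mul hl (classInner_irr_of_ne (χ := ⟨_, hirr⟩) (ψ := ⟨ψ, hψ⟩)
      fun e' => hne (congrArg Subtype.val e').symm)
  rw [heq, ← hres]
  funext n
  show twistBy ψ₀ (l : T ⧸ M → ℂ) ⟨n, hle n.2⟩ = ψ₀ ⟨n, hle n.2⟩
  have h2 := twistBy_apply_coe ψ₀ (l : T ⧸ M → ℂ) (f.symm n)
  rw [hl1, one_mul] at h2
  exact h2

variable (hT : ∀ g, g ∈ T ↔ conjFn hN θ g = θ)

include hN hθ hT in
theorem indFun_of_abelian_inertia (hab : ∀ x ∈ T, ∀ y ∈ T, x * y * x⁻¹ * y⁻¹ ∈ N) {ψ₀ : T → ℂ}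
    (hψ₀ : Cfsg.IsIrrCharacter T ψ₀) {e : ℕ} (he : 0 < e)
    (hres : resTo hle ψ₀ = (e : ℂ) • θ) :
    ∃ C : Finset (G → ℂ), (∀ χ ∈ C, Cfsg.IsIrrCharacter G χ) ∧
      e ^ 2 * C.card * Nat.card N = Nat.card T ∧ Cfsg.indFun N θ = (e : ℂ) • ∑ χ ∈ C, χ ∧
      ∀ χ ∈ C, χ 1 = (T.index : ℂ) * e * θ 1 := by
  classical
  have := Fintype.ofFinite (Cfsg.IrrCharacter G)
  set S : Finset (Cfsg.IrrCharacter G) := Finset.univ.filter fun χ : Cfsg.IrrCharacter G =>
    Cfsg.classInner (fun n : N => (χ : G → ℂ) n) θ ≠ 0 with hS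
  have hmult : ∀ χ ∈ S, Cfsg.classInner (fun n : N => (χ : G → ℂ) n) θ = e ∧
      (χ : G → ℂ) 1 = (T.index : ℂ) * e * θ 1 := by
    intro χ hχ
    obtain ⟨ψ, hψ, hψc, hm, hind⟩ := exists_over_inertia hN hθ hT hle χ
      (Finset.mem_filter.mp hχ).2
    have hr := resTo_eq_of_abelian hN hθ hle hab hψ₀ hψ he hres hψc
    refine ⟨?_, ?_⟩
    · rw [← hm, hr, classInner_smul_left]
      exact (congrArg ((e : ℂ) * ·) (classInner_irr_self ⟨θ, hθ⟩)).trans (mul_one _)
    · rw [← hind, indFun_apply_one, mul_assoc]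
      congr 1
      exact congrFun hr 1
  have hdecomp : Cfsg.indFun N θ = (e : ℂ) • ∑ χ ∈ S, (χ : G → ℂ) := by
    conv_lhs => rw [classFunction_eq_sum (isClassFunction_indFun N θ)]
    rw [Finset.smul_sum, hS, Finset.sum_filter]
    refine Finset.sum_congr rfl fun χ _ => ?_
    rw [frobenius_reciprocity N θ (IsIrr.isClassFunction χ.2), ← classInner_conj_symm]
    by_cases h : Cfsg.classInner (fun n : N => (χ : G → ℂ) n) θ = 0
    · rw [if_neg (not_not.mpr h), h, map_zero, zero_smul]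
    · rw [if_pos h, (hmult χ (Finset.mem_filter.mpr ⟨Finset.mem_univ _, h⟩)).1, map_natCast]
  refine ⟨S.image Subtype.val, fun χ hχ => ?_, ?_, ?_, fun χ hχ => ?_⟩
  · obtain ⟨φ, -, rfl⟩ := Finset.mem_image.mp hχ
    exact φ.2
  · rw [Finset.card_image_of_injective _ Subtype.val_injective]
    have h := congrFun hdecomp 1
    rw [indFun_apply_one, Pi.smul_apply, Finset.sum_apply,
      Finset.sum_congr rfl fun χ hχ => (hmult χ hχ).2, Finset.sum_const, nsmul_eq_mul,
      smul_eq_mul] at h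
    have h2 : (N.index : ℂ) = (e : ℂ) ^ 2 * S.card * T.index :=
      mul_right_cancel₀ (IsIrr.apply_one_ne_zero hθ) (by linear_combination h)
    have h3 : N.index = e ^ 2 * S.card * T.index := by exact_mod_cast h2
    have h4 := N.card_mul_index
    rw [h3, ← T.card_mul_index] at h4
    exact Nat.eq_of_mul_eq_mul_right (Nat.pos_of_ne_zero Subgroup.index_ne_zero_of_finite)
      (by linarith)
  · rw [Finset.sum_image fun a _ b _ h => Subtype.val_injective h]
    exact hdecomp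
  · obtain ⟨φ, hφ, rfl⟩ := Finset.mem_image.mp hχ
    exact (hmult φ hφ).2

end CfsgLib.Clifford
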