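import Cfsg.Agent.Lib.Char.CliffordRestrict

/-!
# The Clifford correspondence
-/

namespace CfsgLib.Clifford

open CfsgLib.Char
open scoped ComplexConjugate

variable {G : Type*} [Group G]

section Equiv

theorem classInner_comp_equiv {A B : Type*} [Group A] [Fintype A] [Group B] [Fintype B]
    (e : A ≃* B) (φ ψ : B → ℂ) :
    Cfsg.classInner (fun a => φ (e a)) (fun a => ψ (e a)) = Cfsg.classInner φ ψ := by
  simp only [Cfsg.classInner, Nat.card_congr e.toEquiv]
  congr 1
  exact Fintype.sum_equiv e.toEquiv _ _ fun a => rfl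

end Equiv

/-- The inertia group of a function on a normal subgroup. -/
def inertia {N : Subgroup G} (hN : N.Normal) (θ : N → ℂ) : Subgroup G where
  carrier := {g | conjFn hN θ g = θ}
  one_mem' := conjFn_one hN θ
  mul_mem' {g h} hg hh := by
    show conjFn hN θ (g * h) = θ
    rw [conjFn_mul, hg, hh]
  inv_mem' {g} hg := by
    show conjFn hN θ g⁻¹ = θ
    conv_lhs => rw [← hg]
    rw [← conjFn_mul, mul_inv_cancel, conjFn_one]

theorem mem_inertia {N : Subgroup G} {hN : N.Normal} {θ : N → ℂ} {g : G} :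
    g ∈ inertia hN θ ↔ conjFn hN θ g = θ := Iff.rfl

theorem le_inertia {N : Subgroup G} (hN : N.Normal) {θ : N → ℂ}
    (hθ : Cfsg.IsClassFunction N θ) : N ≤ inertia hN θ := fun x hx =>
  funext fun n => (congrArg θ (Subtype.ext (by simp))).trans (hθ n ⟨x, hx⟩)

variable [Fintype G]

open scoped Classical in
theorem card_orbit {N : Subgroup G} (hN : N.Normal) (θ : N → ℂ) :
    (Finset.univ.image (conjFn hN θ)).card = (inertia hN θ).index := by
  set T := inertia hN θ with hT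
  have hwd : ∀ a b : G, (a : G ⧸ T) = b ↔ conjFn hN θ a⁻¹ = conjFn hN θ b⁻¹ := by
    intro a b
    rw [QuotientGroup.eq, hT, mem_inertia, conjFn_mul]
    constructor
    · intro h
      conv_rhs => rw [← h]
      rw [← conjFn_mul, ← conjFn_mul, mul_inv_cancel, mul_one]
    · intro h
      rw [h, ← conjFn_mul, inv_mul_cancel, conjFn_one]
  have : Fintype (G ⧸ T) := Fintype.ofFinite _
  rw [Subgroup.index, Nat.card_eq_fintype_card, ← Finset.card_univ]
  symm
  refine Finset.card_nbij (fun q => conjFn hN θ q.out⁻¹) (fun q _ => by simp) ?_ ?_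
  · intro a _ b _ hab
    rw [← QuotientGroup.out_eq' a, ← QuotientGroup.out_eq' b, hwd]
    exact hab
  · intro ψ hψ
    obtain ⟨g, -, rfl⟩ := Finset.mem_image.mp (Finset.mem_coe.mp hψ)
    refine ⟨((g⁻¹ : G) : G ⧸ T), Finset.mem_coe.mpr (Finset.mem_univ _), ?_⟩
    have h := (hwd ((g⁻¹ : G) : G ⧸ T).out g⁻¹).mp (QuotientGroup.out_eq' _)
    rwa [inv_inv] at h

/-- A character having an irreducible constituent of at least its degree is that constituent. -/
theorem eq_irr_of_degree_le {Φ : G → ℂ} (hΦ : Cfsg.IsCharacter G Φ) (χ : Cfsg.IrrCharacter G)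
    (hne : Cfsg.classInner Φ (χ : G → ℂ) ≠ 0) {c c' : ℕ} (hc : Φ 1 = c) (hc' : (χ : G → ℂ) 1 = c')
    (hle : c ≤ c') : Φ = χ := by
  classical
  have := Fintype.ofFinite (Cfsg.IrrCharacter G)
  obtain ⟨m, rfl⟩ := IsChar.exists_sum hΦ
  rw [classInner_sum_irr] at hne
  choose d hd using fun ψ : Cfsg.IrrCharacter G => IsIrr.exists_degree ψ.2
  have hsum : c = ∑ ψ, m ψ * d ψ := by
    apply Nat.cast_injective (R := ℂ)
    rw [← hc]
    simp [fun ψ => (hd ψ).2]
  have hdc : d χ = c' := Nat.cast_injective (R := ℂ) ((hd χ).2.symm.trans hc')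
  rw [← Finset.add_sum_erase _ _ (Finset.mem_univ χ)] at hsum
  have h1 : 1 ≤ m χ := Nat.one_le_iff_ne_zero.mpr fun h => hne (by simp [h])
  have h3 : 1 * d χ ≤ m χ * d χ := Nat.mul_le_mul_right _ h1
  have h4 : ∑ ψ ∈ Finset.univ.erase χ, m ψ * d ψ = 0 := by omega
  have h5 : m χ * d χ = d χ := by omega
  have hm : m χ = 1 := by
    have h6 := (hd χ).1
    exact Nat.eq_of_mul_eq_mul_right h6 (h5.trans (one_mul _).symm)
  refine (Finset.sum_eq_single χ (fun ψ _ hψ => ?_) fun h => absurd (Finset.mem_univ _) h).trans ?_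
  · have h7 := Finset.sum_eq_zero_iff.mp h4 ψ (Finset.mem_erase.mpr ⟨hψ, Finset.mem_univ _⟩)
    rw [(Nat.mul_eq_zero.mp h7).resolve_right (hd ψ).1.ne', Nat.cast_zero, zero_smul]
  · rw [hm, Nat.cast_one, one_smul]

theorem exists_constituent {Φ : G → ℂ} (hΦ : Cfsg.IsClassFunction G Φ) (h : Φ ≠ 0) :
    ∃ χ : Cfsg.IrrCharacter G, Cfsg.classInner Φ (χ : G → ℂ) ≠ 0 := by
  by_contra hno
  push Not at hno
  exact h (eq_zero_of_classInner_eq_zero hΦ hno)

variable {N : Subgroup G} [Fintype N] (hN : N.Normal) {θ : N → ℂ}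

/-- Degree formula in Clifford's theorem. -/
theorem degree_eq (hθ : Cfsg.IsIrrCharacter N θ) {χ : G → ℂ} (hχ : Cfsg.IsIrrCharacter G χ)
    (hc : Cfsg.classInner (fun n : N => χ n) θ ≠ 0) :
    χ 1 = Cfsg.classInner (fun n : N => χ n) θ * (inertia hN θ).index * θ 1 := by
  classical
  have h := congrFun (restrict_eq_smul_orbit_sum hN hχ hθ hc) 1
  simp only [OneMemClass.coe_one, Pi.smul_apply, Finset.sum_apply, smul_eq_mul] at h
  have hcard := card_orbit hN θ
  rw [h, Finset.sum_congr rfl (g := fun _ => θ 1), Finset.sum_const, nsmul_eq_mul, mul_assoc]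
  · congr 3
    convert hcard
  intro ψ hψ
  obtain ⟨g, -, rfl⟩ := Finset.mem_image.mp hψ
  exact congrArg θ (Subtype.ext (by simp))

/-- Restriction to a smaller subgroup. -/
def resTo {T : Subgroup G} (hle : N ≤ T) (ψ : T → ℂ) : N → ℂ := fun n => ψ ⟨n, hle n.2⟩

variable {T : Subgroup G} [Fintype T] (hle : N ≤ T)

omit [Fintype G] [Fintype N] [Fintype T] in
theorem isCharacter_resTo {ψ : T → ℂ} (hψ : Cfsg.IsCharacter T ψ) :
    Cfsg.IsCharacter N (resTo hle ψ) :=
  IsChar.comp (Subgroup.inclusion hle) hψ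

include hN in
/-- A character of a subgroup stabilising `θ` lying over `θ` restricts to a multiple of `θ`. -/
theorem resTo_eq_smul (hθ : Cfsg.IsIrrCharacter N θ) (hinv : ∀ t ∈ T, conjFn hN θ t = θ) {ψ : T → ℂ}
    (hψ : Cfsg.IsIrrCharacter T ψ) (hc : Cfsg.classInner (resTo hle ψ) θ ≠ 0) :
    resTo hle ψ = Cfsg.classInner (resTo hle ψ) θ • θ := by
  classical
  let e : N.subgroupOf T ≃* N := Subgroup.subgroupOfEquivOfLe hle
  have hN' : (N.subgroupOf T).Normal := hN.subgroupOf T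
  have := Fintype.ofFinite (N.subgroupOf T)
  have hθ' : Cfsg.IsIrrCharacter (N.subgroupOf T) (fun x => θ (e x)) :=
    IsIrr.comp_surjective e.toMonoidHom e.surjective hθ
  have hres : (fun x : N.subgroupOf T => ψ x) = fun x => resTo hle ψ (e x) := funext fun x => rfl
  have hconst : Cfsg.classInner (fun x : N.subgroupOf T => ψ x) (fun x => θ (e x)) =
      Cfsg.classInner (resTo hle ψ) θ := by
    rw [hres]; exact classInner_comp_equiv e _ _
  have horb : (Finset.univ.image (conjFn hN' fun x => θ (e x))) = {fun x => θ (e x)} := by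
    apply Finset.eq_singleton_iff_unique_mem.mpr
    refine ⟨Finset.mem_image.mpr ⟨1, Finset.mem_univ _, conjFn_one hN' _⟩, fun φ hφ => ?_⟩
    obtain ⟨t, -, rfl⟩ := Finset.mem_image.mp hφ
    exact funext fun x => congrFun (hinv t t.2) (e x)
  have h := restrict_eq_smul_orbit_sum hN' hψ hθ' (by rw [hconst]; exact hc)
  rw [horb, Finset.sum_singleton, hconst, hres] at h
  funext n
  obtain ⟨x, rfl⟩ := e.surjective n
  exact congrFun h x

theorem classInner_resTo_restrict [Fintype (Cfsg.IrrCharacter T)] {χ : G → ℂ}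
    (hχ : Cfsg.IsCharacter G χ) (θ : N → ℂ) :
    Cfsg.classInner (fun n : N => χ n) θ = ∑ φ : Cfsg.IrrCharacter T,
      Cfsg.classInner (fun t : T => χ t) (φ : T → ℂ) * Cfsg.classInner (resTo hle (φ : T → ℂ)) θ := by
  have h := classFunction_eq_sum (IsChar.isClassFunction (IsChar.restrict T hχ))
  have h2 : (fun n : N => χ n) = ∑ φ : Cfsg.IrrCharacter T,
      Cfsg.classInner (fun t : T => χ t) (φ : T → ℂ) • resTo hle (φ : T → ℂ) := by
    funext n
    have := congrFun h ⟨n, hle n.2⟩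
    simpa [resTo] using this
  rw [h2, classInner_sum_left]
  simp only [classInner_smul_left]

omit hle

variable (hθ : Cfsg.IsIrrCharacter N θ) (hT : ∀ g, g ∈ T ↔ conjFn hN θ g = θ) (hle : N ≤ T)

omit [Fintype G] [Fintype N] [Fintype T] in
include hT in
theorem eq_inertia : T = inertia hN θ := SetLike.ext fun g => (hT g).trans mem_inertia.symm

include hN hθ hT in
/-- The main step of the Clifford correspondence. -/
theorem indFun_eq_of_constituent {ψ : T → ℂ} (hψ : Cfsg.IsIrrCharacter T ψ)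
    (hc : Cfsg.classInner (resTo hle ψ) θ ≠ 0) (χ : Cfsg.IrrCharacter G)
    (hχ : Cfsg.classInner (Cfsg.indFun T ψ) (χ : G → ℂ) ≠ 0) :
    Cfsg.indFun T ψ = χ ∧
      Cfsg.classInner (fun n : N => (χ : G → ℂ) n) θ = Cfsg.classInner (resTo hle ψ) θ ∧
      ∀ φ : Cfsg.IrrCharacter T, (φ : T → ℂ) ≠ ψ →
        Cfsg.classInner (fun t : T => (χ : G → ℂ) t) (φ : T → ℂ) = 0 ∨
          Cfsg.classInner (resTo hle (φ : T → ℂ)) θ = 0 := by
  classical
  have := Fintype.ofFinite (Cfsg.IrrCharacter T)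
  have hθc := IsIrr.isCharacter hθ
  have hfr : Cfsg.classInner (fun t : T => (χ : G → ℂ) t) ψ ≠ 0 := by
    rw [frobenius_reciprocity T ψ (IsIrr.isClassFunction χ.2), ← classInner_conj_symm] at hχ
    exact fun h => hχ (by rw [h, map_zero])
  have hnat : ∀ φ : Cfsg.IrrCharacter T, ∃ a b : ℕ,
      Cfsg.classInner (fun t : T => (χ : G → ℂ) t) (φ : T → ℂ) = a ∧
        Cfsg.classInner (resTo hle (φ : T → ℂ)) θ = b := fun φ => by
    obtain ⟨a, ha⟩ := IsChar.classInner_eq_natCast (IsChar.restrict T (IsIrr.isCharacter χ.2))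
      (IsIrr.isCharacter φ.2)
    obtain ⟨b, hb⟩ := IsChar.classInner_eq_natCast (isCharacter_resTo hle (IsIrr.isCharacter φ.2)) hθc
    exact ⟨a, b, ha, hb⟩
  choose a b ha hb using hnat
  let P : Cfsg.IrrCharacter T := ⟨ψ, hψ⟩
  have hm : Cfsg.classInner (fun n : N => (χ : G → ℂ) n) θ = ((∑ φ, a φ * b φ : ℕ) : ℂ) := by
    rw [classInner_resTo_restrict hle (IsIrr.isCharacter χ.2)]
    push_cast
    exact Finset.sum_congr rfl fun φ _ => by rw [ha, hb]
  have haP : 1 ≤ a P := Nat.one_le_iff_ne_zero.mpr fun h => hfr (by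
    have := ha P
    rwa [h, Nat.cast_zero] at this)
  have hbP0 : b P ≠ 0 := fun h => hc (by
    have := hb P
    rwa [h, Nat.cast_zero] at this)
  have hbP : b P ≤ ∑ φ, a φ * b φ :=
    le_trans (Nat.le_mul_of_pos_left _ haP)
      (Finset.single_le_sum (f := fun φ => a φ * b φ) (fun _ _ => Nat.zero_le _) (Finset.mem_univ P))
  obtain ⟨d, hd0, hd⟩ := IsIrr.exists_degree hθ
  have hψ1 : ψ 1 = (b P * d : ℕ) := by
    have h := congrFun (resTo_eq_smul hN hle hθ (fun t ht => (hT t).mp ht) hψ hc) 1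
    rw [Pi.smul_apply, smul_eq_mul, hd, show Cfsg.classInner (resTo hle ψ) θ = _ from hb P,
      ← Nat.cast_mul] at h
    exact h
  have hc1 : Cfsg.indFun T ψ 1 = ((T.index * (b P * d) : ℕ) : ℂ) := by
    rw [indFun_apply_one, hψ1]; push_cast; rfl
  have hχ1 : (χ : G → ℂ) 1 = (((∑ φ, a φ * b φ) * T.index * d : ℕ) : ℂ) := by
    rw [degree_eq hN hθ χ.2, hm, ← eq_inertia hN hT, hd]
    · push_cast; ring
    · rw [hm]
      exact Nat.cast_ne_zero.mpr (by omega)
  have hle' : T.index * (b P * d) ≤ (∑ φ, a φ * b φ) * T.index * d := by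
    rw [mul_comm _ T.index, mul_assoc]
    exact Nat.mul_le_mul_left _ (Nat.mul_le_mul_right _ hbP)
  have heq := eq_irr_of_degree_le (isCharacter_indFun T (IsIrr.isCharacter hψ)) χ hχ hc1 hχ1 hle'
  have h9 : ∑ φ, a φ * b φ = b P := by
    have h8 : T.index * (b P * d) = (∑ φ, a φ * b φ) * T.index * d := by
      apply Nat.cast_injective (R := ℂ)
      rw [← hc1, ← hχ1, heq]
    rw [mul_comm _ T.index, mul_assoc] at h8
    exact (Nat.eq_of_mul_eq_mul_right hd0
      (Nat.eq_of_mul_eq_mul_left (Nat.pos_of_ne_zero Subgroup.index_ne_zero_of_finite) h8)).symm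
  refine ⟨heq, ?_, fun φ hφ => ?_⟩
  · rw [hm, h9, show Cfsg.classInner (resTo hle ψ) θ = _ from hb P]
  · have hφ' : φ ≠ P := fun h => hφ (congrArg Subtype.val h)
    rw [← Finset.add_sum_erase _ _ (Finset.mem_univ P)] at h9
    have h10 : a φ * b φ ≤ ∑ x ∈ Finset.univ.erase P, a x * b x :=
      Finset.single_le_sum (f := fun x => a x * b x) (fun _ _ => Nat.zero_le _)
        (Finset.mem_erase.mpr ⟨hφ', Finset.mem_univ _⟩)
    have h11 : b P ≤ a P * b P := Nat.le_mul_of_pos_left _ haP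
    have h12 : a φ * b φ = 0 := by omega
    rcases Nat.mul_eq_zero.mp h12 with h | h
    · exact Or.inl (by rw [ha, h, Nat.cast_zero])
    · exact Or.inr (by rw [hb, h, Nat.cast_zero])

include hN hθ hT in
theorem indFun_ne_zero_aux {ψ : T → ℂ} (hψ : Cfsg.IsIrrCharacter T ψ) :
    Cfsg.indFun T ψ ≠ 0 := fun h => by
  have h1 := congrFun h 1
  rw [indFun_apply_one, Pi.zero_apply, mul_eq_zero] at h1
  rcases h1 with h1 | h1
  · exact Subgroup.index_ne_zero_of_finite (Nat.cast_eq_zero.mp h1)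
  · exact IsIrr.apply_one_ne_zero hψ h1

include hN hθ hT in
/-- Characters of the inertia group over `θ` induce irreducibly. -/
theorem isIrr_indFun_of_over {ψ : T → ℂ} (hψ : Cfsg.IsIrrCharacter T ψ)
    (hc : Cfsg.classInner (resTo hle ψ) θ ≠ 0) : Cfsg.IsIrrCharacter G (Cfsg.indFun T ψ) := by
  obtain ⟨χ, hχ⟩ := exists_constituent (isClassFunction_indFun T ψ)
    (indFun_ne_zero_aux hN hθ hT hψ)
  rw [(indFun_eq_of_constituent hN hθ hT hle hψ hc χ hχ).1]
  exact χ.2

include hN hθ hT in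
theorem classInner_restrict_indFun {ψ : T → ℂ} (hψ : Cfsg.IsIrrCharacter T ψ)
    (hc : Cfsg.classInner (resTo hle ψ) θ ≠ 0) :
    Cfsg.classInner (fun n : N => Cfsg.indFun T ψ n) θ = Cfsg.classInner (resTo hle ψ) θ := by
  obtain ⟨χ, hχ⟩ := exists_constituent (isClassFunction_indFun T ψ)
    (indFun_ne_zero_aux hN hθ hT hψ)
  obtain ⟨h1, h2, -⟩ := indFun_eq_of_constituent hN hθ hT hle hψ hc χ hχ
  rw [h1, h2]

include hN hθ hT in
/-- Induction from the inertia group is injective on characters over `θ`. -/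
theorem indFun_injective_of_over {ψ ψ' : T → ℂ} (hψ : Cfsg.IsIrrCharacter T ψ)
    (hψ' : Cfsg.IsIrrCharacter T ψ') (hc : Cfsg.classInner (resTo hle ψ) θ ≠ 0)
    (hc' : Cfsg.classInner (resTo hle ψ') θ ≠ 0) (h : Cfsg.indFun T ψ = Cfsg.indFun T ψ') :
    ψ = ψ' := by
  obtain ⟨χ, hχ⟩ := exists_constituent (isClassFunction_indFun T ψ)
    (indFun_ne_zero_aux hN hθ hT hψ)
  obtain ⟨h1, -, h3⟩ := indFun_eq_of_constituent hN hθ hT hle hψ hc χ hχ
  by_contra hne
  rcases h3 ⟨ψ', hψ'⟩ (fun e => hne e.symm) with h0 | h0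
  · have h4 := frobenius_reciprocity T ψ' (IsIrr.isClassFunction χ.2)
    rw [← h, h1, classInner_irr_self, ← classInner_conj_symm, h0, map_zero] at h4
    exact one_ne_zero h4
  · exact hc' h0

include hN hθ hT in
/-- Every character over `θ` is induced from the inertia group. -/
theorem exists_over_inertia (χ : Cfsg.IrrCharacter G)
    (hc : Cfsg.classInner (fun n : N => (χ : G → ℂ) n) θ ≠ 0) :
    ∃ ψ : T → ℂ, Cfsg.IsIrrCharacter T ψ ∧ Cfsg.classInner (resTo hle ψ) θ ≠ 0 ∧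
      Cfsg.classInner (resTo hle ψ) θ = Cfsg.classInner (fun n : N => (χ : G → ℂ) n) θ ∧
      Cfsg.indFun T ψ = χ := by
  classical
  have := Fintype.ofFinite (Cfsg.IrrCharacter T)
  rw [classInner_resTo_restrict hle (IsIrr.isCharacter χ.2)] at hc
  obtain ⟨φ, -, hφ⟩ := Finset.exists_ne_zero_of_sum_ne_zero hc
  have hχ : Cfsg.classInner (Cfsg.indFun T (φ : T → ℂ)) (χ : G → ℂ) ≠ 0 := by
    rw [frobenius_reciprocity T _ (IsIrr.isClassFunction χ.2), ← classInner_conj_symm]
    exact fun h => left_ne_zero_of_mul hφ (by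
      rw [← map_eq_zero (starRingEnd ℂ)]
      exact h)
  obtain ⟨h1, h2, -⟩ :=
    indFun_eq_of_constituent hN hθ hT hle φ.2 (right_ne_zero_of_mul hφ) χ hχ
  exact ⟨φ, φ.2, right_ne_zero_of_mul hφ, h2.symm, h1⟩

end CfsgLib.Clifford
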