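import Cfsg.Agent.Lib.Char.Equiv
import Mathlib.GroupTheory.Transfer
import Mathlib.LinearAlgebra.Determinant

/-!
# The group of intertwiners of an invariant irreducible representation

For a representation `σ` of a normal subgroup `N`, `twistGroup σ` consists of the pairs `(g, A)`
with `A σ(n) = σ(g n g⁻¹) A`. For irreducible `σ` it is a central extension by the scalars of the
inertia group, and extensions of `σ` correspond to its retractions onto the scalars that kill `N`.
-/

namespace CfsgLib.CharExt

open CfsgLib.Char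
open Module
open scoped ComplexConjugate

variable {G : Type*} [Group G] {N : Subgroup G} [hN : N.Normal]
variable {V : Type*} [AddCommGroup V] [Module ℂ V] (σ : Representation ℂ N V)

/-- Conjugation of `n : N` by `g`. -/
def cn (g : G) (n : N) : N := ⟨g * n * g⁻¹, hN.conj_mem n n.2 g⟩

theorem cn_one (n : N) : cn 1 n = n := Subtype.ext (by simp [cn])

theorem cn_mul (g h : G) (n : N) : cn (g * h) n = cn g (cn h n) :=
  Subtype.ext (by simp [cn, mul_assoc])

/-- Pairs `(g, A)` with `A` intertwining `σ` with its conjugate by `g`. -/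
def twistGroup : Subgroup (G × (Module.End ℂ V)ˣ) where
  carrier := {x | ∀ n, (x.2 : Module.End ℂ V) * σ n = σ (cn x.1 n) * (x.2 : Module.End ℂ V)}
  one_mem' n := by simp [cn_one]
  mul_mem' {x y} hx hy n := by
    simp only [Prod.fst_mul, Prod.snd_mul, Units.val_mul, cn_mul]
    rw [mul_assoc, hy n, ← mul_assoc, hx (cn y.1 n), mul_assoc]
  inv_mem' {x} hx n := by
    simp only [Prod.fst_inv, Prod.snd_inv]
    have h := hx (cn x.1⁻¹ n)
    rw [← cn_mul, mul_inv_cancel, cn_one] at h
    rw [Units.inv_mul_eq_iff_eq_mul, ← mul_assoc, h, mul_assoc, Units.mul_inv, mul_one]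

/-- Projection to the group. -/
def proj : twistGroup σ →* G := (MonoidHom.fst G _).comp (twistGroup σ).subtype

@[simp] theorem proj_apply (x : twistGroup σ) : proj σ x = x.1.1 := rfl

/-- The operator part. -/
def op : twistGroup σ →* (Module.End ℂ V)ˣ := (MonoidHom.snd G _).comp (twistGroup σ).subtype

/-- A scalar operator. -/
noncomputable def scalarUnit : ℂˣ →* (Module.End ℂ V)ˣ :=
  Units.map (algebraMap ℂ (Module.End ℂ V)).toMonoidHom

theorem scalarUnit_val (c : ℂˣ) :
    (scalarUnit (V := V) c : Module.End ℂ V) = (c : ℂ) • 1 :=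
  Algebra.algebraMap_eq_smul_one (c : ℂ)

theorem scalarUnit_injective [Nontrivial V] : Function.Injective (scalarUnit (V := V)) :=
  fun a b h => Units.ext ((algebraMap ℂ (Module.End ℂ V)).injective (congrArg Units.val h))

theorem commute_scalarUnit (c : ℂˣ) (A : (Module.End ℂ V)ˣ) : Commute (scalarUnit c) A :=
  Units.ext (Algebra.commutes (c : ℂ) (A : Module.End ℂ V))

/-- The scalars inside the twist group. -/
noncomputable def scal : ℂˣ →* twistGroup σ where
  toFun c := ⟨(1, scalarUnit c), fun n => by
    rw [cn_one]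
    exact Algebra.commutes (c : ℂ) (σ n)⟩
  map_one' := Subtype.ext (by simp)
  map_mul' a b := Subtype.ext (by simp)

@[simp] theorem proj_scal (c : ℂˣ) : proj σ (scal σ c) = 1 := rfl

theorem op_scal (c : ℂˣ) : op σ (scal σ c) = scalarUnit c := rfl

theorem scal_commute (c : ℂˣ) (x : twistGroup σ) : Commute (scal σ c) x :=
  Subtype.ext (Prod.ext ((one_mul _).trans (mul_one _).symm) (commute_scalarUnit c x.1.2).eq)

/-- The copy of `N`. -/
noncomputable def emb : N →* twistGroup σ where
  toFun n := ⟨((n : G), σ.toHomUnits n), fun m => by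
    show σ n * σ m = σ (cn (n : G) m) * σ n
    rw [← map_mul, ← map_mul]
    congr 1
    exact Subtype.ext (by simp [cn])⟩
  map_one' := Subtype.ext (by simp)
  map_mul' a b := Subtype.ext (by simp)

theorem proj_emb (n : N) : proj σ (emb σ n) = (n : G) := rfl

theorem op_emb (n : N) : (op σ (emb σ n) : Module.End ℂ V) = σ n := rfl

theorem conj_emb (x : twistGroup σ) (n : N) :
    x * emb σ n * x⁻¹ = emb σ (cn (proj σ x) n) := by
  rw [mul_inv_eq_iff_eq_mul]
  exact Subtype.ext (Prod.ext
    (show x.1.1 * (n : G) = x.1.1 * (n : G) * x.1.1⁻¹ * x.1.1 by simp)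
    (Units.ext (x.2 n)))

theorem ext_of_proj_op {x y : twistGroup σ} (h1 : proj σ x = proj σ y) (h2 : op σ x = op σ y) :
    x = y :=
  Subtype.ext (Prod.ext h1 h2)

/-- The determinant of the operator part. -/
noncomputable def detTwist : twistGroup σ →* ℂˣ :=
  (Units.map (LinearMap.det : Module.End ℂ V →* ℂ)).comp (op σ)

variable [FiniteDimensional ℂ V]

theorem detTwist_scal (c : ℂˣ) : detTwist σ (scal σ c) = c ^ finrank ℂ V := by
  apply Units.ext
  show LinearMap.det (scalarUnit (V := V) c : Module.End ℂ V) = _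
  rw [scalarUnit_val, LinearMap.det_smul, map_one, mul_one, Units.val_pow_eq_pow_val]

variable [σ.IsIrreducible]

theorem exists_scal_of_proj [Finite N] {x : twistGroup σ} (hx : proj σ x = 1) :
    ∃ c : ℂˣ, x = scal σ c := by
  have := Fintype.ofFinite N
  obtain ⟨c, hc⟩ := exists_eq_smul_of_commute σ (op σ x : Module.End ℂ V) fun n => by
    have h := x.2 n
    rw [show x.1.1 = 1 from hx, cn_one] at h
    exact h
  have := nontrivial_of_irreducible σ
  have hc0 : c ≠ 0 := fun h => by
    rw [h, zero_smul] at hc
    exact (op σ x).ne_zero hc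
  refine ⟨Units.mk0 c hc0, ext_of_proj_op σ hx (Units.ext ?_)⟩
  rw [op_scal, scalarUnit_val, Units.val_mk0]
  exact hc

theorem exists_mem_of_invariant [Finite N] {g : G}
    (hg : ∀ n, σ.character (cn g n) = σ.character n) : ∃ x : twistGroup σ, proj σ x = g := by
  have := Fintype.ofFinite N
  let e : N →* N := { toFun := cn g, map_one' := Subtype.ext (by simp [cn]),
                      map_mul' := fun a b => Subtype.ext (by simp [cn]) }
  let σg : Representation ℂ N V := σ.comp e
  obtain ⟨φ⟩ := nonempty_equiv_of_character_eq σ σg (funext fun n => (hg n).symm)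
  let A : (Module.End ℂ V)ˣ :=
    { val := φ.toLinearEquiv.toLinearMap
      inv := φ.toLinearEquiv.symm.toLinearMap
      val_inv := LinearMap.ext fun v => φ.toLinearEquiv.apply_symm_apply v
      inv_val := LinearMap.ext fun v => φ.toLinearEquiv.symm_apply_apply v }
  exact ⟨⟨(g, A), fun n => LinearMap.ext fun v =>
    φ.toIntertwiningMap.isIntertwining _ _ n v⟩, rfl⟩

end CfsgLib.CharExt
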