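import Cfsg.Agent.Lib.Char.CliffordCorr
import Cfsg.Agent.Lib.Char.TwistGroup
import Cfsg.Agent.Lib.Char.Monomial

/-!
# The ratio of degrees divides the index
-/

namespace CfsgLib.CharExt

open CfsgLib.Char
open Module
open scoped ComplexConjugate

variable {G : Type*} [Group G] [Finite G] {N : Subgroup G} [hN : N.Normal]
variable {V W : Type*} [AddCommGroup V] [Module ℂ V] [FiniteDimensional ℂ V] [AddCommGroup W]
  [Module ℂ W] [FiniteDimensional ℂ W]

/-- Over an invariant character, the multiplicity of the restriction divides the index. -/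
theorem finrank_intertwining_dvd_index (ρ : Representation ℂ G W) [ρ.IsIrreducible]
    (σ : Representation ℂ N V) [σ.IsIrreducible]
    (hinv : ∀ g n, σ.character (cn g n) = σ.character n)
    (e : ℕ) (he0 : e ≠ 0) (hres : ∀ n : N, ρ.character n = (e : ℂ) * σ.character n) :
    e ∣ N.index := by
  classical
  have := Fintype.ofFinite G
  have := Fintype.ofFinite N
  have hVn := nontrivial_of_irreducible σ
  have hd0 : 0 < finrank ℂ V := finrank_pos_of_irreducible σ
  have hWdim : finrank ℂ W = e * finrank ℂ V := by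
    have h := hres 1
    rw [OneMemClass.coe_one, Representation.char_one, Representation.char_one] at h
    exact_mod_cast h
  -- the finite central extension
  set Γ : Subgroup (twistGroup σ) := (detTwist σ).ker with hΓ
  have hsurj : ∀ g, ∃ x : Γ, proj σ (x : twistGroup σ) = g := fun g => by
    obtain ⟨x, hx⟩ := exists_mem_of_invariant σ (hinv g)
    obtain ⟨z, hz⟩ := IsAlgClosed.exists_pow_nat_eq ((((detTwist σ x)⁻¹ : ℂˣ) : ℂ)) hd0
    have hz0 : z ≠ 0 := fun h => by
      rw [h, zero_pow hd0.ne'] at hz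
      exact ((detTwist σ x)⁻¹).ne_zero hz.symm
    refine ⟨⟨x * scal σ (Units.mk0 z hz0), ?_⟩, by
      show proj σ (x * scal σ (Units.mk0 z hz0)) = g
      rw [map_mul, hx, proj_scal, mul_one]⟩
    rw [hΓ, MonoidHom.mem_ker, map_mul, detTwist_scal]
    refine Units.ext ?_
    rw [Units.val_mul, Units.val_pow_eq_pow_val, Units.val_mk0, hz, ← Units.val_mul, mul_inv_cancel]
  choose s hs using hsurj
  have hfinΓ : Finite Γ := by
    have : NeZero (finrank ℂ V) := ⟨hd0.ne'⟩
    let f : G × rootsOfUnity (finrank ℂ V) ℂ → Γ := fun p =>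
      ⟨(s p.1 : twistGroup σ) * scal σ p.2, by
        show detTwist σ ((s p.1 : twistGroup σ) * scal σ p.2) = 1
        rw [map_mul, detTwist_scal, show detTwist σ (s p.1 : twistGroup σ) = 1
          from (s p.1).2, one_mul]
        exact p.2.2⟩
    refine Finite.of_surjective f fun x => ?_
    obtain ⟨c, hc⟩ := exists_scal_of_proj σ
      (x := (s (proj σ (x : twistGroup σ)) : twistGroup σ)⁻¹ * x) (by rw [map_mul, map_inv, hs, inv_mul_cancel])
    have hc' : c ∈ rootsOfUnity (finrank ℂ V) ℂ := by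
      have h := congrArg (detTwist σ) hc
      rw [map_mul, map_inv, show detTwist σ (s _ : twistGroup σ) = 1 from (s _).2,
        show detTwist σ (x : twistGroup σ) = 1 from x.2, detTwist_scal, inv_one, one_mul] at h
      exact h.symm
    exact ⟨(proj σ (x : twistGroup σ), ⟨c, hc'⟩), Subtype.ext (inv_mul_eq_iff_eq_mul.mp hc).symm⟩
  let π : Γ →* G := (proj σ).comp Γ.subtype
  have hπ : Function.Surjective π := fun g => ⟨s g, hs g⟩
  let RV : Representation ℂ Γ V := (Units.coeHom _).comp ((op σ).comp Γ.subtype)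
  let RW : Representation ℂ Γ W := ρ.comp π
  let U : Subrepresentation (RV.linHom RW) :=
    { toSubmodule :=
        { carrier := {f | ∀ n : N, f ∘ₗ σ n = ρ (n : G) ∘ₗ f}
          zero_mem' := fun n => by simp
          add_mem' := fun ha hb n => by rw [LinearMap.add_comp, LinearMap.comp_add, ha n, hb n]
          smul_mem' := fun c f hf n => by rw [LinearMap.smul_comp, LinearMap.comp_smul, hf n] }
      apply_mem_toSubmodule := fun γ f hf n => LinearMap.ext fun v => by
        have h1 := LinearMap.congr_fun ((((γ⁻¹ : Γ)) : twistGroup σ).2 n) v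
        show ρ (π γ) (f (RV γ⁻¹ (σ n v))) = ρ (n : G) (ρ (π γ) (f (RV γ⁻¹ v)))
        have h2 : RV γ⁻¹ (σ n v) = σ (cn (π γ⁻¹) n) (RV γ⁻¹ v) := h1
        have h3 := LinearMap.congr_fun (hf (cn (π γ⁻¹) n)) (RV γ⁻¹ v)
        simp only [LinearMap.comp_apply] at h3
        rw [h2, h3, ← Module.End.mul_apply, ← Module.End.mul_apply, ← map_mul, ← map_mul]
        congr 2
        show π γ * (π γ⁻¹ * n * (π γ⁻¹)⁻¹) = n * π γ
        rw [map_inv]
        group }
  let σN : Representation ℂ N W := ρ.comp N.subtype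
  let eU : U.toSubmodule ≃ₗ[ℂ] σ.IntertwiningMap σN :=
    { toFun := fun f => ⟨f.1, fun n => f.2 n⟩
      invFun := fun f => ⟨f.toLinearMap, fun n => f.isIntertwining' n⟩
      map_add' := fun _ _ => rfl
      map_smul' := fun _ _ => rfl }
  have hU : finrank ℂ U.toSubmodule = e := by
    apply Nat.cast_injective (R := ℂ)
    rw [eU.finrank_eq, ← classInner_eq_finrank σ σN,
      show σN.character = (e : ℂ) • σ.character from funext hres, classInner_smul_left,
      (isIrreducible_iff_classInner_eq_one σ).mp inferInstance, mul_one]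
  have hUirr : U.toRepresentation.IsIrreducible := by
    have hnt : Nontrivial U.toSubmodule := Module.nontrivial_of_finrank_pos (R := ℂ) (by omega)
    have : Nontrivial (Subrepresentation U.toRepresentation) :=
      ⟨⊥, ⊤, fun hbt => bot_ne_top (α := Submodule ℂ U.toSubmodule)
        (congrArg Subrepresentation.toSubmodule hbt)⟩
    constructor
    intro S
    by_cases hS : S.toSubmodule = ⊥
    · exact Or.inl (Subrepresentation.toSubmodule_injective hS)
    refine Or.inr (Subrepresentation.toSubmodule_injective ?_)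
    show S.toSubmodule = ⊤
    let S' : Submodule ℂ (V →ₗ[ℂ] W) := S.toSubmodule.map U.toSubmodule.subtype
    have hS'dim : finrank ℂ S' = finrank ℂ S.toSubmodule := Submodule.finrank_map_subtype_eq _ _
    let gen : Fin (finrank ℂ S') × Fin (finrank ℂ V) → W := fun p =>
      (finBasis ℂ S' p.1 : V →ₗ[ℂ] W) (finBasis ℂ V p.2)
    set P := Submodule.span ℂ (Set.range gen) with hP
    have hmem : ∀ f ∈ S.toSubmodule, ∀ v, ((f : U.toSubmodule) : V →ₗ[ℂ] W) v ∈ P := by
      intro f hf v
      have h1 := congrArg (fun z : S' => (z : V →ₗ[ℂ] W))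
        ((finBasis ℂ S').sum_repr ⟨(f : V →ₗ[ℂ] W), ⟨f, hf, rfl⟩⟩)
      simp only [Submodule.coe_sum, Submodule.coe_smul] at h1
      rw [← h1, ← (finBasis ℂ V).sum_repr v]
      simp only [LinearMap.sum_apply, LinearMap.smul_apply, map_sum, map_smul]
      exact Submodule.sum_mem _ fun i _ => Submodule.smul_mem _ _ (Submodule.sum_mem _ fun j _ =>
        Submodule.smul_mem _ _ (Submodule.subset_span ⟨(j, i), rfl⟩))
    have hinvP : ∀ g, ∀ w ∈ P, ρ g w ∈ P := by
      intro g w hw
      obtain ⟨γ, rfl⟩ := hπ g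
      induction hw using Submodule.span_induction with
      | mem x hx =>
        obtain ⟨⟨i, j⟩, rfl⟩ := hx
        obtain ⟨f, hf, hfi⟩ := (finBasis ℂ S' i).2
        have h3 := hmem _ (S.apply_mem_toSubmodule γ hf) (RV γ (finBasis ℂ V j))
        have h4 : RV γ⁻¹ (RV γ (finBasis ℂ V j)) = finBasis ℂ V j := by
          rw [← Module.End.mul_apply, ← map_mul, inv_mul_cancel, map_one, Module.End.one_apply]
        have h5 : ((U.toRepresentation γ f : U.toSubmodule) : V →ₗ[ℂ] W) (RV γ (finBasis ℂ V j)) =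
            ρ (π γ) (gen (i, j)) := by
          show RW γ ((f : V →ₗ[ℂ] W) (RV γ⁻¹ (RV γ (finBasis ℂ V j)))) = _
          rw [h4]
          show ρ (π γ) _ = ρ (π γ) ((finBasis ℂ S' i : V →ₗ[ℂ] W) (finBasis ℂ V j))
          rw [← hfi]
          rfl
        rwa [h5] at h3
      | zero => simp
      | add x y _ _ hx hy => rw [map_add]; exact add_mem hx hy
      | smul a x _ hx => rw [map_smul]; exact P.smul_mem a hx
    let PS : Subrepresentation ρ := ⟨P, fun g v hv => hinvP g v hv⟩
    have hPtop : P = ⊤ := by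
      rcases IsSimpleOrder.eq_bot_or_eq_top PS with h | h
      · refine absurd ((Submodule.eq_bot_iff _).mpr fun f hf => ?_) hS
        refine Subtype.ext (LinearMap.ext fun v => ?_)
        have h2 := hmem f hf v
        rw [show P = ⊥ from congrArg (fun T : Subrepresentation ρ => T.toSubmodule) h,
          Submodule.mem_bot] at h2
        simpa using h2
      · exact congrArg (fun T : Subrepresentation ρ => T.toSubmodule) h
    have hcount := finrank_range_le_card (R := ℂ) gen
    rw [Set.finrank, ← hP, hPtop, finrank_top, hWdim, Fintype.card_prod, Fintype.card_fin,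
      Fintype.card_fin] at hcount
    refine Submodule.eq_top_of_finrank_eq (le_antisymm (Submodule.finrank_le _) ?_)
    rw [hU, ← hS'dim]
    exact Nat.le_of_mul_le_mul_right hcount hd0
  have hdvd := CharIntegral.finrank_dvd_index_of_scalar U.toRepresentation (A := N.comap π) (by
    intro γ
    obtain ⟨c, hc⟩ := exists_scal_of_proj σ
      (x := ((γ : Γ) : twistGroup σ) * (emb σ ⟨π γ, γ.2⟩)⁻¹) (by
        rw [map_mul, map_inv, proj_emb]; exact mul_inv_cancel _)
    rw [mul_inv_eq_iff_eq_mul] at hc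
    refine ⟨((c⁻¹ : ℂˣ) : ℂ), LinearMap.ext fun f => Subtype.ext ?_⟩
    show RW γ ∘ₗ (f : V →ₗ[ℂ] W) ∘ₗ RV (γ : Γ)⁻¹ = ((c⁻¹ : ℂˣ) : ℂ) • (f : V →ₗ[ℂ] W)
    have hR : RV (γ : Γ)⁻¹ = ((c⁻¹ : ℂˣ) : ℂ) • σ (⟨π γ, γ.2⟩⁻¹ : N) := by
      show (op σ ((((γ : Γ) : twistGroup σ))⁻¹) : Module.End ℂ V) = _
      rw [hc, mul_inv_rev, ← map_inv, ← map_inv, map_mul, Units.val_mul, op_emb, op_scal,
        scalarUnit_val, mul_smul_comm, mul_one]
    refine LinearMap.ext fun v => ?_
    have h6 := LinearMap.congr_fun (f.2 (⟨π γ, γ.2⟩⁻¹ : N)) v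
    simp only [LinearMap.comp_apply] at h6
    show ρ (π γ) ((f : V →ₗ[ℂ] W) (RV (γ : Γ)⁻¹ v)) = ((c⁻¹ : ℂˣ) : ℂ) • (f : V →ₗ[ℂ] W) v
    rw [hR, LinearMap.smul_apply, map_smul, map_smul, h6, ← Module.End.mul_apply, ← map_mul]
    show _ • ρ (π γ * (π γ)⁻¹) _ = _
    rw [mul_inv_cancel, map_one, Module.End.one_apply])
  rwa [hU, Subgroup.index_comap_of_surjective N hπ] at hdvd

end CfsgLib.CharExt
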