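import Cfsg.Agent.Lib.Char.TwistGroup
import Cfsg.Prelude.Def_CharExt
import Mathlib.GroupTheory.Archimedean
import Mathlib.FieldTheory.IsAlgClosed.Basic

/-!
# Extension of invariant characters of normal subgroups

* a retraction of the twist group onto the scalars gives an extension;
* extensions to Sylow subgroups give one to the group (transfer);
* coprimality of determinantal order and degree with the index gives a canonical extension.
-/

namespace CfsgLib.CharExt

open CfsgLib.Char
open Module

variable {G : Type*} [Group G]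

theorem isIrreducible_of_restrict {V : Type*} [AddCommGroup V] [Module ℂ V] {H : Type*} [Group H]
    (ρ : Representation ℂ G V) (f : H →* G) (σ : Representation ℂ H V) [σ.IsIrreducible]
    (h : ∀ x, ρ (f x) = σ x) : ρ.IsIrreducible := by
  have : Nontrivial V := nontrivial_of_irreducible σ
  have : Nontrivial (Subrepresentation ρ) :=
    ⟨⊥, ⊤, fun hbt => bot_ne_top (congrArg Subrepresentation.toSubmodule hbt)⟩
  constructor
  intro S
  let S' : Subrepresentation σ :=
    ⟨S.toSubmodule, fun x v hv => h x ▸ S.apply_mem_toSubmodule (f x) hv⟩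
  rcases IsSimpleOrder.eq_bot_or_eq_top S' with h1 | h1
  · exact Or.inl (Subrepresentation.toSubmodule_injective
      (show S'.toSubmodule = _ from congrArg (fun T : Subrepresentation σ => T.toSubmodule) h1))
  · exact Or.inr (Subrepresentation.toSubmodule_injective
      (show S'.toSubmodule = _ from congrArg (fun T : Subrepresentation σ => T.toSubmodule) h1))

/-- The determinant of a representation as a homomorphism to the units. -/
noncomputable def detHom {V : Type*} [AddCommGroup V] [Module ℂ V] (ρ : Representation ℂ G V) :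
    G →* ℂˣ :=
  (Units.map (LinearMap.det : Module.End ℂ V →* ℂ)).comp ρ.toHomUnits

theorem detHom_apply {V : Type*} [AddCommGroup V] [Module ℂ V] (ρ : Representation ℂ G V) (g : G) :
    (detHom ρ g : ℂ) = LinearMap.det (ρ g) := rfl

theorem detHom_eq_of_character_eq [Finite G] {V W : Type*} [AddCommGroup V] [Module ℂ V]
    [FiniteDimensional ℂ V] [AddCommGroup W] [Module ℂ W] [FiniteDimensional ℂ W]
    (ρ : Representation ℂ G V) (τ : Representation ℂ G W) (h : ρ.character = τ.character) :
    detHom ρ = detHom τ := by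
  obtain ⟨φ⟩ := nonempty_equiv_of_character_eq ρ τ h
  refine MonoidHom.ext fun g => Units.ext ?_
  rw [detHom_apply, detHom_apply, ← φ.conj_apply_self g, LinearEquiv.conj_apply,
    LinearMap.comp_assoc, LinearMap.det_conj (ρ g) φ.toLinearEquiv]

theorem detChar_eq [Finite G] {V : Type*} [AddCommGroup V] [Module ℂ V] [FiniteDimensional ℂ V]
    (ρ : Representation ℂ G V) : Cfsg.detChar ρ.character = fun g => (detHom ρ g : ℂ) := by
  have h : Cfsg.IsCharacter G ρ.character := isCharacter_rep ρ
  unfold Cfsg.detChar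
  rw [dif_pos h]
  funext g
  rw [← detHom_eq_of_character_eq (Classical.choose (Classical.choose_spec h)) ρ
    (Classical.choose_spec (Classical.choose_spec h))]
  rfl

theorem detOrder_eq [Finite G] {V : Type*} [AddCommGroup V] [Module ℂ V] [FiniteDimensional ℂ V]
    (ρ : Representation ℂ G V) : Cfsg.detOrder ρ.character = orderOf (detHom ρ) := by
  rw [Cfsg.detOrder, detChar_eq]
  let ev : (G →* ℂˣ) →* (G → ℂ) :=
    { toFun := fun f g => (f g : ℂ), map_one' := rfl, map_mul' := fun _ _ => rfl }
  exact orderOf_injective ev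
    (fun a b h => MonoidHom.ext fun g => Units.ext (congrFun h g)) (detHom ρ)

theorem hom_pow_card [Finite G] (f : G →* ℂˣ) : f ^ Nat.card G = 1 :=
  MonoidHom.ext fun g => by rw [MonoidHom.pow_apply, ← map_pow, pow_card_eq_one', map_one]; rfl

theorem orderOf_hom_pos [Finite G] (f : G →* ℂˣ) : 0 < orderOf f :=
  orderOf_pos_iff.mpr (isOfFinOrder_iff_pow_eq_one.mpr ⟨_, Nat.card_pos, hom_pow_card f⟩)

theorem hom_pow_index_eq_one [Finite G] {N : Subgroup G} [N.Normal] (f : G →* ℂˣ)
    (hf : ∀ n ∈ N, f n = 1) : f ^ N.index = 1 :=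
  MonoidHom.ext fun g => by
    rw [MonoidHom.pow_apply, ← map_pow, MonoidHom.one_apply, hf _ (N.pow_index_mem g)]

variable [Finite G] {N : Subgroup G} [hN : N.Normal]
variable {V : Type*} [AddCommGroup V] [Module ℂ V] [FiniteDimensional ℂ V]
variable (σ : Representation ℂ N V) [σ.IsIrreducible]

/-- A retraction of the twist group onto the scalars killing `N` gives an extension. -/
theorem exists_extension_of_hom (hinv : ∀ g n, σ.character (cn g n) = σ.character n)
    (τ : twistGroup σ →* ℂˣ) (hc : ∀ c, τ (scal σ c) = c) (hn : ∀ n, τ (emb σ n) = 1) :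
    ∃ ρ : Representation ℂ G V, ∀ n : N, ρ n = σ n := by
  let val : twistGroup σ → Module.End ℂ V := fun x =>
    (((τ x)⁻¹ : ℂˣ) : ℂ) • (op σ x : Module.End ℂ V)
  have hwd : ∀ x y, proj σ x = proj σ y → val x = val y := by
    intro x y h
    obtain ⟨c, hc'⟩ := exists_scal_of_proj σ (x := x * y⁻¹) (by rw [map_mul, map_inv, h, mul_inv_cancel])
    rw [mul_inv_eq_iff_eq_mul] at hc'
    subst hc'
    simp only [val, map_mul, hc, op_scal, Units.val_mul, scalarUnit_val, mul_inv_rev,
      smul_mul_assoc, one_mul, smul_smul]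
    congr 1
    rw [mul_assoc, ← Units.val_mul (c⁻¹), inv_mul_cancel, Units.val_one, mul_one]
  choose s hs using fun g => exists_mem_of_invariant σ (hinv g)
  refine ⟨{ toFun := fun g => val (s g)
            map_one' := ?_
            map_mul' := fun a b => ?_ }, fun n => ?_⟩
  · rw [hwd (s 1) 1 (by rw [hs, map_one])]
    simp [val]
  · rw [hwd (s (a * b)) (s a * s b) (by rw [map_mul, hs, hs, hs])]
    simp only [val, map_mul, Units.val_mul, mul_inv_rev, smul_mul_assoc, mul_smul_comm, smul_smul]
  · show val (s n) = σ n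
    rw [hwd (s n) (emb σ n) (by rw [hs, proj_emb])]
    simp [val, hn, op_emb]

theorem proj_surjective (hinv : ∀ g n, σ.character (cn g n) = σ.character n) :
    Function.Surjective (proj σ) := fun g => exists_mem_of_invariant σ (hinv g)

/-- The possible restrictions to the scalars of homomorphisms killing `N` form a subgroup of `ℤ`. -/
def scalarDegrees : AddSubgroup ℤ where
  carrier := {m | ∃ τ : twistGroup σ →* ℂˣ, (∀ c, τ (scal σ c) = c ^ m) ∧ ∀ n, τ (emb σ n) = 1}
  zero_mem' := ⟨1, fun c => by simp, fun n => rfl⟩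
  add_mem' := by
    rintro a b ⟨τ, h1, h2⟩ ⟨τ', h1', h2'⟩
    exact ⟨τ * τ', fun c => by simp [h1, h1', zpow_add], fun n => by simp [h2, h2']⟩
  neg_mem' := by
    rintro a ⟨τ, h1, h2⟩
    exact ⟨τ⁻¹, fun c => by simp [h1], fun n => by simp [h2]⟩

theorem exists_extension_of_one_mem (hinv : ∀ g n, σ.character (cn g n) = σ.character n)
    (h : (1 : ℤ) ∈ scalarDegrees σ) : ∃ ρ : Representation ℂ G V, ∀ n : N, ρ n = σ n := by
  obtain ⟨τ, h1, h2⟩ := h
  exact exists_extension_of_hom σ hinv τ (fun c => by simpa using h1 c) h2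

/-- An extension to an overgroup `P` gives the index of `P` as a degree. -/
theorem index_mem_scalarDegrees (hinv : ∀ g n, σ.character (cn g n) = σ.character n)
    (P : Subgroup G) (hNP : N ≤ P) (σP : Representation ℂ P V)
    (hσP : ∀ n : N, σP ⟨n, hNP n.2⟩ = σ n) : (P.index : ℤ) ∈ scalarDegrees σ := by
  classical
  have := nontrivial_of_irreducible σ
  set H : Subgroup (twistGroup σ) := P.comap (proj σ) with hH
  have hidx : H.index = P.index := Subgroup.index_comap_of_surjective P (proj_surjective σ hinv)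
  have : H.FiniteIndex := ⟨by rw [hidx]; exact Subgroup.index_ne_zero_of_finite⟩
  have hlift : ∀ p : P, ((p : G), σP.toHomUnits p) ∈ twistGroup σ := fun p n => by
    show σP p * σ n = σ (cn (p : G) n) * σP p
    rw [← hσP n, ← hσP (cn (p : G) n), ← map_mul, ← map_mul]
    congr 1
    exact Subtype.ext (by simp [cn])
  have hφ : ∀ x : H, ∃ c : ℂˣ, (op σ x : Module.End ℂ V) = (c : ℂ) • σP ⟨proj σ x, x.2⟩ := by
    intro x
    let p : P := ⟨proj σ (x : twistGroup σ), x.2⟩
    obtain ⟨c, hc⟩ := exists_scal_of_proj σ (x := (x : twistGroup σ) * ⟨_, hlift p⟩⁻¹) (by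
      rw [map_mul, map_inv]; exact mul_inv_cancel _)
    rw [mul_inv_eq_iff_eq_mul] at hc
    refine ⟨c, ?_⟩
    conv_lhs => rw [hc]
    rw [map_mul, op_scal, Units.val_mul, scalarUnit_val, smul_mul_assoc, one_mul]
    rfl
  choose f hf using hφ
  have huniq : ∀ (x : H) (c : ℂˣ),
      (op σ x : Module.End ℂ V) = (c : ℂ) • σP ⟨proj σ x, x.2⟩ → f x = c := by
    intro x c h
    rw [hf x] at h
    have h2 := congrArg (fun A => A * σP (⟨proj σ x, x.2⟩⁻¹)) h
    simp only [smul_mul_assoc, ← map_mul, mul_inv_cancel, map_one] at h2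
    exact Units.ext (smul_left_injective ℂ (one_ne_zero (α := Module.End ℂ V)) h2)
  let φ : H →* ℂˣ := MonoidHom.mk' f fun x y => huniq _ _ (by
    simp only [Subgroup.coe_mul, map_mul, Units.val_mul, hf x, hf y, smul_mul_smul_comm]
    rw [← map_mul]
    rfl)
  have hφscal : ∀ (c : ℂˣ) (h : scal σ c ∈ H), φ ⟨scal σ c, h⟩ = c := fun c h => huniq _ _ (by
    rw [op_scal, scalarUnit_val]
    congr 1
    rw [show (⟨proj σ (scal σ c), h⟩ : P) = 1 from Subtype.ext (proj_scal σ c), map_one])
  have hφemb : ∀ (n : N) (h : emb σ n ∈ H), φ ⟨emb σ n, h⟩ = 1 := fun n h => huniq _ _ (by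
    rw [op_emb, Units.val_one, one_smul, ← hσP n]
    rfl)
  refine ⟨MonoidHom.transfer φ, fun c => ?_, fun n => ?_⟩
  · rw [MonoidHom.transfer_eq_pow φ (scal σ c) fun k g₀ _ => by
      rw [mul_assoc, ((scal_commute σ c g₀).pow_left k).eq, inv_mul_cancel_left]]
    rw [zpow_natCast, ← hidx]
    have hmem : scal σ (c ^ H.index) ∈ H := by
      show proj σ (scal σ (c ^ H.index)) ∈ P
      rw [proj_scal]; exact P.one_mem
    rw [show (⟨scal σ c ^ H.index, _⟩ : H) = ⟨scal σ (c ^ H.index), hmem⟩ from
      Subtype.ext (map_pow (scal σ) c _).symm, hφscal]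
  · let := H.fintypeQuotientOfFiniteIndex
    rw [MonoidHom.transfer_eq_prod_quotient_orbitRel_zpowers_quot]
    refine Finset.prod_eq_one fun q _ => ?_
    have hx : ∀ (x : twistGroup σ) (k : ℕ), x⁻¹ * emb σ n ^ k * x = emb σ (cn (proj σ x⁻¹) (n ^ k)) :=
      fun x k => by rw [← map_pow, ← conj_emb, inv_inv]
    have hmem : ∀ m : N, emb σ m ∈ H := fun m => hNP m.2
    refine Eq.trans (congrArg φ (Subtype.ext (hx _ _) : _ = (⟨_, hmem _⟩ : H))) ?_
    exact hφemb _ _

/-- Extensions to overgroups of indices with no common prime divisor give an extension to the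
whole group. -/
theorem exists_extension_of_family (hinv : ∀ g n, σ.character (cn g n) = σ.character n)
    (hsyl : ∀ p : ℕ, p.Prime → ∃ (P : Subgroup G) (hNP : N ≤ P) (σP : Representation ℂ P V),
      ¬ p ∣ P.index ∧ ∀ n : N, σP ⟨n, hNP n.2⟩ = σ n) :
    ∃ ρ : Representation ℂ G V, ∀ n : N, ρ n = σ n := by
  refine exists_extension_of_one_mem σ hinv ?_
  obtain ⟨k, hk⟩ := Int.subgroup_cyclic (scalarDegrees σ)
  by_cases h1 : k.natAbs = 1
  · rw [hk, AddSubgroup.mem_closure_singleton]
    rcases Int.natAbs_eq k with h | h <;> rw [h, h1]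
    · exact ⟨1, by simp⟩
    · exact ⟨-1, by simp⟩
  exfalso
  obtain ⟨p, hp, hpk⟩ := Nat.exists_prime_and_dvd h1
  obtain ⟨P, hNP, σP, hP, hσP⟩ := hsyl p hp
  have h2 := index_mem_scalarDegrees σ hinv P hNP σP hσP
  rw [hk, AddSubgroup.mem_closure_singleton] at h2
  obtain ⟨z, hz⟩ := h2
  refine hP (hpk.trans (Int.natCast_dvd_natCast.mp ((Int.natAbs_dvd).mpr ⟨z, ?_⟩)))
  rw [← hz, smul_eq_mul, mul_comm]

/-- Coprimality of determinantal order and degree with the index gives an extension. -/
theorem exists_extension_coprime (hinv : ∀ g n, σ.character (cn g n) = σ.character n)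
    (hcop : (orderOf (detHom σ) * finrank ℂ V).Coprime N.index) :
    ∃ ρ : Representation ℂ G V, ∀ n : N, ρ n = σ n := by
  refine exists_extension_of_one_mem σ hinv ?_
  have h1 : ((orderOf (detHom σ) * finrank ℂ V : ℕ) : ℤ) ∈ scalarDegrees σ := by
    refine ⟨detTwist σ ^ orderOf (detHom σ), fun c => ?_, fun n => ?_⟩
    · rw [MonoidHom.pow_apply, detTwist_scal, ← pow_mul, zpow_natCast, mul_comm]
    · rw [MonoidHom.pow_apply, show detTwist σ (emb σ n) = detHom σ n from rfl,
        ← MonoidHom.pow_apply, pow_orderOf_eq_one, MonoidHom.one_apply]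
  have h2 : (N.index : ℤ) ∈ scalarDegrees σ :=
    index_mem_scalarDegrees σ hinv N le_rfl σ fun n => rfl
  obtain ⟨u, v, huv⟩ := Nat.isCoprime_iff_coprime.mpr hcop
  rw [← huv]
  exact add_mem ((scalarDegrees σ).zsmul_mem h1 u) ((scalarDegrees σ).zsmul_mem h2 v)

/-- Twist by a linear character. -/
def twistRep (ρ : Representation ℂ G V) (l : G →* ℂˣ) : Representation ℂ G V where
  toFun g := (l g : ℂ) • ρ g
  map_one' := by simp
  map_mul' a b := by rw [map_mul, map_mul, Units.val_mul, smul_mul_smul_comm]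

omit [Finite G] in
theorem detHom_twistRep (ρ : Representation ℂ G V) (l : G →* ℂˣ) :
    detHom (twistRep ρ l) = l ^ finrank ℂ V * detHom ρ :=
  MonoidHom.ext fun g => Units.ext (by
    simp [detHom_apply, twistRep, LinearMap.det_smul])

omit [Finite G] [FiniteDimensional ℂ V] in
theorem character_twistRep (ρ : Representation ℂ G V) (l : G →* ℂˣ) :
    (twistRep ρ l).character = fun g => (l g : ℂ) * ρ.character g :=
  funext fun g => by simp [Representation.character, twistRep]

/-- The canonical extension: same determinantal order. -/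
theorem exists_canonical_extension (hinv : ∀ g n, σ.character (cn g n) = σ.character n)
    (hcop : (orderOf (detHom σ) * finrank ℂ V).Coprime N.index) :
    ∃ ρ : Representation ℂ G V, (∀ n : N, ρ n = σ n) ∧
      orderOf (detHom ρ) = orderOf (detHom σ) := by
  obtain ⟨ρ, hρ⟩ := exists_extension_coprime σ hinv hcop
  set o := orderOf (detHom σ) with ho
  set μ := detHom ρ with hμ
  have hμN : ∀ n : N, μ n = detHom σ n := fun n => Units.ext (by
    rw [hμ, detHom_apply, detHom_apply, hρ])
  have hμo : ∀ n ∈ N, (μ ^ o) n = 1 := fun n hn => by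
    rw [MonoidHom.pow_apply, hμN ⟨n, hn⟩, ← MonoidHom.pow_apply, ho, pow_orderOf_eq_one,
      MonoidHom.one_apply]
  obtain ⟨u, v, huv⟩ := Nat.isCoprime_iff_coprime.mpr hcop
  set l : G →* ℂˣ := (μ ^ o) ^ (-u) with hl
  have hlN : ∀ n ∈ N, l n = 1 := fun n hn => by
    rw [hl]
    show ((μ ^ o) n) ^ (-u) = 1
    rw [hμo n hn, one_zpow]
  refine ⟨twistRep ρ l, fun n => ?_, ?_⟩
  · show (l n : ℂ) • ρ n = _
    rw [hlN n n.2, Units.val_one, one_smul, hρ]
  · set μ' := detHom (twistRep ρ l) with hμ'
    have hμ'o : μ' ^ o = 1 := by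
      refine MonoidHom.ext fun g => ?_
      have h1 : μ g ^ ((o : ℤ) * (N.index : ℤ)) = 1 := by
        rw [← Nat.cast_mul, zpow_natCast, pow_mul, ← map_pow, ← map_pow]
        have h := hμo _ (N.pow_index_mem g)
        rw [MonoidHom.pow_apply, ← map_pow] at h
        rwa [← pow_mul, mul_comm, pow_mul]
      rw [MonoidHom.pow_apply, hμ', detHom_twistRep, ← hμ, hl, MonoidHom.mul_apply,
        MonoidHom.pow_apply, MonoidHom.one_apply]
      show ((((μ ^ o) g) ^ (-u)) ^ finrank ℂ V * μ g) ^ o = 1
      rw [MonoidHom.pow_apply, ← zpow_natCast (μ g) o, ← zpow_mul, ← zpow_natCast _ (finrank ℂ V),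
        ← zpow_mul, ← zpow_add_one, ← zpow_natCast _ o, ← zpow_mul,
        show ((o : ℤ) * -u * (finrank ℂ V : ℤ) + 1) * (o : ℤ) =
          ((o : ℤ) * (N.index : ℤ)) * v by push_cast at huv; linear_combination (-(o : ℤ)) * huv,
        zpow_mul, h1, one_zpow]
    refine Nat.dvd_antisymm (orderOf_dvd_of_pow_eq_one hμ'o) (orderOf_dvd_of_pow_eq_one ?_)
    refine MonoidHom.ext fun n => ?_
    have h2 : detHom σ n = μ' n := Units.ext (by
      rw [hμ', detHom_apply, detHom_apply]
      show _ = LinearMap.det ((l n : ℂ) • ρ n)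
      rw [hlN n n.2, Units.val_one, one_smul, hρ])
    rw [MonoidHom.pow_apply, h2, ← MonoidHom.pow_apply, pow_orderOf_eq_one]
    rfl

end CfsgLib.CharExt
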