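import Cfsg.Agent.Lib.Char.Complete

/-!
# A representation of a finite group is determined by its character; irreducible constituents
-/

namespace CfsgLib.Char

open scoped ComplexConjugate
open Module

universe v w

variable {G : Type*} [Group G]

theorem exists_irreducible_subrep {V : Type*} [AddCommGroup V] [Module ℂ V] [FiniteDimensional ℂ V]
    [Nontrivial V] (ρ : Representation ℂ G V) :
    ∃ S : Subrepresentation ρ, S.toRepresentation.IsIrreducible := by
  classical
  have hex : ∃ n, ∃ S : Subrepresentation ρ, S.toSubmodule ≠ ⊥ ∧ finrank ℂ S.toSubmodule = n :=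
    ⟨_, ⊤, (show (⊤ : Submodule ℂ V) ≠ ⊥ from top_ne_bot), rfl⟩
  obtain ⟨S, hS0, hSn⟩ := Nat.find_spec hex
  refine ⟨S, ?_⟩
  haveI : Nontrivial S.toSubmodule := Submodule.nontrivial_iff_ne_bot.mpr hS0
  haveI : Nontrivial (Subrepresentation S.toRepresentation) :=
    ⟨⊥, ⊤, fun hbt => bot_ne_top (congrArg Subrepresentation.toSubmodule hbt)⟩
  refine ⟨fun T => ?_⟩
  by_cases hT : T.toSubmodule = ⊥
  · exact Or.inl (Subrepresentation.toSubmodule_injective hT)
  refine Or.inr (Subrepresentation.toSubmodule_injective (Submodule.eq_top_of_finrank_eq ?_))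
  let T' : Subrepresentation ρ := ⟨T.toSubmodule.map S.toSubmodule.subtype, by
    rintro g v ⟨x, hx, rfl⟩
    exact ⟨S.toRepresentation g x, T.apply_mem_toSubmodule g hx, rfl⟩⟩
  have h1 : finrank ℂ T'.toSubmodule = finrank ℂ T.toSubmodule :=
    Submodule.finrank_map_subtype_eq _ _
  have h2 : T'.toSubmodule ≠ ⊥ := fun h => hT (by
    have := Submodule.finrank_eq_zero.mpr h
    rw [h1] at this
    exact Submodule.finrank_eq_zero.mp this)
  have h3 : Nat.find hex ≤ finrank ℂ T.toSubmodule := Nat.find_min' hex ⟨T', h2, h1⟩
  have h4 : finrank ℂ T.toSubmodule ≤ finrank ℂ S.toSubmodule := Submodule.finrank_le _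
  omega

/-- The inclusion of a subrepresentation. -/
def subrepIncl {V : Type*} [AddCommGroup V] [Module ℂ V] {ρ : Representation ℂ G V}
    (S : Subrepresentation ρ) : S.toRepresentation.IntertwiningMap ρ where
  toLinearMap := S.toSubmodule.subtype
  isIntertwining' g := by ext v; rfl

variable [Finite G]

theorem exists_isCompl_subrep {V : Type*} [AddCommGroup V] [Module ℂ V]
    {ρ : Representation ℂ G V} (S : Subrepresentation ρ) :
    ∃ T : Subrepresentation ρ, IsCompl S.toSubmodule T.toSubmodule := by
  haveI : NeZero (Nat.card G : ℂ) := ⟨Nat.cast_ne_zero.mpr Nat.card_pos.ne'⟩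
  obtain ⟨T, hT⟩ := exists_isCompl S
  exact ⟨T, disjoint_iff.mpr ((Subrepresentation.toSubmodule_inf S T).symm.trans
      (congrArg Subrepresentation.toSubmodule hT.inf_eq_bot)),
    codisjoint_iff.mpr ((Subrepresentation.toSubmodule_sup S T).symm.trans
      (congrArg Subrepresentation.toSubmodule hT.sup_eq_top))⟩

/-- Finite-dimensional complex representations with the same character are equivalent. -/
theorem nonempty_equiv_of_character_eq {V : Type v} {W : Type w} [AddCommGroup V] [Module ℂ V]
    [FiniteDimensional ℂ V] [AddCommGroup W] [Module ℂ W] [FiniteDimensional ℂ W]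
    (ρ : Representation ℂ G V) (σ : Representation ℂ G W) (h : ρ.character = σ.character) :
    Nonempty (ρ.Equiv σ) := by
  suffices H : ∀ (n : ℕ) (V : Type v) [AddCommGroup V] [Module ℂ V] [FiniteDimensional ℂ V]
      (W : Type w) [AddCommGroup W] [Module ℂ W] [FiniteDimensional ℂ W]
      (ρ : Representation ℂ G V) (σ : Representation ℂ G W), finrank ℂ V = n →
      ρ.character = σ.character → Nonempty (ρ.Equiv σ) from H _ V W ρ σ rfl h
  clear h ρ σ
  intro n
  induction n using Nat.strong_induction_on with
  | _ n ih =>
    intro V _ _ _ W _ _ _ ρ σ hn h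
    haveI := Fintype.ofFinite G
    have hdim : finrank ℂ V = finrank ℂ W := by
      have := congrFun h 1
      rw [Representation.char_one, Representation.char_one] at this
      exact_mod_cast this
    rcases subsingleton_or_nontrivial V with hV | hV
    · haveI : Subsingleton W := finrank_zero_iff.mp (hdim ▸ finrank_zero_of_subsingleton)
      exact ⟨{ toLinearMap := 0
               invFun := fun _ => 0
               left_inv := fun _ => Subsingleton.elim _ _
               right_inv := fun _ => Subsingleton.elim _ _
               isIntertwining' := fun g => by simp }⟩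
    obtain ⟨S, hSirr⟩ := exists_irreducible_subrep ρ
    obtain ⟨T, hST⟩ := exists_isCompl_subrep S
    -- a nonzero intertwining map from `S` to `σ`
    have hpos : 0 < finrank ℂ (S.toRepresentation.IntertwiningMap ρ) := by
      haveI : Module.Finite ℂ (S.toRepresentation.IntertwiningMap ρ) :=
        Module.Finite.of_injective
          ({ toFun := fun f => f.toLinearMap
             map_add' := fun _ _ => rfl
             map_smul' := fun _ _ => rfl } : _ →ₗ[ℂ] (S.toSubmodule →ₗ[ℂ] V))
          (fun _ _ h => Representation.IntertwiningMap.ext h)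
      haveI : Nontrivial (S.toRepresentation.IntertwiningMap ρ) := ⟨subrepIncl S, 0, fun h0 => by
        haveI := nontrivial_of_irreducible S.toRepresentation
        obtain ⟨x, hx⟩ := exists_ne (0 : S.toSubmodule)
        exact hx (Subtype.ext (LinearMap.congr_fun
          (congrArg Representation.IntertwiningMap.toLinearMap h0) x))⟩
      exact finrank_pos
    have heq : finrank ℂ (S.toRepresentation.IntertwiningMap σ) =
        finrank ℂ (S.toRepresentation.IntertwiningMap ρ) := by
      have h1 := classInner_eq_finrank S.toRepresentation σ
      rw [← h, classInner_eq_finrank S.toRepresentation ρ] at h1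
      exact_mod_cast h1.symm
    obtain ⟨f, hf⟩ : ∃ f : S.toRepresentation.IntertwiningMap σ, f ≠ 0 := by
      by_contra hno
      push Not at hno
      haveI : Subsingleton (S.toRepresentation.IntertwiningMap σ) :=
        ⟨fun a b => (hno a).trans (hno b).symm⟩
      rw [finrank_zero_of_subsingleton] at heq
      omega
    have hinj : Function.Injective f.toLinearMap :=
      (Representation.IsIrreducible.injective_or_eq_zero f).resolve_right hf
    let R : Subrepresentation σ := f.range
    obtain ⟨U, hRU⟩ := exists_isCompl_subrep R
    let eS : S.toSubmodule ≃ₗ[ℂ] R.toSubmodule := LinearEquiv.ofInjective f.toLinearMap hinj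
    have heS : ∀ g x, eS (S.toRepresentation g x) = R.toRepresentation g (eS x) := fun g x =>
      Subtype.ext (f.isIntertwining _ _ g x)
    have hSR : R.toRepresentation.character = S.toRepresentation.character :=
      (Representation.char_iso
        ({ toLinearMap := eS.toLinearMap
           invFun := eS.invFun
           left_inv := eS.left_inv
           right_inv := eS.right_inv
           isIntertwining' := fun g => LinearMap.ext (heS g) } :
          S.toRepresentation.Equiv R.toRepresentation)).symm
    have hTU : T.toRepresentation.character = U.toRepresentation.character := by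
      rw [character_of_isCompl hST, character_of_isCompl hRU, hSR] at h
      exact add_left_cancel h
    have hlt : finrank ℂ T.toSubmodule < n := by
      have := Submodule.finrank_add_eq_of_isCompl hST
      have := finrank_pos_of_irreducible S.toRepresentation
      omega
    obtain ⟨φ⟩ := ih _ hlt _ _ T.toRepresentation U.toRepresentation rfl hTU
    let e : V ≃ₗ[ℂ] W := (Submodule.prodEquivOfIsCompl _ _ hST).symm ≪≫ₗ
      (eS.prodCongr φ.toLinearEquiv) ≪≫ₗ Submodule.prodEquivOfIsCompl _ _ hRU
    refine ⟨{ toLinearMap := e.toLinearMap
              invFun := e.invFun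
              left_inv := e.left_inv
              right_inv := e.right_inv
              isIntertwining' := fun g => LinearMap.ext fun v => ?_ }⟩
    obtain ⟨⟨x, y⟩, rfl⟩ := (Submodule.prodEquivOfIsCompl _ _ hST).surjective v
    have hxy : ρ g (Submodule.prodEquivOfIsCompl _ _ hST (x, y)) =
        Submodule.prodEquivOfIsCompl _ _ hST (S.toRepresentation g x, T.toRepresentation g y) := by
      simp [Submodule.coe_prodEquivOfIsCompl', Subrepresentation.toRepresentation]
    have hφ : φ.toLinearEquiv (T.toRepresentation g y) =
        U.toRepresentation g (φ.toLinearEquiv y) :=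
      φ.toIntertwiningMap.isIntertwining _ _ g y
    simp only [LinearMap.comp_apply, LinearEquiv.coe_coe, hxy, e, LinearEquiv.trans_apply,
      LinearEquiv.symm_apply_apply, LinearEquiv.prodCongr_apply, heS, hφ]
    simp [Submodule.coe_prodEquivOfIsCompl', Subrepresentation.toRepresentation]

end CfsgLib.Char
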