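import Cfsg.Agent.Lib.CharAction.Galois
import Cfsg.Agent.Lib.Char.Basic

/-!
# Sums of squared absolute values of cyclotomic integers

If the squared absolute values of finitely many nonzero cyclotomic integers have the rational sum
`n`, then there are at most `n` of them.
-/

namespace CfsgLib.Char

open scoped ComplexConjugate

theorem exists_conj_commute {N : ℕ} (hN : N ≠ 0) {ζ : ℂ} (hζ : IsPrimitiveRoot ζ N)
    (σ : (IntermediateField.adjoin ℚ ({ζ} : Set ℂ)) →ₐ[ℚ] ℂ) :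
    ∀ x, (hx : x ∈ IntermediateField.adjoin ℚ ({ζ} : Set ℂ)) →
      ∃ hy : conj x ∈ IntermediateField.adjoin ℚ ({ζ} : Set ℂ),
        σ ⟨conj x, hy⟩ = conj (σ ⟨x, hx⟩) := by
  intro x hx
  induction hx using IntermediateField.adjoin_induction with
  | mem x hx =>
    rw [Set.mem_singleton_iff] at hx
    subst hx
    have hmem := IntermediateField.mem_adjoin_simple_self ℚ x
    have hc : conj x = x⁻¹ := by
      have h1 : ‖x‖ = 1 := Complex.norm_eq_one_of_pow_eq_one hζ.pow_eq_one hN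
      rw [Complex.inv_def, Complex.normSq_eq_norm_sq, h1]
      simp
    have hy : conj x ∈ IntermediateField.adjoin ℚ ({x} : Set ℂ) := hc ▸ inv_mem hmem
    refine ⟨hy, ?_⟩
    have hσ : (σ ⟨x, hmem⟩) ^ N = 1 := by
      rw [← map_pow, show (⟨x, hmem⟩ : IntermediateField.adjoin ℚ ({x} : Set ℂ)) ^ N = 1 from
        Subtype.ext hζ.pow_eq_one, map_one]
    have h1 : ‖σ ⟨x, hmem⟩‖ = 1 := Complex.norm_eq_one_of_pow_eq_one hσ hN
    have hc' : conj (σ ⟨x, hmem⟩) = (σ ⟨x, hmem⟩)⁻¹ := by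
      rw [Complex.inv_def, Complex.normSq_eq_norm_sq, h1]
      simp
    rw [hc', ← map_inv₀]
    exact congrArg σ (Subtype.ext hc)
  | algebraMap q =>
    have hmem : conj (algebraMap ℚ ℂ q) ∈ IntermediateField.adjoin ℚ ({ζ} : Set ℂ) := by
      rw [show conj (algebraMap ℚ ℂ q) = algebraMap ℚ ℂ q by simp]
      exact IntermediateField.algebraMap_mem _ q
    refine ⟨hmem, ?_⟩
    rw [show (⟨conj (algebraMap ℚ ℂ q), hmem⟩ : IntermediateField.adjoin ℚ ({ζ} : Set ℂ)) =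
        algebraMap ℚ _ q from Subtype.ext (by simp),
      show (⟨algebraMap ℚ ℂ q, _⟩ : IntermediateField.adjoin ℚ ({ζ} : Set ℂ)) =
        algebraMap ℚ _ q from Subtype.ext (by simp), AlgHom.commutes]
    simp
  | add x y hx hy ihx ihy =>
    obtain ⟨h₁, e₁⟩ := ihx
    obtain ⟨h₂, e₂⟩ := ihy
    refine ⟨by rw [map_add]; exact add_mem h₁ h₂, ?_⟩
    rw [show (⟨x + y, _⟩ : IntermediateField.adjoin ℚ ({ζ} : Set ℂ)) = ⟨x, hx⟩ + ⟨y, hy⟩ from rfl,
      map_add σ]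
    conv_rhs => rw [map_add]
    rw [← e₁, ← e₂, ← map_add σ]
    exact congrArg σ (Subtype.ext (map_add (starRingEnd ℂ) x y))
  | inv x hx ihx =>
    obtain ⟨h₁, e₁⟩ := ihx
    refine ⟨by rw [map_inv₀]; exact inv_mem h₁, ?_⟩
    rw [show (⟨x⁻¹, _⟩ : IntermediateField.adjoin ℚ ({ζ} : Set ℂ)) = (⟨x, hx⟩)⁻¹ from rfl,
      map_inv₀ σ]
    conv_rhs => rw [map_inv₀]
    rw [← e₁, ← map_inv₀ σ]
    exact congrArg σ (Subtype.ext (map_inv₀ (starRingEnd ℂ) x))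
  | mul x y hx hy ihx ihy =>
    obtain ⟨h₁, e₁⟩ := ihx
    obtain ⟨h₂, e₂⟩ := ihy
    refine ⟨by rw [map_mul]; exact mul_mem h₁ h₂, ?_⟩
    rw [show (⟨x * y, _⟩ : IntermediateField.adjoin ℚ ({ζ} : Set ℂ)) = ⟨x, hx⟩ * ⟨y, hy⟩ from rfl,
      map_mul σ]
    conv_rhs => rw [map_mul]
    rw [← e₁, ← e₂, ← map_mul σ]
    exact congrArg σ (Subtype.ext (map_mul (starRingEnd ℂ) x y))

/-- The counting bound. -/
theorem card_le_of_sum_mul_conj {ι : Type*} (S : Finset ι) (α : ι → ℂ) {N : ℕ} (hN : N ≠ 0)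
    {ζ : ℂ} (hζ : IsPrimitiveRoot ζ N) (hint : ∀ i ∈ S, IsIntegral ℤ (α i))
    (hmem : ∀ i ∈ S, α i ∈ IntermediateField.adjoin ℚ ({ζ} : Set ℂ))
    (hne : ∀ i ∈ S, α i ≠ 0) {n : ℕ} (hsum : ∑ i ∈ S, α i * conj (α i) = (n : ℂ)) :
    S.card ≤ n := by
  classical
  set K := IntermediateField.adjoin ℚ ({ζ} : Set ℂ) with hK
  have hfin : FiniteDimensional ℚ K :=
    IntermediateField.adjoin.finiteDimensional (IsIntegral.of_pow (Nat.pos_of_ne_zero hN) (by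
      rw [hζ.pow_eq_one]; exact isIntegral_one))
  have hnonempty : Nonempty (K →ₐ[ℚ] ℂ) := ⟨K.val⟩
  let x : S → K := fun i => ⟨α i, hmem i i.2⟩
  have hσsum : ∀ σ : K →ₐ[ℚ] ℂ, ∑ i : S, ‖σ (x i)‖ ^ 2 = (n : ℝ) := by
    intro σ
    have hc := fun i : S => exists_conj_commute hN hζ σ (α i) (hmem i i.2)
    choose hy he using hc
    have h1 : ∑ i : S, x i * ⟨conj (α i), hy i⟩ = (n : K) := by
      refine Subtype.ext ?_
      rw [IntermediateField.coe_sum]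
      simp only [x, IntermediateField.coe_mul]
      push_cast
      rw [← hsum]
      exact Finset.sum_coe_sort S fun i => α i * conj (α i)
    have h2 := congrArg σ h1
    rw [map_sum, map_natCast] at h2
    simp only [map_mul, he] at h2
    have h3 : ((∑ i : S, ‖σ (x i)‖ ^ 2 : ℝ) : ℂ) = ((n : ℝ) : ℂ) := by
      rw [Complex.ofReal_natCast, ← h2, Complex.ofReal_sum]
      exact Finset.sum_congr rfl fun i _ => by rw [Complex.mul_conj', Complex.ofReal_pow]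
    exact_mod_cast h3
  have hone : ∀ i : S, (Fintype.card (K →ₐ[ℚ] ℂ) : ℝ) ≤ ∑ σ : K →ₐ[ℚ] ℂ, ‖σ (x i)‖ ^ 2 := by
    intro i
    have hx0 : x i ≠ 0 := fun h => hne i i.2 (congrArg Subtype.val h)
    have hxi : IsIntegral ℤ (x i) :=
      (isIntegral_algebraMap_iff (A := K) (B := ℂ) (RingHom.injective _)).1 (hint i i.2)
    obtain ⟨c, hc⟩ := IsIntegrallyClosed.isIntegral_iff.mp (Algebra.isIntegral_norm ℚ hxi)
    have hprod := Algebra.norm_eq_prod_embeddings ℚ ℂ (x i)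
    have hc0 : c ≠ 0 := fun h => by
      rw [h, map_zero, eq_comm, Algebra.norm_eq_zero_iff] at hc
      exact hx0 hc
    have h1 : 1 ≤ ∏ σ : K →ₐ[ℚ] ℂ, ‖σ (x i)‖ ^ 2 := by
      rw [Finset.prod_pow, ← norm_prod, ← hprod, ← hc]
      simp only [eq_intCast, map_intCast, Complex.norm_intCast]
      exact one_le_pow₀ (by exact_mod_cast Int.one_le_abs hc0)
    have h2 := CharAction.card_le_sum_of_one_le_prod (Finset.univ : Finset (K →ₐ[ℚ] ℂ))
      (fun σ => ‖σ (x i)‖ ^ 2) (fun σ _ => by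
        have : σ (x i) ≠ 0 := (map_ne_zero σ).mpr hx0
        positivity) h1
    rwa [Finset.card_univ] at h2
  have hle : (S.card : ℝ) * Fintype.card (K →ₐ[ℚ] ℂ) ≤ (n : ℝ) * Fintype.card (K →ₐ[ℚ] ℂ) := by
    calc (S.card : ℝ) * Fintype.card (K →ₐ[ℚ] ℂ) = ∑ _i : S, (Fintype.card (K →ₐ[ℚ] ℂ) : ℝ) := by
          rw [Finset.sum_const, Finset.card_univ, Fintype.card_coe, nsmul_eq_mul]
      _ ≤ ∑ i : S, ∑ σ : K →ₐ[ℚ] ℂ, ‖σ (x i)‖ ^ 2 := Finset.sum_le_sum fun i _ => hone i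
      _ = ∑ _σ : K →ₐ[ℚ] ℂ, (n : ℝ) := by
          rw [Finset.sum_comm]; exact Finset.sum_congr rfl fun σ _ => hσsum σ
      _ = (n : ℝ) * Fintype.card (K →ₐ[ℚ] ℂ) := by
          rw [Finset.sum_const, Finset.card_univ, nsmul_eq_mul, mul_comm]
  exact_mod_cast le_of_mul_le_mul_right hle (Nat.cast_pos.2 Fintype.card_pos)

/-- Character values lie in the cyclotomic field of the group order. -/
theorem apply_mem_adjoin {G : Type*} [Group G] [Finite G] {χ : G → ℂ} (hχ : Cfsg.IsCharacter G χ)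
    {N : ℕ} (hN : N ≠ 0) {ζ : ℂ} (hζ : IsPrimitiveRoot ζ N) {g : G} (hg : orderOf g ∣ N) :
    χ g ∈ IntermediateField.adjoin ℚ ({ζ} : Set ℂ) := by
  obtain ⟨m, ρ, rfl⟩ := hχ
  obtain ⟨ε, hε, -, hpow, -⟩ := exists_eigenvalues ρ g
  have h := hpow 1
  simp only [pow_one] at h
  rw [h]
  refine sum_mem fun i _ => ?_
  obtain ⟨d, hd⟩ := hg
  have : NeZero N := ⟨hN⟩
  obtain ⟨j, -, hj⟩ := hζ.eq_pow_of_pow_eq_one (ξ := ε i) (by rw [hd, pow_mul, hε i, one_pow])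
  rw [← hj]
  exact pow_mem (IntermediateField.mem_adjoin_simple_self ℚ ζ) j

end CfsgLib.Char
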