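import Cfsg.Agent.Lib.Char.Equiv
import Cfsg.Agent.Lib.Char.Indicator
import Mathlib.LinearAlgebra.Matrix.PosDef
import Mathlib.LinearAlgebra.Matrix.Charpoly.Basic
import Mathlib.Analysis.Complex.Order

/-!
# Invariant bilinear forms and real forms of irreducible representations
-/

namespace CfsgLib.Char

open scoped ComplexConjugate ComplexOrder
open Module Matrix

variable {G : Type*} [Group G] {n : ℕ}

/-- The matrices of a representation on a coordinate space. -/
noncomputable def matHom {k : Type*} [CommRing k] (ρ : Representation k G (Fin n → k)) :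
    G →* Matrix (Fin n) (Fin n) k where
  toFun g := LinearMap.toMatrix' (ρ g)
  map_one' := by rw [map_one]; exact LinearMap.toMatrix'_id
  map_mul' a b := by rw [map_mul]; exact LinearMap.toMatrix'_comp _ _

/-- The representation of a matrix homomorphism. -/
noncomputable def repOfMat {k : Type*} [CommRing k] (R : G →* Matrix (Fin n) (Fin n) k) :
    Representation k G (Fin n → k) where
  toFun g := Matrix.toLin' (R g)
  map_one' := by rw [map_one]; exact Matrix.toLin'_one
  map_mul' a b := by rw [map_mul]; exact Matrix.toLin'_mul _ _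

theorem trace_matHom (ρ : Representation ℂ G (Fin n → ℂ)) (g : G) :
    (matHom ρ g).trace = ρ.character g := by
  unfold Representation.character
  conv_rhs => rw [← Matrix.toLin'_toMatrix' (ρ g)]
  rw [Matrix.trace_toLin'_eq]
  rfl

theorem character_repOfMat (R : G →* Matrix (Fin n) (Fin n) ℂ) (g : G) :
    (repOfMat R).character g = (R g).trace :=
  Matrix.trace_toLin'_eq (R g)

theorem map_inv_mul_cancel {k : Type*} [CommRing k] (R : G →* Matrix (Fin n) (Fin n) k) (g : G) :
    R g⁻¹ * R g = 1 := by rw [← map_mul, inv_mul_cancel, map_one]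

theorem map_mul_inv_cancel {k : Type*} [CommRing k] (R : G →* Matrix (Fin n) (Fin n) k) (g : G) :
    R g * R g⁻¹ = 1 := by rw [← map_mul, mul_inv_cancel, map_one]

/-- An irreducible matrix representation commutes only with scalars. -/
theorem matrix_schur [Fintype G] (ρ : Representation ℂ G (Fin n → ℂ)) [ρ.IsIrreducible]
    (X : Matrix (Fin n) (Fin n) ℂ) (h : ∀ g, X * matHom ρ g = matHom ρ g * X) :
    ∃ c : ℂ, X = c • 1 := by
  obtain ⟨c, hc⟩ := exists_eq_smul_of_commute ρ (Matrix.toLin' X) fun g => by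
    have h2 := congrArg Matrix.toLin' (h g)
    simpa [Matrix.toLin'_mul, matHom, Module.End.mul_eq_comp] using h2
  refine ⟨c, ?_⟩
  have h3 := congrArg LinearMap.toMatrix' hc
  simpa using h3

variable [Fintype G] (ρ : Representation ℂ G (Fin n → ℂ)) [ρ.IsIrreducible]

theorem exists_invariant_form (hreal : ∀ g, (ρ.character g).im = 0) :
    ∃ M : Matrix (Fin n) (Fin n) ℂ,
      IsUnit M.det ∧ ∀ g, (matHom ρ g)ᵀ * M * matHom ρ g = M := by
  let R' : G →* Matrix (Fin n) (Fin n) ℂ :=
    { toFun := fun g => (matHom ρ g⁻¹)ᵀ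
      map_one' := by rw [inv_one, map_one, transpose_one]
      map_mul' := fun a b => by rw [_root_.mul_inv_rev, map_mul, transpose_mul] }
  have hchar : ρ.character = (repOfMat R').character := by
    funext g
    rw [character_repOfMat]
    show ρ.character g = ((matHom ρ g⁻¹)ᵀ).trace
    rw [trace_transpose, trace_matHom, character_inv, Complex.conj_eq_iff_im.mpr (hreal g)]
  obtain ⟨φ⟩ := nonempty_equiv_of_character_eq ρ (repOfMat R') hchar
  refine ⟨LinearMap.toMatrix' φ.toLinearEquiv.toLinearMap, ?_, fun g => ?_⟩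
  · refine Matrix.isUnit_det_of_left_inverse
      (B := LinearMap.toMatrix' φ.toLinearEquiv.symm.toLinearMap) ?_
    rw [← LinearMap.toMatrix'_comp,
      show φ.toLinearEquiv.symm.toLinearMap ∘ₗ φ.toLinearEquiv.toLinearMap = LinearMap.id from
        LinearMap.ext fun v => φ.toLinearEquiv.symm_apply_apply v, LinearMap.toMatrix'_id]
  · have h : φ.toLinearEquiv.toLinearMap ∘ₗ ρ g = repOfMat R' g ∘ₗ φ.toLinearEquiv.toLinearMap :=
      φ.toIntertwiningMap.isIntertwining' g
    have h2 := congrArg LinearMap.toMatrix' h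
    rw [LinearMap.toMatrix'_comp, LinearMap.toMatrix'_comp] at h2
    have h3 : LinearMap.toMatrix' (repOfMat R' g) = (matHom ρ g⁻¹)ᵀ :=
      LinearMap.toMatrix'_toLin' _
    rw [h3] at h2
    rw [mul_assoc, show matHom ρ g = LinearMap.toMatrix' (ρ g) from rfl, h2, ← mul_assoc,
      show LinearMap.toMatrix' (ρ g) = matHom ρ g from rfl, ← transpose_mul,
      map_inv_mul_cancel, transpose_one, one_mul]

theorem invariant_form_transpose (hreal : ∀ g, (ρ.character g).im = 0)
    (M : Matrix (Fin n) (Fin n) ℂ) (hM : ∀ g, (matHom ρ g)ᵀ * M * matHom ρ g = M) :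
    Mᵀ = fsInd ρ.character • M := by
  obtain ⟨M₀, hu, hM₀⟩ := exists_invariant_form ρ hreal
  set R := matHom ρ with hR
  have hone : ∀ X : Matrix (Fin n) (Fin n) ℂ, (∀ g, (R g)ᵀ * X * R g = X) →
      ∃ a : ℂ, X = a • M₀ := by
    intro X hX
    obtain ⟨a, ha⟩ := matrix_schur ρ (M₀⁻¹ * X) fun g => by
      have h1 : M₀ * (R g * (M₀⁻¹ * X)) = M₀ * (M₀⁻¹ * X * R g) := by
        have e1 : (R g⁻¹)ᵀ * M₀ = M₀ * R g := by
          conv_lhs => rw [← hM₀ g]
          rw [← mul_assoc, ← mul_assoc, ← transpose_mul, map_mul_inv_cancel, transpose_one, one_mul]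
        have e2 : (R g⁻¹)ᵀ * X = X * R g := by
          conv_lhs => rw [← hX g]
          rw [← mul_assoc, ← mul_assoc, ← transpose_mul, map_mul_inv_cancel, transpose_one, one_mul]
        rw [← mul_assoc M₀, ← e1, mul_assoc, Matrix.mul_nonsing_inv_cancel_left _ _ hu, e2,
          mul_assoc M₀⁻¹, Matrix.mul_nonsing_inv_cancel_left _ _ hu]
      letI := M₀.invertibleOfIsUnitDet hu
      exact ((Matrix.mul_right_inj_of_invertible M₀).mp h1).symm
    refine ⟨a, ?_⟩
    have := congrArg (M₀ * ·) ha
    simpa [Matrix.mul_nonsing_inv_cancel_left _ _ hu] using this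
  have htr : ∀ X : Matrix (Fin n) (Fin n) ℂ, (∀ g, (R g)ᵀ * X * R g = X) →
      ∀ g, (R g)ᵀ * Xᵀ * R g = Xᵀ := fun X hX g => by
    conv_rhs => rw [← hX g]
    simp [transpose_mul, mul_assoc]
  obtain ⟨c, hc⟩ := hone _ (htr M₀ hM₀)
  obtain ⟨a, rfl⟩ := hone M hM
  suffices hν : fsInd ρ.character = c by
    rw [transpose_smul, hc, hν, smul_smul, smul_smul, mul_comm]
  -- averaging elementary matrices
  have hE : ∀ X : Matrix (Fin n) (Fin n) ℂ,
      (∑ g, (R g)ᵀ * Xᵀ * R g) = c • ∑ g, (R g)ᵀ * X * R g := by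
    intro X
    obtain ⟨b, hb⟩ := hone (∑ g, (R g)ᵀ * X * R g) fun h => by
      simp only [Finset.mul_sum, Finset.sum_mul]
      exact Fintype.sum_equiv (Equiv.mulRight h) _ _ fun g => by
        simp [map_mul, transpose_mul, mul_assoc]
    have h2 : (∑ g, (R g)ᵀ * Xᵀ * R g) = (∑ g, (R g)ᵀ * X * R g)ᵀ := by
      simp [transpose_sum, transpose_mul, mul_assoc]
    rw [h2, hb, transpose_smul, hc, smul_comm]
  have hentry : ∀ i j, ∑ g, R g j i * R g i j = c * ∑ g, R g i i * R g j j := by
    intro i j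
    have h := congrFun (congrFun (hE (Matrix.single i j 1)) i) j
    simpa [Matrix.sum_apply, Matrix.smul_apply, transpose_single, Matrix.mul_apply,
      Matrix.single_apply, ite_and, Finset.mul_sum] using h
  have h1 : ∑ g, ρ.character (g * g) = ∑ i, ∑ j, ∑ g, R g j i * R g i j := by
    rw [Finset.sum_congr rfl fun g _ => (trace_matHom ρ (g * g)).symm]
    simp only [map_mul, Matrix.trace, Matrix.diag, Matrix.mul_apply]
    rw [Finset.sum_comm]
    refine Finset.sum_congr rfl fun i _ => ?_
    rw [Finset.sum_comm]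
    exact Finset.sum_congr rfl fun j _ => Finset.sum_congr rfl fun g _ => mul_comm _ _
  have h2 : ∑ g, ρ.character g * ρ.character g = ∑ i, ∑ j, ∑ g, R g i i * R g j j := by
    simp only [← trace_matHom, Matrix.trace, Matrix.diag, Finset.sum_mul_sum, ← hR]
    rw [Finset.sum_comm]
    exact Finset.sum_congr rfl fun i _ => Finset.sum_comm
  have h3 : (Nat.card G : ℂ)⁻¹ * ∑ g, ρ.character g * ρ.character g = 1 := by
    rw [← (isIrreducible_iff_classInner_eq_one ρ).mp inferInstance, Cfsg.classInner]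
    simp [Complex.conj_eq_iff_im.mpr (hreal _)]
  rw [fsInd, h1]
  simp only [hentry, ← Finset.mul_sum]
  rw [← h2, mul_left_comm, h3, mul_one]

theorem exists_real_form (hν : fsInd ρ.character = 1) :
    ∃ σ : Representation ℝ G (Fin n → ℝ), ∀ g,
      ((LinearMap.trace ℝ (Fin n → ℝ) (σ g) : ℝ) : ℂ) = ρ.character g := by
  classical
  have hreal : ∀ g, (ρ.character g).im = 0 := by
    by_contra h
    push Not at h
    rw [(fsInd_trichotomy ρ).2.mpr h] at hν
    exact zero_ne_one hν
  haveI hn : Nonempty (Fin n) := by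
    have := finrank_pos_of_irreducible ρ
    rw [finrank_fin_fun] at this
    exact ⟨⟨0, this⟩⟩
  obtain ⟨M, hu, hM⟩ := exists_invariant_form ρ hreal
  have hsym : Mᵀ = M := by
    have := invariant_form_transpose ρ hreal M hM
    rwa [hν, one_smul] at this
  set R := matHom ρ with hR
  set H : Matrix (Fin n) (Fin n) ℂ := ∑ g, (R g)ᴴ * R g with hH
  have hHpd : H.PosDef := by
    rw [hH, ← Finset.add_sum_erase _ _ (Finset.mem_univ (1 : G))]
    refine Matrix.PosDef.add_posSemidef ?_
      (Matrix.posSemidef_sum _ fun g _ => Matrix.posSemidef_conjTranspose_mul_self _)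
    simp only [map_one, conjTranspose_one, one_mul]
    exact Matrix.PosDef.one
  have hHu : IsUnit H.det := (Matrix.isUnit_iff_isUnit_det _).mp hHpd.isUnit
  have hHinv : ∀ g, (R g)ᴴ * H * R g = H := fun h => by
    simp only [hH, Finset.mul_sum, Finset.sum_mul]
    exact Fintype.sum_equiv (Equiv.mulRight h) _ _ fun g => by
      simp [map_mul, conjTranspose_mul, mul_assoc]
  let cj : Matrix (Fin n) (Fin n) ℂ →+* Matrix (Fin n) (Fin n) ℂ := (starRingEnd ℂ).mapMatrix
  have hcj2 : ∀ X, cj (cj X) = X := fun X => Matrix.ext fun i j => Complex.conj_conj _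
  have hcjT : ∀ X, cj Xᵀ = Xᴴ := fun X => Matrix.ext fun i j => rfl
  have hcjM : cj M = Mᴴ := by
    conv_lhs => rw [← hsym]
    exact hcjT M
  set A := H⁻¹ * cj M with hA
  have hHA : H * A = cj M := Matrix.mul_nonsing_inv_cancel_left _ _ hHu
  have hcomm : ∀ g, R g * A = A * cj (R g) := fun g => by
    have e1 : H * R g = (R g⁻¹)ᴴ * H := by
      conv_rhs => rw [← hHinv g]
      rw [← mul_assoc, ← mul_assoc, ← conjTranspose_mul, map_mul_inv_cancel, conjTranspose_one,
        one_mul]
    have e2 : (R g⁻¹)ᴴ * cj M = cj M * cj (R g) := by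
      rw [← hcjT, ← map_mul, ← map_mul]
      congr 1
      conv_lhs => rw [← hM g]
      rw [← mul_assoc, ← mul_assoc, ← transpose_mul, map_mul_inv_cancel, transpose_one, one_mul]
    letI := H.invertibleOfIsUnitDet hHu
    refine (Matrix.mul_right_inj_of_invertible H).mp ?_
    rw [← mul_assoc, e1, mul_assoc, hHA, e2, ← mul_assoc, hHA]
  obtain ⟨lam, hlam⟩ := matrix_schur ρ (A * cj A) fun g => by
    have h := congrArg cj (hcomm g)
    simp only [map_mul, hcj2] at h
    rw [mul_assoc, ← h, ← mul_assoc, ← hcomm g, mul_assoc]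
  -- the scalar is a positive real number
  have hcjH : cj H = Hᵀ := by
    conv_lhs => rw [← hHpd.isHermitian]
    exact Matrix.ext fun i j => Complex.conj_conj _
  have hK : H * (A * cj A) = Mᴴ * (Hᵀ)⁻¹ * M := by
    have h1 : Hᵀ * cj A = M := by rw [← hcjH, ← map_mul, hHA, hcj2]
    have hHTu : IsUnit (Hᵀ).det := by rwa [det_transpose]
    rw [← mul_assoc, hHA, hcjM, mul_assoc]
    congr 1
    conv_rhs => rw [← h1]
    rw [Matrix.nonsing_inv_mul_cancel_left _ _ hHTu]
  have hMinj : Function.Injective M.mulVec :=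
    Matrix.mulVec_injective_iff_isUnit.mpr ((Matrix.isUnit_iff_isUnit_det M).mpr hu)
  have hKpd : (Mᴴ * (Hᵀ)⁻¹ * M).PosDef := (hHpd.transpose.inv).conjTranspose_mul_mul_same hMinj
  obtain ⟨i₀⟩ := hn
  have hd1 : (0 : ℂ) < H i₀ i₀ := hHpd.diag_pos
  have hd2 : (0 : ℂ) < lam * H i₀ i₀ := by
    have := hKpd.diag_pos (i := i₀)
    rwa [← hK, hlam, mul_smul_comm, mul_one, Matrix.smul_apply, smul_eq_mul] at this
  obtain ⟨l, hl, rfl⟩ : ∃ l : ℝ, 0 < l ∧ lam = (l : ℂ) := by
    rw [Complex.lt_def] at hd1 hd2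
    simp only [Complex.zero_re, Complex.zero_im, Complex.mul_re, Complex.mul_im] at hd1 hd2
    obtain ⟨hr, hi⟩ := hd1
    rw [← hi, mul_zero, sub_zero] at hd2
    have him : lam.im = 0 := by
      have h2 := hd2.2
      rw [mul_zero, zero_add, eq_comm, mul_eq_zero] at h2
      exact h2.resolve_right hr.ne'
    exact ⟨lam.re, pos_of_mul_pos_left hd2.1 hr.le, Complex.ext rfl (by simpa using him)⟩
  set Q := ((Real.sqrt l)⁻¹ : ℝ) • A with hQ
  have hQA : Q = (((Real.sqrt l)⁻¹ : ℝ) : ℂ) • A := by
    ext i j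
    simp [hQ, Complex.real_smul]
  have hcjs : ∀ (z : ℂ) X, cj (z • X) = conj z • cj X := fun z X =>
    Matrix.ext fun i j => map_mul (starRingEnd ℂ) z (X i j)
  have hQQ : Q * cj Q = 1 := by
    rw [hQA, hcjs, Complex.conj_ofReal, smul_mul_smul_comm, hlam, smul_smul, ← Complex.ofReal_mul,
      ← Complex.ofReal_mul]
    rw [← mul_inv, Real.mul_self_sqrt hl.le, inv_mul_cancel₀ hl.ne', Complex.ofReal_one, one_smul]
  have hQc : ∀ g, R g * Q = Q * cj (R g) := fun g => by
    rw [hQA, mul_smul_comm, smul_mul_assoc, hcomm g]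
  -- choose an invertible matrix fixed by the twisted conjugation
  obtain ⟨z, hz⟩ : ∃ z : ℂ, IsUnit (z • (1 : Matrix (Fin n) (Fin n) ℂ) + conj z • Q).det := by
    by_contra hno
    push Not at hno
    have hroot : ∀ t : ℝ, (-Q).charpoly.eval
        (((1 : ℂ) + t * Complex.I) / conj ((1 : ℂ) + t * Complex.I)) = 0 := fun t => by
      set z : ℂ := (1 : ℂ) + t * Complex.I with hzdef
      have hz0 : conj z ≠ 0 := fun h => by
        have := congrArg Complex.re h
        simp [hzdef] at this
      have h := hno z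
      rw [isUnit_iff_ne_zero, not_not] at h
      have h2 : z • (1 : Matrix (Fin n) (Fin n) ℂ) + conj z • Q =
          conj z • (Matrix.scalar (Fin n) (z / conj z) - -Q) := by
        rw [sub_neg_eq_add, smul_add, Matrix.scalar_apply, ← Matrix.smul_one_eq_diagonal, smul_smul,
          mul_div_cancel₀ _ hz0]
      rw [h2, det_smul, mul_eq_zero] at h
      rw [Matrix.eval_charpoly]
      exact h.resolve_left (pow_ne_zero _ hz0)
    have hinf : Function.Injective
        fun t : ℝ => ((1 : ℂ) + t * Complex.I) / conj ((1 : ℂ) + t * Complex.I) := by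
      intro s t hst
      have hs : conj ((1 : ℂ) + s * Complex.I) ≠ 0 := fun h => by
        have := congrArg Complex.re h
        simp at this
      have ht : conj ((1 : ℂ) + t * Complex.I) ≠ 0 := fun h => by
        have := congrArg Complex.re h
        simp at this
      rw [div_eq_div_iff hs ht] at hst
      have := congrArg Complex.im hst
      simp at this
      linarith
    exact (Matrix.charpoly_monic (-Q)).ne_zero (Polynomial.eq_zero_of_infinite_isRoot _
      (Set.Infinite.mono (by rintro _ ⟨t, rfl⟩; exact hroot t) (Set.infinite_range_of_injective hinf)))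
  set P := z • (1 : Matrix (Fin n) (Fin n) ℂ) + conj z • Q with hP
  have hQP : Q * cj P = P := by
    rw [hP, map_add, hcjs, hcjs, map_one, Complex.conj_conj, mul_add, mul_smul_comm, mul_one,
      mul_smul_comm, hQQ, add_comm]
  have hfix : ∀ g, cj (P⁻¹ * R g * P) = P⁻¹ * R g * P := fun g => by
    have h1 : P * (cj P⁻¹ * cj (R g) * cj P) = R g * P := by
      conv_lhs => arg 1; rw [← hQP]
      rw [mul_assoc Q, ← mul_assoc (cj P), ← mul_assoc (cj P), ← map_mul cj P,
        Matrix.mul_nonsing_inv _ hz, map_one, one_mul, ← mul_assoc, ← hQc, mul_assoc, hQP]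
    rw [map_mul, map_mul, mul_assoc P⁻¹, ← h1, Matrix.nonsing_inv_mul_cancel_left _ _ hz]
  let re : Matrix (Fin n) (Fin n) ℂ → Matrix (Fin n) (Fin n) ℝ := fun X => X.map Complex.re
  have hre : ∀ g, (re (P⁻¹ * R g * P)).map Complex.ofRealHom = P⁻¹ * R g * P := fun g => by
    ext i j
    exact Complex.conj_eq_iff_re.mp (congrFun (congrFun (hfix g) i) j)
  have hinj : Function.Injective fun X : Matrix (Fin n) (Fin n) ℝ => X.map Complex.ofRealHom :=
    Matrix.map_injective Complex.ofRealHom.injective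
  let S : G →* Matrix (Fin n) (Fin n) ℝ :=
    { toFun := fun g => re (P⁻¹ * R g * P)
      map_one' := hinj (by
        show (re _).map _ = (1 : Matrix (Fin n) (Fin n) ℝ).map _
        rw [hre, map_one, mul_one, Matrix.nonsing_inv_mul _ hz,
          Matrix.map_one _ (map_zero _) (map_one _)])
      map_mul' := fun a b => hinj (by
        show (re _).map _ = (re _ * re _).map _
        rw [Matrix.map_mul, hre, hre, hre, map_mul]
        simp only [mul_assoc, Matrix.mul_nonsing_inv_cancel_left _ _ hz]) }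
  refine ⟨repOfMat S, fun g => ?_⟩
  show ((LinearMap.trace ℝ _ (Matrix.toLin' (S g)) : ℝ) : ℂ) = _
  rw [Matrix.trace_toLin'_eq]
  have : ((S g).trace : ℂ) = ((re (P⁻¹ * R g * P)).map Complex.ofRealHom).trace := by
    simp [S, Matrix.trace]
  rw [this, hre, Matrix.trace_mul_cycle, Matrix.mul_nonsing_inv _ hz, one_mul, trace_matHom]

end CfsgLib.Char
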