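import Cfsg.Agent.Lib.Char.GaloisSum

/-!
# Totally positive cyclotomic integers with rational sum

Nonzero cyclotomic integers that are nonnegative rational multiples of sums of squared absolute
values have norm at least `1`, so there are at most `q` of them when their sum is the rational `q`.
-/

namespace CfsgLib.Char

open scoped ComplexConjugate

theorem card_le_of_sum_norms {ι : Type*} (S : Finset ι) {κ : ι → Type*} [∀ i, Fintype (κ i)]
    (c : ι → ℚ) (hc : ∀ i ∈ S, 0 ≤ c i) (β : ∀ i, κ i → ℂ) {N : ℕ} (hN : N ≠ 0) {ζ : ℂ}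
    (hζ : IsPrimitiveRoot ζ N)
    (hmem : ∀ i ∈ S, ∀ j, β i j ∈ IntermediateField.adjoin ℚ ({ζ} : Set ℂ))
    (hint : ∀ i ∈ S, IsIntegral ℤ ((c i : ℂ) * ∑ j, β i j * conj (β i j)))
    (hne : ∀ i ∈ S, (c i : ℂ) * ∑ j, β i j * conj (β i j) ≠ 0) {q : ℚ}
    (hsum : ∑ i ∈ S, (c i : ℂ) * ∑ j, β i j * conj (β i j) = (q : ℂ)) :
    (S.card : ℝ) ≤ (q : ℝ) := by
  classical
  set K := IntermediateField.adjoin ℚ ({ζ} : Set ℂ) with hK
  have hfin : FiniteDimensional ℚ K :=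
    IntermediateField.adjoin.finiteDimensional (IsIntegral.of_pow (Nat.pos_of_ne_zero hN) (by
      rw [hζ.pow_eq_one]; exact isIntegral_one))
  have hnonempty : Nonempty (K →ₐ[ℚ] ℂ) := ⟨K.val⟩
  let x : ∀ i : S, κ i → K := fun i j => ⟨β i j, hmem i i.2 j⟩
  have hc' : ∀ (i : S) (j : κ i), ∃ hy : conj (β i j) ∈ K, ∀ σ : K →ₐ[ℚ] ℂ,
      σ ⟨conj (β i j), hy⟩ = conj (σ (x i j)) := fun i j => by
    obtain ⟨hy, -⟩ := exists_conj_commute hN hζ K.val (β i j) (hmem i i.2 j)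
    exact ⟨hy, fun σ => (exists_conj_commute hN hζ σ (β i j) (hmem i i.2 j)).2⟩
  choose hy he using hc'
  let α : S → K := fun i => (c i : K) * ∑ j, x i j * ⟨conj (β i j), hy i j⟩
  have hα : ∀ i : S, ((α i : K) : ℂ) = (c i : ℂ) * ∑ j, β i j * conj (β i j) := fun i => by
    simp [α, x, IntermediateField.coe_sum]
  let r : (K →ₐ[ℚ] ℂ) → S → ℝ := fun σ i => (c i : ℝ) * ∑ j, ‖σ (x i j)‖ ^ 2
  have hσ : ∀ σ i, σ (α i) = (r σ i : ℂ) := fun σ i => by
    simp only [α, r, map_mul, map_ratCast, map_sum, he, Complex.ofReal_mul, Complex.ofReal_ratCast,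
      Complex.ofReal_sum, Complex.mul_conj', Complex.ofReal_pow]
  have hsumσ : ∀ σ, ∑ i : S, r σ i = (q : ℝ) := fun σ => by
    have h1 : ∑ i : S, α i = (q : K) := by
      refine Subtype.ext ?_
      rw [IntermediateField.coe_sum]
      simp only [hα]
      rw [Finset.sum_coe_sort S fun i => (c i : ℂ) * ∑ j, β i j * conj (β i j), hsum]
      norm_num
    have h2 := congrArg σ h1
    rw [map_sum, map_ratCast, Finset.sum_congr rfl fun i _ => hσ σ i] at h2
    exact_mod_cast h2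
  have hone : ∀ i : S, (Fintype.card (K →ₐ[ℚ] ℂ) : ℝ) ≤ ∑ σ : K →ₐ[ℚ] ℂ, r σ i := by
    intro i
    have hi0 : α i ≠ 0 := fun h => hne i i.2 (by rw [← hα, h]; rfl)
    have hii : IsIntegral ℤ (α i) :=
      (isIntegral_algebraMap_iff (A := K) (B := ℂ) (RingHom.injective _)).1
        (by have := hint i i.2; rwa [← hα] at this)
    have hpos : ∀ σ : K →ₐ[ℚ] ℂ, 0 < r σ i := fun σ => by
      have h0 : (r σ i : ℂ) ≠ 0 := hσ σ i ▸ (map_ne_zero σ).mpr hi0
      refine lt_of_le_of_ne (mul_nonneg (Rat.cast_nonneg.2 (hc i i.2))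
        (Finset.sum_nonneg fun j _ => by positivity)) ?_
      intro h
      exact h0 (by rw [← h]; simp)
    obtain ⟨z, hz⟩ := IsIntegrallyClosed.isIntegral_iff.mp (Algebra.isIntegral_norm ℚ hii)
    have hprod := Algebra.norm_eq_prod_embeddings ℚ ℂ (α i)
    rw [Finset.prod_congr rfl fun σ _ => hσ σ i, ← hz] at hprod
    have hreal : ((z : ℤ) : ℝ) = ∏ σ : K →ₐ[ℚ] ℂ, r σ i := by
      simp only [eq_intCast, map_intCast, ← Complex.ofReal_prod] at hprod
      exact_mod_cast hprod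
    have hzpos : 0 < z := by
      have h := Finset.prod_pos (s := (Finset.univ : Finset (K →ₐ[ℚ] ℂ))) fun σ _ => hpos σ
      rw [← hreal] at h
      exact_mod_cast h
    have h2 := CharAction.card_le_sum_of_one_le_prod (Finset.univ : Finset (K →ₐ[ℚ] ℂ))
      (fun σ => r σ i) (fun σ _ => hpos σ) (by rw [← hreal]; exact_mod_cast hzpos)
    rwa [Finset.card_univ] at h2
  have hle : (S.card : ℝ) * Fintype.card (K →ₐ[ℚ] ℂ) ≤ (q : ℝ) * Fintype.card (K →ₐ[ℚ] ℂ) := by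
    calc (S.card : ℝ) * Fintype.card (K →ₐ[ℚ] ℂ) = ∑ _i : S, (Fintype.card (K →ₐ[ℚ] ℂ) : ℝ) := by
          rw [Finset.sum_const, Finset.card_univ, Fintype.card_coe, nsmul_eq_mul]
      _ ≤ ∑ i : S, ∑ σ : K →ₐ[ℚ] ℂ, r σ i := Finset.sum_le_sum fun i _ => hone i
      _ = ∑ _σ : K →ₐ[ℚ] ℂ, (q : ℝ) := by
          rw [Finset.sum_comm]; exact Finset.sum_congr rfl fun σ _ => hsumσ σ
      _ = (q : ℝ) * Fintype.card (K →ₐ[ℚ] ℂ) := by
          rw [Finset.sum_const, Finset.card_univ, nsmul_eq_mul, mul_comm]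
  exact le_of_mul_le_mul_right hle (Nat.cast_pos.2 Fintype.card_pos)

end CfsgLib.Char
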