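import Cfsg.Agent.Lib.Char.Virtual
import Cfsg.Agent.Lib.Char.Central
import Cfsg.Agent.Lib.OddLocal.FittingHall
import Mathlib.GroupTheory.SchurZassenhaus
import Mathlib.GroupTheory.Sylow
import Mathlib.GroupTheory.Nilpotent

/-!
# Characters of p-defect zero vanish on p-singular elements

The cut-off of such a character to the p-regular elements restricts to a character of every
nilpotent subgroup; given Brauer's characterization (passed as a hypothesis) it follows that the
character vanishes on p-singular elements.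
-/

namespace CfsgLib.Char

open scoped ComplexConjugate
open Module

variable {G : Type*} [Group G]

/-- The function equal to `χ` on p-regular elements and to zero elsewhere. -/
noncomputable def regCut (p : ℕ) (χ : G → ℂ) : G → ℂ :=
  fun g => if p ∣ orderOf g then 0 else χ g

theorem isNilpotent_of_isElementary {E : Type*} [Group E] [Finite E] {p : ℕ} (hp : p.Prime)
    (h : Cfsg.IsElementary p E) : Group.IsNilpotent E := by
  obtain ⟨x, hx, -, k, hk⟩ := h
  have : Fact p.Prime := ⟨hp⟩
  have hle : Subgroup.zpowers x ≤ Subgroup.center E := Subgroup.zpowers_le.mpr hx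
  have hd : (Subgroup.center E).index ∣ p ^ k := hk ▸ Subgroup.index_dvd_of_le hle
  obtain ⟨j, -, hj⟩ := (Nat.dvd_prime_pow hp).mp hd
  have hP : IsPGroup p (E ⧸ Subgroup.center E) := IsPGroup.of_card hj
  exact Group.of_quotient_center_nilpotent hP.isNilpotent

theorem isCharacter_regCut_restrict [Finite G] {V : Type*} [AddCommGroup V] [Module ℂ V]
    [FiniteDimensional ℂ V] (ρ : Representation ℂ G V) [ρ.IsIrreducible] {p n : ℕ} (hp : p.Prime)
    (hn : p ^ n ∣ Nat.card G) (hn' : ¬ p ^ (n + 1) ∣ Nat.card G)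
    (hdeg : p ^ n ∣ finrank ℂ V) (E : Subgroup G) (hE : Group.IsNilpotent E) :
    Cfsg.IsCharacter E (fun e : E => regCut p ρ.character e) := by
  classical
  have : Fact p.Prime := ⟨hp⟩
  have := Fintype.ofFinite G
  have := Fintype.ofFinite (Cfsg.IrrCharacter E)
  obtain ⟨M, hM⟩ := hn
  have hMp : ¬ p ∣ M := fun ⟨j, hj⟩ => hn' ⟨j, by rw [hM, hj, pow_succ, mul_assoc]⟩
  obtain ⟨d', hd'⟩ := hdeg
  have hd0 : (finrank ℂ V : ℂ) ≠ 0 := Nat.cast_ne_zero.mpr (finrank_pos_of_irreducible ρ).ne'
  let P : Sylow p E := default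
  have : (P : Subgroup E).Normal := Sylow.normal_of_normalizerCondition
    (Group.normalizerCondition_of_isNilpotent (G := E)) P
  obtain ⟨Q, hQ⟩ := Subgroup.exists_right_complement'_of_coprime
    (N := (P : Subgroup E)) P.card_coprime_index
  have hcardQ : Nat.card Q = (P : Subgroup E).index := by
    have h1 := hQ.card_mul
    rw [← (P : Subgroup E).card_mul_index] at h1
    exact Nat.eq_of_mul_eq_mul_left Nat.card_pos h1
  have hpQ : ¬ p ∣ Nat.card Q := hcardQ ▸ P.not_dvd_index
  obtain ⟨a, ha⟩ := IsPGroup.iff_card.mp P.isPGroup'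
  have hcomm : ∀ x ∈ (P : Subgroup E), ∀ y : E, ¬ p ∣ orderOf y → Commute x y := by
    intro x hx y hy
    refine CfsgLib.OddLocal.commute_of_coprime_orderOf hE ?_
    have h1 : orderOf x ∣ p ^ a := ha ▸ Subgroup.orderOf_dvd_natCard _ hx
    exact Nat.Coprime.coprime_dvd_left h1
      (Nat.Coprime.pow_left _ ((Nat.Prime.coprime_iff_not_dvd hp).mpr hy))
  have hQreg : ∀ y ∈ Q, ¬ p ∣ orderOf y := fun y hy hd =>
    hpQ (hd.trans (Subgroup.orderOf_dvd_natCard _ hy))
  have hregQ : ∀ y : E, ¬ p ∣ orderOf y → y ∈ Q := by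
    intro y hy
    obtain ⟨⟨u, v⟩, huv⟩ := hQ.2 y
    simp only at huv
    have hc : Commute (u : E) (v : E) := hcomm u u.2 v (hQreg v v.2)
    have h1 : (u : E) ^ orderOf y * (v : E) ^ orderOf y = 1 := by
      rw [← hc.mul_pow, huv, pow_orderOf_eq_one]
    have h2 : (u : E) ^ orderOf y = 1 := by
      have hmem : (u : E) ^ orderOf y ∈ (P : Subgroup E) ⊓ Q := by
        refine ⟨pow_mem u.2 _, ?_⟩
        show (u : E) ^ orderOf y ∈ Q
        rw [eq_inv_of_mul_eq_one_left h1]
        exact inv_mem (pow_mem v.2 _)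
      rwa [disjoint_iff.mp hQ.disjoint, Subgroup.mem_bot] at hmem
    have h3 : orderOf (u : E) ∣ p ^ a := ha ▸ Subgroup.orderOf_dvd_natCard _ u.2
    have h4 : orderOf (u : E) = 1 := Nat.eq_one_of_dvd_coprimes
      (Nat.Coprime.pow_left a ((Nat.Prime.coprime_iff_not_dvd hp).mpr hy)) h3
      (orderOf_dvd_of_pow_eq_one h2)
    rw [orderOf_eq_one_iff] at h4
    rw [← huv, h4, one_mul]
    exact v.2
  have hcardE : Nat.card E = Nat.card (P : Subgroup E) * Nat.card Q := hQ.card_mul.symm
  -- the values divided by the order of `P` are integral up to the p'-part of the group order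
  have hval : ∀ y : Q, IsIntegral ℤ
      ((M : ℂ) * ρ.character ((y : E) : G) / (Nat.card (P : Subgroup E) : ℂ)) := by
    intro y
    set z : G := ((y : E) : G)
    obtain ⟨c, hc⟩ : Nat.card (P : Subgroup E) ∣
        Nat.card (Subgroup.centralizer ({z} : Set G)) := by
      have hle : (P : Subgroup E).map E.subtype ≤ Subgroup.centralizer ({z} : Set G) := by
        rintro _ ⟨x, hx, rfl⟩
        rw [Subgroup.mem_centralizer_singleton_iff]
        exact congrArg Subtype.val (hcomm x hx y (hQreg y y.2)).eq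
      have h1 := Subgroup.card_dvd_of_le hle
      rwa [Subgroup.card_map_of_injective E.subtype_injective] at h1
    have hint := (CfsgLib.CharIntegral.isIntegral_central ρ z).mul
      ((isIntegral_natCast (R := ℤ) (d' * c)) : IsIntegral ℤ ((d' * c : ℕ) : ℂ))
    have hKc : ((Subgroup.centralizer ({z} : Set G)).index : ℂ) *
        ((Nat.card (P : Subgroup E) : ℂ) * c) = (p : ℂ) ^ n * M := by
      have h1 := (Subgroup.centralizer ({z} : Set G)).index_mul_card
      rw [hc, hM] at h1
      exact_mod_cast h1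
    have hP0 : (Nat.card (P : Subgroup E) : ℂ) ≠ 0 := Nat.cast_ne_zero.mpr Nat.card_pos.ne'
    have hd'' : (finrank ℂ V : ℂ) = (p : ℂ) ^ n * d' := by exact_mod_cast hd'
    have heq : (M : ℂ) * ρ.character z / (Nat.card (P : Subgroup E) : ℂ) =
        ((Subgroup.centralizer ({z} : Set G)).index : ℂ) * ρ.character z / (finrank ℂ V : ℂ) *
          ((d' * c : ℕ) : ℂ) := by
      rw [hd''] at hd0 ⊢
      push_cast
      rw [div_mul_eq_mul_div, div_eq_div_iff hP0 hd0]
      linear_combination (-(d' : ℂ) * ρ.character z) * hKc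
    exact heq ▸ hint
  have hcoef : ∀ μ : Cfsg.IrrCharacter E, ∃ m : ℕ,
      Cfsg.classInner (fun e : E => regCut p ρ.character e) (μ : E → ℂ) = m := by
    intro μ
    have hres : Cfsg.IsCharacter Q (fun y : Q => ρ.character ((y : E) : G)) :=
      IsChar.restrict Q (IsChar.restrict E (isCharacter_rep ρ))
    obtain ⟨m, hm⟩ := IsChar.classInner_eq_natCast hres
      (IsChar.restrict Q (IsIrr.isCharacter μ.2))
    have hQ0 : (Nat.card Q : ℂ) ≠ 0 := Nat.cast_ne_zero.mpr Nat.card_pos.ne'
    have hP0 : (Nat.card (P : Subgroup E) : ℂ) ≠ 0 := Nat.cast_ne_zero.mpr Nat.card_pos.ne'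
    have hsum : ∑ y : Q, ρ.character ((y : E) : G) * conj ((μ : E → ℂ) (y : E)) =
        (Nat.card Q : ℂ) * m := by
      rw [← hm, Cfsg.classInner, mul_inv_cancel_left₀ hQ0]
    have hinner : Cfsg.classInner (fun e : E => regCut p ρ.character e) (μ : E → ℂ) =
        (m : ℂ) / (Nat.card (P : Subgroup E) : ℂ) := by
      have h1 : ∀ e : E, regCut p ρ.character (e : G) =
          Cfsg.extendByZero Q (fun y : Q => ρ.character ((y : E) : G)) e := by
        intro e
        simp only [regCut, Subgroup.orderOf_coe]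
        by_cases he : p ∣ orderOf e
        · rw [if_pos he, extendByZero_of_notMem _ _ fun hq => hQreg e hq he]
        · rw [if_neg he, extendByZero_of_mem _ _ (hregQ e he)]
      simp only [Cfsg.classInner, h1]
      rw [sum_extendByZero_mul Q (fun y : Q => ρ.character ((y : E) : G))
        (fun e => conj ((μ : E → ℂ) e)), hsum, hcardE, Nat.cast_mul]
      field_simp
    have hdvd : Nat.card (P : Subgroup E) ∣ M * Nat.card Q * m := by
      refine CfsgLib.CharIntegral.dvd_of_isIntegral_div Nat.card_pos.ne' ?_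
      have h1 : ((M * Nat.card Q * m : ℕ) : ℂ) / (Nat.card (P : Subgroup E) : ℂ) =
          ∑ y : Q, ((M : ℂ) * ρ.character ((y : E) : G) / (Nat.card (P : Subgroup E) : ℂ)) *
            conj ((μ : E → ℂ) (y : E)) := by
        rw [Nat.cast_mul, Nat.cast_mul, mul_assoc (M : ℂ), ← hsum, Finset.mul_sum, Finset.sum_div]
        exact Finset.sum_congr rfl fun y _ => by ring
      rw [h1]
      refine IsIntegral.sum _ fun y _ => (hval y).mul ?_
      rw [← IsIrr.map_inv μ.2]
      exact IsChar.isIntegral (IsIrr.isCharacter μ.2) _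
    have hcop : Nat.Coprime (Nat.card (P : Subgroup E)) (M * Nat.card Q) := by
      rw [ha]
      exact Nat.Coprime.pow_left _ (Nat.Coprime.mul_right
        ((Nat.Prime.coprime_iff_not_dvd hp).mpr hMp)
        ((Nat.Prime.coprime_iff_not_dvd hp).mpr hpQ))
    obtain ⟨k, hk⟩ := hcop.dvd_of_dvd_mul_left hdvd
    refine ⟨k, ?_⟩
    rw [hinner, hk, Nat.cast_mul]
    field_simp
  choose m hm using hcoef
  have hcf : Cfsg.IsClassFunction E (fun e : E => regCut p ρ.character e) := by
    intro g x
    show regCut p ρ.character ((x * g * x⁻¹ : E) : G) = regCut p ρ.character (g : G)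
    simp only [regCut, Subgroup.coe_mul, Subgroup.coe_inv, Representation.char_conj]
    rw [show orderOf ((x : G) * g * (x : G)⁻¹) = orderOf (g : G) from
      orderOf_injective (MulAut.conj (x : G)).toMonoidHom (MulAut.conj (x : G)).injective (g : G)]
  rw [classFunction_eq_sum hcf]
  simp only [hm]
  exact isCharacter_natCast_sum m

universe u

theorem character_eq_zero_of_defect_zero {G : Type u} [Group G] [Finite G]
    (brauer : ∀ θ : G → ℂ, Cfsg.IsClassFunction G θ →
      (∀ (E : Subgroup G) (q : ℕ), q.Prime → Cfsg.IsElementary q E →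
        Cfsg.IsGeneralizedCharacter E (fun e : E => θ e)) → Cfsg.IsGeneralizedCharacter G θ)
    {V : Type*} [AddCommGroup V] [Module ℂ V]
    [FiniteDimensional ℂ V] (ρ : Representation ℂ G V) [ρ.IsIrreducible] {p n : ℕ} (hp : p.Prime)
    (hn : p ^ n ∣ Nat.card G) (hn' : ¬ p ^ (n + 1) ∣ Nat.card G) (hdeg : p ^ n ∣ finrank ℂ V)
    {x : G} (hx : p ∣ orderOf x) : ρ.character x = 0 := by
  classical
  have := Fintype.ofFinite G
  set θ := regCut p ρ.character with hθ
  have hcf : Cfsg.IsClassFunction G θ := by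
    intro g y
    simp only [hθ, regCut, Representation.char_conj]
    rw [show orderOf (y * g * y⁻¹) = orderOf g from
      orderOf_injective (MulAut.conj y).toMonoidHom (MulAut.conj y).injective g]
  have hgen := brauer θ hcf fun E q hq hE => IsGen.of_isCharacter
    (isCharacter_regCut_restrict ρ hp hn hn' hdeg E (isNilpotent_of_isElementary hq hE))
  obtain ⟨z, hz⟩ := IsGen.exists_classInner_eq_intCast hgen hgen
  have hN : (0 : ℝ) < Nat.card G := Nat.cast_pos.mpr Nat.card_pos
  have hnorm : ∀ f : G → ℂ, Cfsg.classInner f f =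
      (((Nat.card G : ℝ)⁻¹ * ∑ g, Complex.normSq (f g) : ℝ) : ℂ) := fun f => by
    simp [Cfsg.classInner, Complex.mul_conj]
  have hirr : (Nat.card G : ℝ)⁻¹ * ∑ g, Complex.normSq (ρ.character g) = 1 := by
    have h1 := (isIrreducible_iff_classInner_eq_one ρ).mp inferInstance
    rw [hnorm] at h1
    exact_mod_cast h1
  have hz' : (Nat.card G : ℝ)⁻¹ * ∑ g, Complex.normSq (θ g) = (z : ℝ) := by
    rw [hnorm] at hz
    exact_mod_cast hz
  have hle : ∀ g, Complex.normSq (θ g) ≤ Complex.normSq (ρ.character g) := fun g => by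
    simp only [hθ, regCut]
    split
    · simp [Complex.normSq_nonneg]
    · exact le_rfl
  have hpos : 0 < ∑ g, Complex.normSq (θ g) := by
    refine Finset.sum_pos' (fun g _ => Complex.normSq_nonneg _) ⟨1, Finset.mem_univ _, ?_⟩
    simp only [hθ, regCut, orderOf_one, if_neg hp.not_dvd_one, Representation.char_one,
      Complex.normSq_pos]
    exact Nat.cast_ne_zero.mpr (finrank_pos_of_irreducible ρ).ne'
  have hsle : ∑ g, Complex.normSq (θ g) ≤ ∑ g, Complex.normSq (ρ.character g) :=
    Finset.sum_le_sum fun g _ => hle g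
  have hz1 : (z : ℝ) = 1 := by
    have h1 : (0 : ℝ) < z := hz' ▸ mul_pos (inv_pos.mpr hN) hpos
    have h2 : (z : ℝ) ≤ 1 := by
      rw [← hz', ← hirr]
      exact mul_le_mul_of_nonneg_left hsle (inv_pos.mpr hN).le
    have h3 : 0 < z := by exact_mod_cast h1
    have h4 : z ≤ 1 := by exact_mod_cast h2
    rw [show z = 1 by omega]
    norm_num
  have heq : ∑ g, Complex.normSq (θ g) = ∑ g, Complex.normSq (ρ.character g) :=
    mul_left_cancel₀ (inv_ne_zero hN.ne') (by rw [hz', hz1, hirr])
  have h1 := (Finset.sum_eq_sum_iff_of_le fun g _ => hle g).mp heq x (Finset.mem_univ _)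
  simp only [hθ, regCut, if_pos hx, map_zero] at h1
  exact Complex.normSq_eq_zero.mp h1.symm

end CfsgLib.Char
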