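/-
Reduction mod p of the central idempotent of an irreducible character of p-defect zero, as a function on the group.
-/
import Cfsg.Agent.Lib.Blocks.LocalRing
import Cfsg.Agent.Lib.Char.Central
import Cfsg.Agent.Lib.Char.Basic
import Mathlib.GroupTheory.PGroup

set_option autoImplicit false

namespace CfsgLib.DefectZeroIdem

open Cfsg CfsgLib.Blocks
open Module

section Identities

variable {G : Type*} [Group G] [Fintype G] {V : Type*} [AddCommGroup V] [Module ℂ V] [FiniteDimensional ℂ V]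
  (ρ : Representation ℂ G V) [ρ.IsIrreducible]

theorem sum_conv {ψ : G → ℂ} (hψ : ∀ a b, ψ (b * a * b⁻¹) = ψ a) (g : G) :
    ∑ x, ψ x⁻¹ * ρ.character (g * x) =
      (∑ x, ψ x⁻¹ * ρ.character x) / (finrank ℂ V : ℂ) * ρ.character g := by
  have hcomm : ∀ h, (∑ x, ψ x⁻¹ • ρ x) * ρ h = ρ h * ∑ x, ψ x⁻¹ • ρ x := by
    intro h
    rw [Finset.sum_mul, Finset.mul_sum]
    refine Fintype.sum_equiv (MulAut.conj h⁻¹).toEquiv _ _ fun x => ?_
    show ψ x⁻¹ • ρ x * ρ h = ρ h * (ψ (h⁻¹ * x * h⁻¹⁻¹)⁻¹ • ρ (h⁻¹ * x * h⁻¹⁻¹))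
    rw [show (h⁻¹ * x * h⁻¹⁻¹)⁻¹ = h⁻¹ * x⁻¹ * h⁻¹⁻¹ by group, hψ, smul_mul_assoc, mul_smul_comm,
      ← map_mul, ← map_mul]
    congr 2
    group
  obtain ⟨c, hc⟩ := CfsgLib.CharIntegral.exists_scalar_of_commute ρ _ hcomm
  have htr := congrArg (LinearMap.trace ℂ V) hc
  simp only [map_sum, map_smul, LinearMap.trace_id, smul_eq_mul] at htr
  have htr' : c = (∑ x, ψ x⁻¹ * ρ.character x) / (finrank ℂ V : ℂ) :=
    (eq_div_iff (CfsgLib.CharIntegral.finrank_cast_ne_zero ρ)).2 htr.symm
  have h2 := congrArg (fun T => LinearMap.trace ℂ V (ρ g * T)) hc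
  simp only [Finset.mul_sum, map_sum, mul_smul_comm, map_smul, smul_eq_mul, ← map_mul] at h2
  rw [← htr']
  refine h2.trans ?_
  rw [show (LinearMap.id : V →ₗ[ℂ] V) = 1 from rfl, mul_one]
  rfl

theorem sum_spread (a b : G) :
    ∑ x, ρ.character (a * (x * b * x⁻¹)) =
      (Nat.card G : ℂ) * ρ.character b / (finrank ℂ V : ℂ) * ρ.character a := by
  have hcomm : ∀ h, (∑ x, ρ (x * b * x⁻¹)) * ρ h = ρ h * ∑ x, ρ (x * b * x⁻¹) := by
    intro h
    rw [Finset.sum_mul, Finset.mul_sum]
    refine Fintype.sum_equiv (Equiv.mulLeft h⁻¹) _ _ fun x => ?_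
    rw [← map_mul, ← map_mul, Equiv.coe_mulLeft]
    congr 1
    group
  obtain ⟨c, hc⟩ := CfsgLib.CharIntegral.exists_scalar_of_commute ρ _ hcomm
  have htr := congrArg (LinearMap.trace ℂ V) hc
  simp only [map_sum, map_smul, LinearMap.trace_id, smul_eq_mul] at htr
  have h1 : ∑ x : G, LinearMap.trace ℂ V (ρ (x * b * x⁻¹)) = (Nat.card G : ℂ) * ρ.character b := by
    refine (Finset.sum_congr rfl fun x _ => ρ.char_conj b x).trans ?_
    rw [Finset.sum_const, Finset.card_univ, Nat.card_eq_fintype_card, nsmul_eq_mul]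
  rw [h1] at htr
  have h2 := congrArg (fun T => LinearMap.trace ℂ V (ρ a * T)) hc
  simp only [Finset.mul_sum, map_sum, mul_smul_comm, map_smul, smul_eq_mul, ← map_mul] at h2
  rw [htr, mul_div_assoc, div_self (CfsgLib.CharIntegral.finrank_cast_ne_zero ρ), mul_one]
  refine h2.trans ?_
  rw [show (LinearMap.id : V →ₗ[ℂ] V) = 1 from rfl, mul_one]
  rfl

/-- a character of defect zero has a value that is a unit at `M` -/
theorem exists_residue_ne_zero {p : ℕ} {M : Ideal AlgInt} [M.IsPrime] (hM : IsPModular p M) {m : ℕ}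
    (hm : Nat.card G = finrank ℂ V * m) (hpm : ¬ p ∣ m) :
    ∃ g, IsLocalRing.residue (localRing M)
      ⟨ρ.character g, mem_localRing_of_isIntegral (CfsgLib.CharIntegral.isIntegral_character ρ g)⟩ ≠ 0 := by
  classical
  by_contra hcon
  simp only [not_exists, ne_eq, not_not] at hcon
  have hc := charP_residueField hM
  refine hpm ((CharP.cast_eq_zero_iff (IsLocalRing.ResidueField (localRing M)) p m).1 ?_)
  have := Fintype.ofFinite (ConjClasses G)
  let f : ConjClasses G → localRing M := fun C =>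
    ⟨_, mem_localRing_of_isIntegral ((CfsgLib.CharIntegral.isIntegral_central ρ C.exists_rep.choose).mul
      (CfsgLib.CharIntegral.isIntegral_character ρ C.exists_rep.choose⁻¹))⟩
  have h0 : (∑ C, (f C : ℂ)) = m := by
    have e : (m : ℂ) = (∑ g : G, ρ.character g * ρ.character g⁻¹) / (finrank ℂ V : ℂ) := by
      rw [CfsgLib.CharIntegral.sum_character_mul_character_inv ρ, hm, Nat.cast_mul,
        mul_div_cancel_left₀ _ (CfsgLib.CharIntegral.finrank_cast_ne_zero ρ)]
    rw [e]
    conv_rhs => rw [← Finset.sum_fiberwise Finset.univ (fun g : G => ConjClasses.mk g), Finset.sum_div]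
    refine Finset.sum_congr rfl fun C _ => ?_
    have hg := C.exists_rep.choose_spec
    show _ * _ / _ * _ = _
    generalize C.exists_rep.choose = g at hg
    subst hg
    have hset : (Finset.univ.filter fun x => ConjClasses.mk x = ConjClasses.mk g) =
        CfsgLib.CharIntegral.classFinset g := by
      ext x
      rw [Finset.mem_filter, CfsgLib.CharIntegral.mem_classFinset, ConjClasses.mk_eq_mk_iff_isConj]
      exact ⟨fun h => h.2.symm, fun h => ⟨Finset.mem_univ _, h.symm⟩⟩
    change _ = (∑ x ∈ Finset.univ.filter fun x => ConjClasses.mk x = ConjClasses.mk g, _) / _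
    rw [hset, Finset.sum_congr rfl (g := fun _ => ρ.character g * ρ.character g⁻¹),
      Finset.sum_const, nsmul_eq_mul, CfsgLib.CharIntegral.card_classFinset, ← mul_assoc]
    · ring
    intro x hx
    obtain ⟨y, rfl⟩ := isConj_iff.mp (CfsgLib.CharIntegral.mem_classFinset.mp hx)
    rw [conj_inv, ρ.char_conj, ρ.char_conj]
  have h1 : (∑ C, f C) = (m : localRing M) := Subtype.ext (by push_cast; exact h0)
  rw [← map_natCast (IsLocalRing.residue (localRing M)), ← h1, map_sum]
  refine Finset.sum_eq_zero fun C _ => ?_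
  have e : f C = ⟨_, mem_localRing_of_isIntegral (CfsgLib.CharIntegral.isIntegral_central ρ C.exists_rep.choose)⟩ *
      ⟨_, mem_localRing_of_isIntegral (CfsgLib.CharIntegral.isIntegral_character ρ C.exists_rep.choose⁻¹)⟩ := rfl
  rw [e, map_mul, hcon, mul_zero]

end Identities

/-- the data of a reduced idempotent of defect zero -/
structure Datum (G : Type*) [Group G] [Fintype G] (k : Type*) [Field k] where
  e : G → k
  c : k
  c_ne : c ≠ 0
  conj : ∀ g h, e (h * g * h⁻¹) = e g
  conv : ∀ g, ∑ h, e h * e (h⁻¹ * g) = c * e g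
  h0 : G
  γ : k
  γ_ne : γ ≠ 0
  spread : ∀ y, ∑ x, e ((x * h0 * x⁻¹)⁻¹ * y) = γ * e y
  ne_zero : e h0⁻¹ ≠ 0

section Datum

variable {G : Type*} [Group G] [Fintype G]

/-- the residue of a character value -/
noncomputable def red (M : Ideal AlgInt) [M.IsPrime] {χ : G → ℂ} (hχ : IsCharacter G χ) (g : G) :
    IsLocalRing.ResidueField (localRing M) :=
  IsLocalRing.residue _ ⟨χ g, mem_localRing_of_isIntegral (CfsgLib.Char.IsChar.isIntegral hχ g)⟩

theorem red_identity {M : Ideal AlgInt} [M.IsPrime] {ι : Type*} (s : Finset ι) (a : ι → localRing M)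
    (b : localRing M) (h : ∑ i ∈ s, (a i : ℂ) = b) :
    ∑ i ∈ s, IsLocalRing.residue (localRing M) (a i) = IsLocalRing.residue (localRing M) b := by
  rw [← map_sum]
  exact congrArg _ (Subtype.ext (by push_cast; exact h))

theorem exists_datum {p : ℕ} {M : Ideal AlgInt} [M.IsPrime] (hM : IsPModular p M) {χ : G → ℂ}
    (hχ : IsIrrCharacter G χ) {m : ℕ} (hm : (Nat.card G : ℂ) = χ 1 * m) (hpm : ¬ p ∣ m) :
    ∃ Dt : Datum G (IsLocalRing.ResidueField (localRing M)),
      Dt.e = fun g => red M (CfsgLib.Char.IsIrr.isCharacter hχ) g⁻¹ := by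
  have hc := charP_residueField hM
  obtain ⟨n, ρ, hρ, e⟩ := hχ
  subst e
  rw [Representation.char_one, ← Nat.cast_mul, Nat.cast_inj] at hm
  obtain ⟨h0, hh0⟩ := exists_residue_ne_zero ρ hM hm hpm
  set hC := CfsgLib.Char.IsIrr.isCharacter (show IsIrrCharacter G ρ.character from ⟨n, ρ, hρ, rfl⟩)
  have hm0 : IsLocalRing.residue (localRing M) (m : localRing M) ≠ 0 := by
    rw [map_natCast, Ne, CharP.cast_eq_zero_iff (IsLocalRing.ResidueField (localRing M)) p]
    exact hpm
  have hd : (Nat.card G : ℂ) / (finrank ℂ (Fin n → ℂ) : ℂ) = m := by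
    rw [hm, Nat.cast_mul, mul_div_cancel_left₀ _ (CfsgLib.CharIntegral.finrank_cast_ne_zero ρ)]
  let v : G → localRing M := fun g =>
    ⟨ρ.character g, mem_localRing_of_isIntegral (CfsgLib.Char.IsChar.isIntegral hC g)⟩
  refine ⟨{ e := fun g => red M hC g⁻¹
            c := IsLocalRing.residue _ (m : localRing M)
            c_ne := hm0
            conj := fun g h => ?_
            conv := fun g => ?_
            h0 := h0
            γ := IsLocalRing.residue _ (m : localRing M) * red M hC h0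
            γ_ne := mul_ne_zero hm0 hh0
            spread := fun y => ?_
            ne_zero := by rw [inv_inv]; exact hh0 }, rfl⟩
  · show red M hC _ = red M hC g⁻¹
    exact congrArg (IsLocalRing.residue _) (Subtype.ext (by
      show ρ.character _ = ρ.character g⁻¹
      rw [conj_inv, ρ.char_conj]))
  · show ∑ h, red M hC h⁻¹ * red M hC (h⁻¹ * g)⁻¹ = _ * red M hC g⁻¹
    simp only [red, ← map_mul]
    refine red_identity _ (fun h => v h⁻¹ * v (h⁻¹ * g)⁻¹) ((m : localRing M) * v g⁻¹) ?_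
    show ∑ x, ρ.character x⁻¹ * ρ.character (x⁻¹ * g)⁻¹ = (m : ℂ) * ρ.character g⁻¹
    simp only [mul_inv_rev, inv_inv]
    rw [sum_conv ρ (fun a b => ρ.char_conj a b)]
    congr 1
    rw [Finset.sum_congr rfl fun x _ => mul_comm (ρ.character x⁻¹) (ρ.character x),
      CfsgLib.CharIntegral.sum_character_mul_character_inv ρ, hd]
  · show ∑ x, red M hC _⁻¹ = _ * red M hC h0 * red M hC y⁻¹
    simp only [red, ← map_mul]
    refine red_identity _ (fun x => v ((x * h0 * x⁻¹)⁻¹ * y)⁻¹) ((m : localRing M) * v h0 * v y⁻¹) ?_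
    show ∑ x, ρ.character ((x * h0 * x⁻¹)⁻¹ * y)⁻¹ = (m : ℂ) * ρ.character h0 * ρ.character y⁻¹
    simp only [mul_inv_rev _ y, inv_inv]
    rw [sum_spread ρ, mul_div_right_comm, hd]

theorem red_orthogonal {M : Ideal AlgInt} [M.IsPrime] {χ ψ : G → ℂ} (hχ : IsIrrCharacter G χ)
    (hψ : IsIrrCharacter G ψ) (hne : χ ≠ ψ) (g : G) :
    ∑ h, red M (CfsgLib.Char.IsIrr.isCharacter hψ) h⁻¹ *
      red M (CfsgLib.Char.IsIrr.isCharacter hχ) (h⁻¹ * g)⁻¹ = 0 := by
  obtain ⟨n, ρ, hρ, e⟩ := id hχ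
  simp only [red, ← map_mul]
  refine (red_identity _ _ 0 ?_).trans (map_zero _)
  simp only [Subring.coe_mul, ZeroMemClass.coe_zero, mul_inv_rev, inv_inv]
  subst e
  rw [sum_conv ρ (fun a b => CfsgLib.Char.IsIrr.isClassFunction hψ a b)]
  have h := CfsgLib.Char.classInner_irr_of_ne (χ := ⟨_, hχ⟩) (ψ := ⟨_, hψ⟩)
    (fun h => hne (congrArg Subtype.val h))
  simp only [Cfsg.classInner, ← CfsgLib.Char.IsIrr.map_inv hψ] at h
  rw [mul_eq_zero, inv_eq_zero, Nat.cast_eq_zero] at h
  have h' := h.resolve_left Nat.card_pos.ne'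
  rw [Finset.sum_congr rfl fun x _ => mul_comm (ψ x⁻¹) (ρ.character x), h', zero_div, zero_mul]

end Datum

section Oper

variable {G : Type*} [Group G] [Fintype G] {k : Type*} [Field k] {V : Type*} [AddCommGroup V] [Module k V]
  (ρ : Representation k G V)

/-- the operator of a function on the group -/
noncomputable def oper (e : G → k) : V →ₗ[k] V := ∑ g, e g • ρ g

theorem oper_apply (e : G → k) (v : V) : oper ρ e v = ∑ g, e g • ρ g v := by
  simp [oper, LinearMap.sum_apply]

theorem oper_comm {e : G → k} (he : ∀ g h, e (h * g * h⁻¹) = e g) (a : G) (v : V) :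
    oper ρ e (ρ a v) = ρ a (oper ρ e v) := by
  simp only [oper_apply, map_sum, map_smul]
  refine Fintype.sum_equiv (MulAut.conj a⁻¹).toEquiv _ _ fun g => ?_
  show e g • ρ g (ρ a v) = e (a⁻¹ * g * a⁻¹⁻¹) • ρ a (ρ (a⁻¹ * g * a⁻¹⁻¹) v)
  rw [he, ← Module.End.mul_apply, ← Module.End.mul_apply, ← map_mul, ← map_mul]
  congr 3
  group

theorem oper_oper (e f : G → k) (v : V) :
    oper ρ e (oper ρ f v) = ∑ g, (∑ a, e a * f (a⁻¹ * g)) • ρ g v := by
  simp only [oper_apply, map_sum, map_smul, Finset.smul_sum, Finset.sum_smul, smul_smul]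
  rw [Finset.sum_comm]
  conv_rhs => rw [Finset.sum_comm]
  refine Finset.sum_congr rfl fun a _ => ?_
  refine Fintype.sum_equiv (Equiv.mulLeft a) _ _ fun b => ?_
  rw [Equiv.coe_mulLeft, inv_mul_cancel_left, map_mul, Module.End.mul_apply, mul_comm (f b)]

/-- the part of `V` on which the idempotent is the identity -/
def part (Dt : Datum G k) : Submodule k V where
  carrier := {v | oper ρ Dt.e v = Dt.c • v}
  add_mem' := fun {a b} (ha : oper ρ Dt.e a = _) (hb : oper ρ Dt.e b = _) => by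
    show oper ρ Dt.e (a + b) = _
    rw [map_add, ha, hb, smul_add]
  zero_mem' := by show oper ρ Dt.e 0 = _; rw [map_zero, smul_zero]
  smul_mem' := fun t a (ha : oper ρ Dt.e a = _) => by
    show oper ρ Dt.e (t • a) = _
    rw [map_smul, ha, smul_comm]

theorem part_apply_mem (Dt : Datum G k) (a : G) {v : V} (hv : v ∈ part ρ Dt) : ρ a v ∈ part ρ Dt := by
  show oper ρ Dt.e (ρ a v) = _
  rw [oper_comm ρ Dt.conj, show oper ρ Dt.e v = _ from hv, map_smul]

theorem part_spread (Dt : Datum G k) {v : V} (hv : v ∈ part ρ Dt) :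
    ∑ x, ρ (x * Dt.h0 * x⁻¹) v = Dt.γ • v := by
  refine smul_right_injective V Dt.c_ne ?_
  simp only
  rw [smul_comm, ← show oper ρ Dt.e v = _ from hv, Finset.smul_sum]
  simp only [← map_smul, ← show oper ρ Dt.e v = _ from hv]
  simp only [oper_apply, map_sum, map_smul]
  rw [Finset.sum_comm' (t' := Finset.univ) (s' := fun _ => Finset.univ) (by simp)]
  rw [Finset.smul_sum, Finset.sum_comm]
  refine Eq.trans ?_ (Finset.sum_congr rfl fun y _ => by rw [smul_smul, ← Dt.spread y, Finset.sum_smul])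
  conv_rhs => rw [Finset.sum_comm]
  refine Finset.sum_congr rfl fun x _ => ?_
  refine Fintype.sum_equiv (Equiv.mulLeft (x * Dt.h0 * x⁻¹)) _ _ fun g => ?_
  rw [Equiv.coe_mulLeft, inv_mul_cancel_left, ← Module.End.mul_apply, ← map_mul]

theorem oper_part_eq_zero (Dt : Datum G k) {f : G → k} (hf : ∀ g, ∑ a, f a * Dt.e (a⁻¹ * g) = 0) {v : V}
    (hv : v ∈ part ρ Dt) : oper ρ f v = 0 := by
  refine smul_right_injective V Dt.c_ne ?_
  simp only
  rw [← map_smul, ← show oper ρ Dt.e v = _ from hv, oper_oper, smul_zero]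
  simp only [hf, zero_smul, Finset.sum_const_zero]

end Oper

section Regular

variable {G : Type*} [Group G] [Fintype G] {k : Type*} [Field k]

/-- the regular representation on functions -/
def regRep : Representation k G (G → k) where
  toFun g := LinearMap.funLeft k k (fun x => g⁻¹ * x)
  map_one' := by ext f x; simp [LinearMap.funLeft_apply]
  map_mul' a b := by ext f x; simp [LinearMap.funLeft_apply, mul_assoc]

omit [Fintype G] in
theorem regRep_apply (g : G) (f : G → k) (x : G) : regRep g f x = f (g⁻¹ * x) := rfl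

theorem e_mem_part (Dt : Datum G k) : Dt.e ∈ part (regRep (k := k)) Dt := by
  show oper regRep Dt.e Dt.e = _
  funext y
  rw [oper_apply, Finset.sum_apply, Pi.smul_apply, smul_eq_mul, ← Dt.conv y]
  exact Finset.sum_congr rfl fun h _ => by rw [Pi.smul_apply, regRep_apply, smul_eq_mul]

/-- a `p`-subgroup fixes a nonzero vector of the part -/
theorem exists_fixed_part {p : ℕ} [Fact p.Prime] [CharP k p] (Dt : Datum G k) {U : Subgroup G}
    (hU : IsPGroup p U) :
    ∃ v ∈ part (regRep (k := k)) Dt, v ≠ 0 ∧ ∀ u ∈ U, regRep u v = v := by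
  classical
  let Φ : (U → ZMod p) →+ (G → k) :=
    { toFun := fun φ => ∑ u : U, ZMod.castHom (dvd_refl p) k (φ u) • regRep (u : G) Dt.e
      map_zero' := by simp
      map_add' := fun a b => by simp [add_smul, Finset.sum_add_distrib, -ZMod.castHom_apply] }
  have hΦ : ∀ φ, Φ φ = ∑ u : U, ZMod.castHom (dvd_refl p) k (φ u) • regRep (u : G) Dt.e := fun _ => rfl
  have hmem : ∀ (a : U) x, x ∈ Φ.range → regRep (a : G) x ∈ Φ.range := by
    rintro a _ ⟨φ, rfl⟩
    refine ⟨fun u => φ (a⁻¹ * u), ?_⟩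
    rw [hΦ, hΦ, map_sum]
    refine (Fintype.sum_equiv (Equiv.mulLeft a) _ _ fun u => ?_).symm
    rw [Equiv.coe_mulLeft, inv_mul_cancel_left, map_smul, Subgroup.coe_mul, map_mul, Module.End.mul_apply]
  let _act : MulAction U Φ.range :=
    { smul := fun a x => ⟨regRep (a : G) x.1, hmem a x.1 x.2⟩
      one_smul := fun x => Subtype.ext (show regRep ((1 : U) : G) x.1 = x.1 by
        rw [OneMemClass.coe_one, map_one, Module.End.one_apply])
      mul_smul := fun a b x => Subtype.ext (show regRep ((a * b : U) : G) x.1 =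
        regRep (a : G) (regRep (b : G) x.1) by rw [Subgroup.coe_mul, map_mul, Module.End.mul_apply]) }
  have hfin : Finite Φ.range := Finite.of_surjective _ Φ.rangeRestrict_surjective
  have he : Dt.e ∈ Φ.range := by
    refine ⟨Pi.single 1 1, ?_⟩
    rw [hΦ, Finset.sum_eq_single (1 : U)]
    · rw [Pi.single_eq_same, map_one, one_smul, OneMemClass.coe_one, map_one, Module.End.one_apply]
    · intro b _ hb
      rw [Pi.single_eq_of_ne hb, map_zero, zero_smul]
    · simp
  have hne : (⟨Dt.e, he⟩ : Φ.range) ≠ 0 := fun h =>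
    Dt.ne_zero (congrFun (congrArg Subtype.val h) _)
  have hdvd : p ∣ Nat.card Φ.range := by
    have ho : addOrderOf (⟨Dt.e, he⟩ : Φ.range) = p := by
      refine addOrderOf_eq_prime ?_ hne
      refine Subtype.ext ?_
      rw [AddSubmonoidClass.coe_nsmul, ← Nat.cast_smul_eq_nsmul k, CharP.cast_eq_zero, zero_smul]
      rfl
    exact (dvd_of_eq ho.symm).trans (addOrderOf_dvd_natCard (⟨Dt.e, he⟩ : Φ.range))
  obtain ⟨b, hb, hb0⟩ := hU.exists_fixed_point_of_prime_dvd_card_of_fixed_point Φ.range hdvd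
    (a := 0) (fun a => Subtype.ext (map_zero (regRep (a : G))))
  refine ⟨b.1, ?_, fun h => hb0 (Subtype.ext h.symm), fun u hu => congrArg Subtype.val (hb ⟨u, hu⟩)⟩
  obtain ⟨φ, hφ⟩ := b.2
  rw [← hφ, hΦ]
  exact Submodule.sum_mem _ fun u _ => Submodule.smul_mem _ _ (part_apply_mem _ Dt _ (e_mem_part Dt))

end Regular

end CfsgLib.DefectZeroIdem
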