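import Cfsg.Agent.S4444
import Cfsg.Agent.Lib.Char.Exceptional.DetExtension
import Cfsg.Agent.Lib.Char.Exceptional.NormalInd
import Cfsg.Agent.Lib.CharDegree.Basic
import Cfsg.Agent.Lib.CharAction.RelativeGlauberman
import Cfsg.Agent.Lib.Transfer.Tate
import Cfsg.Agent.Lib.PGroups.Basic

/-!
# The kernel of the characters of degree prime to `p`
-/

namespace CfsgLib.Char.PPrimeKernel

open Cfsg CfsgLib.Char CfsgLib.CharIntegral CfsgLib.CharExt
open scoped ComplexConjugate commutatorElement

variable {G : Type*} [Group G] [Fintype G]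

/-- A character of `p'`-degree has a constituent of `p'`-degree. -/
theorem exists_constituent_not_dvd {p : ℕ} [Fact p.Prime] {f : G → ℂ} (hf : IsCharacter G f)
    {n : ℕ} (h1 : f 1 = n) (hn : ¬ p ∣ n) :
    ∃ χ : IrrCharacter G, ¬ p ∣ charDegree (χ : G → ℂ) ∧ classInner f (χ : G → ℂ) ≠ 0 := by
  classical
  have := Fintype.ofFinite (IrrCharacter G)
  obtain ⟨m, hm⟩ := IsChar.exists_sum hf
  by_contra hcon
  push Not at hcon
  have hsum : (n : ℂ) = ((∑ χ : IrrCharacter G, m χ * charDegree (χ : G → ℂ) : ℕ) : ℂ) := by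
    rw [← h1, hm]
    simp only [Finset.sum_apply, Pi.smul_apply, smul_eq_mul, Nat.cast_sum, Nat.cast_mul,
      CharDegree.cast_irrDegree]
  refine hn (Nat.cast_injective (R := ℂ) hsum ▸ Finset.dvd_sum fun χ _ => ?_)
  by_cases hχ : p ∣ charDegree (χ : G → ℂ)
  · exact hχ.mul_left _
  · have h := hcon χ hχ
    rw [hm, classInner_sum_irr] at h
    have hm0 : m χ = 0 := by exact_mod_cast h
    rw [hm0, zero_mul]
    exact dvd_zero p

/-- The constituents of a restriction are trivial where the character is. -/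
theorem apply_eq_of_restrict {H : Subgroup G} [Fintype H] {χ : IrrCharacter G}
    {θ : IrrCharacter H}
    (hne : classInner (fun h : H => (χ : G → ℂ) h) (θ : H → ℂ) ≠ 0) {h : H}
    (hh : (χ : G → ℂ) h = (χ : G → ℂ) 1) : (θ : H → ℂ) h = (θ : H → ℂ) 1 := by
  classical
  have := Fintype.ofFinite (IrrCharacter H)
  obtain ⟨m, hm⟩ := IsChar.exists_sum (IsChar.restrict H (IsIrr.isCharacter χ.2))
  refine Exceptional.ker_of_constituent (m := m) ?_ (ψ := θ) fun h0 => hne ?_
  · rw [← hm]; exact hh
  · rw [hm, classInner_sum_irr, h0, Nat.cast_zero]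

/-- An irreducible character of a subgroup of `p'`-index and of `p'`-degree lies below one of
`p'`-degree. -/
theorem exists_above {p : ℕ} [Fact p.Prime] {H : Subgroup G} [Fintype H] (hidx : ¬ p ∣ H.index)
    (ψ : IrrCharacter H) (hψ : ¬ p ∣ charDegree (ψ : H → ℂ)) :
    ∃ χ : IrrCharacter G, ¬ p ∣ charDegree (χ : G → ℂ) ∧
      classInner (fun h : H => (χ : G → ℂ) h) (ψ : H → ℂ) ≠ 0 := by
  obtain ⟨χ, hχ, hne⟩ := exists_constituent_not_dvd
    (isCharacter_indFun H (IsIrr.isCharacter ψ.2)) (n := H.index * charDegree (ψ : H → ℂ)) (p := p)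
    (by rw [indFun_apply_one, Nat.cast_mul, CharDegree.cast_irrDegree])
    ((Nat.Prime.not_dvd_mul Fact.out hidx hψ))
  refine ⟨χ, hχ, ?_⟩
  rw [frobenius_reciprocity H (ψ : H → ℂ) (IsIrr.isClassFunction χ.2)] at hne
  rw [← classInner_conj_symm]
  exact fun h0 => hne (by simpa using h0)

/-- A linear character separating an element outside the derived subgroup. -/
theorem exists_linear {H : Type*} [Group H] [Finite H] {x : H} (hx : x ∉ commutator H) :
    ∃ θ : IrrCharacter H, charDegree (θ : H → ℂ) = 1 ∧ (θ : H → ℂ) x ≠ (θ : H → ℂ) 1 := by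
  obtain ⟨φ, hφ⟩ := CommGroup.exists_apply_ne_one_of_hasEnoughRootsOfUnity (Abelianization H) ℂ
    (a := Abelianization.of x) fun h => hx (by
      rw [← Abelianization.ker_of]; exact MonoidHom.mem_ker.2 h)
  let f : H →* ℂˣ := φ.comp Abelianization.of
  have hf : IsIrrCharacter H fun h => (f h : ℂ) := isIrrCharacter_linear f
  refine ⟨⟨_, hf⟩, ?_, fun h => hφ (Units.ext ?_)⟩
  · exact (CharDegree.charDegree_eq_one_iff _).2 (by simp)
  · simpa [f] using h

section Action

variable {p : ℕ} [Fact p.Prime] (P : Sylow p G) {N : Subgroup G} [hN : N.Normal]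

/-- Invariance under the Sylow subgroup. -/
def Invariant (θ : N → ℂ) : Prop :=
  ∀ s ∈ (P : Subgroup G), ∀ n n' : N, (n' : G) = s * n * s⁻¹ → θ n' = θ n

theorem coprime_of_inf_centralizer_eq_bot (h : N ⊓ Subgroup.centralizer ((P : Subgroup G) : Set G) = ⊥) :
    (Nat.card N).Coprime (Nat.card (P : Subgroup G)) := by
  have hp : p.Prime := Fact.out
  obtain ⟨k, hk⟩ := P.2.exists_card_eq
  rw [hk]
  refine Nat.Coprime.pow_right _ (Transfer.coprime_card_of_sylow_inf_eq_bot P ?_)
  by_contra hne
  have : ((N).subgroupOf (P : Subgroup G)).Normal := inferInstance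
  obtain ⟨z, hzN, hzc, hz⟩ := Transfer.exists_mem_center_orderOf_eq P.2
    (Z := N.subgroupOf (P : Subgroup G)) (fun h0 => hne (by
      rw [inf_comm]; exact disjoint_iff.mp (Subgroup.subgroupOf_eq_bot.mp h0)))
  have hz' : (z : G) ∈ N ⊓ Subgroup.centralizer ((P : Subgroup G) : Set G) :=
    ⟨Subgroup.mem_subgroupOf.1 hzN, Subgroup.mem_centralizer_iff.2 fun y hy =>
      congrArg Subtype.val (Subgroup.mem_center_iff.1 hzc ⟨y, hy⟩)⟩
  rw [h, Subgroup.mem_bot] at hz'
  rw [show z = 1 from Subtype.ext hz', orderOf_one] at hz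
  exact hp.ne_one hz.symm

/-- Without fixed points only the trivial character is invariant. -/
theorem eq_one_of_invariant [Fintype N]
    (h : N ⊓ Subgroup.centralizer ((P : Subgroup G) : Set G) = ⊥) (θ : IrrCharacter N)
    (hθ : Invariant P (θ : N → ℂ)) : (θ : N → ℂ) = fun _ => 1 := by
  classical
  have := Fintype.ofFinite (⊥ : Subgroup G)
  have hres := Cfsg.Agent.S4444.result N (P : Subgroup G)
    (fun s _ g hg => hN.conj_mem g hg s) (coprime_of_inf_centralizer_eq_bot P h) p Fact.out P.2
    ⊥ h.symm bot_le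
  let one : IrrCharacter N := ⟨fun _ => 1, isIrrCharacter_one⟩
  have hsub : ∀ β β' : IrrCharacter (⊥ : Subgroup G), β = β' := by
    intro β β'
    have hlin : ∀ γ : IrrCharacter (⊥ : Subgroup G), ∀ x, (γ : (⊥ : Subgroup G) → ℂ) x = 1 := by
      intro γ x
      rw [Subsingleton.elim x 1, ← CharDegree.charDegree_eq_one_iff]
      have := CharDegree.charDegree_dvd_card γ
      rw [Subgroup.card_bot] at this
      exact Nat.dvd_one.1 this
    exact Subtype.ext (funext fun x => (hlin β x).trans (hlin β' x).symm)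
  obtain ⟨β, ⟨m, hm, hpm⟩, -⟩ := hres.1 θ hθ
  obtain ⟨β', ⟨m', hm', hpm'⟩, -⟩ := hres.1 one fun _ _ _ _ _ => rfl
  obtain rfl := hsub β' β
  exact congrArg Subtype.val (hres.2.2.1 θ one hθ (fun _ _ _ _ _ => rfl) β' m m' hm hpm hm' hpm')

/-- With fixed points there is a nontrivial invariant character. -/
theorem exists_invariant [Fintype N] (hcop : (Nat.card N).Coprime (Nat.card (P : Subgroup G)))
    (h : N ⊓ Subgroup.centralizer ((P : Subgroup G) : Set G) ≠ ⊥) :
    ∃ θ : IrrCharacter N, Invariant P (θ : N → ℂ) ∧ (θ : N → ℂ) ≠ fun _ => 1 := by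
  classical
  set C := N ⊓ Subgroup.centralizer ((P : Subgroup G) : Set G) with hC
  have := Fintype.ofFinite C
  have hres := Cfsg.Agent.S4444.result N (P : Subgroup G)
    (fun s _ g hg => hN.conj_mem g hg s) hcop p Fact.out P.2 C hC inf_le_left
  by_contra hcon
  push Not at hcon
  have hsub : ∀ β β' : IrrCharacter C, β = β' := fun β β' => by
    obtain ⟨χ, hχ, m, hm, hpm⟩ := hres.2.2.2 β
    obtain ⟨χ', hχ', m', hm', hpm'⟩ := hres.2.2.2 β'
    obtain rfl : χ = χ' := Subtype.ext ((hcon χ hχ).trans (hcon χ' hχ').symm)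
    exact (hres.1 χ hχ).unique ⟨m, hm, hpm⟩ ⟨m', hm', hpm'⟩
  obtain ⟨c, hc, hc1⟩ := C.bot_or_exists_ne_one.resolve_left h
  have hne : (⟨c, hc⟩ : C) ≠ 1 := fun e => hc1 (congrArg Subtype.val e)
  have : Subsingleton (IrrCharacter C) := ⟨hsub⟩
  have h1 := card_irrCharacter (G := C)
  rw [Nat.card_eq_one_iff_unique.2 ⟨inferInstance, ⟨⟨_, isIrrCharacter_one⟩⟩⟩] at h1
  obtain ⟨hs, -⟩ := Nat.card_eq_one_iff_unique.1 h1.symm
  exact hne (isConj_one_right.1 (ConjClasses.mk_eq_mk_iff_isConj.1
    (Subsingleton.elim (ConjClasses.mk (1 : C)) (ConjClasses.mk (⟨c, hc⟩ : C)))))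

/-- A normal subgroup without fixed points lies in every kernel of `p'`-degree. -/
theorem mem_kernel_of_mem [Fintype N]
    (h : N ⊓ Subgroup.centralizer ((P : Subgroup G) : Set G) = ⊥) (χ : IrrCharacter G)
    (hχ : ¬ p ∣ charDegree (χ : G → ℂ)) (n : N) : (χ : G → ℂ) n = (χ : G → ℂ) 1 := by
  classical
  let _ : MulDistribMulAction (P : Subgroup G) N :=
    CharAction.conjAction N (P : Subgroup G) fun s _ g hg => hN.conj_mem g hg s
  let _ : MulAction (P : Subgroup G) (IrrCharacter N) := CharAction.charAction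
  have := Fintype.ofFinite (IrrCharacter N)
  obtain ⟨m, hm⟩ := IsChar.exists_sum (IsChar.restrict N (IsIrr.isCharacter χ.2))
  have hmθ : ∀ θ : IrrCharacter N,
      classInner (fun n : N => (χ : G → ℂ) n) (θ : N → ℂ) = (m θ : ℂ) := fun θ => by
    rw [hm, classInner_sum_irr]
  have hinv : ∀ (a : (P : Subgroup G)) (θ : IrrCharacter N), m (a • θ) = m θ := by
    intro a θ
    refine Nat.cast_injective (R := ℂ) ?_
    rw [← hmθ, ← hmθ]
    simp only [classInner]
    congr 1
    refine Fintype.sum_equiv (MulAction.toPerm a⁻¹) _ _ fun k => ?_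
    show (χ : G → ℂ) k * conj ((θ : N → ℂ) (a⁻¹ • k)) =
      (χ : G → ℂ) ((a⁻¹ • k : N) : G) * conj ((θ : N → ℂ) (a⁻¹ • k))
    congr 1
    exact (IsIrr.isClassFunction χ.2 (k : G) ((a⁻¹ : (P : Subgroup G)) : G)).symm
  let one : IrrCharacter N := ⟨fun _ => 1, isIrrCharacter_one⟩
  have hm1 : m one ≠ 0 := by
    intro h0
    have hcong := CharAction.congMod_sum_fixed P.2
      (fun θ : IrrCharacter N => ((m θ * charDegree (θ : N → ℂ) : ℕ) : ℂ))
      (fun θ => isIntegral_algebraMap (R := ℤ) (x := ((m θ * charDegree (θ : N → ℂ) : ℕ) : ℤ)))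
      (fun a θ => by
        have : charDegree ((a • θ : IrrCharacter N) : N → ℂ) = charDegree (θ : N → ℂ) := by
          refine Nat.cast_injective (R := ℂ) ?_
          rw [CharDegree.cast_irrDegree, CharDegree.cast_irrDegree]
          exact congrArg (θ : N → ℂ) (smul_one _)
        rw [hinv, this]) (p := p)
    rw [← Nat.cast_sum, Finset.sum_eq_zero (s := Finset.univ.filter _) fun θ hθ => ?_] at hcong
    · refine hχ ?_
      have h2 := CharAction.CongMod.dvd_of_natCast (Fact.out : p.Prime).ne_zero hcong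
      convert h2 using 1
      refine Nat.cast_injective (R := ℂ) ?_
      rw [CharDegree.cast_irrDegree, show (χ : G → ℂ) 1 = (fun n : N => (χ : G → ℂ) n) 1 from rfl, hm]
      simp [CharDegree.cast_irrDegree]
    · have hθ1 : θ = one := Subtype.ext (eq_one_of_invariant P h θ fun s hs k k' hk => by
        have := congrFun (congrArg Subtype.val ((Finset.mem_filter.1 hθ).2 ⟨s, hs⟩⁻¹)) k
        rw [← this, show k' = (⟨s, hs⟩ : (P : Subgroup G)) • k from Subtype.ext hk]
        show (θ : N → ℂ) _ = (θ : N → ℂ) ((⟨s, hs⟩⁻¹ : (P : Subgroup G))⁻¹ • k)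
        rw [inv_inv])
      rw [hθ1, h0, zero_mul, Nat.cast_zero]
  have honly : ∀ θ : IrrCharacter N, m θ ≠ 0 → θ = one := by
    intro θ hθ
    obtain ⟨g, hg⟩ := (RelGlauberman.constituent_iff hN χ.2 (θ := (one : N → ℂ)) one.2
      (by rw [hmθ]; exact_mod_cast hm1) θ.2).1 (by rw [hmθ]; exact_mod_cast hθ)
    exact Subtype.ext hg
  have key : ∀ k : N, (χ : G → ℂ) k = m one := fun k => by
    rw [show (χ : G → ℂ) k = (fun n : N => (χ : G → ℂ) n) k from rfl, hm, Finset.sum_apply,
      Finset.sum_eq_single one (fun θ _ hθ => by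
        rw [of_not_not fun h' => hθ (honly θ h'), Nat.cast_zero, zero_smul]; rfl)
      (fun h' => absurd (Finset.mem_univ _) h')]
    simp [one]
  rw [key, ← key 1]
  rfl

/-- An invariant character of a normal `p'`-subgroup is a constituent of one of `p'`-degree. -/
theorem exists_constituent_invariant [Fintype N]
    (hcop : (Nat.card N).Coprime (Nat.card (P : Subgroup G))) (θ : IrrCharacter N)
    (hθ : Invariant P (θ : N → ℂ)) :
    ∃ χ : IrrCharacter G, ¬ p ∣ charDegree (χ : G → ℂ) ∧
      classInner (fun n : N => (χ : G → ℂ) n) (θ : N → ℂ) ≠ 0 := by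
  classical
  have hp : p.Prime := Fact.out
  set H : Subgroup G := N ⊔ (P : Subgroup G) with hH
  have := Fintype.ofFinite H
  let e := Subgroup.subgroupOfEquivOfLe (le_sup_left : N ≤ H)
  have := Fintype.ofFinite (N.subgroupOf H)
  have hθ' : IsIrrCharacter (N.subgroupOf H) fun x => (θ : N → ℂ) (e x) :=
    IsIrr.comp_surjective e.toMonoidHom e.surjective θ.2
  have hinv : ∀ (g : H) (x : N.subgroupOf H), (θ : N → ℂ) (e ⟨g * x * g⁻¹,
      (inferInstance : (N.subgroupOf H).Normal).conj_mem _ x.2 g⟩) = (θ : N → ℂ) (e x) := by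
    intro g x
    obtain ⟨a, ha, s, hs, has⟩ :
        ∃ a ∈ (N : Set G), ∃ s ∈ ((P : Subgroup G) : Set G), a * s = (g : G) := by
      have : (g : G) ∈ ((N ⊔ (P : Subgroup G) : Subgroup G) : Set G) := g.2
      rw [Subgroup.normal_mul] at this
      exact Set.mem_mul.1 this
    let k' : N := ⟨s * (x : H) * s⁻¹, hN.conj_mem _ (Subgroup.mem_subgroupOf.1 x.2) s⟩
    rw [← hθ s hs (e x) k' rfl, ← IsIrr.isClassFunction θ.2 k' ⟨a, ha⟩]
    refine congrArg (θ : N → ℂ) (Subtype.ext ?_)
    show (g : G) * (x : H) * (g : G)⁻¹ = a * (s * (x : H) * s⁻¹) * a⁻¹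
    rw [← has]
    group
  have hcard : Nat.card (N.subgroupOf H) = Nat.card N := Nat.card_congr e.toEquiv
  have hdeg : ((fun x => (θ : N → ℂ) (e x)) : N.subgroupOf H → ℂ) 1 =
      (charDegree (θ : N → ℂ) : ℂ) := by
    simp [CharDegree.cast_irrDegree]
  have hidx : (N.subgroupOf H).index ∣ Nat.card (P : Subgroup G) := by
    show N.relIndex H ∣ _
    rw [hH, Subgroup.relIndex_sup_left]
    exact Subgroup.relIndex_dvd_card _ _
  obtain ⟨ψ, ⟨hψ, hres, -⟩, -⟩ := Exceptional.canonical_extension (N := N.subgroupOf H) hθ' hinv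
    hdeg (by
      refine Nat.Coprime.coprime_dvd_left hidx ?_
      obtain ⟨n, ρ, hρ, hρc⟩ := hθ'
      rw [← hρc, detOrder_eq]
      refine (Nat.Coprime.symm ?_).mul_right (Nat.Coprime.symm ?_)
      · refine hcop.coprime_dvd_left ?_
        rw [← hcard]
        exact orderOf_dvd_of_pow_eq_one (hom_pow_card _)
      · exact hcop.coprime_dvd_left (CharDegree.charDegree_dvd_card θ))
  let ψ' : IrrCharacter H := ⟨ψ, hψ⟩
  have hψd : charDegree (ψ' : H → ℂ) = charDegree (θ : N → ℂ) := by
    refine Nat.cast_injective (R := ℂ) ?_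
    rw [CharDegree.cast_irrDegree, CharDegree.cast_irrDegree]
    exact (hres 1).trans (congrArg (θ : N → ℂ) (map_one e))
  obtain ⟨χ, hχ, hne⟩ := exists_above (p := p) (H := H)
    (fun hd => P.not_dvd_index (hd.trans (Subgroup.index_dvd_of_le le_sup_right))) ψ' (by
      rw [hψd]
      intro hd
      by_cases hP1 : Nat.card (P : Subgroup G) = 1
      · refine P.not_dvd_index ?_
        rw [← Nat.one_mul (P : Subgroup G).index, ← hP1, Subgroup.card_mul_index]
        exact (hd.trans (CharDegree.charDegree_dvd_card θ)).trans (Subgroup.card_subgroup_dvd_card N)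
      · obtain ⟨k, hk⟩ := P.2.exists_card_eq
        have hk0 : k ≠ 0 := fun h0 => hP1 (by rw [hk, h0, pow_zero])
        exact hp.ne_one (Nat.eq_one_of_dvd_coprimes hcop
          (hd.trans (CharDegree.charDegree_dvd_card θ)) (hk ▸ dvd_pow_self p hk0)))
  refine ⟨χ, hχ, ?_⟩
  have := Fintype.ofFinite (IrrCharacter H)
  choose a ha using fun φ : IrrCharacter H => IsChar.classInner_eq_natCast
    (IsChar.restrict H (IsIrr.isCharacter χ.2)) (IsIrr.isCharacter φ.2)
  choose m hm using fun φ : IrrCharacter H => IsChar.classInner_eq_natCast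
    (Clifford.isCharacter_resTo (le_sup_left : N ≤ H) (IsIrr.isCharacter φ.2))
    (IsIrr.isCharacter θ.2)
  have hres' : Clifford.resTo (le_sup_left : N ≤ H) (ψ' : H → ℂ) = (θ : N → ℂ) := funext fun k =>
    (hres (e.symm k)).trans (congrArg (θ : N → ℂ) (e.apply_symm_apply k))
  have hmψ : m ψ' = 1 := Nat.cast_injective (R := ℂ) <| by
    rw [← hm, hres', classInner_irr_self, Nat.cast_one]
  rw [Clifford.classInner_resTo_restrict (le_sup_left : N ≤ H) (IsIrr.isCharacter χ.2),
    Finset.sum_congr rfl fun φ _ => show _ = ((a φ * m φ : ℕ) : ℂ) by rw [ha, hm, Nat.cast_mul],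
    ← Nat.cast_sum, Nat.cast_ne_zero]
  refine fun h0 => hne ?_
  have h1 := Finset.sum_eq_zero_iff.1 h0 ψ' (Finset.mem_univ _)
  rw [hmψ, mul_one] at h1
  rw [ha, h1, Nat.cast_zero]

/-- An invariant character of a normal `p'`-subgroup lies below one of `p'`-degree. -/
theorem exists_over_invariant [Fintype N]
    (hcop : (Nat.card N).Coprime (Nat.card (P : Subgroup G))) (θ : IrrCharacter N)
    (hθ : Invariant P (θ : N → ℂ)) :
    ∃ χ : IrrCharacter G, ¬ p ∣ charDegree (χ : G → ℂ) ∧
      ((∀ n : N, (χ : G → ℂ) n = (χ : G → ℂ) 1) → (θ : N → ℂ) = fun _ => 1) := by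
  classical
  obtain ⟨χ, hχ, hne⟩ := exists_constituent_invariant P hcop θ hθ
  refine ⟨χ, hχ, fun hker => ?_⟩
  have key : ∀ n : N, (θ : N → ℂ) n = (θ : N → ℂ) 1 := fun n =>
    apply_eq_of_restrict hne (hker n)
  let one : IrrCharacter N := ⟨fun _ => 1, isIrrCharacter_one⟩
  by_contra hne1
  have h := classInner_irr_of_ne (χ := θ) (ψ := one) fun e => hne1 (congrArg Subtype.val e)
  have hfun : (θ : N → ℂ) = (θ : N → ℂ) 1 • fun _ => (1 : ℂ) := funext fun n => by simp [key n]
  rw [hfun, classInner_smul_left,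
    show classInner (fun _ : N => (1 : ℂ)) (fun _ => 1) = 1 from classInner_irr_self one, mul_one] at h
  exact IsIrr.apply_one_ne_zero θ.2 h

end Action

/-- The intersection of the kernels of the characters of `p'`-degree. -/
noncomputable def kernelSubgroup (p : ℕ) : Subgroup G :=
  ⨅ χ : {χ : IrrCharacter G // ¬ p ∣ charDegree (χ : G → ℂ)}, CharDegree.kerSubgroup χ.1

theorem mem_kernelSubgroup {p : ℕ} {g : G} : g ∈ kernelSubgroup (G := G) p ↔
    ∀ χ : IrrCharacter G, ¬ p ∣ charDegree (χ : G → ℂ) → (χ : G → ℂ) g = (χ : G → ℂ) 1 := by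
  simp [kernelSubgroup, Subgroup.mem_iInf, CharDegree.mem_kerSubgroup]

theorem kernelSubgroup_eq {p : ℕ} [Fact p.Prime] (P : Sylow p G) (N : Subgroup G) [N.Normal]
    (hN : N ⊓ Subgroup.centralizer ((P : Subgroup G) : Set G) = ⊥)
    (hmax : ∀ L : Subgroup G, L.Normal →
      L ⊓ Subgroup.centralizer ((P : Subgroup G) : Set G) = ⊥ → L ≤ N) :
    kernelSubgroup p = (N ⊔ ⁅(P : Subgroup G), (P : Subgroup G)⁆).normalCore := by
  classical
  set K := kernelSubgroup (G := G) p with hK
  have : K.Normal := Subgroup.normal_iInf_normal fun χ => CharDegree.kerSubgroup_normal χ.1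
  have := Fintype.ofFinite (P : Subgroup G)
  have := Fintype.ofFinite N
  set D := ⁅(P : Subgroup G), (P : Subgroup G)⁆ with hD
  have hDmap : (commutator (P : Subgroup G)).map (P : Subgroup G).subtype = D :=
    Subgroup.map_subtype_commutator _
  -- the Sylow part
  have hKP : ∀ x : (P : Subgroup G), (x : G) ∈ K → x ∈ commutator (P : Subgroup G) := by
    intro x hx
    by_contra hne
    obtain ⟨θ, hθ1, hθx⟩ := exists_linear hne
    obtain ⟨χ, hχ, hc⟩ := exists_above (p := p) (H := (P : Subgroup G)) P.not_dvd_index θ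
      (by rw [hθ1]; exact (Fact.out : p.Prime).not_dvd_one)
    exact hθx (apply_eq_of_restrict hc (mem_kernelSubgroup.1 hx χ hχ))
  refine le_antisymm ((Subgroup.normal_le_normalCore).2 ?_) fun g hg => ?_
  · obtain ⟨Q, L, hL, hcompl⟩ := Transfer.hasNormalPComplement_of_inf_le_frattini P K (by
      rintro x ⟨hxK, hxP⟩
      exact ⟨⟨x, hxP⟩, PGroups.commutator_le_frattini' P.2 (hKP ⟨x, hxP⟩ hxK), rfl⟩)
    set L' : Subgroup G := L.map K.subtype with hL'
    have hcardL : Nat.card L' = Nat.card L := Subgroup.card_map_of_injective K.subtype_injective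
    have hLidx : ∃ k, L.index = p ^ k := by
      obtain ⟨k, hk⟩ := Q.2.exists_card_eq
      exact ⟨k, by rw [← hk]; exact hcompl.symm.index_eq_card⟩
    have hpL : ¬ p ∣ Nat.card L := by
      rw [← hcompl.index_eq_card]
      exact Q.not_dvd_index
    have hL'n : L'.Normal := by
      refine ⟨fun x hx y => ?_⟩
      obtain ⟨l, hl, rfl⟩ := hx
      have hyK : y * (l : G) * y⁻¹ ∈ K := Subgroup.Normal.conj_mem inferInstance _ l.2 y
      refine ⟨⟨_, hyK⟩, ?_, rfl⟩
      refine (QuotientGroup.eq_one_iff (N := L) (⟨_, hyK⟩ : K)).1 (orderOf_eq_one_iff.1 ?_)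
      obtain ⟨k, hk⟩ := hLidx
      have h1 : orderOf ((⟨_, hyK⟩ : K) : K ⧸ L) ∣ Nat.card L := by
        refine (orderOf_map_dvd (QuotientGroup.mk' L) _).trans ?_
        rw [← Subgroup.orderOf_coe]
        show orderOf (y * (l : G) * y⁻¹) ∣ _
        rw [← MulAut.conj_apply, MulEquiv.orderOf_eq, Subgroup.orderOf_coe]
        exact Subgroup.orderOf_dvd_natCard _ hl
      have h2 : orderOf ((⟨_, hyK⟩ : K) : K ⧸ L) ∣ p ^ k := by
        rw [← hk, Subgroup.index_eq_card]
        exact orderOf_dvd_natCard _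
      exact Nat.eq_one_of_dvd_coprimes
        (Nat.Coprime.pow_right k ((Fact.out : p.Prime).coprime_iff_not_dvd.2 hpL).symm) h1 h2
    have hL'N : L' ≤ N := by
      refine hmax L' hL'n ?_
      by_contra hne
      have := Fintype.ofFinite L'
      obtain ⟨k, hk⟩ := P.2.exists_card_eq
      have hcop : (Nat.card L').Coprime (Nat.card (P : Subgroup G)) := by
        rw [hcardL, hk]
        exact Nat.Coprime.pow_right k ((Fact.out : p.Prime).coprime_iff_not_dvd.2 hpL).symm
      obtain ⟨θ, hθ, hθ1⟩ := exists_invariant (N := L') P hcop hne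
      obtain ⟨χ, hχ, himp⟩ := exists_over_invariant (N := L') P hcop θ hθ
      exact hθ1 (himp fun n => mem_kernelSubgroup.1 (Subgroup.map_subtype_le L n.2) χ hχ)
    have hsup : L ⊔ (P : Subgroup G).subgroupOf K = ⊤ := by
      refine Subgroup.index_eq_one.1 (Nat.eq_one_of_dvd_coprimes (?_ : Nat.Coprime L.index
        ((P : Subgroup G).subgroupOf K).index) (Subgroup.index_dvd_of_le le_sup_left)
        (Subgroup.index_dvd_of_le le_sup_right))
      obtain ⟨k, hk⟩ := hLidx
      rw [hk]
      refine Nat.Coprime.pow_left k ((Fact.out : p.Prime).coprime_iff_not_dvd.2 fun hd => ?_)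
      have h1 : (P : Subgroup G).relIndex K * K.index =
          K.relIndex (P : Subgroup G) * (P : Subgroup G).index := by
        rw [← Subgroup.inf_relIndex_right (P : Subgroup G) K,
          Subgroup.relIndex_mul_index inf_le_right, ← Subgroup.inf_relIndex_right K (P : Subgroup G),
          inf_comm K, Subgroup.relIndex_mul_index inf_le_left]
      obtain ⟨r, hr⟩ := Subgroup.relIndex_dvd_index_of_normal (H := K) (K := (P : Subgroup G))
      rw [hr, mul_left_comm] at h1
      exact P.not_dvd_index (mul_left_cancel₀ (Nat.pos_iff_ne_zero.1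
        (Nat.pos_of_ne_zero Subgroup.index_ne_zero_of_finite)) h1 ▸ hd.mul_right r)
    calc K = (L ⊔ (P : Subgroup G).subgroupOf K).map K.subtype := by
          rw [hsup, ← MonoidHom.range_eq_map, Subgroup.range_subtype]
      _ ≤ N ⊔ D := by
          rw [Subgroup.map_sup]
          refine sup_le_sup hL'N ?_
          rintro x ⟨u, hu, rfl⟩
          rw [← hDmap]
          exact ⟨⟨u, hu⟩, hKP ⟨u, hu⟩ u.2, rfl⟩
  · refine mem_kernelSubgroup.2 fun χ hχ => ?_
    obtain ⟨n, ρ, hρ, hρc, -⟩ := CharDegree.exists_rep χ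
    have hone : ∀ x : G, (χ : G → ℂ) x = (χ : G → ℂ) 1 → ρ x = 1 := fun x hx => by
      rw [← hρc, Representation.char_one] at hx
      exact (character_eq_finrank_iff ρ x).1 hx
    -- a vector fixed by the derived subgroup of the Sylow subgroup
    obtain ⟨v, hv0, hv⟩ : ∃ v : Fin n → ℂ, v ≠ 0 ∧ ∀ d ∈ D, ρ d v = v := by
      obtain ⟨θ, hθ, hθc⟩ := exists_constituent_not_dvd
        (IsChar.restrict (P : Subgroup G) (IsIrr.isCharacter χ.2))
        (n := charDegree (χ : G → ℂ)) (p := p) (by simp [CharDegree.cast_irrDegree]) hχ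
      have hlin : (θ : ↥(P : Subgroup G) → ℂ) 1 = 1 := by
        rw [← CharDegree.charDegree_eq_one_iff]
        obtain ⟨k, hk⟩ := P.2.exists_card_eq
        obtain ⟨j, -, hj⟩ := (Nat.dvd_prime_pow Fact.out).1
          (hk ▸ CharDegree.charDegree_dvd_card θ)
        rcases j with _ | j
        · simpa using hj
        · exact absurd (hj ▸ dvd_pow_self p (Nat.succ_ne_zero j)) hθ
      let σ : Representation ℂ (commutator (P : Subgroup G)) (Fin n → ℂ) :=
        ρ.comp ((P : Subgroup G).subtype.comp (commutator (P : Subgroup G)).subtype)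
      have := Fintype.ofFinite (IrrCharacter (P : Subgroup G))
      have := Fintype.ofFinite (commutator (P : Subgroup G))
      obtain ⟨m, hm⟩ := IsChar.exists_sum (IsChar.restrict (P : Subgroup G) (IsIrr.isCharacter χ.2))
      have hmθ : m θ ≠ 0 := fun h0 => hθc (by rw [hm, classInner_sum_irr, h0, Nat.cast_zero])
      have hker : commutator (P : Subgroup G) ≤ CharDegree.kerSubgroup θ := by
        rw [commutator_eq_closure, Subgroup.closure_le]
        rintro _ ⟨a, b, rfl⟩
        obtain ⟨k, τ, hτ, hτc, hk⟩ := CharDegree.exists_rep θ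
        have hk1 : k = 1 := hk.trans ((CharDegree.charDegree_eq_one_iff θ).2 hlin)
        subst hk1
        have hcomm : ∀ f f' : (Fin 1 → ℂ) →ₗ[ℂ] (Fin 1 → ℂ), f * f' = f' * f := by
          intro f f'
          have h : ∀ g : (Fin 1 → ℂ) →ₗ[ℂ] (Fin 1 → ℂ), ∀ w, g w = (g 1 0) • w := fun g w => by
            have hw : w = w 0 • (1 : Fin 1 → ℂ) := funext fun i => by
              rw [Subsingleton.elim i 0]; simp
            conv_lhs => rw [hw, map_smul]
            funext i
            rw [Subsingleton.elim i 0]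
            simp [mul_comm]
          refine LinearMap.ext fun w => ?_
          rw [Module.End.mul_apply, Module.End.mul_apply, h f (f' w), h f' (f w), h f' w, h f w,
            smul_smul, smul_smul, mul_comm]
        show ⁅a, b⁆ ∈ CharDegree.kerSubgroup θ
        rw [CharDegree.mem_kerSubgroup, ← hτc, Representation.char_one, character_eq_finrank_iff,
          commutatorElement_def, map_mul, map_mul, map_mul, hcomm (τ a) (τ b), mul_assoc (τ b),
          ← map_mul, mul_inv_cancel, map_one, mul_one, ← map_mul, mul_inv_cancel, map_one]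
        rfl
      have hinv : Module.finrank ℂ (Representation.invariants σ) ≠ 0 := by
        intro h0
        have h := Representation.card_inv_mul_sum_char_eq_finrank σ
        rw [h0, Nat.cast_zero] at h
        have hch : ∀ d : commutator (P : Subgroup G), σ.character d =
            ∑ ψ : IrrCharacter (P : Subgroup G), (m ψ : ℂ) * (ψ : ↥(P : Subgroup G) → ℂ) d := by
          intro d
          show ρ.character ((d : (P : Subgroup G)) : G) = _
          rw [hρc]
          exact (congrFun hm (d : (P : Subgroup G))).trans (by simp)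
        have hnat : ∀ ψ : IrrCharacter (P : Subgroup G), ∃ a : ℕ,
            (Nat.card (commutator (P : Subgroup G)) : ℂ)⁻¹ *
              ∑ d : commutator (P : Subgroup G), (ψ : ↥(P : Subgroup G) → ℂ) d = a := fun ψ => by
          obtain ⟨a, ha⟩ := IsChar.classInner_eq_natCast
            (IsChar.restrict (commutator (P : Subgroup G)) (IsIrr.isCharacter ψ.2))
            (IsIrr.isCharacter (isIrrCharacter_one (G := commutator (P : Subgroup G))))
          exact ⟨a, by rw [← ha]; simp [classInner]⟩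
        choose a ha using hnat
        have haθ : a θ = 1 := by
          refine Nat.cast_injective (R := ℂ) ?_
          rw [← ha, Finset.sum_congr rfl fun d _ =>
            (CharDegree.mem_kerSubgroup.1 (hker d.2)).trans hlin, Finset.sum_const, Finset.card_univ,
            ← Nat.card_eq_fintype_card, nsmul_one, inv_mul_cancel₀, Nat.cast_one]
          exact Nat.cast_ne_zero.2 Nat.card_pos.ne'
        simp only [hch] at h
        rw [Finset.sum_comm, Finset.mul_sum] at h
        simp only [← Finset.mul_sum, ← mul_assoc, mul_comm _ (Nat.cast (m _) : ℂ)] at h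
        simp only [mul_assoc, ha] at h
        have hz : (∑ ψ : IrrCharacter (P : Subgroup G), m ψ * a ψ) = 0 := by exact_mod_cast h
        have := (Finset.sum_eq_zero_iff.1 hz) θ (Finset.mem_univ _)
        rw [haθ, mul_one] at this
        exact hmθ this
      obtain ⟨v, hv⟩ := (Module.finrank_pos_iff_exists_ne_zero (R := ℂ)).1 (Nat.pos_of_ne_zero hinv)
      refine ⟨v, fun e => hv (Subtype.ext e), fun d hd => ?_⟩
      rw [← hDmap] at hd
      obtain ⟨d', hd', rfl⟩ := hd
      exact (Representation.mem_invariants σ _).1 v.2 ⟨d', hd'⟩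
    let S : Subgroup G :=
      { carrier := {x | ρ x v = v}
        one_mem' := by simp
        mul_mem' := fun {a b} ha hb => by
          show ρ (a * b) v = v
          rw [map_mul, Module.End.mul_apply, hb, ha]
        inv_mem' := fun {a} ha => by
          show ρ a⁻¹ v = v
          conv_lhs => rw [← (ha : ρ a v = v)]
          rw [← Module.End.mul_apply, ← map_mul, inv_mul_cancel, map_one, Module.End.one_apply] }
    have hNS : N ⊔ D ≤ S := sup_le
      (fun x hx => by
        show ρ x v = v
        rw [hone x (mem_kernel_of_mem P hN χ hχ ⟨x, hx⟩), Module.End.one_apply])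
      fun d hd => hv d hd
    set R := (N ⊔ D).normalCore with hR
    let W : Subrepresentation ρ :=
      { toSubmodule :=
          { carrier := {w | ∀ x ∈ R, ρ x w = w}
            add_mem' := fun {a b} ha hb x hx => by rw [map_add, ha x hx, hb x hx]
            zero_mem' := fun x _ => map_zero _
            smul_mem' := fun c a ha x hx => by rw [map_smul, ha x hx] }
        apply_mem_toSubmodule := fun y {w} hw x hx => by
          have h1 : y⁻¹ * x * y ∈ R := by
            simpa using (inferInstance : R.Normal).conj_mem x hx y⁻¹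
          calc ρ x (ρ y w) = ρ y (ρ (y⁻¹ * x * y) w) := by
                rw [← Module.End.mul_apply, ← map_mul, ← Module.End.mul_apply, ← map_mul]
                group
            _ = ρ y w := by rw [hw _ h1] }
    have hvW : v ∈ W.toSubmodule := fun x hx => hNS (Subgroup.normalCore_le _ hx)
    have := hρ
    rcases eq_bot_or_eq_top W with hW | hW
    · rw [hW] at hvW
      exact absurd ((Submodule.mem_bot ℂ).1 hvW) hv0
    · have h1 : ρ g = 1 := LinearMap.ext fun w => by
        have : w ∈ W.toSubmodule := by rw [hW]; exact Submodule.mem_top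
        exact this g hg
      rw [← hρc, Representation.char_one]
      exact (character_eq_finrank_iff ρ g).2 h1

end CfsgLib.Char.PPrimeKernel
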