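import Cfsg.Prelude.Def_Characters
import Mathlib.LinearAlgebra.Eigenspace.Semisimple
import Mathlib.LinearAlgebra.Trace
import Mathlib.RepresentationTheory.Maschke
import Mathlib.RepresentationTheory.Semisimple
import Mathlib.RingTheory.IntegralClosure.IsIntegralClosure.Basic
import Mathlib.FieldTheory.Separable
import Mathlib.Analysis.Complex.Polynomial.Basic
import Mathlib.Analysis.Normed.Ring.Basic

/-!
# Complex representations of finite groups: basic facts used by the character library

Transport along linear equivalences, eigenbases of the operators of a representation, values of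
characters at inverses, splitting by Maschke and an induction principle.
-/

namespace CfsgLib.Char

open scoped ComplexConjugate
open Module

universe v

variable {G : Type*} [Group G]

section Transport

variable {V W : Type*} [AddCommGroup V] [Module ℂ V] [AddCommGroup W] [Module ℂ W]

/-- Transport of a representation along a linear equivalence. -/
noncomputable def mapEquiv (ρ : Representation ℂ G V) (e : V ≃ₗ[ℂ] W) : Representation ℂ G W where
  toFun g := e.conj (ρ g)
  map_one' := by ext; simp [LinearEquiv.conj_apply]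
  map_mul' a b := by ext; simp [LinearEquiv.conj_apply]

@[simp]
theorem mapEquiv_apply (ρ : Representation ℂ G V) (e : V ≃ₗ[ℂ] W) (g : G) (w : W) :
    mapEquiv ρ e g w = e (ρ g (e.symm w)) := by
  simp [mapEquiv, LinearEquiv.conj_apply]

theorem character_mapEquiv (ρ : Representation ℂ G V) (e : V ≃ₗ[ℂ] W) :
    (mapEquiv ρ e).character = ρ.character := by
  funext g
  exact LinearMap.trace_conj' (ρ g) e

/-- Transport gives an equivalent representation. -/
noncomputable def mapEquivEquiv (ρ : Representation ℂ G V) (e : V ≃ₗ[ℂ] W) :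
    ρ.Equiv (mapEquiv ρ e) where
  toLinearMap := e.toLinearMap
  invFun := e.invFun
  left_inv := e.left_inv
  right_inv := e.right_inv
  isIntertwining' g := by ext v; simp

/-- Subrepresentations of equivalent representations correspond. -/
def subrepOrderIso {ρ : Representation ℂ G V} {σ : Representation ℂ G W} (φ : ρ.Equiv σ) :
    Subrepresentation ρ ≃o Subrepresentation σ where
  toFun S := ⟨S.toSubmodule.map φ.toLinearEquiv.toLinearMap, by
    rintro g w ⟨v, hv, rfl⟩
    exact ⟨ρ g v, S.apply_mem_toSubmodule g hv, φ.toIntertwiningMap.isIntertwining _ _ g v⟩⟩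
  invFun S := ⟨S.toSubmodule.comap φ.toLinearEquiv.toLinearMap, by
    intro g v hv
    have h := S.apply_mem_toSubmodule g hv
    show φ.toLinearEquiv (ρ g v) ∈ S.toSubmodule
    exact (φ.toIntertwiningMap.isIntertwining _ _ g v).symm ▸ h⟩
  left_inv S := Subrepresentation.toSubmodule_injective <|
    Submodule.comap_map_eq_of_injective φ.toLinearEquiv.injective _
  right_inv S := Subrepresentation.toSubmodule_injective <|
    Submodule.map_comap_eq_of_surjective φ.toLinearEquiv.surjective _
  map_rel_iff' := @fun S T =>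
    Submodule.map_le_map_iff_of_injective φ.toLinearEquiv.injective S.toSubmodule T.toSubmodule

theorem isIrreducible_of_equiv {ρ : Representation ℂ G V} {σ : Representation ℂ G W}
    (φ : ρ.Equiv σ) [ρ.IsIrreducible] : σ.IsIrreducible :=
  (subrepOrderIso φ).symm.isSimpleOrder

theorem isIrreducible_iff_of_equiv {ρ : Representation ℂ G V} {σ : Representation ℂ G W}
    (φ : ρ.Equiv σ) : ρ.IsIrreducible ↔ σ.IsIrreducible :=
  (subrepOrderIso φ).isSimpleOrder_iff

theorem isIrreducible_mapEquiv (ρ : Representation ℂ G V) (e : V ≃ₗ[ℂ] W) [ρ.IsIrreducible] :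
    (mapEquiv ρ e).IsIrreducible :=
  isIrreducible_of_equiv (mapEquivEquiv ρ e)

end Transport

section Nontrivial

variable {V : Type*} [AddCommGroup V] [Module ℂ V]

theorem nontrivial_of_irreducible (ρ : Representation ℂ G V) [h : ρ.IsIrreducible] :
    Nontrivial V := by
  by_contra hV
  rw [not_nontrivial_iff_subsingleton] at hV
  obtain ⟨a, b, hab⟩ := h.exists_pair_ne
  exact hab (Subrepresentation.toSubmodule_injective (Subsingleton.elim _ _))

theorem finrank_pos_of_irreducible [FiniteDimensional ℂ V] (ρ : Representation ℂ G V)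
    [ρ.IsIrreducible] : 0 < finrank ℂ V :=
  haveI := nontrivial_of_irreducible ρ
  finrank_pos

theorem isIrreducible_of_finrank_eq_one (ρ : Representation ℂ G V)
    (h : finrank ℂ V = 1) : ρ.IsIrreducible := by
  haveI : FiniteDimensional ℂ V := Module.finite_of_finrank_eq_succ h
  have hso : IsSimpleOrder (Submodule ℂ V) := is_simple_module_of_finrank_eq_one (K := ℂ) h
  haveI : Nontrivial V := Module.nontrivial_of_finrank_eq_succ h
  haveI : Nontrivial (Subrepresentation ρ) := by
    refine ⟨⊥, ⊤, fun hbt => ?_⟩
    exact bot_ne_top (congrArg Subrepresentation.toSubmodule hbt)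
  constructor
  intro S
  rcases IsSimpleOrder.eq_bot_or_eq_top S.toSubmodule with hS | hS
  · exact Or.inl (Subrepresentation.toSubmodule_injective hS)
  · exact Or.inr (Subrepresentation.toSubmodule_injective hS)

end Nontrivial

section Finite

variable [Finite G] {V : Type*} [AddCommGroup V] [Module ℂ V] [FiniteDimensional ℂ V]

theorem exists_eigenbasis (ρ : Representation ℂ G V) (g : G) :
    ∃ (b : Basis (Fin (finrank ℂ V)) ℂ V) (ε : Fin (finrank ℂ V) → ℂ),
      (∀ i, ρ g (b i) = ε i • b i) ∧ ∀ i, ε i ^ orderOf g = 1 := by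
  classical
  set f : Module.End ℂ V := ρ g with hf
  have hn : 0 < orderOf g := orderOf_pos g
  have hfn : f ^ orderOf g = 1 := by rw [hf, ← map_pow, pow_orderOf_eq_one, map_one]
  have hsf : Squarefree (Polynomial.X ^ orderOf g - Polynomial.C (1 : ℂ)) :=
    (Polynomial.separable_X_pow_sub_C (1 : ℂ) (Nat.cast_ne_zero.mpr hn.ne') one_ne_zero).squarefree
  have hss : f.IsSemisimple :=
    Module.End.isSemisimple_of_squarefree_aeval_eq_zero hsf (by simp [hfn])
  have hint : DirectSum.IsInternal f.eigenspace :=
    DirectSum.isInternal_submodule_of_iSupIndep_of_iSup_eq_top f.eigenspaces_iSupIndep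
      hss.iSup_eigenspace_eq_top
  let bs := hint.collectedBasis fun μ => finBasis ℂ (f.eigenspace μ)
  haveI : Fintype (Σ μ, Fin (finrank ℂ (f.eigenspace μ))) := FiniteDimensional.fintypeBasisIndex bs
  let e := bs.indexEquiv (finBasis ℂ V)
  let b := bs.reindex e
  have hb : ∀ i, f (b i) = (e.symm i).1 • b i := fun i => by
    have h := hint.collectedBasis_mem (fun μ => finBasis ℂ (f.eigenspace μ)) (e.symm i)
    rw [Basis.reindex_apply]
    exact Module.End.mem_eigenspace_iff.mp h
  refine ⟨b, fun i => (e.symm i).1, hb, fun i => ?_⟩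
  have hk : ∀ k : ℕ, (f ^ k) (b i) = (e.symm i).1 ^ k • b i := by
    intro k
    induction k with
    | zero => simp
    | succ k ih =>
      rw [pow_succ', Module.End.mul_apply, ih, map_smul, hb, smul_smul, pow_succ]
  have h := hk (orderOf g)
  rw [hfn, Module.End.one_apply] at h
  by_contra hne
  have h2 : ((e.symm i).1 ^ orderOf g - 1) • b i = 0 := by rw [sub_smul, ← h, one_smul, sub_self]
  rcases smul_eq_zero.mp h2 with h3 | h3
  · exact hne (sub_eq_zero.mp h3)
  · exact b.ne_zero i h3

/-- Eigenvalues of `ρ g`, packaged with the values of the character at all powers of `g`. -/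
theorem exists_eigenvalues (ρ : Representation ℂ G V) (g : G) :
    ∃ ε : Fin (finrank ℂ V) → ℂ, (∀ i, ε i ^ orderOf g = 1) ∧ (∀ i, ‖ε i‖ = 1) ∧
      (∀ k : ℕ, ρ.character (g ^ k) = ∑ i, ε i ^ k) ∧
      ρ.character g⁻¹ = ∑ i, (ε i)⁻¹ := by
  classical
  obtain ⟨b, ε, hb, hε⟩ := exists_eigenbasis ρ g
  have htr : ∀ (h : G) (δ : Fin (finrank ℂ V) → ℂ),
      (∀ i, ρ h (b i) = δ i • b i) → ρ.character h = ∑ i, δ i := by
    intro h δ hδ
    rw [Representation.character, LinearMap.trace_eq_matrix_trace ℂ b, Matrix.trace]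
    refine Finset.sum_congr rfl fun i _ => ?_
    simp [Matrix.diag, LinearMap.toMatrix_apply, hδ]
  have hne : ∀ i, ε i ≠ 0 := fun i h => by
    have := hε i
    rw [h, zero_pow (orderOf_pos g).ne'] at this
    exact zero_ne_one this
  refine ⟨ε, hε, fun i => Complex.norm_eq_one_of_pow_eq_one (hε i) (orderOf_pos g).ne',
    fun k => htr _ _ ?_, htr _ _ ?_⟩
  · intro i
    induction k with
    | zero => simp
    | succ k ih =>
      rw [pow_succ', map_mul, Module.End.mul_apply, ih, map_smul, hb, smul_smul, pow_succ]
  · intro i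
    apply (ρ.apply_bijective g).1
    rw [map_smul, hb, smul_smul, inv_mul_cancel₀ (hne i), one_smul, ρ.self_inv_apply]

theorem character_inv (ρ : Representation ℂ G V) (g : G) :
    ρ.character g⁻¹ = conj (ρ.character g) := by
  obtain ⟨ε, -, hnorm, hpow, hinv⟩ := exists_eigenvalues ρ g
  have h1 := hpow 1
  simp only [pow_one] at h1
  rw [h1, hinv, map_sum]
  exact Finset.sum_congr rfl fun i _ => Complex.inv_eq_conj (hnorm i)

theorem norm_character_le (ρ : Representation ℂ G V) (g : G) :
    ‖ρ.character g‖ ≤ (finrank ℂ V : ℝ) := by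
  obtain ⟨ε, -, hnorm, hpow, -⟩ := exists_eigenvalues ρ g
  have h1 := hpow 1
  simp only [pow_one] at h1
  rw [h1]
  refine (norm_sum_le _ _).trans ?_
  simp [hnorm]

theorem isIntegral_character (ρ : Representation ℂ G V) (g : G) :
    IsIntegral ℤ (ρ.character g) := by
  obtain ⟨ε, hε, -, hpow, -⟩ := exists_eigenvalues ρ g
  have h1 := hpow 1
  simp only [pow_one] at h1
  rw [h1]
  refine IsIntegral.sum _ fun i _ => IsIntegral.of_pow (orderOf_pos g) ?_
  rw [hε i]
  exact isIntegral_one

end Finite

section Split

variable {V : Type*} [AddCommGroup V] [Module ℂ V] {ρ : Representation ℂ G V}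

theorem character_of_isCompl [FiniteDimensional ℂ V] {S T : Subrepresentation ρ}
    (h : IsCompl S.toSubmodule T.toSubmodule) :
    ρ.character = S.toRepresentation.character + T.toRepresentation.character := by
  funext g
  rw [Pi.add_apply]
  let e := Submodule.prodEquivOfIsCompl _ _ h
  have hconj : ρ g = e.conj ((S.toRepresentation g).prodMap (T.toRepresentation g)) := by
    apply LinearMap.ext
    intro v
    obtain ⟨x, rfl⟩ := e.surjective v
    simp only [LinearEquiv.conj_apply, LinearMap.comp_apply, LinearEquiv.coe_coe,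
      LinearEquiv.symm_apply_apply]
    simp [e, Submodule.coe_prodEquivOfIsCompl', Subrepresentation.toRepresentation]
  show LinearMap.trace ℂ V (ρ g) = _
  rw [hconj, LinearMap.trace_conj', LinearMap.trace_prodMap']
  rfl

theorem exists_isCompl_of_not_irreducible [Finite G] [Nontrivial V] (h : ¬ ρ.IsIrreducible) :
    ∃ S T : Subrepresentation ρ, IsCompl S.toSubmodule T.toSubmodule ∧
      S.toSubmodule ≠ ⊥ ∧ T.toSubmodule ≠ ⊥ := by
  haveI : NeZero (Nat.card G : ℂ) := ⟨Nat.cast_ne_zero.mpr Nat.card_pos.ne'⟩
  haveI : Nontrivial (Subrepresentation ρ) :=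
    ⟨⊥, ⊤, fun hbt => bot_ne_top (congrArg Subrepresentation.toSubmodule hbt)⟩
  have hS : ∃ S : Subrepresentation ρ, S ≠ ⊥ ∧ S ≠ ⊤ := by
    by_contra hno
    push Not at hno
    exact h ⟨fun S => (eq_or_ne S ⊥).imp id (hno S)⟩
  obtain ⟨S, hS0, hS1⟩ := hS
  obtain ⟨T, hT⟩ := exists_isCompl S
  have hc : IsCompl S.toSubmodule T.toSubmodule := by
    refine ⟨disjoint_iff.mpr ?_, codisjoint_iff.mpr ?_⟩
    · exact (Subrepresentation.toSubmodule_inf S T).symm.trans
        (congrArg Subrepresentation.toSubmodule hT.inf_eq_bot)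
    · exact (Subrepresentation.toSubmodule_sup S T).symm.trans
        (congrArg Subrepresentation.toSubmodule hT.sup_eq_top)
  refine ⟨S, T, hc, fun hb => hS0 (Subrepresentation.toSubmodule_injective hb), fun hb => ?_⟩
  rw [hb] at hc
  exact hS1 (Subrepresentation.toSubmodule_injective (eq_top_of_isCompl_bot hc))

end Split

/-- Induction on finite-dimensional representations of a finite group via Maschke's theorem. -/
theorem rep_induction [Finite G]
    {P : ∀ (V : Type v) [AddCommGroup V] [Module ℂ V], Representation ℂ G V → Prop}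
    (hzero : ∀ (V : Type v) [AddCommGroup V] [Module ℂ V] (ρ : Representation ℂ G V),
      Subsingleton V → P V ρ)
    (hirr : ∀ (V : Type v) [AddCommGroup V] [Module ℂ V] [FiniteDimensional ℂ V]
      (ρ : Representation ℂ G V), ρ.IsIrreducible → P V ρ)
    (hsplit : ∀ (V : Type v) [AddCommGroup V] [Module ℂ V] [FiniteDimensional ℂ V]
      (ρ : Representation ℂ G V) (S T : Subrepresentation ρ),
      IsCompl S.toSubmodule T.toSubmodule →
      P S.toSubmodule S.toRepresentation → P T.toSubmodule T.toRepresentation → P V ρ)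
    (V : Type v) [AddCommGroup V] [Module ℂ V] [FiniteDimensional ℂ V]
    (ρ : Representation ℂ G V) : P V ρ := by
  suffices H : ∀ (n : ℕ) (V : Type v) [AddCommGroup V] [Module ℂ V] [FiniteDimensional ℂ V]
      (ρ : Representation ℂ G V), finrank ℂ V = n → P V ρ from H _ V ρ rfl
  intro n
  induction n using Nat.strong_induction_on with
  | _ n ih =>
    intro V _ _ _ ρ hn
    rcases subsingleton_or_nontrivial V with hV | hV
    · exact hzero V ρ hV
    by_cases hi : ρ.IsIrreducible
    · exact hirr V ρ hi
    obtain ⟨S, T, hST, hS, hT⟩ := exists_isCompl_of_not_irreducible hi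
    have hadd : finrank ℂ S.toSubmodule + finrank ℂ T.toSubmodule = finrank ℂ V :=
      Submodule.finrank_add_eq_of_isCompl hST
    have hS' : finrank ℂ S.toSubmodule ≠ 0 := fun h0 => hS (Submodule.finrank_eq_zero.mp h0)
    have hT' : finrank ℂ T.toSubmodule ≠ 0 := fun h0 => hT (Submodule.finrank_eq_zero.mp h0)
    exact hsplit V ρ S T hST (ih _ (by omega) _ _ rfl) (ih _ (by omega) _ _ rfl)

end CfsgLib.Char
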