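import Cfsg.Agent.Lib.Char.ComplexAut
import Cfsg.Agent.Lib.Char.Exceptional.Virtual
import Cfsg.Agent.Lib.CharAction.Galois
import Cfsg.Agent.Lib.CharDegree.Basic
import Mathlib.NumberTheory.Padics.PadicVal.Basic

/-!
# Schur's bound for the order of a group with a rational character
-/

namespace CfsgLib.SchurBound

open CfsgLib.Char CfsgLib.CharAction
open scoped Classical

variable {G : Type*} [Group G]

/-- The order divides the product of the differences `χ 1 - χ g`. -/
theorem card_dvd_prod [Finite G] {χ : G → ℂ} (hχ : Cfsg.IsCharacter G χ) (val : G → ℤ)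
    (hval : ∀ g, χ g = (val g : ℂ)) (V : Finset ℤ) (hV : ∀ g, g ≠ 1 → val g ∈ V) :
    (Nat.card G : ℤ) ∣ ∏ v ∈ V, (val 1 - v) := by
  have := Fintype.ofFinite G
  have hgen : ∀ W : Finset ℤ, Cfsg.IsGeneralizedCharacter G
      (fun g => ((∏ v ∈ W, (val g - v) : ℤ) : ℂ)) := by
    intro W
    induction W using Finset.induction with
    | empty =>
      rw [show (fun g : G => ((∏ v ∈ (∅ : Finset ℤ), (val g - v) : ℤ) : ℂ)) = fun _ => (1 : ℂ) from
        funext fun g => by simp]
      exact Exceptional.isGen_one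
    | insert a W ha ih =>
      have e : (fun g => ((∏ v ∈ insert a W, (val g - v) : ℤ) : ℂ)) =
          (χ - (a : ℂ) • fun _ => (1 : ℂ)) * fun g => ((∏ v ∈ W, (val g - v) : ℤ) : ℂ) := by
        funext g
        rw [Finset.prod_insert ha, Pi.mul_apply, Pi.sub_apply, Pi.smul_apply, smul_eq_mul, mul_one,
          hval g]
        push_cast
        ring
      rw [e]
      exact Exceptional.IsGen.mul (Exceptional.IsGen.sub (Exceptional.IsGen.of_char hχ)
        (Exceptional.IsGen.intCast_smul a Exceptional.isGen_one)) ih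
  obtain ⟨z, hz⟩ := Exceptional.IsGen.classInner_eq_int (hgen V) Exceptional.isGen_one
  simp only [Cfsg.classInner, map_one, mul_one] at hz
  rw [Finset.sum_eq_single 1 (fun g _ hg => by
      rw [Finset.prod_eq_zero (hV g hg) (sub_self _), Int.cast_zero]) (by simp),
    inv_mul_eq_iff_eq_mul₀ (Nat.cast_ne_zero.mpr Nat.card_pos.ne')] at hz
  exact ⟨z, by exact_mod_cast hz⟩

/-- A geometric sum over all exponents below the order is a natural number. -/
theorem exists_geom {η : ℂ} {N : ℕ} (hη : η ^ N = 1) :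
    ∃ k : ℕ, k ≤ N ∧ ∑ i ∈ Finset.range N, η ^ i = (k : ℂ) := by
  by_cases h : η = 1
  · exact ⟨N, le_rfl, by simp [h]⟩
  · exact ⟨0, Nat.zero_le _, by rw [geom_sum_eq h, hη, sub_self, zero_div, Nat.cast_zero]⟩

/-- A `p`-rational value at a `p`-element is an integer, congruent to the degree modulo `p` and
at least `-degree / (p - 1)`. -/
theorem value_bound [Finite G] {p : ℕ} [hp : Fact p.Prime] {χ : G → ℂ}
    (hχ : Cfsg.IsCharacter G χ) {n : ℕ} (hn : χ 1 = n) {r : ℕ} (hr : 0 < r) (hpr : ¬ p ∣ r)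
    {g : G} (hg : ∃ e : ℕ, g ^ p ^ e = 1)
    (hmem : χ g ∈ IntermediateField.adjoin ℚ ({Complex.exp (2 * Real.pi * Complex.I / r)} : Set ℂ)) :
    ∃ v : ℤ, χ g = (v : ℂ) ∧ (p : ℤ) ∣ (n : ℤ) - v ∧ -(n : ℤ) ≤ ((p : ℤ) - 1) * v ∧ v ≤ n := by
  obtain ⟨e₀, he₀⟩ := hg
  set e := e₀ + 1 with he
  have hge : g ^ p ^ e = 1 := by rw [he, pow_succ, pow_mul, he₀, one_pow]
  obtain ⟨m, ρ, rfl⟩ := hχ
  obtain ⟨ε, hε, hnorm, hpow, -⟩ := exists_eigenvalues ρ g
  have hord : ∀ i, ε i ^ p ^ e = 1 := fun i => by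
    obtain ⟨d, hd⟩ := orderOf_dvd_of_pow_eq_one hge
    rw [hd, pow_mul, hε, one_pow]
  have hv : ρ.character g = ∑ i, ε i := by simpa using hpow 1
  have hn' : (n : ℂ) = (Module.finrank ℂ (Fin m → ℂ) : ℂ) := by rw [← hn, Representation.char_one]
  have hnf : Module.finrank ℂ (Fin m → ℂ) = n := (Nat.cast_injective hn').symm
  -- invariance under powers
  set N := p ^ e * r with hN
  have hN0 : N ≠ 0 := Nat.mul_ne_zero (pow_pos hp.out.pos e).ne' hr.ne'
  have hco : (p ^ e).Coprime r := Nat.Coprime.pow_left e ((hp.out.coprime_iff_not_dvd).mpr hpr)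
  set ζ := Complex.exp (2 * Real.pi * Complex.I / N) with hζd
  have hζ : IsPrimitiveRoot ζ N := Complex.isPrimitiveRoot_exp N hN0
  have hζr : Complex.exp (2 * Real.pi * Complex.I / r) = ζ ^ p ^ e := by
    rw [hζd, ← Complex.exp_nat_mul]
    congr 1
    have h1 : (r : ℂ) ≠ 0 := Nat.cast_ne_zero.mpr hr.ne'
    have h2 : ((p ^ e : ℕ) : ℂ) ≠ 0 := Nat.cast_ne_zero.mpr (pow_pos hp.out.pos e).ne'
    rw [hN, Nat.cast_mul]
    field_simp
  have hinv : ∀ t : ℕ, t.Coprime p → ρ.character (g ^ t) = ρ.character g := by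
    intro t ht
    obtain ⟨k, hk1, hk2⟩ := Nat.chineseRemainder hco t 1
    have hkN : k.Coprime N := by
      refine Nat.Coprime.mul_right ?_ ?_
      · refine Nat.Coprime.pow_right _ ?_
        have := Nat.ModEq.gcd_eq (hk1.of_dvd (dvd_pow_self p (by omega : e ≠ 0)))
        rw [Nat.coprime_iff_gcd_eq_one, this]
        exact ht
      · have := Nat.ModEq.gcd_eq hk2
        rw [Nat.coprime_iff_gcd_eq_one, this, Nat.gcd_one_left]
    obtain ⟨σ, hσ⟩ := ComplexAut.exists_aut hN0 hζ hkN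
    have hfixF : ∀ y ∈ IntermediateField.adjoin ℚ
        ({Complex.exp (2 * Real.pi * Complex.I / r)} : Set ℂ), σ y = y := by
      intro y hy
      induction hy using IntermediateField.adjoin_induction with
      | mem x hx =>
        rw [Set.mem_singleton_iff.mp hx, hζr, map_pow, hσ, ← pow_mul, mul_comm, pow_mul]
        have h1 : (ζ ^ p ^ e) ^ r = 1 := by rw [← pow_mul, ← hN, hζ.pow_eq_one]
        rw [pow_eq_pow_mod k h1]
        conv_rhs => rw [← pow_one (ζ ^ p ^ e), pow_eq_pow_mod 1 h1]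
        rw [show k % r = 1 % r from hk2]
      | algebraMap q => rw [eq_ratCast, map_ratCast]
      | add x y _ _ hx hy => rw [map_add, hx, hy]
      | inv x _ hx => rw [map_inv₀, hx]
      | mul x y _ _ hx hy => rw [map_mul, hx, hy]
    have hfix : σ (ρ.character g) = ρ.character g := hfixF _ hmem
    rw [hpow t, hv]
    rw [hv, map_sum] at hfix
    refine Eq.trans (Finset.sum_congr rfl fun i _ => ?_) hfix
    have : NeZero N := ⟨hN0⟩
    obtain ⟨j, -, hj⟩ := hζ.eq_pow_of_pow_eq_one (ξ := ε i) (by rw [hN, pow_mul, hord, one_pow])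
    have hσε : σ (ε i) = ε i ^ k := by rw [← hj, map_pow, hσ, ← pow_mul, ← pow_mul, mul_comm]
    rw [hσε, pow_eq_pow_mod t (hord i), pow_eq_pow_mod k (hord i)]
    rw [show k % p ^ e = t % p ^ e from hk1]
  -- averaging
  let S : Finset ℕ := (Finset.range (p ^ e)).filter fun t => ¬ p ∣ t
  have hdiv : (Finset.range (p ^ e)).filter (fun t => p ∣ t) =
      (Finset.range (p ^ e₀)).image fun s => p * s := by
    ext t
    simp only [Finset.mem_filter, Finset.mem_range, Finset.mem_image, he, pow_succ]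
    constructor
    · rintro ⟨h, s, rfl⟩
      exact ⟨s, Nat.lt_of_mul_lt_mul_left (by rwa [mul_comm (p ^ e₀)] at h), rfl⟩
    · rintro ⟨s, hs, rfl⟩
      exact ⟨by rw [mul_comm p]; exact Nat.mul_lt_mul_of_pos_right hs hp.out.pos, dvd_mul_right p s⟩
  have hS : ∀ i, ∃ z : ℤ, -((p ^ e₀ : ℕ) : ℤ) ≤ z ∧ ∑ t ∈ S, ε i ^ t = (z : ℂ) := by
    intro i
    obtain ⟨k₁, -, hk₁⟩ := exists_geom (hord i)
    obtain ⟨k₂, hk₂', hk₂⟩ := exists_geom (η := ε i ^ p) (N := p ^ e₀)
      (by rw [← pow_mul, ← pow_succ', ← he]; exact hord i)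
    refine ⟨(k₁ : ℤ) - k₂, by omega, ?_⟩
    have h := Finset.sum_filter_add_sum_filter_not (Finset.range (p ^ e)) (fun t => p ∣ t)
      (fun t => ε i ^ t)
    rw [hk₁, hdiv, Finset.sum_image (fun a _ b _ h => Nat.eq_of_mul_eq_mul_left hp.out.pos h)] at h
    simp only [pow_mul] at h
    rw [hk₂] at h
    push_cast
    linear_combination h
  choose z hz hzS using hS
  have hcardS : S.card = p ^ e₀ * (p - 1) := by
    have h := Finset.card_filter_add_card_filter_not (s := Finset.range (p ^ e)) (fun t => p ∣ t)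
    rw [hdiv, Finset.card_image_of_injective _ (fun a b h => Nat.eq_of_mul_eq_mul_left hp.out.pos h),
      Finset.card_range, Finset.card_range, he, pow_succ] at h
    show ((Finset.range (p ^ e)).filter fun t => ¬ p ∣ t).card = _
    rw [Nat.mul_sub_one, he, pow_succ]
    omega
  have hsum : (S.card : ℂ) * ρ.character g = ((∑ i, z i : ℤ) : ℂ) := by
    rw [← nsmul_eq_mul, ← Finset.sum_const, ← Finset.sum_congr rfl fun t ht => hinv t
      ((hp.out.coprime_iff_not_dvd).mpr (Finset.mem_filter.mp ht).2).symm,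
      Finset.sum_congr rfl fun t _ => hpow t, Finset.sum_comm, Int.cast_sum]
    exact Finset.sum_congr rfl fun i _ => hzS i
  have hS0 : S.card ≠ 0 := by
    rw [hcardS]
    exact Nat.mul_ne_zero (pow_pos hp.out.pos _).ne' (Nat.sub_pos_of_lt hp.out.one_lt).ne'
  have hrat : ρ.character g = (((∑ i, z i : ℤ) : ℚ) / (S.card : ℚ) : ℚ) := by
    rw [Rat.cast_div, Rat.cast_intCast, Rat.cast_natCast, eq_div_iff (Nat.cast_ne_zero.mpr hS0),
      mul_comm]
    exact hsum
  have hint := CfsgLib.Char.IsChar.isIntegral (⟨m, ρ, rfl⟩ : Cfsg.IsCharacter G ρ.character) g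
  rw [hrat, ← eq_ratCast (algebraMap ℚ ℂ),
    isIntegral_algebraMap_iff (algebraMap ℚ ℂ).injective] at hint
  obtain ⟨v, hv'⟩ := IsIntegrallyClosed.isIntegral_iff.mp hint
  have hvC : ρ.character g = (v : ℂ) := by rw [hrat, ← hv', eq_intCast, Rat.cast_intCast]
  refine ⟨v, hvC, ?_, ?_, ?_⟩
  · have h := congMod_char_pow (⟨m, ρ, rfl⟩ : Cfsg.IsCharacter G ρ.character) g e (p := p)
    rw [hge, hn, hvC, ← Int.cast_natCast (R := ℂ) n, ← Int.cast_pow] at h
    have h1 := CongMod.dvd_sub_of_intCast hp.out.ne_zero h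
    rw [← ZMod.intCast_zmod_eq_zero_iff_dvd] at h1 ⊢
    push_cast at h1 ⊢
    rw [ZMod.pow_card_pow] at h1
    linear_combination -h1
  · have h1 : ((S.card : ℤ) : ℂ) * (v : ℂ) = ((∑ i, z i : ℤ) : ℂ) := by
      rw [← hvC]; exact_mod_cast hsum
    have h2 : (S.card : ℤ) * v = ∑ i, z i := by exact_mod_cast h1
    have h3 : ∑ _i : Fin (Module.finrank ℂ (Fin m → ℂ)), -((p ^ e₀ : ℕ) : ℤ) ≤ ∑ i, z i :=
      Finset.sum_le_sum fun i _ => hz i
    rw [Finset.sum_const, Finset.card_univ, Fintype.card_fin, nsmul_eq_mul, ← h2, hnf, hcardS,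
      Nat.cast_mul, Nat.cast_sub hp.out.one_le] at h3
    have hpe : (0 : ℤ) < ((p ^ e₀ : ℕ) : ℤ) := by exact_mod_cast pow_pos hp.out.pos e₀
    refine le_of_mul_le_mul_left ?_ hpe
    push_cast at h3 ⊢
    linarith
  · have h := IsChar.norm_le (⟨m, ρ, rfl⟩ : Cfsg.IsCharacter G ρ.character) g
    rw [hn, hvC, Complex.norm_natCast, Complex.norm_intCast] at h
    exact_mod_cast le_trans (le_abs_self _) h

/-- Schur's bound. -/
theorem factorization_le [Finite G] {p : ℕ} [hp : Fact p.Prime] {χ : G → ℂ}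
    (hχ : Cfsg.IsCharacter G χ) (hfaith : ∀ g : G, χ g = χ 1 → g = 1) {r : ℕ} (hr : 0 < r)
    (hpr : ¬ p ∣ r)
    (hrat : ∀ g : G, χ g ∈ IntermediateField.adjoin ℚ
      ({Complex.exp (2 * Real.pi * Complex.I / r)} : Set ℂ))
    {n : ℕ} (hn : χ 1 = n) :
    (Nat.card G).factorization p ≤ ∑ i ∈ Finset.range (n + 1), n / ((p - 1) * p ^ i) := by
  obtain ⟨P⟩ : Nonempty (Sylow p G) := inferInstance
  have := Fintype.ofFinite P
  have hP : Cfsg.IsCharacter P fun x : P => χ x := IsChar.restrict (P : Subgroup G) hχ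
  choose val hval hdvd hlo hhi using fun x : P => value_bound hP (g := x) hn hr hpr (P.2 x) (hrat x)
  have hval1 : val 1 = n := by
    have h := (hval 1).symm.trans hn
    exact_mod_cast h
  let V := (Finset.univ.filter fun x : P => x ≠ 1).image val
  have h1 := card_dvd_prod hP val hval V fun x hx =>
    Finset.mem_image.mpr ⟨x, Finset.mem_filter.mpr ⟨Finset.mem_univ _, hx⟩, rfl⟩
  set N := n / (p - 1) with hN
  have hp1 : 0 < p - 1 := Nat.sub_pos_of_lt hp.out.one_lt
  let k : ℤ → ℕ := fun v => (((n : ℤ) - v) / p).toNat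
  have hk : ∀ v ∈ V, ((p * k v : ℕ) : ℤ) = (n : ℤ) - v ∧ k v ∈ Finset.Ico 1 (N + 1) := by
    intro v hv
    obtain ⟨x, hx, rfl⟩ := Finset.mem_image.mp hv
    have hx1 : val x ≠ n := fun h => (Finset.mem_filter.mp hx).2 (Subtype.ext (hfaith _ (by
      rw [hn, hval x, h]; rfl)))
    obtain ⟨c, hc⟩ := hdvd x
    have hpZ : (0 : ℤ) < p := by exact_mod_cast hp.out.pos
    have hc0 : 0 < c := by
      have : (0 : ℤ) < (p : ℤ) * c := by rw [← hc]; have := hhi x; omega
      exact (mul_pos_iff_of_pos_left hpZ).mp this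
    have hkc : (k (val x) : ℤ) = c := by
      show ((((n : ℤ) - val x) / p).toNat : ℤ) = c
      rw [hc, Int.mul_ediv_cancel_left _ hpZ.ne', Int.toNat_of_nonneg hc0.le]
    refine ⟨by rw [Nat.cast_mul, hkc, hc], Finset.mem_Ico.mpr ⟨by omega, Nat.lt_succ_of_le ?_⟩⟩
    rw [hN, Nat.le_div_iff_mul_le hp1]
    have h2 : (((p - 1 : ℕ) : ℤ)) * c ≤ n := by
      rw [Nat.cast_sub hp.out.one_le, Nat.cast_one]
      have hlo' := hlo x
      rw [show val x = (n : ℤ) - p * c by linarith] at hlo'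
      refine le_of_mul_le_mul_left ?_ hpZ
      linarith
    have : ((k (val x) * (p - 1) : ℕ) : ℤ) ≤ (n : ℤ) := by
      rw [Nat.cast_mul, hkc, mul_comm]; exact h2
    exact_mod_cast this
  have hinj : Set.InjOn k V := fun a ha b hb h => by
    have := (hk a ha).1
    rw [h, (hk b hb).1] at this
    linarith
  have h2 : ∏ v ∈ V, (val 1 - v) = ((∏ j ∈ V.image k, (p * j) : ℕ) : ℤ) := by
    rw [Finset.prod_image hinj, Nat.cast_prod, hval1]
    exact Finset.prod_congr rfl fun v hv => (hk v hv).1.symm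
  rw [h2, Int.natCast_dvd_natCast] at h1
  have h3 : Nat.card P ∣ p ^ N * Nat.factorial N := by
    refine h1.trans ((Finset.prod_dvd_prod_of_subset _ (Finset.Ico 1 (N + 1)) _ fun j hj => ?_).trans ?_)
    · obtain ⟨v, hv, rfl⟩ := Finset.mem_image.mp hj
      exact (hk v hv).2
    · rw [Finset.prod_mul_distrib, Finset.prod_const, Nat.card_Ico, Nat.add_sub_cancel,
        Finset.prod_Ico_id_eq_factorial]
  rw [P.card_eq_multiplicity] at h3
  have h4 := (Nat.factorization_le_iff_dvd (pow_pos hp.out.pos _).ne'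
    (Nat.mul_ne_zero (pow_pos hp.out.pos _).ne' (Nat.factorial_ne_zero N))).mpr h3 p
  rw [Nat.factorization_mul (pow_pos hp.out.pos _).ne' (Nat.factorial_ne_zero N), Finsupp.add_apply,
    hp.out.factorization_pow, hp.out.factorization_pow, Finsupp.single_eq_same,
    Finsupp.single_eq_same, Nat.factorization_def (Nat.factorial N) hp.out,
    padicValNat_factorial (b := n + 1)
      (Nat.lt_succ_of_le ((Nat.log_le_self p N).trans (Nat.div_le_self n (p - 1))))] at h4
  refine h4.trans (le_of_eq ?_)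
  rw [Finset.range_eq_Ico, ← Finset.insert_Ico_add_one_left_eq_Ico (Nat.succ_pos n),
    Finset.sum_insert (by simp), pow_zero, mul_one, zero_add, ← hN]
  congr 1
  exact Finset.sum_congr rfl fun i _ => Nat.div_div_eq_div_mul n (p - 1) (p ^ i)

end CfsgLib.SchurBound
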