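import Cfsg.Agent.Lib.Char.PResidualDegree
import Cfsg.Agent.Lib.Char.PowerTwist
import Cfsg.Agent.Lib.Char.AbelianInertia
import Mathlib.RingTheory.RootsOfUnity.Complex

/-!
# Extensions fixed by a power map
-/

set_option autoImplicit false

namespace CfsgLib.GaloisExt

open Cfsg CfsgLib.Char CfsgLib.CharExt
open Module
open scoped Classical

/-- Characters of a nontrivial cyclic `p`-group fixed by `x ↦ x ^ k` when `x ^ k = x ^ (1 + p)`. -/
theorem card_fixed_of_cyclic {Q : Type*} [Group Q] [Finite Q] [IsCyclic Q] [Nontrivial Q] {p : ℕ}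
    [Fact p.Prime] (hQ : IsPGroup p Q) {k : ℕ} (hk : ∀ q : Q, q ^ k = q ^ (1 + p)) :
    Nat.card {β : IrrCharacter Q // ∀ q : Q, (β : Q → ℂ) (q ^ k) = (β : Q → ℂ) q} = p := by
  have hp : p.Prime := Fact.out
  let := IsCyclic.commGroup (α := Q)
  obtain ⟨q₀, hq₀⟩ := IsCyclic.exists_generator (α := Q)
  have hpq : p ∣ orderOf q₀ := by
    obtain ⟨j, hj⟩ := IsPGroup.iff_orderOf.1 hQ q₀
    rcases Nat.eq_zero_or_pos j with rfl | hj0
    · rw [pow_zero, orderOf_eq_one_iff] at hj
      obtain ⟨q, hq⟩ := exists_ne (1 : Q)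
      obtain ⟨i, hi⟩ := hq₀ q
      exact absurd (by simpa [hj] using hi.symm) hq
    · exact hj ▸ dvd_pow_self p hj0.ne'
  have hlin : ∀ β : IrrCharacter Q, ∃ l : Q →* ℂˣ, (β : Q → ℂ) = fun q => (l q : ℂ) := fun β =>
    exists_linear_of_degree_one (IsIrr.isCharacter β.2)
      (CfsgLib.Clifford.apply_one_eq_one_of_commute (fun x y => mul_comm x y) β)
  choose l hl using hlin
  have hroot : ∀ β : {β : IrrCharacter Q // ∀ q : Q, (β : Q → ℂ) (q ^ k) = (β : Q → ℂ) q},
      l β.1 q₀ ∈ rootsOfUnity p ℂ := fun β => by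
    rw [mem_rootsOfUnity]
    have h := β.2 q₀
    rw [hl] at h
    have h' : l β.1 (q₀ ^ k) = l β.1 q₀ := Units.ext h
    rw [hk, pow_add, pow_one, map_mul, mul_eq_left, map_pow] at h'
    exact h'
  have hdvd : ∀ z : rootsOfUnity p ℂ, orderOf (z : ℂˣ) ∣ orderOf q₀ := fun z =>
    (orderOf_dvd_of_pow_eq_one ((mem_rootsOfUnity _ _).1 z.2)).trans hpq
  let F := fun z : rootsOfUnity p ℂ => monoidHomOfForallMemZpowers hq₀ (hdvd z)
  have hF : ∀ z, F z q₀ = z := fun z => monoidHomOfForallMemZpowers_apply_gen hq₀ _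
  have hext : ∀ f f' : Q →* ℂˣ, f q₀ = f' q₀ → f = f' := fun f f' h => MonoidHom.ext fun q => by
    obtain ⟨i, rfl⟩ := hq₀ q
    simp only [map_zpow, h]
  have e : {β : IrrCharacter Q // ∀ q : Q, (β : Q → ℂ) (q ^ k) = (β : Q → ℂ) q} ≃ rootsOfUnity p ℂ :=
    { toFun := fun β => ⟨l β.1 q₀, hroot β⟩
      invFun := fun z => ⟨⟨fun q => (F z q : ℂ), isIrrCharacter_linear _⟩, fun q => by
        show ((F z (q ^ k) : ℂˣ) : ℂ) = _
        obtain ⟨i, rfl⟩ := hq₀ q
        rw [hk, pow_add, pow_one, map_mul, map_pow, map_zpow, hF, ← zpow_natCast,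
          zpow_comm, zpow_natCast, (mem_rootsOfUnity _ _).1 z.2, one_zpow, mul_one]
        simp [hF]⟩
      left_inv := fun β => by
        refine Subtype.ext (Subtype.ext (funext fun q => ?_))
        show ((F ⟨l β.1 q₀, hroot β⟩ q : ℂˣ) : ℂ) = _
        rw [hext (F ⟨l β.1 q₀, hroot β⟩) (l β.1) (hF _), hl β.1]
      right_inv := fun z => by
        refine Subtype.ext (Units.ext ?_)
        show ((l ⟨fun q => (F z q : ℂ), isIrrCharacter_linear _⟩ q₀ : ℂˣ) : ℂ) = _
        rw [← congrFun (hl ⟨fun q => (F z q : ℂ), isIrrCharacter_linear _⟩) q₀]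
        show ((F z q₀ : ℂˣ) : ℂ) = _
        rw [hF] }
  have : NeZero p := ⟨hp.ne_zero⟩
  rw [Nat.card_congr e, Complex.card_rootsOfUnity]

variable {G : Type*} [Group G] [Fintype G] {N : Subgroup G} [N.Normal] [Fintype N] {p : ℕ}
  [Fact p.Prime]

/-- An invariant character of `O^p(G)` of degree prime to `p` fixed by a power map prime to the
group order has an extension fixed by it. -/
theorem exists_fixed_extension (hN : N = pResidual p G) {θ : IrrCharacter N}
    (hdeg : ¬ p ∣ charDegree (θ : N → ℂ))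
    (hinv : ∀ g n, (θ : N → ℂ) (cn g n) = (θ : N → ℂ) n)
    {k : ℕ} (hk : k.Coprime (Nat.card G)) (hfix : ∀ n : N, (θ : N → ℂ) (n ^ k) = (θ : N → ℂ) n) :
    ∃ χ : IrrCharacter G, (∀ n : N, (χ : G → ℂ) n = (θ : N → ℂ) n) ∧
      ∀ g : G, (χ : G → ℂ) (g ^ k) = (χ : G → ℂ) g := by
  have hp : p.Prime := Fact.out
  obtain ⟨a, ha⟩ := CfsgLib.Transfer.exists_index_pResidual (G := G) (p := p)
  rw [← hN] at ha
  obtain ⟨θ, d, σ, hσ, rfl⟩ := θ
  have hN' : pResidual p N = ⊤ := by
    subst hN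
    exact CfsgLib.Transfer.pResidual_pResidual
  have hd : (finrank ℂ (Fin d → ℂ)).Coprime N.index := by
    rw [ha]
    refine Nat.Coprime.pow_right a (Nat.Coprime.symm ((Nat.Prime.coprime_iff_not_dvd hp).2 ?_))
    intro h
    refine hdeg ?_
    show p ∣ charDegree σ.character
    rwa [charDegree, Representation.char_one, Complex.natCast_re, Nat.floor_natCast]
  have hcop : (orderOf (detHom σ) * finrank ℂ (Fin d → ℂ)).Coprime N.index := by
    refine Nat.Coprime.mul_left ?_ hd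
    rw [ha]
    exact Nat.Coprime.pow_right a (Nat.Coprime.symm ((Nat.Prime.coprime_iff_not_dvd hp).2
      (orderOf_detHom_not_dvd hp hN' σ)))
  obtain ⟨ρ, hρ, hρd⟩ := exists_canonical_extension σ hinv hcop
  have hirr : ρ.IsIrreducible := isIrreducible_of_restrict ρ N.subtype σ hρ
  have hρn : ∀ n : N, ρ.character n = σ.character n := fun n => by
    show LinearMap.trace ℂ _ (ρ (n : G)) = LinearMap.trace ℂ _ (σ n)
    rw [hρ]
  have hχ : IsIrrCharacter G ρ.character := isIrrCharacter_rep ρ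
  refine ⟨⟨ρ.character, hχ⟩, hρn, ?_⟩
  obtain ⟨m, τ, hτ, hτc⟩ := isIrrCharacter_pow hχ hk
  have hτρ : ∀ g, τ.character g = ρ.character (g ^ k) := fun g => congrFun hτc g
  have hdet : detHom τ = detHom ρ ^ k := by
    refine MonoidHom.ext fun g => ?_
    let Z := Subgroup.zpowers g
    let π : Z →* Z :=
      { toFun := fun z => z ^ k
        map_one' := one_pow k
        map_mul' := fun a b => (show Commute a b from mul_comm' a b).mul_pow k }
    let τZ : Representation ℂ Z (Fin m → ℂ) := τ.comp Z.subtype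
    let ρZ : Representation ℂ Z (Fin d → ℂ) := ρ.comp (Z.subtype.comp π)
    have h := detHom_eq_of_character_eq τZ ρZ (funext fun z => hτρ (z : G))
    have h1 := congrArg Units.val (DFunLike.congr_fun h ⟨g, Subgroup.mem_zpowers g⟩)
    rw [detHom_apply, detHom_apply] at h1
    refine Units.ext ?_
    rw [MonoidHom.pow_apply, ← map_pow, detHom_apply, detHom_apply]
    exact h1
  have hρ' : (orderOf (detHom ρ)).Coprime N.index := hρd ▸ hcop.coprime_dvd_left (dvd_mul_right _ _)
  have h := Gallagher.eq_of_extensions (N := N) ρ τ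
    (by rw [show (fun n : N => ρ.character n) = σ.character from funext hρn]
        exact ⟨d, σ, hσ, rfl⟩)
    (fun n => by rw [hτρ, ← SubgroupClass.coe_pow, hρn, hρn]; exact hfix n)
    hρ' (hρ'.coprime_dvd_left (hdet ▸ orderOf_pow_dvd k)) hd
  intro g
  show ρ.character (g ^ k) = ρ.character g
  rw [← hτρ, h]

end CfsgLib.GaloisExt
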