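import Cfsg.Agent.Lib.Char.Central
import Mathlib.LinearAlgebra.Eigenspace.Pi
import Mathlib.LinearAlgebra.Dimension.Constructions
import Mathlib.GroupTheory.Index

/-!
# Weight spaces of an abelian subgroup in a complex representation
-/

namespace CfsgLib.CharWeights

open Module CfsgLib.CharIntegral

variable {G : Type*} [Group G] {V : Type*} [AddCommGroup V] [Module ℂ V] [FiniteDimensional ℂ V]
  (ρ : Representation ℂ G V) (A : Subgroup G)

/-- The weight space of `A` for the function `lam`. -/
def wspace (lam : A → ℂ) : Submodule ℂ V :=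
  ⨅ a : A, Module.End.eigenspace (ρ (a : G)) (lam a)

omit [FiniteDimensional ℂ V] in
theorem mem_wspace {lam : A → ℂ} {v : V} :
    v ∈ wspace ρ A lam ↔ ∀ a : A, ρ (a : G) v = lam a • v := by
  simp [wspace, Submodule.mem_iInf]

omit [FiniteDimensional ℂ V] in
/-- An element normalising `A` moves weight spaces to weight spaces. -/
theorem apply_mem_wspace {lam mu : A → ℂ} {v : V} (g : G)
    (h : ∀ a : A, ∃ b : A, (b : G) = g⁻¹ * a * g ∧ lam b = mu a) (hv : v ∈ wspace ρ A lam) :
    ρ g v ∈ wspace ρ A mu := by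
  rw [mem_wspace] at hv ⊢
  intro a
  obtain ⟨b, hb, hlb⟩ := h a
  have : (a : G) * g = g * (b : G) := by rw [hb]; group
  rw [← Module.End.mul_apply, ← map_mul, this, map_mul, Module.End.mul_apply, hv b, map_smul, hlb]

variable [Finite G]

theorem isFinitelySemisimple_apply (g : G) : Module.End.IsFinitelySemisimple (ρ g) := by
  refine Module.End.IsSemisimple.isFinitelySemisimple ?_
  refine Module.End.isSemisimple_of_squarefree_aeval_eq_zero
    (p := Polynomial.X ^ orderOf g - 1) ?_ ?_
  · exact (Polynomial.X_pow_sub_one_separable_iff.mpr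
      (Nat.cast_ne_zero.mpr (orderOf_pos g).ne')).squarefree
  · rw [map_sub, map_pow, map_one, Polynomial.aeval_X, ← map_pow, pow_orderOf_eq_one, map_one,
      sub_self]

theorem wspace_eq (lam : A → ℂ) :
    wspace ρ A lam = ⨅ a : A, Module.End.maxGenEigenspace (ρ (a : G)) (lam a) := by
  simp only [wspace, (isFinitelySemisimple_apply ρ _).maxGenEigenspace_eq_eigenspace]

/-- The weight spaces of an abelian subgroup span. -/
theorem iSup_wspace (hA : ∀ a ∈ A, ∀ b ∈ A, a * b = b * a) : ⨆ lam, wspace ρ A lam = ⊤ := by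
  simp only [wspace_eq]
  refine Module.End.iSup_iInf_maxGenEigenspace_eq_top_of_iSup_maxGenEigenspace_eq_top_of_commute
    _ (fun a b _ => ?_) fun a => Module.End.iSup_maxGenEigenspace_eq_top _
  exact (show Commute (a : G) (b : G) from hA a a.2 b b.2).map ρ

/-- The weight spaces of an abelian subgroup are independent. -/
theorem iSupIndep_wspace (hA : ∀ a ∈ A, ∀ b ∈ A, a * b = b * a) : iSupIndep (wspace ρ A) := by
  rw [funext (wspace_eq ρ A)]
  refine Module.End.independent_iInf_maxGenEigenspace_of_forall_mapsTo _ fun a b φ => ?_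
  exact Module.End.mapsTo_maxGenEigenspace_of_comm
    ((show Commute (b : G) (a : G) from hA b b.2 a a.2).map ρ) φ

/-- The weight spaces span when the image of the subgroup is commutative. -/
theorem iSup_wspace_of_commute (hA : ∀ a b : A, Commute (ρ (a : G)) (ρ (b : G))) :
    ⨆ lam, wspace ρ A lam = ⊤ := by
  simp only [wspace_eq]
  exact Module.End.iSup_iInf_maxGenEigenspace_eq_top_of_iSup_maxGenEigenspace_eq_top_of_commute
    _ (fun a b _ => hA a b) fun a => Module.End.iSup_maxGenEigenspace_eq_top _

/-- The weight spaces are independent when the image of the subgroup is commutative. -/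
theorem iSupIndep_wspace_of_commute (hA : ∀ a b : A, Commute (ρ (a : G)) (ρ (b : G))) :
    iSupIndep (wspace ρ A) := by
  rw [funext (wspace_eq ρ A)]
  refine Module.End.independent_iInf_maxGenEigenspace_of_forall_mapsTo _ fun a b φ => ?_
  exact Module.End.mapsTo_maxGenEigenspace_of_comm (hA b a) φ

/-- An abelian subgroup has a common eigenvector. -/
theorem exists_common_eigenvector [Nontrivial V] (hA : ∀ a ∈ A, ∀ b ∈ A, a * b = b * a) :
    ∃ (lam : A → ℂ) (v : V), v ≠ 0 ∧ ∀ a : A, ρ (a : G) v = lam a • v := by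
  have h := iSup_wspace ρ A hA
  obtain ⟨lam, hlam⟩ : ∃ lam, wspace ρ A lam ≠ ⊥ := by
    by_contra h0
    push Not at h0
    simp [h0] at h
  obtain ⟨v, hv, hv0⟩ := (Submodule.ne_bot_iff _).mp hlam
  exact ⟨lam, v, hv0, (mem_wspace ρ A).mp hv⟩

omit [Finite G] [FiniteDimensional ℂ V] in
/-- An invariant nonzero submodule of an irreducible representation is everything. -/
theorem eq_top_of_invariant [ρ.IsIrreducible] (p : Submodule ℂ V) (hp : ∀ g, ∀ v ∈ p, ρ g v ∈ p)
    (h0 : p ≠ ⊥) : p = ⊤ := by
  rcases eq_bot_or_eq_top (⟨p, fun g v hv => hp g v hv⟩ : Subrepresentation ρ) with h | h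
  · exact absurd (congrArg Subrepresentation.toSubmodule h) h0
  · exact congrArg Subrepresentation.toSubmodule h

/-- The degree is at most the index of an abelian subgroup. -/
theorem finrank_le_index [ρ.IsIrreducible] (hA : ∀ a ∈ A, ∀ b ∈ A, a * b = b * a) :
    finrank ℂ V ≤ A.index := by
  have := nontrivial_of_irreducible ρ
  obtain ⟨lam, v, hv0, hv⟩ := exists_common_eigenvector ρ A hA
  have := Fintype.ofFinite (G ⧸ A)
  let w : G ⧸ A → V := fun q => ρ q.out v
  have hmem : ∀ g, ∃ c : ℂ, ρ g v = c • w (g : G ⧸ A) := by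
    intro g
    obtain ⟨a, ha⟩ := QuotientGroup.mk_out_eq_mul A g
    refine ⟨lam a⁻¹, ?_⟩
    have : g = (g : G ⧸ A).out * ((a⁻¹ : A) : G) := by rw [ha]; simp
    conv_lhs => rw [this, map_mul, Module.End.mul_apply, hv a⁻¹, map_smul]
  have htop : Submodule.span ℂ (Set.range w) = ⊤ := by
    refine eq_top_of_invariant ρ _ (fun g x hx => ?_) ?_
    · induction hx using Submodule.span_induction with
      | mem x hx =>
        obtain ⟨q, rfl⟩ := hx
        obtain ⟨c, hc⟩ := hmem (g * q.out)
        rw [show ρ g (w q) = ρ (g * q.out) v by rw [map_mul]; rfl, hc]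
        exact Submodule.smul_mem _ _ (Submodule.subset_span ⟨_, rfl⟩)
      | zero => simp
      | add x y _ _ hx hy => rw [map_add]; exact add_mem hx hy
      | smul c x _ hx => rw [map_smul]; exact Submodule.smul_mem _ _ hx
    · intro h
      obtain ⟨c, hc⟩ := hmem 1
      have hw : w ((1 : G) : G ⧸ A) ∈ Submodule.span ℂ (Set.range w) :=
        Submodule.subset_span ⟨_, rfl⟩
      rw [h, Submodule.mem_bot] at hw
      rw [hw, smul_zero, map_one, Module.End.one_apply] at hc
      exact hv0 hc
  have h := finrank_range_le_card (R := ℂ) w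
  rw [Set.finrank, htop, finrank_top] at h
  rwa [Subgroup.index, Nat.card_eq_fintype_card]

end CfsgLib.CharWeights
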