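import Cfsg.Agent.Lib.Char.PrimeSubgroupBound

/-!
# Lower bounds over the classes of a subgroup of prime order
-/

set_option autoImplicit false

namespace CfsgLib.Char.PrimeBound

open Cfsg
open scoped ComplexConjugate

variable {G : Type*} [Group G]

/-- The least value of `u ^ 2 + c u + q β ^ 2` over a residue class, for `β` of the parity of `u`. -/
theorem quad_le {q c r B K : ℤ} (hq : 0 ≤ q) (hcK : |c| ≤ K) (hout : B ≤ K * (K - |c|))
    (hcheck : ∀ u ∈ Finset.Icc (-K) K, u % q = r → B ≤ u ^ 2 + c * u + u % 2 * q)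
    {u β : ℤ} (hu : u % q = r) (hpar : (u + β) % 2 = 0) : B ≤ u ^ 2 + c * u + q * β ^ 2 := by
  rcases le_or_gt |u| K with h | h
  · have h1 := hcheck u (Finset.mem_Icc.2 (abs_le.1 h)) hu
    rcases Int.emod_two_eq_zero_or_one u with e | e
    · rw [e] at h1
      nlinarith [mul_nonneg hq (sq_nonneg β)]
    · rw [e] at h1
      have hβ : β ≠ 0 := fun h0 => by subst h0; omega
      have h2 : (1 : ℤ) ≤ β ^ 2 := by nlinarith [Int.one_le_abs hβ, sq_abs β]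
      nlinarith [mul_le_mul_of_nonneg_left h2 hq]
  · have h1 : -(|c| * |u|) ≤ c * u := by
      rw [← abs_mul]; exact neg_abs_le _
    have h2 : K * (K - |c|) ≤ |u| * (|u| - |c|) :=
      mul_le_mul h.le (by linarith) (by linarith) (abs_nonneg u)
    nlinarith [mul_nonneg hq (sq_nonneg β), sq_abs u]

open scoped Classical in
/-- The elements conjugate to a nontrivial power of `x`. -/
noncomputable def classSet [Fintype G] (q : ℕ) (x : G) : Finset G :=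
  Finset.univ.filter fun g : G => ∃ k : ZMod q, k ≠ 0 ∧ IsConj (x ^ k.val) g

theorem mem_classSet [Fintype G] {q : ℕ} {x g : G} :
    g ∈ classSet q x ↔ ∃ k : ZMod q, k ≠ 0 ∧ IsConj (x ^ k.val) g := by
  simp [classSet]

theorem orderOf_of_mem_classSet [Fintype G] {q : ℕ} [Fact q.Prime] {x g : G} (hx : orderOf x = q)
    (hg : g ∈ classSet q x) : orderOf g = q := by
  classical
  obtain ⟨k, hk, hc⟩ := mem_classSet.1 hg
  obtain ⟨h, rfl⟩ := isConj_iff.1 hc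
  have hne : x ^ k.val ≠ 1 := by
    rw [ne_eq, ← orderOf_dvd_iff_pow_eq_one, hx]
    intro hdvd
    exact hk ((ZMod.val_eq_zero k).1 (Nat.eq_zero_of_dvd_of_lt hdvd (ZMod.val_lt k)))
  refine orderOf_eq_prime ?_ fun e => hne (conj_eq_one_iff.1 e)
  rw [conj_pow, ← pow_mul, Nat.mul_comm, pow_mul,
    orderOf_dvd_iff_pow_eq_one.1 (dvd_of_eq hx), one_pow, mul_one, mul_inv_cancel]

theorem classSet_closed [Fintype G] {q : ℕ} [Fact q.Prime] {x g : G} (hx : orderOf x = q)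
    (hg : g ∈ classSet q x) {m : ℕ} (hm : m.Coprime (Nat.card G)) : g ^ m ∈ classSet q x := by
  classical
  obtain ⟨k, hk, hc⟩ := mem_classSet.1 hg
  obtain ⟨h, rfl⟩ := isConj_iff.1 hc
  refine mem_classSet.2 ⟨k * (m : ZMod q), mul_ne_zero hk fun h0 => ?_,
    isConj_iff.2 ⟨h, ?_⟩⟩
  · have h1 : q ∣ m := (ZMod.natCast_eq_zero_iff m q).1 h0
    have h2 : q ∣ Nat.card G := hx ▸ orderOf_dvd_natCard x
    exact (Fact.out : q.Prime).not_dvd_one (hm ▸ Nat.dvd_gcd h1 h2)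
  · rw [conj_pow, ← pow_mul]
    congr 2
    rw [← pow_mod_orderOf x (k.val * m), hx]
    congr 1
    rw [ZMod.val_mul, ZMod.val_natCast, Nat.mul_mod_mod]

/-- The estimate over the classes of one subgroup of prime order. -/
theorem estimate [Fintype G] {χ : G → ℂ} (hχ : IsCharacter G χ) {d : ℕ} (hd : χ 1 = d)
    {q : ℕ} [Fact q.Prime] {x : G} (hx : orderOf x = q) {a : ℕ} (ha0 : (a : ZMod q) ≠ 0)
    (hconj : IsConj x (x ^ a)) {h : ℕ}
    (hsplit : ∀ j : ZMod q, j ≠ 0 → ∃ e < h, j = (a : ZMod q) ^ e ∨ j = -(a : ZMod q) ^ e)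
    (hq : q = 2 * h + 1) {Nb : ℕ}
    (hN : Nat.card (Subgroup.normalizer (Subgroup.zpowers x : Set G)) ≤ Nb) {ε : ℤ} {B : ℕ}
    (hB : ∀ n₀ A A' : ℕ, d = n₀ + h * (A + A') →
      ((-1 : ZMod q) = (a : ZMod q) ^ h → A = A') →
      ((∀ k : ℕ, IsIntegral ℤ (χ (x ^ k) / 2)) → 2 ∣ n₀ ∧ 2 ∣ A ∧ 2 ∣ A') →
      (B : ℤ) ≤ (2 * (n₀ : ℤ) - A - A') ^ 2 + 2 * ε * (2 * (n₀ : ℤ) - A - A') +
        (q : ℤ) * ((A : ℤ) - A') ^ 2) :
    (Nat.card G : ℝ) * h * B ≤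
      2 * Nb * ∑ g ∈ classSet q x, (Complex.normSq (χ g) + (ε : ℝ) * (χ g).re) := by
  classical
  have hx1 : x ^ q = 1 := hx ▸ pow_orderOf_eq_one x
  obtain ⟨n₀, A, A', hdn, hW, hT, hrat, heven⟩ := exists_two_class hχ hd hx1 ha0 hconj hsplit hq
  have hodd : Odd q := ⟨h, hq⟩
  have hb := hB n₀ A A' hdn hrat fun hi => heven hi hodd
  have hbR : (B : ℝ) ≤ (2 * (n₀ : ℝ) - A - A') ^ 2 + 2 * (ε : ℝ) * (2 * (n₀ : ℝ) - A - A') +
      (q : ℝ) * ((A : ℝ) - A') ^ 2 := by exact_mod_cast hb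
  have hsum := card_mul_sum_conj (f := fun g => Complex.normSq (χ g) + (ε : ℝ) * (χ g).re)
    (fun g u => by simp only [(IsChar.isClassFunction hχ) _ _]) (q := q) hx
  rw [Finset.sum_add_distrib, ← Finset.mul_sum, hW, hT] at hsum
  have hval : (q : ℝ) * ((n₀ : ℝ) ^ 2 + h * (A : ℝ) ^ 2 + h * (A' : ℝ) ^ 2) - (d : ℝ) ^ 2 +
      (ε : ℝ) * ((q : ℝ) * n₀ - d) = (h : ℝ) / 2 * ((2 * (n₀ : ℝ) - A - A') ^ 2 +
        2 * (ε : ℝ) * (2 * (n₀ : ℝ) - A - A') + (q : ℝ) * ((A : ℝ) - A') ^ 2) := by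
    rw [hq, hdn]; push_cast; ring
  rw [hval] at hsum
  have hNle : (Nat.card (Subgroup.normalizer (Subgroup.zpowers x : Set G)) : ℝ) ≤ Nb :=
    Nat.cast_le.2 hN
  set S := ∑ g ∈ classSet q x, (Complex.normSq (χ g) + (ε : ℝ) * (χ g).re) with hS
  have hsum' : (Nat.card G : ℝ) * ((h : ℝ) / 2 * ((2 * (n₀ : ℝ) - A - A') ^ 2 +
        2 * (ε : ℝ) * (2 * (n₀ : ℝ) - A - A') + (q : ℝ) * ((A : ℝ) - A') ^ 2)) =
      (Nat.card (Subgroup.normalizer (Subgroup.zpowers x : Set G)) : ℝ) * S := by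
    rw [hS, classSet]; convert hsum
  have hlow : (Nat.card G : ℝ) * ((h : ℝ) / 2 * B) ≤
      (Nat.card (Subgroup.normalizer (Subgroup.zpowers x : Set G)) : ℝ) * S := by
    rw [← hsum']
    exact mul_le_mul_of_nonneg_left (mul_le_mul_of_nonneg_left hbR (by positivity)) (by positivity)
  have hSnn : 0 ≤ S := by
    have hpos : (0 : ℝ) < Nat.card (Subgroup.normalizer (Subgroup.zpowers x : Set G)) :=
      Nat.cast_pos.2 Nat.card_pos
    have h0 : (0 : ℝ) ≤ (Nat.card G : ℝ) * ((h : ℝ) / 2 * B) := by positivity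
    exact (mul_nonneg_iff_of_pos_left hpos).1 (h0.trans hlow)
  nlinarith [mul_le_mul_of_nonneg_right hNle hSnn]

end CfsgLib.Char.PrimeBound
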