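import Cfsg.Agent.Lib.Char.PConjugate
import Cfsg.Agent.Lib.Char.Monomial
import Cfsg.Agent.Lib.Char.CliffordRestrict
import Cfsg.Agent.Lib.Char.Exceptional.NormalInd
import Cfsg.Agent.Lib.Char.Central
import Mathlib.RingTheory.IntegralDomain
import Mathlib.GroupTheory.IndexNormal
import Cfsg.Agent.Lib.Char.TI

/-!
# The order of a `p`-group with a faithful irreducible character of given degree and field
-/

namespace CfsgLib.FieldDegree

open CfsgLib.Char CfsgLib.CharDegree Module
open scoped Classical ComplexConjugate Cardinal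

universe u

variable {G : Type*} [Group G]

/-- The algebraic conjugates. -/
def conjSet (χ : G → ℂ) : Set (G → ℂ) := Set.range fun σ : ℂ ≃+* ℂ => fun g => σ (χ g)

theorem mem_conjSet_self (χ : G → ℂ) : χ ∈ conjSet χ := ⟨RingEquiv.refl ℂ, rfl⟩

/-- The conjugates form the orbit of the power maps. -/
theorem conjSet_eq_image [Finite G] (χ : Cfsg.IrrCharacter G) :
    conjSet (χ : G → ℂ) =
      Subtype.val '' (MulAction.orbit (ZMod (Nat.card G))ˣ χ : Set (Cfsg.IrrCharacter G)) := by
  have hg0 : Nat.card G ≠ 0 := Nat.card_pos.ne'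
  have : NeZero (Nat.card G) := ⟨hg0⟩
  have hζ := Complex.isPrimitiveRoot_exp (Nat.card G) hg0
  ext h
  constructor
  · rintro ⟨σ, rfl⟩
    have hroot := hζ.map_of_injective σ.injective
    obtain ⟨k, hk, hkσ⟩ := hζ.eq_pow_of_pow_eq_one hroot.pow_eq_one
    have hcop := (hζ.pow_iff_coprime (Nat.pos_of_ne_zero hg0) k).mp (hkσ ▸ hroot)
    refine ⟨_, ⟨ZMod.unitOfCoprime k hcop, rfl⟩, funext fun x => ?_⟩
    show (χ : G → ℂ) (x ^ _) = _
    rw [ZMod.coe_unitOfCoprime, ZMod.val_natCast_of_lt hk]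
    exact (ComplexAut.aut_apply (IsIrr.isCharacter χ.2) hζ σ hkσ.symm x).symm
  · rintro ⟨_, ⟨t, rfl⟩, rfl⟩
    obtain ⟨σ, hσ⟩ := ComplexAut.exists_aut hg0 hζ (ZMod.val_coe_unit_coprime t)
    exact ⟨σ, funext fun x => ComplexAut.aut_apply (IsIrr.isCharacter χ.2) hζ σ hσ x⟩

theorem finite_conjSet [Finite G] (χ : Cfsg.IrrCharacter G) : (conjSet (χ : G → ℂ)).Finite := by
  have : NeZero (Nat.card G) := ⟨Nat.card_pos.ne'⟩
  rw [conjSet_eq_image]
  exact (Set.finite_range fun t : (ZMod (Nat.card G))ˣ => t • χ).image _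

theorem isIrr_of_mem_conjSet [Finite G] {χ : Cfsg.IrrCharacter G} {h : G → ℂ}
    (hh : h ∈ conjSet (χ : G → ℂ)) : Cfsg.IsIrrCharacter G h := by
  rw [conjSet_eq_image] at hh
  obtain ⟨ψ, -, rfl⟩ := hh
  exact ψ.2

theorem card_conjSet [Finite G] (χ : Cfsg.IrrCharacter G) :
    Nat.card (conjSet (χ : G → ℂ)) =
      (MulAction.stabilizer (ZMod (Nat.card G))ˣ χ).index := by
  rw [conjSet_eq_image, Nat.card_image_of_injective Subtype.val_injective,
    MulAction.index_stabilizer, Nat.card_coe_set_eq]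

/-- The degree of the field of values is the number of conjugates. -/
theorem finrank_eq_card [Finite G] (χ : G → ℂ) (hχ : Cfsg.IsCharacter G χ) :
    finrank ℚ (IntermediateField.adjoin ℚ (Set.range χ)) = Nat.card (conjSet χ) := by
  set F := IntermediateField.adjoin ℚ (Set.range χ) with hF
  have : Finite (Set.range χ) := (Set.finite_range χ).to_subtype
  have hfin : FiniteDimensional ℚ F := IntermediateField.finiteDimensional_adjoin fun x hx => by
    obtain ⟨g, rfl⟩ := hx
    exact (IsChar.isIntegral hχ g).tower_top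
  have hmem : ∀ g, χ g ∈ F := fun g => IntermediateField.subset_adjoin ℚ _ ⟨g, rfl⟩
  have hR : #F ≤ ℵ₀ := le_trans (Algebra.IsAlgebraic.cardinalMk_le_max ℚ F)
    (max_le (Cardinal.mk_le_aleph0 (α := ℚ)) le_rfl)
  have hC : ℵ₀ < #ℂ := by rw [Cardinal.mk_complex]; exact Cardinal.aleph0_lt_continuum
  let Φ : (F →ₐ[ℚ] ℂ) → conjSet χ := fun f => ⟨fun g => f ⟨χ g, hmem g⟩, by
    obtain ⟨σ, hσ⟩ := @ComplexAut.exists_ringEquiv F _ ℂ ℂ _ _ F.val.toRingHom.toAlgebra
      f.toRingHom.toAlgebra _ _ hR hC rfl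
    exact ⟨σ, funext fun g => hσ ⟨χ g, hmem g⟩⟩⟩
  have hΦ : Function.Bijective Φ := by
    refine ⟨fun f f' h => ?_, fun ⟨h, σ, hσ⟩ => ?_⟩
    · apply AlgHom.ext
      rintro ⟨x, hx⟩
      induction hx using IntermediateField.adjoin_induction with
      | mem x hx =>
        obtain ⟨g, rfl⟩ := hx
        exact congrFun (congrArg Subtype.val h) g
      | algebraMap q => exact (f.commutes q).trans (f'.commutes q).symm
      | add x y hx hy ihx ihy =>
        show f (⟨x, hx⟩ + ⟨y, hy⟩) = f' (⟨x, hx⟩ + ⟨y, hy⟩)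
        rw [map_add, map_add, ihx, ihy]
      | inv x hx ihx =>
        show f (⟨x, hx⟩⁻¹) = f' (⟨x, hx⟩⁻¹)
        rw [map_inv₀, map_inv₀, ihx]
      | mul x y hx hy ihx ihy =>
        show f (⟨x, hx⟩ * ⟨y, hy⟩) = f' (⟨x, hx⟩ * ⟨y, hy⟩)
        rw [map_mul, map_mul, ihx, ihy]
    · exact ⟨σ.toRingHom.toRatAlgHom.comp F.val, Subtype.ext hσ⟩
  rw [← Nat.card_eq_of_bijective Φ hΦ, Nat.card_eq_fintype_card, AlgHom.card]

section PGroup

variable {p : ℕ} [hp : Fact p.Prime]

/-- A faithful irreducible character of a non-trivial `p`-group has `(p - 1) p ^ t` conjugates. -/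
theorem exists_card_conjSet [Finite G] {a : ℕ} (hG : Nat.card G = p ^ a) (ha : 0 < a)
    (χ : Cfsg.IrrCharacter G) (hfaith : ∀ g : G, (χ : G → ℂ) g = (χ : G → ℂ) 1 → g = 1) :
    ∃ t : ℕ, Nat.card (conjSet (χ : G → ℂ)) = (p - 1) * p ^ t := by
  have hg0 : Nat.card G ≠ 0 := Nat.card_pos.ne'
  have : NeZero (Nat.card G) := ⟨hg0⟩
  have : Nontrivial G := Finite.one_lt_card_iff_nontrivial.mp
    (by rw [hG]; exact Nat.one_lt_pow ha.ne' hp.out.one_lt)
  have : Group.IsNilpotent G := (IsPGroup.of_card hG).isNilpotent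
  -- a central element of order `p`
  have hzc : Subgroup.center G ≠ ⊥ := Clifford.center_ne_bot_of_nilpotent G
  have hzdvd : p ∣ Nat.card (Subgroup.center G) := by
    obtain ⟨b, -, hb⟩ := (Nat.dvd_prime_pow hp.out).mp (hG ▸ Subgroup.card_subgroup_dvd_card _)
    rcases Nat.eq_zero_or_pos b with hb0 | hb0
    · exact absurd (Subgroup.card_eq_one.mp (by rw [hb, hb0, pow_zero])) hzc
    · exact hb ▸ dvd_pow_self p hb0.ne'
  obtain ⟨⟨z, hzmem⟩, hz⟩ := exists_prime_orderOf_dvd_card' p hzdvd
  rw [← Subgroup.orderOf_coe, Subgroup.coe_mk] at hz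
  have hpg : p ∣ Nat.card G := hz ▸ orderOf_dvd_natCard z
  obtain ⟨n, ρ, hρ, hρc⟩ := χ.2
  obtain ⟨c, hc⟩ := CharIntegral.exists_scalar_of_commute ρ (ρ z) fun g => by
    rw [← map_mul, ← map_mul, Subgroup.mem_center_iff.mp hzmem g]
  have hzk : ∀ k : ℕ, (χ : G → ℂ) (z ^ k) = c ^ k * (χ : G → ℂ) 1 := by
    intro k
    rw [← hρc, Representation.character, map_pow, hc, smul_pow,
      show (LinearMap.id : Module.End ℂ (Fin n → ℂ)) ^ k = 1 from one_pow k, map_smul, smul_eq_mul]
    congr 1
    exact (congrArg (LinearMap.trace ℂ _) (map_one ρ)).symm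
  have hd0 := IsIrr.apply_one_ne_zero χ.2
  have hcp : c ^ p = 1 := by
    have h := hzk p
    rw [← hz, pow_orderOf_eq_one, hz] at h
    exact (mul_eq_right₀ hd0).mp h.symm
  have hc1 : c ≠ 1 := fun h1 => by
    have h := hzk 1
    rw [pow_one, h1, one_pow, one_mul] at h
    rw [hfaith z h, orderOf_one] at hz
    exact hp.out.one_lt.ne hz
  have hcord : orderOf c = p := orderOf_eq_prime hcp hc1
  have hle : MulAction.stabilizer (ZMod (Nat.card G))ˣ χ ≤ (ZMod.unitsMap hpg).ker := by
    intro t ht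
    have h := congrFun (congrArg Subtype.val (MulAction.mem_stabilizer_iff.mp ht)) z
    rw [PConjugate.smul_apply, hzk] at h
    have h1 := hzk 1
    rw [pow_one, pow_one] at h1
    rw [h1] at h
    have h2 : c ^ (t : ZMod (Nat.card G)).val = c ^ 1 := by
      rw [pow_one]; exact mul_right_cancel₀ hd0 h
    rw [(isOfFinOrder_iff_pow_eq_one.mpr ⟨p, hp.out.pos, hcp⟩).pow_eq_pow_iff_modEq, hcord] at h2
    rw [MonoidHom.mem_ker, Units.ext_iff, ZMod.unitsMap_val, Units.val_one, ← ZMod.natCast_val,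
      show (1 : ZMod p) = ((1 : ℕ) : ZMod p) from Nat.cast_one.symm, ZMod.natCast_eq_natCast_iff]
    exact h2
  have h1 := Subgroup.index_dvd_of_le hle
  rw [← card_conjSet, Subgroup.index_ker, MonoidHom.range_eq_top.mpr (ZMod.unitsMap_surjective hpg),
    Subgroup.card_top, Nat.card_eq_fintype_card (α := (ZMod p)ˣ), ZMod.card_units_eq_totient,
    Nat.totient_prime hp.out] at h1
  obtain ⟨j, hj⟩ := h1
  have h2 : Nat.card (conjSet (χ : G → ℂ)) ∣ p ^ (a - 1) * (p - 1) := by
    rw [card_conjSet]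
    have h := Subgroup.index_dvd_card (MulAction.stabilizer (ZMod (Nat.card G))ˣ χ)
    rwa [Nat.card_eq_fintype_card (α := (ZMod (Nat.card G))ˣ), ZMod.card_units_eq_totient,
      (congrArg Nat.totient hG).trans (Nat.totient_prime_pow hp.out ha)] at h
  rw [hj, mul_comm (p ^ (a - 1))] at h2
  obtain ⟨t, -, ht⟩ :=
    (Nat.dvd_prime_pow hp.out).mp (Nat.dvd_of_mul_dvd_mul_left (Nat.sub_pos_of_lt hp.out.one_lt) h2)
  exact ⟨t, by rw [hj, ht]⟩

/-- Degree one. -/
theorem card_conjSet_linear [Finite G] {a : ℕ} (hG : Nat.card G = p ^ a) (ha : 0 < a)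
    (χ : Cfsg.IrrCharacter G) (hfaith : ∀ g : G, (χ : G → ℂ) g = (χ : G → ℂ) 1 → g = 1)
    (h1 : Cfsg.charDegree (χ : G → ℂ) = 1) :
    Nat.card (conjSet (χ : G → ℂ)) = p ^ (a - 1) * (p - 1) := by
  have : NeZero (Nat.card G) := ⟨Nat.card_pos.ne'⟩
  obtain ⟨l, hl⟩ := exists_hom_of_degree_one χ h1
  have hinj : Function.Injective l := by
    rw [injective_iff_map_eq_one]
    intro g hg
    refine hfaith g ?_
    rw [hl]
    simp [hg]
  have hcyc : IsCyclic G := isCyclic_of_subgroup_isDomain ((Units.coeHom ℂ).comp l)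
    (Units.val_injective.comp hinj)
  obtain ⟨x, hx⟩ := hcyc.exists_generator
  have hord : orderOf x = Nat.card G := orderOf_eq_card_of_forall_mem_zpowers hx
  have hbot : MulAction.stabilizer (ZMod (Nat.card G))ˣ χ = ⊥ := by
    rw [eq_bot_iff]
    intro t ht
    have h := congrFun (congrArg Subtype.val (MulAction.mem_stabilizer_iff.mp ht)) x
    rw [PConjugate.smul_apply, hl] at h
    have h2 : x ^ (t : ZMod (Nat.card G)).val = x ^ 1 := by
      rw [pow_one]; exact hinj (Units.ext h)
    rw [(isOfFinOrder_of_finite x).pow_eq_pow_iff_modEq, hord] at h2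
    rw [Subgroup.mem_bot, Units.ext_iff, Units.val_one, ← ZMod.natCast_zmod_val (t : ZMod (Nat.card G)),
      ← Nat.cast_one, ZMod.natCast_eq_natCast_iff]
    exact h2
  rw [card_conjSet, hbot, Subgroup.index_bot, Nat.card_eq_fintype_card (α := (ZMod (Nat.card G))ˣ),
    ZMod.card_units_eq_totient, (congrArg Nat.totient hG).trans (Nat.totient_prime_pow hp.out ha)]

end PGroup

section Induced

variable [Fintype G] {M : Subgroup G}

/-- Automorphisms of `ℂ` commute with induction. -/
theorem indFun_aut (σ : ℂ ≃+* ℂ) (φ : M → ℂ) :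
    Cfsg.indFun M (fun m => σ (φ m)) = fun g => σ (Cfsg.indFun M φ g) := by
  funext g
  simp only [Cfsg.indFun, map_mul, map_inv₀, map_natCast, map_sum]
  congr 1
  refine Finset.sum_congr rfl fun x _ => ?_
  by_cases hx : x⁻¹ * g * x ∈ M
  · rw [extendByZero_of_mem M _ hx, extendByZero_of_mem M _ hx]
  · rw [extendByZero_of_notMem M _ hx, extendByZero_of_notMem M _ hx, map_zero]

/-- A character inducing an irreducible one is irreducible. -/
theorem isIrr_of_indFun [Fintype M] {φ : M → ℂ} (hφ : Cfsg.IsCharacter M φ)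
    (h : Cfsg.IsIrrCharacter G (Cfsg.indFun M φ)) : Cfsg.IsIrrCharacter M φ := by
  have := Fintype.ofFinite (Cfsg.IrrCharacter M)
  have := Fintype.ofFinite (Cfsg.IrrCharacter G)
  obtain ⟨m, hm⟩ := IsChar.exists_sum hφ
  let χ : Cfsg.IrrCharacter G := ⟨_, h⟩
  choose b hb using fun (η : Cfsg.IrrCharacter M) (ψ : Cfsg.IrrCharacter G) =>
    IsChar.classInner_eq_natCast (isCharacter_indFun M (IsIrr.isCharacter η.2)) (IsIrr.isCharacter ψ.2)
  have hsum : ∀ ψ, ∑ η, m η * b η ψ = if χ = ψ then 1 else 0 := by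
    intro ψ
    have h1 := classInner_irr χ ψ
    rw [show (χ : G → ℂ) = Cfsg.indFun M φ from rfl, hm, indFun_sum, classInner_sum_left] at h1
    simp only [indFun_smul, classInner_smul_left, hb] at h1
    split_ifs at h1 ⊢ with he
    · exact_mod_cast h1
    · exact_mod_cast h1
  have hpos : ∀ η, m η ≠ 0 → b η χ ≠ 0 := by
    intro η hη hzero
    obtain ⟨c, hc⟩ := IsChar.exists_sum (isCharacter_indFun M (IsIrr.isCharacter η.2) :
      Cfsg.IsCharacter G (Cfsg.indFun M (η : M → ℂ)))
    have hcb : ∀ ψ, c ψ = b η ψ := fun ψ => by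
      have h1 := hb η ψ
      rw [hc, classInner_sum_irr] at h1
      exact_mod_cast h1
    have h0 : ∀ ψ, c ψ = 0 := fun ψ => by
      rw [hcb]
      rcases eq_or_ne χ ψ with rfl | hne
      · exact hzero
      · have h1 := hsum ψ
        rw [if_neg hne] at h1
        exact (Nat.mul_eq_zero.mp (Finset.sum_eq_zero_iff.mp h1 η (Finset.mem_univ _))).resolve_left hη
    have h1 := congrFun hc 1
    simp only [h0, Nat.cast_zero, zero_smul, Finset.sum_const_zero, Pi.zero_apply] at h1
    rw [indFun_apply_one] at h1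
    exact (mul_ne_zero (Nat.cast_ne_zero.mpr Subgroup.index_ne_zero_of_finite)
      (IsIrr.apply_one_ne_zero η.2)) h1
  have h1 := hsum χ
  rw [if_pos rfl] at h1
  obtain ⟨η₀, -, hη₀⟩ := Finset.exists_ne_zero_of_sum_ne_zero
    (show ∑ η, m η * b η χ ≠ 0 by rw [h1]; exact one_ne_zero)
  rw [← Finset.add_sum_erase _ _ (Finset.mem_univ η₀)] at h1
  have h3 : m η₀ * b η₀ χ = 1 ∧ ∑ η ∈ Finset.univ.erase η₀, m η * b η χ = 0 := by
    have := Nat.pos_of_ne_zero hη₀
    omega
  have hm1 : m η₀ = 1 := Nat.eq_one_of_mul_eq_one_right h3.1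
  have hrest : ∀ η ≠ η₀, m η = 0 := fun η hη => by
    have := Finset.sum_eq_zero_iff.mp h3.2 η (Finset.mem_erase.mpr ⟨hη, Finset.mem_univ _⟩)
    by_contra h
    exact hpos η h ((Nat.mul_eq_zero.mp this).resolve_left h)
  rw [hm, Finset.sum_eq_single η₀ (fun η _ hη => by rw [hrest η hη]; simp) (by simp), hm1,
    Nat.cast_one, one_smul]
  exact η₀.2

end Induced

set_option maxHeartbeats 4000000 in
/-- The bound. -/
theorem bound {p : ℕ} [hp : Fact p.Prime] : ∀ (a : ℕ) (P : Type u) [Group P] [Fintype P], 0 < a →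
    Nat.card P = p ^ a → ∀ χ : Cfsg.IrrCharacter P,
    (∀ g : P, (χ : P → ℂ) g = (χ : P → ℂ) 1 → g = 1) → ∀ t : ℕ,
    Nat.card (conjSet (χ : P → ℂ)) = (p - 1) * p ^ t →
    (p - 1) * a ≤ (Cfsg.charDegree (χ : P → ℂ) - 1) +
      (p - 1) * (t + 1) * Cfsg.charDegree (χ : P → ℂ) := by
  intro a
  induction a using Nat.strongRecOn with
  | ind a ih =>
    intro P _ _ ha hP χ hfaith t ht
    have hp1 : 0 < p - 1 := Nat.sub_pos_of_lt hp.out.one_lt
    by_cases h1 : Cfsg.charDegree (χ : P → ℂ) = 1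
    · rw [card_conjSet_linear hP ha χ hfaith h1, mul_comm (p - 1)] at ht
      have := Nat.pow_right_injective hp.out.two_le (Nat.eq_of_mul_eq_mul_right hp1 ht)
      rw [h1, Nat.sub_self, zero_add, mul_one, show t + 1 = a by omega]
    -- a subgroup of index `p` inducing `χ`
    have : Group.IsNilpotent P := (IsPGroup.of_card hP).isNilpotent
    obtain ⟨H, lam, hH⟩ := Clifford.isMonomial_of_isNilpotent (χ : P → ℂ) χ.2
    have hHne : H ≠ ⊤ := by
      intro he
      apply h1
      refine (charDegree_eq_one_iff χ).mpr ?_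
      rw [hH, indFun_apply_one, Subgroup.index_eq_one.mpr he]
      simp
    obtain ⟨nH, hnH⟩ := IsPGroup.iff_card.mp ((IsPGroup.of_card hP).to_subgroup H)
    have hnlt : nH < a := by
      have hdvd : p ^ nH ∣ p ^ a := hnH ▸ hP ▸ Subgroup.card_subgroup_dvd_card H
      refine lt_of_le_of_ne ((Nat.pow_dvd_pow_iff_le_right hp.out.one_lt).mp hdvd) fun he => hHne ?_
      exact H.eq_top_of_card_eq (by rw [hnH, he, hP])
    obtain ⟨M, hMc, hHM⟩ := Sylow.exists_subgroup_card_pow_prime_le p
      (hP.symm ▸ pow_dvd_pow p (Nat.sub_le a 1) : p ^ (a - 1) ∣ Nat.card P) H hnH (by omega)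
    have hMidx : M.index = p := by
      have h := M.card_mul_index
      rw [hMc, hP, ← Nat.sub_add_cancel ha, pow_succ, Nat.add_sub_cancel] at h
      exact Nat.eq_of_mul_eq_mul_left (pow_pos hp.out.pos _) h
    have hMn : M.Normal := Subgroup.normal_of_index_eq_minFac_card (by
      rw [hMidx, hP, hp.out.pow_minFac ha.ne'])
    have := Fintype.ofFinite M
    let θ : (H.subgroupOf M) → ℂ :=
      fun x => (lam ⟨(x : M), Subgroup.mem_subgroupOf.mp x.2⟩ : ℂ)
    have hθ : Cfsg.IsCharacter (H.subgroupOf M) θ :=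
      IsIrr.isCharacter (isIrrCharacter_linear (lam.comp
        (Subgroup.subgroupOfEquivOfLe hHM).toMonoidHom))
    let φf : M → ℂ := Cfsg.indFun (H.subgroupOf M) θ
    have hind : Cfsg.indFun M φf = (χ : P → ℂ) :=
      (indFun_indFun H M hHM fun x => (lam x : ℂ)).trans hH.symm
    have hφirr : Cfsg.IsIrrCharacter M φf :=
      isIrr_of_indFun (isCharacter_indFun (H.subgroupOf M) hθ) (hind ▸ χ.2)
    let φ : Cfsg.IrrCharacter M := ⟨φf, hφirr⟩
    have hdeg : Cfsg.charDegree (χ : P → ℂ) = p * Cfsg.charDegree (φ : M → ℂ) := by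
      have h : (χ : P → ℂ) 1 = (p : ℂ) * (φ : M → ℂ) 1 := by
        rw [← hind, indFun_apply_one, hMidx]
      rw [← cast_irrDegree, ← cast_irrDegree] at h
      exact_mod_cast h
    -- the faithful quotient
    let K := kerSubgroup φ
    have hKn : K.Normal := kerSubgroup_normal φ
    obtain ⟨φ', hφ'⟩ := exists_infl (N := K) φ fun g hg => mem_kerSubgroup.mp hg
    have := Fintype.ofFinite (M ⧸ K)
    have hfaith' : ∀ q : M ⧸ K, (φ' : M ⧸ K → ℂ) q = (φ' : M ⧸ K → ℂ) 1 → q = 1 := by
      intro q hq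
      induction q using QuotientGroup.induction_on with
      | H m =>
        refine (QuotientGroup.eq_one_iff m).mpr (mem_kerSubgroup.mpr ?_)
        rw [← hφ', infl_apply, infl_apply, QuotientGroup.mk_one]
        exact hq
    have hdeg' : Cfsg.charDegree (φ' : M ⧸ K → ℂ) = Cfsg.charDegree (φ : M → ℂ) := by
      rw [← hφ', charDegree_infl]
    have hcardM : p * Nat.card M = p ^ a := by
      rw [← hP, ← M.card_mul_index, hMidx, mul_comm]
    have hfin := finite_conjSet φ
    -- conjugates of `φ` lying under `χ`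
    have hconjFn : ∀ (g : P) (m : M) (h : M → ℂ), Cfsg.IsClassFunction M h →
        Clifford.conjFn hMn h (g * m) = Clifford.conjFn hMn (Clifford.conjFn hMn h g) m :=
      fun g m h _ => Clifford.conjFn_mul hMn h g m
    have hclass : ∀ g : P, Clifford.conjFn hMn φf g =
        Clifford.conjFn hMn φf ((QuotientGroup.mk g : P ⧸ M).out) := by
      intro g
      obtain ⟨m, hm⟩ := QuotientGroup.mk_out_eq_mul M g
      rw [hm, Clifford.conjFn_mul]
      funext x
      exact (IsIrr.isClassFunction (Clifford.isIrrCharacter_conjFn hMn hφirr g) x m).symm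
    -- faithfulness of the conjugates
    have hχM : ∀ m : M, (∀ g : P, Clifford.conjFn hMn φf g m = φf 1) → (m : P) = 1 := by
      intro m hm
      refine hfaith _ ?_
      rw [← hind, Clifford.indFun_coe_normal hMn, show (1 : P) = ((1 : M) : P) from rfl,
        Clifford.indFun_coe_normal hMn]
      congr 1
      refine Finset.sum_congr rfl fun g _ => (hm g).trans ?_
      show φf 1 = φf _
      congr 1
      exact Subtype.ext (by simp)
    have hinjM : Function.Injective fun (m : M) (q : P ⧸ M) =>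
        (QuotientGroup.mk (⟨q.out * m * q.out⁻¹, hMn.conj_mem m m.2 q.out⟩ : M) : M ⧸ K) := by
      intro m m' h
      have hd : ∀ g : P, Clifford.conjFn hMn φf g (m⁻¹ * m') = φf 1 := by
        intro g
        rw [hclass]
        have hq := QuotientGroup.eq.mp (congrFun h (QuotientGroup.mk g))
        have := mem_kerSubgroup.mp hq
        refine Eq.trans (congrArg φf (Subtype.ext ?_)) this
        simp only [Subgroup.coe_mul, InvMemClass.coe_inv, mul_inv_rev, inv_inv]
        group
      have := hχM _ hd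
      exact inv_mul_eq_one.mp (Subtype.ext this)
    obtain ⟨a', -, ha'⟩ := (Nat.dvd_prime_pow hp.out).mp
      (show Nat.card (M ⧸ K) ∣ p ^ a from
        (Subgroup.card_quotient_dvd_card K).trans (hP ▸ Subgroup.card_subgroup_dvd_card M))
    have hMle : Nat.card M ≤ p ^ (a' * p) := by
      have := Nat.card_le_card_of_injective _ hinjM
      rwa [Nat.card_fun, ha', ← Subgroup.index_eq_card, hMidx, ← pow_mul] at this
    have hMcard : Nat.card M = p ^ (a - 1) := by
      refine Nat.eq_of_mul_eq_mul_left hp.out.pos ?_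
      rw [hcardM, ← pow_succ', Nat.sub_add_cancel ha]
    rw [hMcard] at hMle
    have hale : a - 1 ≤ a' * p := (Nat.pow_le_pow_iff_right hp.out.one_lt).mp hMle
    have ha'lt : a' ≤ a - 1 := by
      have := Subgroup.card_quotient_dvd_card K
      rw [hMcard, ha'] at this
      exact (Nat.pow_dvd_pow_iff_le_right hp.out.one_lt).mp this
    have ha'pos : 0 < a' := by
      by_contra h0
      have hz : a' = 0 := by omega
      rw [hz, zero_mul] at hale
      apply h1
      refine charDegree_of_comm (fun x y => ?_) χ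
      have hcyc : IsCyclic P := isCyclic_of_prime_card (p := p) (by
        rw [hP, show a = 1 by omega, pow_one])
      exact hcyc.isMulCommutative.is_comm.comm x y
    obtain ⟨t', ht'⟩ := exists_card_conjSet ha' ha'pos φ' hfaith'
    have hIH := ih a' (by omega) (M ⧸ K) ha'pos ha' φ' hfaith' t' ht'
    rw [hdeg'] at hIH
    -- the two fields
    have hsame : Nat.card (conjSet φf) = Nat.card (conjSet (φ' : M ⧸ K → ℂ)) := by
      rw [← finrank_eq_card φf (IsIrr.isCharacter hφirr),
        ← finrank_eq_card _ (IsIrr.isCharacter φ'.2),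
        show φf = (φ' : M ⧸ K → ℂ) ∘ (QuotientGroup.mk : M → M ⧸ K) from
          (congrArg Subtype.val hφ').symm,
        Set.range_comp, (QuotientGroup.mk_surjective).range_eq, Set.image_univ]
    let Fib : Set (M → ℂ) := {h | h ∈ conjSet φf ∧ Cfsg.indFun M h = (χ : P → ℂ)}
    have hFfin : Fib.Finite := hfin.subset fun h hh => hh.1
    have hprod : Nat.card (conjSet φf) = Nat.card (conjSet (χ : P → ℂ)) * Nat.card Fib := by
      choose s hs using fun c : conjSet (χ : P → ℂ) => c.2
      have := finite_conjSet χ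
      let e : conjSet (χ : P → ℂ) × Fib → conjSet φf := fun x =>
        ⟨fun m => s x.1 ((x.2 : M → ℂ) m), by
          obtain ⟨τ, hτ⟩ := x.2.2.1
          exact ⟨τ.trans (s x.1), funext fun m => congrArg (s x.1) (congrFun hτ m)⟩⟩
      have hval : ∀ x, Cfsg.indFun M (e x : M → ℂ) = (x.1 : P → ℂ) := fun x => by
        show Cfsg.indFun M (fun m => s x.1 ((x.2 : M → ℂ) m)) = _
        rw [indFun_aut, x.2.2.2]
        exact hs x.1
      have he : Function.Bijective e := by
        refine ⟨fun x y h => ?_, fun ⟨h, τ, hτ⟩ => ?_⟩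
        · have h1 : x.1 = y.1 := Subtype.ext (by rw [← hval, ← hval, h])
          refine Prod.ext h1 (Subtype.ext (funext fun m => (s x.1).injective ?_))
          have := congrFun (congrArg Subtype.val h) m
          rw [h1]
          simpa [e, h1] using this
        · subst hτ
          have hmem : (fun g => τ ((χ : P → ℂ) g)) ∈ conjSet (χ : P → ℂ) := ⟨τ, rfl⟩
          let c : conjSet (χ : P → ℂ) := ⟨_, hmem⟩
          have hf2 : Cfsg.indFun M (fun m => (s c).symm (τ (φf m))) = (χ : P → ℂ) := by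
            rw [show (fun m => (s c).symm (τ (φf m))) = fun m => (τ.trans (s c).symm) (φf m) from rfl,
              indFun_aut, hind]
            funext g
            exact (s c).symm_apply_eq.mpr (congrFun (hs c) g).symm
          refine ⟨(c, ⟨_, ⟨⟨τ.trans (s c).symm, rfl⟩, hf2⟩⟩), Subtype.ext (funext fun m => ?_)⟩
          exact (s c).apply_symm_apply _
      rw [← Nat.card_prod]
      exact (Nat.card_eq_of_bijective e he).symm
    have hFsub : Fib ⊆ Set.range fun q : P ⧸ M => Clifford.conjFn hMn φf q.out := by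
      rintro h ⟨hh, hi⟩
      have hirr : Cfsg.IsIrrCharacter M h := isIrr_of_mem_conjSet (χ := φ) hh
      have hη : Cfsg.classInner (fun m : M => (χ : P → ℂ) m) h ≠ 0 := by
        rw [← classInner_conj_symm, ← frobenius_reciprocity M _ (IsIrr.isClassFunction χ.2), hi,
          classInner_irr_self, map_one]
        exact one_ne_zero
      have hφc : Cfsg.classInner (fun m : M => (χ : P → ℂ) m) φf ≠ 0 := by
        rw [← classInner_conj_symm, ← frobenius_reciprocity M _ (IsIrr.isClassFunction χ.2), hind,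
          classInner_irr_self, map_one]
        exact one_ne_zero
      rw [Clifford.restrict_eq_smul_orbit_sum hMn χ.2 hφirr hφc, classInner_smul_left,
        classInner_sum_left] at hη
      obtain ⟨ψ, hψ, hne⟩ := Finset.exists_ne_zero_of_sum_ne_zero (right_ne_zero_of_mul hη)
      obtain ⟨g, -, rfl⟩ := Finset.mem_image.mp hψ
      refine ⟨QuotientGroup.mk g, ?_⟩
      show Clifford.conjFn hMn φf (QuotientGroup.mk g : P ⧸ M).out = h
      rw [← hclass]
      by_contra hne'
      exact hne (Exceptional.classInner_eq_zero_of_irr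
        (Clifford.isIrrCharacter_conjFn hMn hφirr g) hirr hne')
    have hFle : Nat.card Fib ≤ p := by
      rw [← hMidx, Subgroup.index_eq_card]
      exact (Nat.card_mono (Set.finite_range _) hFsub).trans (Finite.card_range_le _)
    rw [hsame, ht', ht, mul_assoc] at hprod
    have hprod' := Nat.eq_of_mul_eq_mul_left hp1 hprod
    obtain ⟨j, -, hj⟩ := (Nat.dvd_prime_pow hp.out).mp (Dvd.intro_left _ hprod'.symm)
    have hj1 : j ≤ 1 := by
      rw [hj] at hFle
      exact (Nat.pow_le_pow_iff_right hp.out.one_lt).mp (hFle.trans (pow_one p).ge)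
    rw [hj, ← pow_add] at hprod'
    have htt := Nat.pow_right_injective hp.out.two_le hprod'
    set d := Cfsg.charDegree (φ : M → ℂ) with hd
    have hd0 : 0 < d := charDegree_pos φ
    rw [hdeg]
    obtain ⟨q, hq⟩ : ∃ q, p = q + 1 := ⟨p - 1, by omega⟩
    obtain ⟨a₀, ha₀⟩ : ∃ a₀, a = a₀ + 1 := ⟨a - 1, by omega⟩
    obtain ⟨d₀, hd₀⟩ : ∃ d₀, d = d₀ + 1 := ⟨d - 1, by omega⟩
    rw [hd₀] at hIH ⊢
    rw [hq, Nat.add_sub_cancel, Nat.add_sub_cancel] at hIH
    rw [ha₀, Nat.add_sub_cancel, hq] at hale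
    rw [ha₀, hq, Nat.add_sub_cancel,
      show (q + 1) * (d₀ + 1) - 1 = q * d₀ + q + d₀ by
        rw [show (q + 1) * (d₀ + 1) = q * d₀ + q + d₀ + 1 by ring, Nat.add_sub_cancel]]
    rcases Nat.le_one_iff_eq_zero_or_eq_one.mp hj1 with rfl | rfl
    · -- same field
      rw [show t' = t by omega] at hIH
      nlinarith [Nat.mul_le_mul_left q hale, Nat.mul_le_mul_right (q + 1) hIH]
    · -- all conjugates are algebraically conjugate, so `φ` is faithful
      have hall : ∀ g : P, Clifford.conjFn hMn φf g ∈ conjSet φf := by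
        have heq : Fib = Set.range fun q : P ⧸ M => Clifford.conjFn hMn φf q.out :=
          Set.eq_of_subset_of_ncard_le hFsub (by
            rw [← Nat.card_coe_set_eq, ← Nat.card_coe_set_eq, hj, pow_one]
            refine (Finite.card_range_le _).trans ?_
            rw [← Subgroup.index_eq_card, hMidx]) (Set.finite_range _)
        intro g
        rw [hclass]
        have : Clifford.conjFn hMn φf (QuotientGroup.mk g : P ⧸ M).out ∈ Fib := heq ▸ ⟨_, rfl⟩
        exact this.1
      have hK : K = ⊥ := by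
        rw [eq_bot_iff]
        intro m hm
        refine Subgroup.mem_bot.mpr (Subtype.ext (hχM m fun g => ?_))
        obtain ⟨σ, hσ⟩ := hall g
        have e1 : Clifford.conjFn hMn φf g 1 = φf 1 := congrArg φf (Subtype.ext (by simp))
        have h2 : φf m = φf 1 := mem_kerSubgroup.mp hm
        rw [← e1, ← congrFun hσ m, ← congrFun hσ 1]
        exact congrArg σ h2
      have haa : a' = a₀ := by
        have := K.index_eq_card
        rw [ha', hK, Subgroup.index_bot, hMcard, ha₀, Nat.add_sub_cancel] at this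
        exact (Nat.pow_right_injective hp.out.two_le this).symm
      rw [show t' = t + 1 by omega, haa] at hIH
      have hq1 : 1 ≤ q := by omega
      have h4 : q * d₀ ≤ q * (q * d₀) := Nat.mul_le_mul_left q (Nat.le_mul_of_pos_left _ hq1)
      have h5 : q ≤ q * q := Nat.le_mul_of_pos_left _ hq1
      nlinarith [Nat.zero_le (q * q * t * d₀), Nat.zero_le (q * q * t)]

end CfsgLib.FieldDegree
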