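import Cfsg.Agent.Lib.Char.Basic
import Cfsg.Agent.Lib.Char.Rep
import Mathlib.FieldTheory.IsAlgClosed.Classification
import Mathlib.NumberTheory.Cyclotomic.Basic
import Mathlib.NumberTheory.NumberField.Cyclotomic.Basic

/-!
# Automorphisms of `ℂ` on character values, and integer polynomials for them
-/

namespace CfsgLib.ComplexAut

open CfsgLib.Char Polynomial
open scoped Cardinal

section Extend

variable {R : Type} [Field R] {K L : Type} [Field K] [Field L] [Algebra R K] [Algebra R L]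
  [IsAlgClosed K] [IsAlgClosed L]

/-- Two uncountable algebraically closed extensions of a countable field of the same size are
isomorphic over it. -/
theorem exists_ringEquiv (hR : #R ≤ ℵ₀) (hK : ℵ₀ < #K) (hKL : #K = #L) :
    ∃ σ : K ≃+* L, ∀ r : R, σ (algebraMap R K r) = algebraMap R L r := by
  obtain ⟨s, hs⟩ := exists_isTranscendenceBasis R K
  obtain ⟨t, ht⟩ := exists_isTranscendenceBasis R L
  have h1 := IsAlgClosed.cardinal_eq_cardinal_transcendence_basis_of_aleph0_lt' _ hs hR hK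
  have h2 := IsAlgClosed.cardinal_eq_cardinal_transcendence_basis_of_aleph0_lt' _ ht hR (hKL ▸ hK)
  obtain ⟨e⟩ := Cardinal.eq.mp (h1.symm.trans (hKL.trans h2))
  letI := IsAlgClosed.isAlgClosure_of_transcendence_basis _ hs
  letI := IsAlgClosed.isAlgClosure_of_transcendence_basis _ ht
  let e' : Algebra.adjoin R (Set.range ((↑) : s → K)) ≃ₐ[R]
      Algebra.adjoin R (Set.range ((↑) : t → L)) :=
    hs.1.aevalEquiv.symm.trans ((MvPolynomial.renameEquiv R e).trans ht.1.aevalEquiv)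
  refine ⟨IsAlgClosure.equivOfEquiv K L e'.toRingEquiv, fun r => ?_⟩
  rw [IsScalarTower.algebraMap_apply R (Algebra.adjoin R (Set.range ((↑) : s → K))) K,
    IsAlgClosure.equivOfEquiv_algebraMap]
  rw [show e'.toRingEquiv (algebraMap R _ r) = algebraMap R _ r from e'.commutes r,
    ← IsScalarTower.algebraMap_apply]

end Extend

/-- Every Galois substitution of roots of unity extends to an automorphism of `ℂ`. -/
theorem exists_aut {n : ℕ} (hn : n ≠ 0) {ζ : ℂ} (hζ : IsPrimitiveRoot ζ n) {k : ℕ}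
    (hk : k.Coprime n) : ∃ σ : ℂ ≃+* ℂ, σ ζ = ζ ^ k := by
  have : NeZero n := ⟨hn⟩
  let F := IntermediateField.adjoin ℚ ({ζ} : Set ℂ)
  have hint : IsIntegral ℚ ζ := (hζ.isIntegral (Nat.pos_of_ne_zero hn)).tower_top
  have hfin : FiniteDimensional ℚ F := IntermediateField.adjoin.finiteDimensional hint
  have hroot : ζ ^ k ∈ (minpoly ℚ ζ).aroots ℂ := by
    rw [Polynomial.mem_aroots]
    refine ⟨minpoly.ne_zero hint, ?_⟩
    have h1 := Polynomial.cyclotomic_eq_minpoly_rat hζ (Nat.pos_of_ne_zero hn)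
    have h2 := Polynomial.cyclotomic_eq_minpoly_rat (hζ.pow_of_coprime k hk) (Nat.pos_of_ne_zero hn)
    rw [← h1, h2]
    exact minpoly.aeval ℚ _
  let f : F →ₐ[ℚ] ℂ := (IntermediateField.algHomAdjoinIntegralEquiv ℚ hint).symm ⟨_, hroot⟩
  have hf : f (IntermediateField.AdjoinSimple.gen ℚ ζ) = ζ ^ k :=
    IntermediateField.algHomAdjoinIntegralEquiv_symm_apply_gen ℚ hint _
  have hR : #F ≤ ℵ₀ := le_trans (Algebra.IsAlgebraic.cardinalMk_le_max ℚ F)
    (max_le (Cardinal.mk_le_aleph0 (α := ℚ)) le_rfl)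
  have hC : ℵ₀ < #ℂ := by rw [Cardinal.mk_complex]; exact Cardinal.aleph0_lt_continuum
  obtain ⟨σ, hσ⟩ := @exists_ringEquiv F _ ℂ ℂ _ _ F.val.toRingHom.toAlgebra f.toRingHom.toAlgebra
    _ _ hR hC rfl
  exact ⟨σ, (hσ (IntermediateField.AdjoinSimple.gen ℚ ζ)).trans hf⟩

variable {G : Type*} [Group G] [Finite G]

/-- Character values are values of integer polynomials at roots of unity. -/
theorem exists_intPoly {χ : G → ℂ} (hχ : Cfsg.IsCharacter G χ) {ζ : ℂ}
    (hζ : IsPrimitiveRoot ζ (Nat.card G)) (x : G) :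
    ∃ P : ℤ[X], ∀ m : ℕ, χ (x ^ m) = aeval (ζ ^ m) P := by
  obtain ⟨n, ρ, rfl⟩ := hχ
  obtain ⟨ε, hε, -, hpow, -⟩ := exists_eigenvalues ρ x
  have : NeZero (Nat.card G) := ⟨Nat.card_pos.ne'⟩
  obtain ⟨d, hd⟩ := orderOf_dvd_natCard x
  choose j hj using fun i => hζ.eq_pow_of_pow_eq_one (ξ := ε i)
    (by rw [hd, pow_mul, hε i, one_pow])
  refine ⟨∑ i, X ^ j i, fun m => ?_⟩
  rw [hpow]
  simp only [map_sum, map_pow, aeval_X]
  exact Finset.sum_congr rfl fun i _ => by rw [← (hj i).2, ← pow_mul, ← pow_mul, Nat.mul_comm]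

/-- An automorphism of `ℂ` acts on character values as a power map. -/
theorem aut_apply {χ : G → ℂ} (hχ : Cfsg.IsCharacter G χ) {ζ : ℂ}
    (hζ : IsPrimitiveRoot ζ (Nat.card G)) (σ : ℂ ≃+* ℂ) {k : ℕ} (hk : σ ζ = ζ ^ k) (x : G) :
    σ (χ x) = χ (x ^ k) := by
  obtain ⟨P, hP⟩ := exists_intPoly hχ hζ x
  have h1 := hP 1
  rw [pow_one, pow_one] at h1
  rw [h1, hP k, ← hk]
  exact (Polynomial.aeval_algHom_apply σ.toRingHom.toIntAlgHom ζ P).symm

/-- An integral combination with rational coefficient has integer coefficients. -/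
theorem exists_intPoly_of_isIntegral {n : ℕ} (hn : n ≠ 0) {ζ : ℂ} (hζ : IsPrimitiveRoot ζ n)
    (c : ℚ) (P : ℤ[X]) (hint : IsIntegral ℤ ((c : ℂ) * aeval ζ P)) :
    ∃ Q : ℤ[X], ∀ m : ℕ, m.Coprime n → (c : ℂ) * aeval (ζ ^ m) P = aeval (ζ ^ m) Q := by
  have : NeZero n := ⟨hn⟩
  let F := IntermediateField.adjoin ℚ ({ζ} : Set ℂ)
  have : IsCyclotomicExtension {n} ℚ F := by
    show IsCyclotomicExtension {n} ℚ (IntermediateField.adjoin ℚ ({ζ} : Set ℂ)).toSubalgebra
    rw [IntermediateField.adjoin_simple_toSubalgebra_of_isAlgebraic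
      ((hζ.isIntegral (Nat.pos_of_ne_zero hn)).tower_top.isAlgebraic)]
    exact hζ.adjoin_isCyclotomicExtension ℚ
  let z : F := IntermediateField.AdjoinSimple.gen ℚ ζ
  have hz : IsPrimitiveRoot z n := IsPrimitiveRoot.of_map_of_injective (f := F.val) hζ F.val.injective
  let y : F := (c : F) * aeval z P
  have hyv : F.val y = (c : ℂ) * aeval ζ P := by
    rw [map_mul, map_ratCast]
    congr 1
    exact (Polynomial.aeval_algHom_apply (F.val.toRingHom.toIntAlgHom) z P).symm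
  have hy : IsIntegral ℤ y := by
    refine (isIntegral_algHom_iff (F.val.toRingHom.toIntAlgHom) F.val.injective).mp ?_
    show IsIntegral ℤ (F.val y)
    rwa [hyv]
  have := IsCyclotomicExtension.Rat.isIntegralClosure_adjoin_singleton (n := n) hz
  obtain ⟨w, hw⟩ := (IsIntegralClosure.isIntegral_iff (A := Algebra.adjoin ℤ ({z} : Set F))).mp hy
  obtain ⟨Q, hQ⟩ := (Algebra.adjoin_singleton_eq_range_aeval ℤ z ▸ w.2 :
    (w : F) ∈ (aeval z : ℤ[X] →ₐ[ℤ] F).range)
  refine ⟨Q, fun m hm => ?_⟩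
  have hroot : aeval ζ (C c * P.map (Int.castRingHom ℚ) - Q.map (Int.castRingHom ℚ)) = 0 := by
    rw [map_sub, map_mul, aeval_C, ← algebraMap_int_eq, aeval_map_algebraMap, aeval_map_algebraMap,
      eq_ratCast, sub_eq_zero, ← hyv, ← hw]
    show F.val (w : F) = _
    rw [← hQ]
    exact (Polynomial.aeval_algHom_apply (F.val.toRingHom.toIntAlgHom) z Q).symm
  have hmin : minpoly ℚ (ζ ^ m) = minpoly ℚ ζ := by
    rw [← cyclotomic_eq_minpoly_rat (hζ.pow_of_coprime m hm) (Nat.pos_of_ne_zero hn),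
      ← cyclotomic_eq_minpoly_rat hζ (Nat.pos_of_ne_zero hn)]
  have h2 := Polynomial.aeval_eq_zero_of_dvd_aeval_eq_zero
    (hmin ▸ minpoly.dvd ℚ ζ hroot) (minpoly.aeval ℚ (ζ ^ m))
  rwa [map_sub, map_mul, aeval_C, ← algebraMap_int_eq, aeval_map_algebraMap, aeval_map_algebraMap,
    eq_ratCast, sub_eq_zero] at h2

end CfsgLib.ComplexAut
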