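import Cfsg.Agent.Lib.Char.CliffordCorr
import Cfsg.Agent.Lib.Char.Gallagher
import Cfsg.Agent.Lib.Char.Extension
import Cfsg.Agent.Lib.Blocks.Covering
import Cfsg.Agent.Lib.Blocks.FongInvariant
import Cfsg.Agent.S0887

/-!
# Restriction to a supplement of a normal subgroup, and determinantal orders over a normal subgroup

If `X = N K`, `θ ∈ Irr(N)` is invariant and restricts irreducibly to `N ∩ K`, then restriction is a
bijection from the characters of `X` over `θ` to those of `K` over the restriction.  Over a normal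
subgroup of index prime to `p`, characters inherit degree and determinantal order prime to `p`.
-/

namespace CfsgLib.Supplement

open Cfsg CfsgLib.Char Module
open scoped ComplexConjugate Classical

section Compose

variable {A B C : Type*} [Group A] [Fintype A] [Group B] [Fintype B] [Group C] [Fintype C]

/-- Constituents compose along homomorphisms. -/
theorem classInner_comp_ne_zero {Φ : A → ℂ} (hΦ : IsCharacter A Φ) {ν : IrrCharacter A}
    (h : classInner Φ (ν : A → ℂ) ≠ 0) (f : C →* A) (η : IrrCharacter C)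
    (h' : classInner (fun c => (ν : A → ℂ) (f c)) (η : C → ℂ) ≠ 0) :
    classInner (fun c => Φ (f c)) (η : C → ℂ) ≠ 0 := by
  have := Fintype.ofFinite (IrrCharacter A)
  obtain ⟨m, rfl⟩ := IsChar.exists_sum hΦ
  rw [classInner_sum_irr] at h
  choose k hk using fun ψ : IrrCharacter A => IsChar.classInner_eq_natCast
    (IsChar.comp f (IsIrr.isCharacter ψ.2)) (IsIrr.isCharacter η.2)
  have e : (fun c => (∑ ψ : IrrCharacter A, (m ψ : ℂ) • (ψ : A → ℂ)) (f c)) =
      ∑ ψ : IrrCharacter A, (m ψ : ℂ) • fun c => (ψ : A → ℂ) (f c) :=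
    funext fun c => by simp [Finset.sum_apply]
  rw [e, classInner_sum_left]
  simp only [classInner_smul_left, hk, ← Nat.cast_mul, ← Nat.cast_sum, ne_eq, Nat.cast_eq_zero]
  intro h0
  rw [hk, Nat.cast_ne_zero] at h'
  exact mul_ne_zero (Nat.cast_ne_zero.1 h) h' (Finset.sum_eq_zero_iff.1 h0 ν (Finset.mem_univ _))

/-- A constituent along a composite passes through a constituent in the middle. -/
theorem exists_constituent_between {Φ : A → ℂ} (hΦ : IsCharacter A Φ) (f : C →* A)
    (η : C → ℂ) (h : classInner (fun c => Φ (f c)) η ≠ 0) :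
    ∃ ν : IrrCharacter A, classInner Φ (ν : A → ℂ) ≠ 0 ∧
      classInner (fun c => (ν : A → ℂ) (f c)) η ≠ 0 := by
  have := Fintype.ofFinite (IrrCharacter A)
  obtain ⟨m, rfl⟩ := IsChar.exists_sum hΦ
  have e : (fun c => (∑ ψ : IrrCharacter A, (m ψ : ℂ) • (ψ : A → ℂ)) (f c)) =
      ∑ ψ : IrrCharacter A, (m ψ : ℂ) • fun c => (ψ : A → ℂ) (f c) :=
    funext fun c => by simp [Finset.sum_apply]
  rw [e, classInner_sum_left] at h
  obtain ⟨ν, -, hν⟩ := Finset.exists_ne_zero_of_sum_ne_zero h
  rw [classInner_smul_left] at hν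
  exact ⟨ν, by rw [classInner_sum_irr]; exact left_ne_zero_of_mul hν, right_ne_zero_of_mul hν⟩

end Compose

variable {X : Type*} [Group X] [Fintype X] (N K : Subgroup X) [hN : N.Normal]

/-- The restriction of a function on `N` to `N ∩ K`, seen inside `K`. -/
def resInf (θ : N → ℂ) : N.subgroupOf K → ℂ := fun k => θ ⟨((k : K) : X), k.2⟩

variable {N K}

/-- Restriction to a supplement preserves inner products over an invariant character with
irreducible restriction to the intersection. -/
theorem classInner_restrict (hNK : N ⊔ K = ⊤) {θ : IrrCharacter N}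
    (hres : IsIrrCharacter (N.subgroupOf K) (resInf N K (θ : N → ℂ)))
    (hinv : ∀ g : X, Blocks.conjIrr N g θ = θ) {η η' : IrrCharacter X}
    (h : classInner (fun n : N => (η : X → ℂ) n) (θ : N → ℂ) ≠ 0)
    (h' : classInner (fun n : N => (η' : X → ℂ) n) (θ : N → ℂ) ≠ 0) :
    classInner (fun k : K => (η : X → ℂ) k) (fun k : K => (η' : X → ℂ) k) =
      if η = η' then 1 else 0 := by
  have e := FongInvariant.restrict_eq_smul N hinv h
  have e' := FongInvariant.restrict_eq_smul N hinv h'
  rw [← classInner_irr]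
  obtain ⟨n, ρ, hρ, hρc⟩ := η.2
  obtain ⟨n', σ, hσ, hσc⟩ := η'.2
  have hdimNK : classInner (fun k : N.subgroupOf K => ρ.character ((k : K) : X))
        (fun k : N.subgroupOf K => σ.character ((k : K) : X)) =
      classInner (fun x : N => ρ.character x) (fun x : N => σ.character x) := by
    rw [hρc, hσc, e, e']
    have r1 : (fun k : N.subgroupOf K => (η : X → ℂ) ((k : K) : X)) =
        classInner (fun n : N => (η : X → ℂ) n) (θ : N → ℂ) • resInf N K (θ : N → ℂ) :=
      funext fun k => congrFun e ⟨((k : K) : X), k.2⟩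
    have r2 : (fun k : N.subgroupOf K => (η' : X → ℂ) ((k : K) : X)) =
        classInner (fun n : N => (η' : X → ℂ) n) (θ : N → ℂ) • resInf N K (θ : N → ℂ) :=
      funext fun k => congrFun e' ⟨((k : K) : X), k.2⟩
    rw [r1, r2, classInner_smul_left, classInner_smul_right, classInner_smul_left,
      classInner_smul_right, classInner_irr_self θ]
    rw [show classInner (resInf N K (θ : N → ℂ)) (resInf N K (θ : N → ℂ)) = 1 from
      classInner_irr_self ⟨_, hres⟩]
  let σK : Representation ℂ K (Fin n' → ℂ) := σ.comp K.subtype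
  let ρK : Representation ℂ K (Fin n → ℂ) := ρ.comp K.subtype
  let σN : Representation ℂ N (Fin n' → ℂ) := σ.comp N.subtype
  let ρN : Representation ℂ N (Fin n → ℂ) := ρ.comp N.subtype
  let σI : Representation ℂ (N.subgroupOf K) (Fin n' → ℂ) := σK.comp (N.subgroupOf K).subtype
  let ρI : Representation ℂ (N.subgroupOf K) (Fin n → ℂ) := ρK.comp (N.subgroupOf K).subtype
  let inc : σN.IntertwiningMap ρN →ₗ[ℂ] σI.IntertwiningMap ρI :=
    { toFun := fun f => ⟨f.toLinearMap, fun k => f.isIntertwining' ⟨((k : K) : X), k.2⟩⟩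
      map_add' := fun f g => rfl
      map_smul' := fun c f => rfl }
  have hincinj : Function.Injective inc := fun f g ee =>
    Representation.IntertwiningMap.toLinearMap_injective σN ρN
      (congrArg Representation.IntertwiningMap.toLinearMap ee : _)
  have hdim : finrank ℂ (σN.IntertwiningMap ρN) = finrank ℂ (σI.IntertwiningMap ρI) := by
    refine Nat.cast_injective (R := ℂ) ?_
    rw [← classInner_eq_finrank, ← classInner_eq_finrank]
    exact hdimNK.symm
  have hsurjN := (LinearMap.injective_iff_surjective_of_finrank_eq_finrank hdim).1 hincinj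
  let res : σ.IntertwiningMap ρ →ₗ[ℂ] σK.IntertwiningMap ρK :=
    { toFun := fun f => ⟨f.toLinearMap, fun k => f.isIntertwining' (k : X)⟩
      map_add' := fun f g => rfl
      map_smul' := fun c f => rfl }
  have hresinj : Function.Injective res := fun f g ee =>
    Representation.IntertwiningMap.toLinearMap_injective σ ρ
      (congrArg Representation.IntertwiningMap.toLinearMap ee : _)
  have hressurj : Function.Surjective res := by
    intro f
    obtain ⟨f', hf'⟩ := hsurjN ⟨f.toLinearMap, fun k => f.isIntertwining' (k : K)⟩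
    have hfN : f'.toLinearMap = f.toLinearMap :=
      congrArg Representation.IntertwiningMap.toLinearMap hf'
    have hall : ∀ g : X, f.toLinearMap ∘ₗ σ g = ρ g ∘ₗ f.toLinearMap := by
      intro g
      have hg : g ∈ N ⊔ K := hNK ▸ Subgroup.mem_top g
      obtain ⟨a, ha, b, hb, rfl⟩ := Subgroup.mem_sup_of_normal_left.1 hg
      have h1 : f.toLinearMap ∘ₗ σ a = ρ a ∘ₗ f.toLinearMap := by
        rw [← hfN]; exact f'.isIntertwining' ⟨a, ha⟩
      have h2 : f.toLinearMap ∘ₗ σ b = ρ b ∘ₗ f.toLinearMap := f.isIntertwining' ⟨b, hb⟩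
      rw [map_mul, map_mul, Module.End.mul_eq_comp, Module.End.mul_eq_comp, ← LinearMap.comp_assoc,
        h1, LinearMap.comp_assoc, h2, LinearMap.comp_assoc]
    exact ⟨⟨f.toLinearMap, hall⟩, rfl⟩
  rw [← hρc, ← hσc,
    show (fun k : K => ρ.character k) = ρK.character from rfl,
    show (fun k : K => σ.character k) = σK.character from rfl,
    classInner_eq_finrank, classInner_eq_finrank,
    (LinearEquiv.ofBijective res ⟨hresinj, hressurj⟩).finrank_eq]

/-- Restrictions of characters over `θ` to the supplement are irreducible. -/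
theorem isIrr_restrict (hNK : N ⊔ K = ⊤) {θ : IrrCharacter N}
    (hres : IsIrrCharacter (N.subgroupOf K) (resInf N K (θ : N → ℂ)))
    (hinv : ∀ g : X, Blocks.conjIrr N g θ = θ) {η : IrrCharacter X}
    (h : classInner (fun n : N => (η : X → ℂ) n) (θ : N → ℂ) ≠ 0) :
    IsIrrCharacter K fun k : K => (η : X → ℂ) k := by
  have h1 : classInner (fun k : K => (η : X → ℂ) k) (fun k : K => (η : X → ℂ) k) = 1 := by
    rw [classInner_restrict hNK hres hinv h h, if_pos rfl]
  exact isIrr_iff_classInner_eq_one.2 ⟨IsChar.restrict K (IsIrr.isCharacter η.2), h1⟩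

/-- Every character of the supplement over the restriction of `θ` is a restriction. -/
theorem exists_eq_restrict (hNK : N ⊔ K = ⊤) {θ : IrrCharacter N}
    (hres : IsIrrCharacter (N.subgroupOf K) (resInf N K (θ : N → ℂ)))
    (hinv : ∀ g : X, Blocks.conjIrr N g θ = θ) {ξ : IrrCharacter K}
    (h : classInner (fun k : N.subgroupOf K => (ξ : K → ℂ) k) (resInf N K (θ : N → ℂ)) ≠ 0) :
    ∃ η : IrrCharacter X, classInner (fun n : N => (η : X → ℂ) n) (θ : N → ℂ) ≠ 0 ∧
      (ξ : K → ℂ) = fun k : K => (η : X → ℂ) k := by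
  have := Fintype.ofFinite (IrrCharacter X)
  -- the induced character vanishes off `N` and is a multiple of `θ` on it
  have hI : ∀ x : X, indFun N (θ : N → ℂ) x =
      (N.index : ℂ) * extendByZero N (θ : N → ℂ) x := by
    intro x
    have hconst : ∀ g : X, extendByZero N (θ : N → ℂ) (g⁻¹ * x * g) =
        extendByZero N (θ : N → ℂ) x := by
      intro g
      by_cases hx : x ∈ N
      · have hgx : g⁻¹ * x * g ∈ N := by simpa using hN.conj_mem x hx g⁻¹
        rw [extendByZero_of_mem N _ hgx, extendByZero_of_mem N _ hx]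
        conv_rhs => rw [← hinv g⁻¹, Blocks.conjIrr_apply]
        exact congrArg _ (Subtype.ext (by simp))
      · rw [extendByZero_of_notMem N _ hx, extendByZero_of_notMem N _ fun hgx => hx ?_]
        simpa [mul_assoc] using hN.conj_mem _ hgx g
    rw [indFun, Finset.sum_congr rfl fun g _ => hconst g, Finset.sum_const, nsmul_eq_mul,
      Finset.card_univ, ← Nat.card_eq_fintype_card, ← N.index_mul_card, Nat.cast_mul]
    field_simp [Nat.cast_ne_zero.2 (Nat.card_pos (α := N)).ne']
  have h2 : classInner (fun k : K => indFun N (θ : N → ℂ) k) (ξ : K → ℂ) ≠ 0 := by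
    have h3 : ∑ k : K, extendByZero N (θ : N → ℂ) k * conj ((ξ : K → ℂ) k) =
        ∑ k : N.subgroupOf K, resInf N K (θ : N → ℂ) k * conj ((ξ : K → ℂ) k) := by
      refine (Finset.sum_subset (s₁ := (Finset.univ : Finset K).filter (· ∈ N.subgroupOf K))
        (Finset.filter_subset _ _) fun k _ hk => ?_).symm.trans ?_
      · rw [extendByZero_of_notMem N _ (fun hkN => hk (by simp [Subgroup.mem_subgroupOf, hkN])), zero_mul]
      · rw [Finset.sum_subtype (p := fun k : K => k ∈ N.subgroupOf K) _ (fun k => by simp)]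
        refine Finset.sum_congr rfl fun k _ => ?_
        rw [extendByZero_of_mem N _ (Subgroup.mem_subgroupOf.1 k.2)]
        rfl
    simp only [classInner, hI, mul_assoc, ← Finset.mul_sum]
    refine mul_ne_zero (inv_ne_zero (Nat.cast_ne_zero.2 Nat.card_pos.ne'))
      (mul_ne_zero (Nat.cast_ne_zero.2 Subgroup.index_ne_zero_of_finite) ?_)
    rw [h3]
    intro h0
    refine h ?_
    rw [← classInner_conj_symm, classInner, h0, mul_zero, map_zero]
  obtain ⟨η, hη1, hη2⟩ := exists_constituent_between
    (isCharacter_indFun N (IsIrr.isCharacter θ.2)) K.subtype (ξ : K → ℂ) h2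
  have hη : classInner (fun n : N => (η : X → ℂ) n) (θ : N → ℂ) ≠ 0 := fun h0 => hη1 (by
    rw [frobenius_reciprocity N _ (IsIrr.isClassFunction η.2), ← classInner_conj_symm, h0, map_zero])
  refine ⟨η, hη, ?_⟩
  have hirr := isIrr_restrict hNK hres hinv hη
  by_contra hne
  exact hη2 (classInner_irr_of_ne (χ := ⟨_, hirr⟩) (ψ := ξ)
    fun e => hne (congrArg Subtype.val e).symm)

omit [Fintype X] hN in
/-- The determinant of a sum of copies. -/
theorem exists_copies {V : Type*} [AddCommGroup V] [Module ℂ V] [FiniteDimensional ℂ V]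
    (σ : Representation ℂ X V) (e : ℕ) :
    ∃ τ : Representation ℂ X (Fin e → V), τ.character = (e : ℂ) • σ.character ∧
      ∀ g, LinearMap.det (τ g) = LinearMap.det (σ g) ^ e := by
  let τ : Representation ℂ X (Fin e → V) :=
    { toFun := fun g => LinearMap.pi fun i => (σ g).comp (LinearMap.proj i)
      map_one' := LinearMap.ext fun v => funext fun i => by simp
      map_mul' := fun a b => LinearMap.ext fun v => funext fun i => by simp }
  refine ⟨τ, funext fun g => ?_, fun g => ?_⟩
  · let b := Module.finBasis ℂ V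
    let Bs := (Pi.basis (fun _ : Fin e ↦ b)).reindex <|
      (Equiv.sigmaEquivProd _ _).trans (Equiv.prodComm _ _)
    have hmat : LinearMap.toMatrix Bs Bs (τ g) =
        Matrix.blockDiagonal (fun _ : Fin e => LinearMap.toMatrix b b (σ g)) := by
      ext ⟨i₁, i₂⟩ ⟨j₁, j₂⟩
      unfold Bs
      simp_rw [LinearMap.toMatrix_apply', Matrix.blockDiagonal_apply, Basis.coe_reindex,
        Function.comp_apply, Basis.repr_reindex_apply, Equiv.symm_trans_apply, Equiv.prodComm_symm,
        Equiv.prodComm_apply, Equiv.sigmaEquivProd_symm_apply, Prod.swap_prod_mk, Pi.basis_apply,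
        Pi.basis_repr, τ, MonoidHom.coe_mk, OneHom.coe_mk, LinearMap.pi_apply, LinearMap.coe_comp,
        Function.comp_apply, LinearMap.toMatrix_apply', LinearMap.coe_proj, Function.eval,
        Pi.single_apply]
      split_ifs with h <;> simp_all
    rw [Representation.character, LinearMap.trace_eq_matrix_trace ℂ Bs, hmat,
      Matrix.trace_blockDiagonal, Finset.sum_const, Finset.card_univ, Fintype.card_fin,
      ← LinearMap.trace_eq_matrix_trace ℂ b, nsmul_eq_mul]
    rfl
  · show LinearMap.det (LinearMap.pi fun i => (σ g).comp (LinearMap.proj i)) = _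
    rw [LinearMap.det_pi, Finset.prod_const, Finset.card_univ, Fintype.card_fin]

/-- Over a normal subgroup of index prime to `p`, degree and determinantal order stay prime to
`p`. -/
theorem not_dvd_of_over {p : ℕ} [Fact p.Prime] (hidx : ¬ p ∣ N.index) {θ : IrrCharacter N}
    (hinv : ∀ g : X, Blocks.conjIrr N g θ = θ) (hdeg : ¬ p ∣ charDegree (θ : N → ℂ))
    (hdet : ¬ p ∣ detOrder (θ : N → ℂ)) {η : IrrCharacter X}
    (h : classInner (fun n : N => (η : X → ℂ) n) (θ : N → ℂ) ≠ 0) :
    ¬ p ∣ charDegree (η : X → ℂ) ∧ ¬ p ∣ detOrder (η : X → ℂ) := by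
  have hp : p.Prime := Fact.out
  refine ⟨fun hd => ?_, ?_⟩
  · obtain ⟨⟨q, hq⟩, hdiv⟩ := Cfsg.Agent.S0887.result N (η : X → ℂ) η.2 (θ : N → ℂ) θ.2 h
      (charDegree (η : X → ℂ)) (charDegree (θ : N → ℂ)) (Blocks.apply_one_eq_charDegree η)
      (Blocks.apply_one_eq_charDegree θ)
    rw [hq, Nat.mul_div_cancel_left _ (Blocks.charDegree_pos θ)] at hdiv
    rw [hq] at hd
    rcases hp.dvd_mul.1 hd with hd' | hd'
    · exact hdeg hd'
    · exact hidx (hd'.trans hdiv)
  obtain ⟨k, ρ, hρ, hρc⟩ := η.2
  obtain ⟨k', σ, hσ, hσc⟩ := θ.2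
  rw [← hρc, CharExt.detOrder_eq]
  rw [← hσc, CharExt.detOrder_eq] at hdet
  obtain ⟨e, he⟩ := IsChar.classInner_eq_natCast (IsChar.restrict N (IsIrr.isCharacter η.2))
    (IsIrr.isCharacter θ.2)
  obtain ⟨τ, hτc, hτd⟩ := exists_copies σ e
  let ρN : Representation ℂ N (Fin k → ℂ) := ρ.comp N.subtype
  have hchar : ρN.character = τ.character := by
    rw [hτc, hσc, ← he]
    show (fun n : N => ρ.character n) = _
    rw [hρc]
    exact FongInvariant.restrict_eq_smul N hinv h
  have hN' : ∀ n : N, CharExt.detHom ρ (n : X) = CharExt.detHom σ n ^ e := fun n => Units.ext (by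
    rw [Units.val_pow_eq_pow_val, CharExt.detHom_apply, CharExt.detHom_apply, ← hτd,
      ← CharExt.detHom_apply τ, ← CharExt.detHom_eq_of_character_eq ρN τ hchar, CharExt.detHom_apply]
    rfl)
  set μ := CharExt.detHom ρ
  obtain ⟨r, hr, hrp⟩ := Blocks.exists_factorization (p := p) (Nat.card_pos (α := X)).ne'
  refine fun hd => hrp (hd.trans (orderOf_dvd_of_pow_eq_one (MonoidHom.ext fun g => ?_)))
  rw [MonoidHom.pow_apply, ← map_pow, MonoidHom.one_apply]
  set a := (Nat.card X).factorization p
  have hx : (g ^ r) ^ p ^ a = 1 := by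
    rw [← pow_mul, mul_comm, ← hr, pow_card_eq_one']
  have hxN : g ^ r ∈ N := by
    rw [← QuotientGroup.eq_one_iff, ← orderOf_eq_one_iff]
    refine Nat.eq_one_of_dvd_coprimes ((Nat.Coprime.pow_left a)
      ((Nat.Prime.coprime_iff_not_dvd hp).2 hidx)) ?_ ?_
    · exact orderOf_dvd_of_pow_eq_one (by rw [← QuotientGroup.mk_pow, hx, QuotientGroup.mk_one])
    · rw [Subgroup.index_eq_card]
      exact orderOf_dvd_natCard _
  rw [show μ (g ^ r) = μ ((⟨g ^ r, hxN⟩ : N) : X) from rfl, hN']
  have h1 : CharExt.detHom σ ⟨g ^ r, hxN⟩ = 1 := by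
    refine orderOf_eq_one_iff.1 (Nat.eq_one_of_dvd_coprimes ((Nat.Coprime.pow_left a)
      ((Nat.Prime.coprime_iff_not_dvd hp).2 hdet)) ?_ ?_)
    · exact orderOf_dvd_of_pow_eq_one (by
        rw [← map_pow, show (⟨g ^ r, hxN⟩ : N) ^ p ^ a = 1 from Subtype.ext hx, map_one])
    · exact orderOf_dvd_of_pow_eq_one (by
        rw [← MonoidHom.pow_apply, pow_orderOf_eq_one, MonoidHom.one_apply])
  rw [h1, one_pow]

end CfsgLib.Supplement
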