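import Cfsg.Agent.Lib.Char.Weights
import Cfsg.Agent.Lib.Char.Induced
import Mathlib.Algebra.DirectSum.LinearMap
import Mathlib.LinearAlgebra.Dimension.Constructions

/-!
# Imprimitivity: an abelian normal subgroup with non-scalar image forces an induced character
-/

namespace CfsgLib.Clifford

open Module CfsgLib.Char CfsgLib.CharWeights

variable {G : Type*} [Group G]

/-- Induction as a sum over left cosets, for class functions of the subgroup. -/
theorem indFun_eq_sum_quotient [Fintype G] (T : Subgroup G) [Fintype (G ⧸ T)] {ψ : T → ℂ}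
    (hψ : Cfsg.IsClassFunction T ψ) (g : G) :
    Cfsg.indFun T ψ g = ∑ q : G ⧸ T, Cfsg.extendByZero T ψ (q.out⁻¹ * g * q.out) := by
  classical
  have hstep : ∀ (x : G) (t : T), Cfsg.extendByZero T ψ ((x * t)⁻¹ * g * (x * t)) =
      Cfsg.extendByZero T ψ (x⁻¹ * g * x) := by
    intro x t
    have hrw : (x * t)⁻¹ * g * (x * t) = (t : G)⁻¹ * (x⁻¹ * g * x) * t := by group
    rw [hrw]
    by_cases hx : x⁻¹ * g * x ∈ T
    · rw [show (t : G)⁻¹ * (x⁻¹ * g * x) * t = ((t⁻¹ * ⟨_, hx⟩ * t : T) : G) from rfl,
        extendByZero_coe, extendByZero_of_mem T ψ hx]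
      have h := hψ ⟨_, hx⟩ t⁻¹
      rwa [inv_inv] at h
    · rw [extendByZero_of_notMem T ψ hx, extendByZero_of_notMem T ψ]
      intro h
      refine hx ?_
      have h2 := T.mul_mem (T.mul_mem t.2 h) (T.inv_mem t.2)
      rwa [show (t : G) * ((t : G)⁻¹ * (x⁻¹ * g * x) * t) * (t : G)⁻¹ = x⁻¹ * g * x by group] at h2
  have hfib : ∀ q : G ⧸ T, ∑ x ∈ Finset.univ.filter (fun x : G => (x : G ⧸ T) = q),
      Cfsg.extendByZero T ψ (x⁻¹ * g * x) =
      (Nat.card T : ℂ) * Cfsg.extendByZero T ψ (q.out⁻¹ * g * q.out) := by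
    intro q
    have hset : Finset.univ.filter (fun x : G => (x : G ⧸ T) = q) =
        Finset.univ.image (fun t : T => q.out * t) := by
      ext x
      rw [Finset.mem_filter, Finset.mem_image]
      constructor
      · rintro ⟨-, rfl⟩
        refine ⟨⟨(x : G ⧸ T).out⁻¹ * x, QuotientGroup.eq.mp (QuotientGroup.out_eq' _)⟩,
          Finset.mem_univ _, ?_⟩
        simp
      · rintro ⟨t, -, rfl⟩
        exact ⟨Finset.mem_univ _, by rw [QuotientGroup.mk_mul_of_mem _ t.2, QuotientGroup.out_eq']⟩
    rw [hset, Finset.sum_image fun s _ t _ h => Subtype.ext (mul_left_cancel h),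
      Finset.sum_congr rfl (g := fun _ => Cfsg.extendByZero T ψ (q.out⁻¹ * g * q.out)),
      Finset.sum_const, nsmul_eq_mul, Finset.card_univ, Nat.card_eq_fintype_card]
    exact fun t _ => hstep _ _
  rw [Cfsg.indFun, ← Finset.sum_fiberwise Finset.univ (fun x : G => (x : G ⧸ T)),
    Finset.sum_congr rfl fun q _ => hfib q, ← Finset.mul_sum, ← mul_assoc,
    inv_mul_cancel₀ (Nat.cast_ne_zero.mpr Nat.card_pos.ne'), one_mul]

variable [Finite G] {V : Type*} [AddCommGroup V] [Module ℂ V] [FiniteDimensional ℂ V]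

/-- An irreducible representation in which a normal subgroup has commutative, non-scalar image is
induced from an irreducible representation of a proper subgroup. -/
theorem exists_induced_of_not_scalar [Fintype G] (ρ : Representation ℂ G V) [ρ.IsIrreducible]
    (A : Subgroup G) [hA : A.Normal] (hcomm : ∀ a b : A, Commute (ρ (a : G)) (ρ (b : G)))
    (hns : ¬ ∀ a : A, ∃ c : ℂ, ρ (a : G) = c • LinearMap.id) :
    ∃ (T : Subgroup G) (ψ : T → ℂ), T ≠ ⊤ ∧ A ≤ T ∧ Cfsg.IsIrrCharacter T ψ ∧
      ρ.character = Cfsg.indFun T ψ := by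
  classical
  have hVn := CfsgLib.CharIntegral.nontrivial_of_irreducible ρ
  obtain ⟨lam, hlam⟩ : ∃ lam, wspace ρ A lam ≠ ⊥ := by
    by_contra h0
    push Not at h0
    have h := iSup_wspace_of_commute ρ A hcomm
    simp [h0] at h
  let cj : G → A → A := fun g a => ⟨g⁻¹ * (a : G) * g, by
    have h := hA.conj_mem a a.2 g⁻¹
    rwa [inv_inv] at h⟩
  have hcj1 : ∀ a, cj 1 a = a := fun a => Subtype.ext (by simp [cj])
  have hcjm : ∀ g h a, cj h (cj g a) = cj (g * h) a := fun g h a =>
    Subtype.ext (by simp only [cj]; group)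
  let mv : G → A → ℂ := fun g a => lam (cj g a)
  have hmap : ∀ g, ∀ v ∈ wspace ρ A lam, ρ g v ∈ wspace ρ A (mv g) := fun g v hv =>
    apply_mem_wspace ρ A g (fun a => ⟨cj g a, rfl, rfl⟩) hv
  let T : Subgroup G :=
    { carrier := {g | ∀ a, lam (cj g a) = lam a}
      mul_mem' := fun {x y} hx hy a => by rw [← hcjm x y a, hy, hx]
      one_mem' := fun a => by rw [hcj1]
      inv_mem' := fun {x} hx a => by
        have h := hx (cj x⁻¹ a)
        rw [hcjm, inv_mul_cancel, hcj1] at h
        exact h.symm }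
  have hAT : A ≤ T := by
    intro x hx a
    obtain ⟨v, hv, hv0⟩ := (Submodule.ne_bot_iff _).mp hlam
    rw [mem_wspace] at hv
    have h1 := hv (cj x a)
    have h2 : ρ ((cj x a : A) : G) v = lam a • v := by
      have hc := (hcomm a ⟨x, hx⟩).eq
      rw [show ((cj x a : A) : G) = x⁻¹ * ((a : G) * x) by simp [cj, mul_assoc], map_mul, map_mul,
        hc, ← mul_assoc, ← map_mul, inv_mul_cancel, map_one, one_mul]
      exact hv a
    rw [h1] at h2
    exact smul_left_injective ℂ hv0 h2
  set W := wspace ρ A lam with hW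
  have hWT : ∀ t ∈ T, ∀ v ∈ W, ρ t v ∈ W := fun t ht v hv => by
    have h := hmap t v hv
    rwa [show mv t = lam from funext ht] at h
  let σW : Subrepresentation (ρ.comp T.subtype) := ⟨W, fun t v hv => hWT t t.2 v hv⟩
  let σ : Representation ℂ T W := σW.toRepresentation
  have := Fintype.ofFinite (G ⧸ T)
  let B : G ⧸ T → Submodule ℂ V := fun q => W.map (ρ q.out)
  have hBle : ∀ q, B q ≤ wspace ρ A (mv q.out) := by
    rintro q _ ⟨v, hv, rfl⟩
    exact hmap _ v hv
  have hinj : Function.Injective (fun q : G ⧸ T => mv q.out) := by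
    intro q r h
    rw [← QuotientGroup.out_eq' q, ← QuotientGroup.out_eq' r, QuotientGroup.eq]
    intro a
    have h1 := congrFun h (cj q.out⁻¹ a)
    simp only [mv, hcjm, inv_mul_cancel, hcj1] at h1
    exact h1.symm
  have hindep : iSupIndep B :=
    ((iSupIndep_wspace_of_commute ρ A hcomm).comp hinj).mono hBle
  have hstep : ∀ (g : G) (q : G ⧸ T), ∀ v ∈ W,
      ∃ w ∈ W, ρ g (ρ q.out v) = ρ (g • q).out w ∧
        ∀ hq : g • q = q, ∀ ht : q.out⁻¹ * g * q.out ∈ T, w = ρ (q.out⁻¹ * g * q.out) v := by
    intro g q v hv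
    have ht : ((g • q).out)⁻¹ * (g * q.out) ∈ T := by
      rw [← QuotientGroup.eq, QuotientGroup.out_eq']
      conv_lhs => rw [← QuotientGroup.out_eq' q]
      rfl
    refine ⟨ρ (((g • q).out)⁻¹ * (g * q.out)) v, hWT _ ht v hv, ?_, fun hq _ => ?_⟩
    · rw [← Module.End.mul_apply, ← Module.End.mul_apply, ← map_mul, ← map_mul]
      congr 2
      group
    · rw [hq, ← mul_assoc]
  have htop : ⨆ q, B q = ⊤ := by
    refine eq_top_of_invariant ρ _ (fun g v hv => ?_) ?_
    · induction hv using Submodule.iSup_induction' with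
      | mem q x hx =>
        obtain ⟨w, hw, rfl⟩ := hx
        obtain ⟨w', hw', he, -⟩ := hstep g q w hw
        rw [he]
        exact Submodule.mem_iSup_of_mem (g • q) ⟨w', hw', rfl⟩
      | zero => simp
      | add x y _ _ hx hy => rw [map_add]; exact add_mem hx hy
    · intro h
      have hb : B ((1 : G) : G ⧸ T) = ⊥ := le_bot_iff.mp (h ▸ le_iSup B _)
      exact hlam (Submodule.map_injective_of_injective (ρ.apply_bijective _).1
        (hb.trans (Submodule.map_bot _).symm))
  have hint : DirectSum.IsInternal B :=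
    DirectSum.isInternal_submodule_of_iSupIndep_of_iSup_eq_top hindep htop
  let w := finBasis ℂ W
  let e : ∀ q : G ⧸ T, W ≃ₗ[ℂ] B q := fun q =>
    Submodule.equivMapOfInjective (ρ q.out) (ρ.apply_bijective _).1 W
  let b := hint.collectedBasis fun q => w.map (e q)
  have hb : ∀ q i, b ⟨q, i⟩ = ρ q.out (w i : V) := fun q i => by
    simp only [b, DirectSum.IsInternal.collectedBasis_coe, Basis.map_apply, e]
    rfl
  have hchar : ∀ g : G, ρ.character g = Cfsg.indFun T σ.character g := by
    intro g
    rw [indFun_eq_sum_quotient T (isClassFunction_rep σ)]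
    simp only [Representation.character]
    rw [LinearMap.trace_eq_matrix_trace ℂ b, Matrix.trace, Fintype.sum_sigma]
    refine Finset.sum_congr rfl fun q _ => ?_
    by_cases hq : g • q = q
    · have ht : q.out⁻¹ * g * q.out ∈ T := by
        rw [mul_assoc, ← QuotientGroup.eq, QuotientGroup.out_eq']
        conv_lhs => rw [← hq, ← QuotientGroup.out_eq' q]
        rfl
      rw [extendByZero_of_mem T _ ht]
      change _ = LinearMap.trace ℂ W (σ ⟨_, ht⟩)
      rw [LinearMap.trace_eq_matrix_trace ℂ w, Matrix.trace]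
      refine Finset.sum_congr rfl fun i _ => ?_
      simp only [Matrix.diag, LinearMap.toMatrix_apply, hb]
      obtain ⟨u, hu, he, hu2⟩ := hstep g q (w i) (w i).2
      rw [he, hq]
      have hmem : ρ q.out u ∈ B q := ⟨u, hu, rfl⟩
      rw [hint.collectedBasis_repr_of_mem _ hmem, Basis.map_repr]
      have hsym : (e q).symm ⟨ρ q.out u, hmem⟩ = σ ⟨_, ht⟩ (w i) := by
        rw [LinearEquiv.symm_apply_eq]
        exact Subtype.ext (congrArg (ρ q.out) (hu2 hq ht))
      simp only [LinearEquiv.trans_apply, hsym]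
    · rw [extendByZero_of_notMem]
      · refine Finset.sum_eq_zero fun i _ => ?_
        simp only [Matrix.diag, LinearMap.toMatrix_apply, hb]
        obtain ⟨u, hu, he, -⟩ := hstep g q (w i) (w i).2
        rw [he]
        exact hint.collectedBasis_repr_of_mem_ne _ hq ⟨u, hu, rfl⟩
      · intro ht
        rw [mul_assoc, ← QuotientGroup.eq, QuotientGroup.out_eq'] at ht
        refine hq ?_
        conv_rhs => rw [ht]
        conv_lhs => rw [← QuotientGroup.out_eq' q]
        rfl
  have : Nontrivial W := Submodule.nontrivial_iff_ne_bot.mpr hlam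
  have hσ : σ.IsIrreducible := by
    have hnt : Nontrivial (Subrepresentation σ) := by
      refine ⟨⊥, ⊤, fun h => ?_⟩
      exact bot_ne_top (α := Submodule ℂ W) (congrArg Subrepresentation.toSubmodule h)
    refine IsSimpleOrder.mk fun p => ?_
    by_cases hp : p.toSubmodule = ⊥
    · exact Or.inl (Subrepresentation.toSubmodule_injective hp)
    refine Or.inr (Subrepresentation.toSubmodule_injective ?_)
    change p.toSubmodule = ⊤
    let P : Submodule ℂ V := ⨆ q : G ⧸ T, (p.toSubmodule.map W.subtype).map (ρ q.out)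
    have hP : P = ⊤ := by
      refine eq_top_of_invariant ρ _ (fun g v hv => ?_) fun h => hp ?_
      · induction hv using Submodule.iSup_induction' with
        | mem q x hx =>
          obtain ⟨_, ⟨u, hu, rfl⟩, rfl⟩ := hx
          have ht : ((g • q).out)⁻¹ * (g * q.out) ∈ T := by
            rw [← QuotientGroup.eq, QuotientGroup.out_eq']
            conv_lhs => rw [← QuotientGroup.out_eq' q]
            rfl
          refine Submodule.mem_iSup_of_mem (g • q)
            ⟨_, ⟨σ ⟨_, ht⟩ u, p.apply_mem_toSubmodule _ hu, rfl⟩, ?_⟩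
          change ρ (g • q).out (ρ ((g • q).out⁻¹ * (g * q.out)) (u : V)) = ρ g (ρ q.out (u : V))
          rw [← Module.End.mul_apply, ← Module.End.mul_apply, ← map_mul, ← map_mul]
          congr 2
          group
        | zero => simp
        | add x y _ _ hx hy => rw [map_add]; exact add_mem hx hy
      · have hb : (p.toSubmodule.map W.subtype).map (ρ ((1 : G) : G ⧸ T).out) = ⊥ :=
          le_bot_iff.mp (h ▸ le_iSup (fun q : G ⧸ T =>
            (p.toSubmodule.map W.subtype).map (ρ q.out)) _)
        exact Submodule.map_injective_of_injective W.injective_subtype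
          ((Submodule.map_injective_of_injective (ρ.apply_bijective _).1
            (hb.trans (Submodule.map_bot _).symm)).trans (Submodule.map_bot _).symm)
    refine Submodule.eq_top_of_finrank_eq (le_antisymm (Submodule.finrank_le _) ?_)
    let v : (G ⧸ T) × Fin (finrank ℂ p.toSubmodule) → V := fun x =>
      ρ x.1.out ((finBasis ℂ p.toSubmodule x.2 : W) : V)
    have hspan : P ≤ Submodule.span ℂ (Set.range v) := by
      refine iSup_le fun q => ?_
      rintro _ ⟨_, ⟨u, hu, rfl⟩, rfl⟩
      have hu2 := congrArg (fun z : p.toSubmodule => ρ q.out ((z : W) : V))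
        ((finBasis ℂ p.toSubmodule).sum_repr ⟨u, hu⟩)
      simp only [Submodule.coe_sum, Submodule.coe_smul, map_sum, map_smul] at hu2
      change ρ q.out (u : V) ∈ _
      rw [← hu2]
      exact Submodule.sum_mem _ fun i _ =>
        Submodule.smul_mem _ _ (Submodule.subset_span ⟨(q, i), rfl⟩)
    have hfin := finrank_range_le_card (R := ℂ) v
    rw [Set.finrank, show Submodule.span ℂ (Set.range v) = ⊤ from top_le_iff.mp (hP ▸ hspan),
      finrank_top, finrank_eq_card_basis b, Fintype.card_sigma] at hfin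
    simp only [Fintype.card_fin, Finset.sum_const, smul_eq_mul, Fintype.card_prod,
      Finset.card_univ] at hfin
    exact Nat.le_of_mul_le_mul_left hfin Fintype.card_pos
  refine ⟨T, σ.character, ?_, hAT, isIrrCharacter_rep σ, funext hchar⟩
  intro hT
  refine hns fun a => ⟨lam a, ?_⟩
  have hWtop : W = ⊤ := eq_top_of_invariant ρ W (fun g v hv => hWT g (hT ▸ Subgroup.mem_top g) v hv) hlam
  exact LinearMap.ext fun v => (mem_wspace ρ A).mp (show v ∈ W by rw [hWtop]; trivial) a

end CfsgLib.Clifford
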