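import Cfsg.Agent.Lib.Char.Virtual
import Cfsg.Agent.Lib.Char.TI
import Mathlib.GroupTheory.SpecificGroups.Cyclic

/-!
# Artin's induction theorem
-/

namespace CfsgLib.Artin

open CfsgLib.Char

/-- Artin's function: `|G|` on the generators of `G`, zero elsewhere. -/
noncomputable def genFun (G : Type*) [Group G] : G → ℂ :=
  fun x => if orderOf x = Nat.card G then (Nat.card G : ℂ) else 0

/-- Sum over the cyclic subgroups of the induced `genFun`s. -/
theorem sum_indFun_genFun (G : Type*) [Group G] [Fintype G] [Fintype (Subgroup G)]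
    [DecidablePred fun D : Subgroup G => IsCyclic D] :
    ∑ D ∈ Finset.univ.filter (fun D : Subgroup G => IsCyclic D), Cfsg.indFun D (genFun D) =
      fun _ => (Nat.card G : ℂ) := by
  classical
  funext g
  rw [Finset.sum_apply]
  simp only [Cfsg.indFun, Finset.mul_sum]
  rw [Finset.sum_comm]
  have key : ∀ y : G, ∀ D : Subgroup G,
      (Nat.card D : ℂ)⁻¹ * Cfsg.extendByZero D (genFun D) y =
        if Subgroup.zpowers y = D then 1 else 0 := by
    intro y D
    by_cases hy : y ∈ D
    · rw [extendByZero_of_mem D _ hy, genFun]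
      have hiff : orderOf (⟨y, hy⟩ : D) = Nat.card D ↔ Subgroup.zpowers y = D := by
        rw [Subgroup.orderOf_mk, ← Nat.card_zpowers y]
        refine ⟨fun h => ?_, fun h => by rw [h]⟩
        exact Subgroup.eq_of_le_of_card_ge (Subgroup.zpowers_le.mpr hy) h.ge
      by_cases h : Subgroup.zpowers y = D
      · rw [if_pos (hiff.mpr h), if_pos h, inv_mul_cancel₀ (Nat.cast_ne_zero.mpr Nat.card_pos.ne')]
      · rw [if_neg (mt hiff.mp h), if_neg h, mul_zero]
    · rw [extendByZero_of_notMem D _ hy, if_neg (fun h : Subgroup.zpowers y = D =>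
        hy (h ▸ Subgroup.mem_zpowers y)), mul_zero]
  simp only [key, Finset.sum_ite_eq]
  rw [Finset.sum_congr rfl (g := fun _ => (1 : ℂ)), Finset.sum_const, nsmul_eq_mul, mul_one,
    Nat.card_eq_fintype_card, Finset.card_univ]
  intro x _
  rw [if_pos]
  rw [Finset.mem_filter]
  exact ⟨Finset.mem_univ _, Subgroup.isCyclic_zpowers _⟩

/-- Artin's function of a cyclic group is a generalized character. -/
theorem isGen_genFun : ∀ {G : Type*} [Group G] [Finite G], IsCyclic G →
    Cfsg.IsGeneralizedCharacter G (genFun G) := by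
  intro G _ _ hG
  classical
  induction hn : Nat.card G using Nat.strongRecOn generalizing G with
  | ind m ih =>
    have := Fintype.ofFinite G
    have := Fintype.ofFinite (Subgroup G)
    have h := sum_indFun_genFun G
    have htop : (⊤ : Subgroup G) ∈ Finset.univ.filter (fun D : Subgroup G => IsCyclic D) :=
      Finset.mem_filter.mpr ⟨Finset.mem_univ _, isCyclic_of_surjective _
        (Subgroup.topEquiv (G := G)).symm.surjective⟩
    rw [← Finset.add_sum_erase _ _ htop] at h
    have hind : Cfsg.indFun (⊤ : Subgroup G) (genFun (⊤ : Subgroup G)) = genFun G := by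
      funext g
      rw [Cfsg.indFun, Finset.sum_congr rfl (g := fun _ => genFun G g), Finset.sum_const,
        nsmul_eq_mul, Finset.card_univ, Subgroup.card_top, Nat.card_eq_fintype_card, ← mul_assoc,
        inv_mul_cancel₀ (Nat.cast_ne_zero.mpr Fintype.card_ne_zero), one_mul]
      intro x _
      rw [extendByZero_of_mem _ _ (Subgroup.mem_top _), genFun, genFun, Subgroup.orderOf_mk,
        Subgroup.card_top]
      have : orderOf (x⁻¹ * g * x) = orderOf g := by
        have h2 := (MulAut.conj x⁻¹).orderOf_eq g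
        rwa [MulAut.conj_apply, inv_inv] at h2
      rw [this]
    rw [hind, ← eq_sub_iff_add_eq] at h
    rw [h]
    refine IsGen.sub ?_ (IsGen.sum _ _ fun D hD => ?_)
    · have h1 : (fun _ : G => (Nat.card G : ℂ)) = ((Nat.card G : ℤ) : ℂ) • (1 : G → ℂ) := by
        funext x; simp
      rw [h1]
      exact IsGen.intCast_smul _ IsGen.one
    · rw [Finset.mem_erase, Finset.mem_filter] at hD
      refine IsGen.indFun (ih _ ?_ hD.2.2 rfl)
      rw [← hn, lt_iff_le_and_ne]
      exact ⟨D.card_le_card_group, fun h => hD.1 (D.eq_top_of_card_eq h)⟩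

/-- The span of inductions of linear characters of cyclic subgroups. -/
noncomputable def cycSpan (G : Type*) [Group G] [Fintype G] : AddSubgroup (G → ℂ) :=
  AddSubgroup.closure {f | ∃ (A : Subgroup G) (lam : A →* ℂˣ),
    IsCyclic A ∧ f = Cfsg.indFun A fun a => (lam a : ℂ)}

variable {G : Type*} [Group G] [Fintype G]

/-- Projection formula for induction. -/
theorem indFun_mul_classFunction (H : Subgroup G) (f : H → ℂ) {χ : G → ℂ}
    (hχ : Cfsg.IsClassFunction G χ) :
    Cfsg.indFun H f * χ = Cfsg.indFun H (f * fun h : H => χ h) := by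
  funext g
  simp only [Pi.mul_apply, Cfsg.indFun, Finset.mul_sum, Finset.sum_mul]
  refine Finset.sum_congr rfl fun x _ => ?_
  by_cases hx : x⁻¹ * g * x ∈ H
  · rw [extendByZero_of_mem H _ hx, extendByZero_of_mem H _ hx, mul_assoc, Pi.mul_apply]
    have h := hχ g x⁻¹
    rw [inv_inv] at h
    rw [h]
  · rw [extendByZero_of_notMem H _ hx, extendByZero_of_notMem H _ hx]
    ring

theorem indFun_mem_cycSpan (A : Subgroup G) [IsCyclic A] {θ : A → ℂ}
    (hθ : Cfsg.IsGeneralizedCharacter A θ) : Cfsg.indFun A θ ∈ cycSpan G := by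
  classical
  have := Fintype.ofFinite (Cfsg.IrrCharacter A)
  obtain ⟨m, rfl⟩ := IsGen.exists_sum hθ
  rw [indFun_sum]
  refine AddSubgroup.sum_mem _ fun ψ _ => ?_
  rw [indFun_smul, Int.cast_smul_eq_zsmul]
  refine zsmul_mem ?_ _
  obtain ⟨n, ρ, hρ, hψ⟩ := ψ.2
  have : IsMulCommutative A := IsCyclic.isMulCommutative
  have h1 := Representation.IsIrreducible.finrank_eq_one_of_isMulCommutative ρ
  obtain ⟨l, hl⟩ := exists_linear_of_degree_one (isCharacter_rep ρ)
    (by rw [Representation.char_one, h1, Nat.cast_one])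
  exact AddSubgroup.subset_closure ⟨A, l, inferInstance, by rw [← hψ, hl]⟩

/-- Artin's theorem: `|G| χ` lies in the span. -/
theorem card_smul_mem_cycSpan {χ : G → ℂ} (hχ : Cfsg.IsGeneralizedCharacter G χ) :
    (Nat.card G : ℂ) • χ ∈ cycSpan G := by
  classical
  have := Fintype.ofFinite (Subgroup G)
  rw [show (Nat.card G : ℂ) • χ = (fun _ : G => (Nat.card G : ℂ)) * χ by funext g; simp,
    ← sum_indFun_genFun G, Finset.sum_mul]
  refine AddSubgroup.sum_mem _ fun D hD => ?_
  have : IsCyclic D := (Finset.mem_filter.mp hD).2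
  rw [indFun_mul_classFunction D _ (IsGen.isClassFunction hχ)]
  exact indFun_mem_cycSpan D (IsGen.mul (isGen_genFun inferInstance) (IsGen.restrict D hχ))

/-- List form of Artin's theorem. -/
theorem exists_list {χ : G → ℂ} (hχ : Cfsg.IsGeneralizedCharacter G χ) :
    ∃ l : List ((A : Subgroup G) × ((A →* ℂˣ) × ℤ)), (∀ t ∈ l, IsCyclic t.1) ∧
      (Nat.card G : ℂ) • χ =
        (l.map fun t => (t.2.2 : ℂ) • Cfsg.indFun t.1 (fun a => (t.2.1 a : ℂ))).sum := by
  refine AddSubgroup.closure_induction (p := fun f _ =>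
    ∃ l : List ((A : Subgroup G) × ((A →* ℂˣ) × ℤ)), (∀ t ∈ l, IsCyclic t.1) ∧
      f = (l.map fun t => (t.2.2 : ℂ) • Cfsg.indFun t.1 (fun a => (t.2.1 a : ℂ))).sum)
    ?_ ?_ ?_ ?_ (card_smul_mem_cycSpan hχ)
  · rintro _ ⟨A, lam, hA, rfl⟩
    exact ⟨[⟨A, lam, 1⟩], by simpa using hA, by simp⟩
  · exact ⟨[], by simp, by simp⟩
  · rintro a b - - ⟨l, hl, rfl⟩ ⟨l', hl', rfl⟩
    refine ⟨l ++ l', fun t ht => (List.mem_append.mp ht).elim (hl t) (hl' t), ?_⟩
    rw [List.map_append, List.sum_append]
  · rintro a - ⟨l, hl, rfl⟩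
    refine ⟨l.map fun t => ⟨t.1, t.2.1, -t.2.2⟩, fun t ht => ?_, ?_⟩
    · obtain ⟨u, hu, rfl⟩ := List.mem_map.mp ht
      exact hl u hu
    · clear hl
      induction l with
      | nil => simp
      | cons u l ih =>
        simp only [List.map_cons, List.sum_cons, neg_add, ih, Int.cast_neg, neg_smul]

end CfsgLib.Artin
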