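import Mathlib
import Cfsg.Agent.Lib.Char.PowerTwist
import Cfsg.Agent.Lib.CharDegree.Basic
import Cfsg.Agent.Lib.Components.Subnormal
import Cfsg.Agent.Lib.Core.Basic

/-!
# Blichfeldt: a linear group of degree `n` has an abelian Hall subgroup for the primes above `n + 1`

* `exists_commuting`: two such primes dividing the order give commuting elements of those orders (two Galois twists
  of a constituent have differences with disjoint supports).
* `exists_hall`: induction through centralizers and normal subgroups of prime index.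
-/

set_option autoImplicit false
set_option linter.all false

namespace CfsgLib.Blichfeldt

open Cfsg CfsgLib.Char CfsgLib.CharDegree
open scoped ComplexConjugate

variable {G : Type*} [Group G] [Finite G] {χ : G → ℂ}

/-- The irreducible constituents have degree at most that of the character and separate it. -/
theorem apply_eq_one_of_constituents (hχ : IsCharacter G χ) {n : ℕ} (hn : χ 1 = n) {g : G}
    (h : ∀ ψ : IrrCharacter G, charDegree (ψ : G → ℂ) ≤ n → (ψ : G → ℂ) g = (ψ : G → ℂ) 1) : χ g = χ 1 := by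
  classical
  haveI := Fintype.ofFinite G
  haveI := Fintype.ofFinite (IrrCharacter G)
  obtain ⟨m, hm⟩ := IsChar.exists_sum hχ
  have h1 := congrFun hm 1
  rw [hn] at h1
  simp only [Finset.sum_apply, Pi.smul_apply, smul_eq_mul, ← cast_irrDegree] at h1
  have h2 : n = ∑ ψ : IrrCharacter G, m ψ * charDegree (ψ : G → ℂ) := by exact_mod_cast h1
  rw [hm]
  simp only [Finset.sum_apply, Pi.smul_apply, smul_eq_mul]
  refine Finset.sum_congr rfl fun ψ _ => ?_
  rcases Nat.eq_zero_or_pos (m ψ) with h0 | h0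
  · simp [h0]
  · rw [h ψ ?_]
    refine le_trans ?_ (h2.symm ▸ Finset.single_le_sum (fun _ _ => Nat.zero_le _) (Finset.mem_univ ψ))
    exact Nat.le_mul_of_pos_left _ h0

/-- A subgroup of order prime to `(n + 1)!` is abelian. -/
theorem commute_of_large (hχ : IsCharacter G χ) (hf : ∀ g, χ g = χ 1 → g = 1) {n : ℕ} (hn : χ 1 = n) (K : Subgroup G)
    (hK : ∀ q : ℕ, q.Prime → q ∣ Nat.card K → n + 1 < q) : ∀ a ∈ K, ∀ b ∈ K, a * b = b * a := by
  intro a ha b hb
  suffices h : a * b * a⁻¹ * b⁻¹ = 1 by rwa [mul_inv_eq_one, mul_inv_eq_iff_eq_mul] at h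
  refine hf _ ?_
  have key := apply_eq_one_of_constituents (G := K) (IsChar.restrict K hχ) (n := n) (by simpa using hn)
    (g := (⟨a, ha⟩ * ⟨b, hb⟩ * ⟨a, ha⟩⁻¹ * ⟨b, hb⟩⁻¹ : K)) fun ψ hψ => ?_
  · simpa using key
  have h1 : charDegree (ψ : K → ℂ) = 1 := by
    by_contra h1
    obtain ⟨r, hr, hrd⟩ := Nat.exists_prime_and_dvd h1
    have h2 := hK r hr (hrd.trans (charDegree_dvd_card ψ))
    have h3 := Nat.le_of_dvd (charDegree_pos ψ) hrd
    omega
  obtain ⟨l, hl⟩ := exists_linear_of_degree_one (IsIrr.isCharacter ψ.2) ((charDegree_eq_one_iff ψ).1 h1)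
  rw [hl]
  show (l _ : ℂ) = (l 1 : ℂ)
  rw [map_mul, map_mul, map_mul, map_inv, map_inv, map_one, mul_comm (l ⟨a, ha⟩), mul_inv_cancel_right, mul_inv_cancel]

/-- A constituent fixed by the twists at `p` is trivial on elements of order `p`. -/
theorem apply_eq_one_of_fixed {p : ℕ} [hp : Fact p.Prime] (ψ : IrrCharacter G)
    (hdeg : charDegree (ψ : G → ℂ) + 1 < p) {x : G} (hx : orderOf x = p)
    (hfix : ∀ k : ℕ, 0 < k → k < p → (ψ : G → ℂ) (x ^ k) = (ψ : G → ℂ) x) : (ψ : G → ℂ) x = (ψ : G → ℂ) 1 := by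
  classical
  haveI := Fintype.ofFinite G
  set Z := Subgroup.zpowers x
  haveI := Fintype.ofFinite (IrrCharacter Z)
  haveI := Fintype.ofFinite Z
  set d := charDegree (ψ : G → ℂ) with hd
  have hres : IsCharacter Z fun z : Z => (ψ : G → ℂ) z := IsChar.restrict Z (IsIrr.isCharacter ψ.2)
  obtain ⟨m, hm⟩ := IsChar.exists_sum hres
  let one : IrrCharacter Z := ⟨fun _ => 1, isIrrCharacter_one⟩
  set k := m one with hk
  have hsum : classInner (fun z : Z => (ψ : G → ℂ) z) (one : Z → ℂ) = k := by rw [hm, classInner_sum_irr]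
  have hcard : Nat.card Z = p := by rw [Nat.card_zpowers, hx]
  have hZsum : ∑ z : Z, (ψ : G → ℂ) z = (d : ℂ) + ((p - 1 : ℕ) : ℂ) * (ψ : G → ℂ) x := by
    rw [← (finEquivZPowers (isOfFinOrder_of_finite x)).sum_comp]
    simp only [finEquivZPowers_apply]
    rw [Fin.sum_univ_eq_sum_range (fun i => (ψ : G → ℂ) (x ^ i)), hx,
      show p = p - 1 + 1 by have := hp.out.two_le; omega, Finset.sum_range_succ',
      Finset.sum_congr rfl (g := fun _ => (ψ : G → ℂ) x) (fun i hi => hfix _ (by omega) (by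
        have := Finset.mem_range.1 hi; omega)),
      Finset.sum_const, Finset.card_range, nsmul_eq_mul, pow_zero, ← cast_irrDegree, ← hd,
      show p - 1 + 1 - 1 = p - 1 by omega]
    ring
  have heq : (p : ℂ) * k = (d : ℂ) + ((p - 1 : ℕ) : ℂ) * (ψ : G → ℂ) x := by
    rw [← hsum, classInner, hcard, ← mul_assoc, mul_inv_cancel₀ (Nat.cast_ne_zero.2 hp.out.ne_zero), one_mul, ← hZsum]
    simp [one]
  have hkd : k ≤ d := by
    have h1 := congrFun hm 1
    simp only [OneMemClass.coe_one, Finset.sum_apply, Pi.smul_apply, smul_eq_mul, ← cast_irrDegree] at h1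
    have h2 : d = ∑ φ : IrrCharacter Z, m φ * charDegree (φ : Z → ℂ) := by rw [hd]; exact_mod_cast h1
    rw [h2]
    refine le_trans ?_ (Finset.single_le_sum (fun _ _ => Nat.zero_le _) (Finset.mem_univ one))
    show k ≤ m one * charDegree (fun _ : Z => (1 : ℂ))
    rw [charDegree_one, mul_one]
  have hp1 : ((p - 1 : ℕ) : ℂ) ≠ 0 := Nat.cast_ne_zero.2 (by have := hp.out.two_le; omega)
  have hq : (ψ : G → ℂ) x = algebraMap ℚ ℂ (((p : ℚ) * k - d) / ((p - 1 : ℕ) : ℚ)) := by
    rw [map_div₀, map_sub, map_mul, map_natCast, map_natCast, map_natCast, map_natCast, eq_div_iff hp1, heq]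
    ring
  obtain ⟨n₀, ρ, -, hρ, -⟩ := exists_rep ψ
  have hint : IsIntegral ℤ ((ψ : G → ℂ) x) := hρ ▸ CfsgLib.CharIntegral.isIntegral_character (ρ := ρ) (g := x)
  rw [hq, isIntegral_algebraMap_iff (algebraMap ℚ ℂ).injective] at hint
  obtain ⟨c, hc⟩ := IsIntegrallyClosed.isIntegral_iff.1 hint
  rw [eq_intCast, eq_div_iff (Nat.cast_ne_zero.2 (by have := hp.out.two_le; omega))] at hc
  have hc' : c * ((p - 1 : ℕ) : ℤ) = (p : ℤ) * k - d := by exact_mod_cast hc
  have hdiv : ((p - 1 : ℕ) : ℤ) ∣ ((d - k : ℕ) : ℤ) := ⟨(k : ℤ) - c, by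
    push_cast [Nat.cast_sub hkd, Nat.cast_sub hp.out.one_le]
    push_cast [Nat.cast_sub hp.out.one_le] at hc'
    linear_combination hc'⟩
  have hz : d - k = 0 := Nat.eq_zero_of_dvd_of_lt (Int.natCast_dvd_natCast.1 hdiv) (by omega)
  have hdk : k = d := by omega
  rw [hdk] at heq
  rw [← cast_irrDegree, ← hd]
  refine mul_left_cancel₀ hp1 ?_
  rw [Nat.cast_sub hp.out.one_le, Nat.cast_one] at heq ⊢
  linear_combination -heq

/-- Two large primes dividing the order give commuting elements. -/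
theorem exists_commuting (hχ : IsCharacter G χ) (hf : ∀ g, χ g = χ 1 → g = 1) {n : ℕ} (hn : χ 1 = n) {p q : ℕ}
    (hp : p.Prime) (hq : q.Prime) (hpn : n + 1 < p) (hqn : n + 1 < q) (hpq : p ≠ q) (hpd : p ∣ Nat.card G)
    (hqd : q ∣ Nat.card G) : ∃ x y : G, orderOf x = p ∧ orderOf y = q ∧ x * y = y * x := by
  classical
  by_contra hno
  push Not at hno
  haveI := Fintype.ofFinite G
  haveI := Fintype.ofFinite (IrrCharacter G)
  haveI := Fact.mk hp
  haveI := Fact.mk hq
  set g := Nat.card G with hg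
  have hg0 : g ≠ 0 := Nat.card_pos.ne'
  -- no element has order divisible by both primes
  have hnot : ∀ z : G, ¬ (p ∣ orderOf z ∧ q ∣ orderOf z) := by
    rintro z ⟨h1, h2⟩
    exact hno (z ^ (orderOf z / p)) (z ^ (orderOf z / q)) (orderOf_pow_orderOf_div (orderOf_pos z).ne' h1)
      (orderOf_pow_orderOf_div (orderOf_pos z).ne' h2) (Commute.pow_pow_self z _ _).eq
  -- twists at a prime
  have htwist : ∀ r : ℕ, r.Prime → ∀ k, 0 < k → k < r → ∃ m : ℕ, m.Coprime g ∧
      (∀ z : G, ¬ r ∣ orderOf z → z ^ m = z) ∧ (∀ z : G, orderOf z = r → z ^ m = z ^ k) := by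
    intro r hr k hk hkr
    set a := g.factorization r
    set g' := g / r ^ a with hg'
    have hcop : (r ^ a).Coprime g' := (Nat.coprime_ordCompl hr hg0).pow_left _
    obtain ⟨m, hm1, hm2⟩ := Nat.chineseRemainder hcop k 1
    have hprod : r ^ a * g' = g := Nat.ordProj_mul_ordCompl_eq_self g r
    refine ⟨m, ?_, ?_, ?_⟩
    · rw [← hprod]
      refine Nat.Coprime.mul_right ?_ ?_
      · rcases Nat.eq_zero_or_pos a with h0 | h0
        · rw [h0, pow_zero]; exact Nat.coprime_one_right m
        · refine Nat.Coprime.pow_right _ (Nat.Coprime.symm ((hr.coprime_iff_not_dvd).2 fun hd => ?_))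
          have h3 : m ≡ k [MOD r] := hm1.of_dvd (dvd_pow_self r h0.ne')
          have h4 : r ∣ k := Nat.modEq_zero_iff_dvd.1 (h3.symm.trans (Nat.modEq_zero_iff_dvd.2 hd))
          exact absurd (Nat.le_of_dvd hk h4) (by omega)
      · rw [Nat.Coprime, hm2.gcd_eq, Nat.gcd_one_left]
    · intro z hz
      have h1 : orderOf z ∣ g' := by
        have h2 : orderOf z ∣ r ^ a * g' := hprod ▸ orderOf_dvd_natCard z
        exact (Nat.Coprime.pow_right a ((hr.coprime_iff_not_dvd.2 hz).symm)).dvd_of_dvd_mul_left h2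
      conv_rhs => rw [← pow_one z]
      exact pow_eq_pow_iff_modEq.2 (hm2.of_dvd h1)
    · intro z hz
      refine pow_eq_pow_iff_modEq.2 (hm1.of_dvd ?_)
      rw [hz]
      exact dvd_pow_self r (hr.factorization_pos_of_dvd hg0 (hz ▸ orderOf_dvd_natCard z)).ne'
  -- each constituent kills the elements of one of the orders
  have hkill : ∀ ψ : IrrCharacter G, charDegree (ψ : G → ℂ) ≤ n →
      (∀ x, orderOf x = p → (ψ : G → ℂ) x = (ψ : G → ℂ) 1) ∨
      (∀ y, orderOf y = q → (ψ : G → ℂ) y = (ψ : G → ℂ) 1) := by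
    intro ψ hψ
    by_contra hboth
    push Not at hboth
    obtain ⟨⟨x, hx, hxψ⟩, y, hy, hyψ⟩ := hboth
    obtain ⟨k, hk, hkp, hkx⟩ : ∃ k, 0 < k ∧ k < p ∧ (ψ : G → ℂ) (x ^ k) ≠ (ψ : G → ℂ) x := by
      by_contra! h
      exact hxψ (apply_eq_one_of_fixed ψ (by omega) hx h)
    obtain ⟨l, hl, hlq, hly⟩ : ∃ l, 0 < l ∧ l < q ∧ (ψ : G → ℂ) (y ^ l) ≠ (ψ : G → ℂ) y := by
      by_contra! h
      exact hyψ (apply_eq_one_of_fixed ψ (by omega) hy h)
    obtain ⟨m, hm, hm1, hm2⟩ := htwist p hp k hk hkp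
    obtain ⟨m', hm', hm1', hm2'⟩ := htwist q hq l hl hlq
    let ψ₁ : IrrCharacter G := ⟨_, isIrrCharacter_pow ψ.2 hm⟩
    let ψ₂ : IrrCharacter G := ⟨_, isIrrCharacter_pow ψ.2 hm'⟩
    have h1 : ψ₁ ≠ ψ := fun e => hkx (by
      have := congrFun (congrArg Subtype.val e) x
      simpa [ψ₁, hm2 x hx] using this)
    have h2 : ψ₂ ≠ ψ := fun e => hly (by
      have := congrFun (congrArg Subtype.val e) y
      simpa [ψ₂, hm2' y hy] using this)
    have h0 : ∀ z, ((ψ₁ : G → ℂ) z - (ψ : G → ℂ) z) * conj ((ψ₂ : G → ℂ) z - (ψ : G → ℂ) z) = 0 := by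
      intro z
      by_cases hzp : p ∣ orderOf z
      · have : (ψ₂ : G → ℂ) z = (ψ : G → ℂ) z := congrArg _ (hm1' z fun h => hnot z ⟨hzp, h⟩)
        simp [this]
      · have : (ψ₁ : G → ℂ) z = (ψ : G → ℂ) z := congrArg _ (hm1 z hzp)
        simp [this]
    have hinner : classInner (ψ₁ : G → ℂ) (ψ₂ : G → ℂ) - classInner (ψ₁ : G → ℂ) (ψ : G → ℂ) -
        classInner (ψ : G → ℂ) (ψ₂ : G → ℂ) + classInner (ψ : G → ℂ) (ψ : G → ℂ) = 0 := by
      simp only [classInner, ← mul_sub, ← mul_add, ← Finset.sum_sub_distrib, ← Finset.sum_add_distrib]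
      rw [Finset.sum_eq_zero, mul_zero]
      intro z _
      rw [← h0 z, map_sub]
      ring
    rw [classInner_irr, classInner_irr, classInner_irr, classInner_irr_self, if_neg h1, if_neg h2.symm] at hinner
    split_ifs at hinner <;> norm_num at hinner
  obtain ⟨x, hx⟩ := exists_prime_orderOf_dvd_card' p hpd
  obtain ⟨y, hy⟩ := exists_prime_orderOf_dvd_card' q hqd
  refine hno x y hx hy ?_
  suffices h : x * y * x⁻¹ * y⁻¹ = 1 by rwa [mul_inv_eq_one, mul_inv_eq_iff_eq_mul] at h
  refine hf _ (apply_eq_one_of_constituents hχ hn fun ψ hψ => ?_)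
  haveI := kerSubgroup_normal ψ
  rw [← mem_kerSubgroup]
  rcases hkill ψ hψ with h | h
  · have hmem : x ∈ kerSubgroup ψ := mem_kerSubgroup.2 (h x hx)
    rw [show x * y * x⁻¹ * y⁻¹ = x * (y * x⁻¹ * y⁻¹) by group]
    exact mul_mem hmem (Subgroup.Normal.conj_mem inferInstance _ (inv_mem hmem) y)
  · have hmem : y ∈ kerSubgroup ψ := mem_kerSubgroup.2 (h y hy)
    exact mul_mem (Subgroup.Normal.conj_mem inferInstance _ hmem x) (inv_mem hmem)

/-- A central element of large prime order lies outside a normal subgroup of index that prime. -/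
theorem exists_index_eq (hχ : IsCharacter G χ) (hf : ∀ g, χ g = χ 1 → g = 1) {n : ℕ} (hn : χ 1 = n) {q : ℕ}
    [hq : Fact q.Prime] (hqn : n < q) {z : G} (hz : orderOf z = q) (hzc : z ∈ Subgroup.center G) :
    ∃ N : Subgroup G, N.Normal ∧ N.index = q := by
  classical
  obtain ⟨ψ, hψn, hψz⟩ : ∃ ψ : IrrCharacter G, charDegree (ψ : G → ℂ) ≤ n ∧ (ψ : G → ℂ) z ≠ (ψ : G → ℂ) 1 := by
    by_contra! h
    exact (orderOf_eq_one_iff.2 (hf z (apply_eq_one_of_constituents hχ hn h))).symm.trans hz |>.not_lt hq.out.one_lt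
  obtain ⟨d, σ, hσ, hσψ, hd⟩ := exists_rep ψ
  obtain ⟨ω, hω⟩ := CfsgLib.CharIntegral.exists_scalar_of_commute σ (σ z) fun x => by
    rw [← map_mul, ← map_mul, Subgroup.mem_center_iff.1 hzc x]
  have hd0 : 0 < d := hd ▸ charDegree_pos ψ
  let det : G →* ℂˣ := (LinearMap.det.comp σ).toHomUnits
  have hdet : (det z : ℂ) = ω ^ d := by
    show LinearMap.det (σ z) = _
    rw [hω, LinearMap.det_smul, LinearMap.det_id, mul_one, Module.finrank_fin_fun]
  haveI : Nonempty (Fin d) := ⟨⟨0, hd0⟩⟩
  have hωq : ω ^ q = 1 := by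
    have h1 : (σ z) ^ q = 1 := by rw [← map_pow, ← hz, pow_orderOf_eq_one, map_one]
    rw [hω, smul_pow, show (LinearMap.id : (Fin d → ℂ) →ₗ[ℂ] _) = 1 from rfl, one_pow] at h1
    obtain ⟨v, hv⟩ := exists_ne (0 : Fin d → ℂ)
    exact smul_left_injective ℂ hv ((LinearMap.congr_fun h1 v).trans (one_smul ℂ v).symm)
  have hω1 : ω ≠ 1 := fun e => hψz (by
    rw [← hσψ, Representation.char_one, Representation.character, hω, e, one_smul,
      show (LinearMap.id : (Fin d → ℂ) →ₗ[ℂ] _) = 1 from rfl, LinearMap.trace_one])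
  have hdetne : det z ≠ 1 := by
    intro e
    have h1 : ω ^ d = 1 := by rw [← hdet, e, Units.val_one]
    have h2 := Nat.Coprime.gcd_eq_one (hq.out.coprime_iff_not_dvd.2 fun h => by
      have := Nat.le_of_dvd hd0 h; omega : q.Coprime d)
    have h3 := pow_gcd_eq_one.2 ⟨hωq, h1⟩
    rw [h2, pow_one] at h3
    exact hω1 h3
  -- a power of `det` has image of order `q`
  haveI : Finite det.range := Finite.of_surjective det.rangeRestrict det.rangeRestrict_surjective
  obtain ⟨⟨t, htR⟩, ht⟩ := IsCyclic.exists_generator (α := det.range)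
  obtain ⟨a, rfl⟩ := htR
  have hao : 0 < orderOf (det a) := (det.isOfFinOrder (isOfFinOrder_of_finite a)).orderOf_pos
  have hqdvd : q ∣ orderOf (det a) := by
    have h1 : orderOf (det z) = q := orderOf_eq_prime (by
      rw [← map_pow, ← hz, pow_orderOf_eq_one, map_one]) hdetne
    obtain ⟨j, hj⟩ := Subgroup.mem_zpowers_iff.1 (ht ⟨det z, z, rfl⟩)
    have h2 : det z ∈ Subgroup.zpowers (det a) := ⟨j, congrArg Subtype.val hj⟩
    refine h1 ▸ orderOf_dvd_of_pow_eq_one ?_
    obtain ⟨i, hi⟩ := h2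
    rw [← hi, ← zpow_natCast, ← zpow_mul, mul_comm, zpow_mul, zpow_natCast, pow_orderOf_eq_one, one_zpow]
  let φ : G →* ℂˣ := (powMonoidHom (orderOf (det a) / q)).comp det
  have hrange : Nat.card φ.range = q := by
    haveI : NeZero q := ⟨hq.out.ne_zero⟩
    have h1 : φ.range ≤ rootsOfUnity q ℂ := by
      rintro _ ⟨b, rfl⟩
      rw [mem_rootsOfUnity]
      show (det b ^ (orderOf (det a) / q)) ^ q = 1
      rw [← pow_mul, Nat.div_mul_cancel hqdvd]
      obtain ⟨j, hj⟩ := Subgroup.mem_zpowers_iff.1 (ht ⟨det b, b, rfl⟩)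
      have h2 : det a ^ j = det b := congrArg Subtype.val hj
      rw [← h2, ← zpow_natCast, ← zpow_mul, mul_comm, zpow_mul, zpow_natCast, pow_orderOf_eq_one, one_zpow]
    have h3 := Subgroup.card_dvd_of_le h1
    rw [HasEnoughRootsOfUnity.natCard_rootsOfUnity] at h3
    refine ((Nat.dvd_prime hq.out).1 h3).resolve_left fun h4 => ?_
    have h5 : φ a ∈ (⊥ : Subgroup ℂˣ) := Subgroup.card_eq_one.1 h4 ▸ ⟨a, rfl⟩
    have h6 := orderOf_dvd_of_pow_eq_one (Subgroup.mem_bot.1 h5 : det a ^ (orderOf (det a) / q) = 1)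
    have h7 := Nat.le_of_dvd (Nat.div_pos (Nat.le_of_dvd hao hqdvd) hq.out.pos) h6
    have h8 := Nat.div_lt_self hao hq.out.one_lt
    omega
  exact ⟨φ.ker, inferInstance, by rw [Subgroup.index_ker, hrange]⟩

/-- `A` is an abelian Hall subgroup for the primes above `n + 1`. -/
def IsHallLarge {G : Type*} [Group G] (n : ℕ) (A : Subgroup G) : Prop :=
  (∀ x ∈ A, ∀ y ∈ A, x * y = y * x) ∧ (∀ q : ℕ, q.Prime → q ∣ Nat.card A → n + 1 < q) ∧
    ∀ q : ℕ, q.Prime → q ∣ A.index → q ≤ n + 1

theorem exists_hall : ∀ {G : Type*} [Group G] [Finite G] {χ : G → ℂ}, IsCharacter G χ →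
    (∀ g, χ g = χ 1 → g = 1) → ∀ {n : ℕ}, χ 1 = n → ∃ A : Subgroup G, IsHallLarge n A := by
  intro G _ _ χ hχ hf n hn
  induction hc : Nat.card G using Nat.strongRecOn generalizing G χ with
  | ind c ih =>
    classical
    subst hc
    -- abelian Hall subgroups of proper subgroups
    have hsub : ∀ K : Subgroup G, K ≠ ⊤ → ∃ A : Subgroup G, A ≤ K ∧ (∀ x ∈ A, ∀ y ∈ A, x * y = y * x) ∧
        (∀ q : ℕ, q.Prime → q ∣ Nat.card A → n + 1 < q) ∧
        ∀ q : ℕ, q.Prime → n + 1 < q → ¬ q ∣ A.relIndex K := by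
      intro K hK
      have hlt : Nat.card K < Nat.card G :=
        lt_of_le_of_ne K.card_le_card_group fun h => hK (K.eq_top_of_card_eq h)
      obtain ⟨A, hA1, hA2, hA3⟩ := ih _ hlt (G := K) (IsChar.restrict K hχ)
        (fun g h => Subtype.ext (hf g (by simpa using h))) (by simpa using hn) rfl
      refine ⟨A.map K.subtype, Subgroup.map_subtype_le A, ?_, ?_, ?_⟩
      · rintro _ ⟨x, hx, rfl⟩ _ ⟨y, hy, rfl⟩
        exact congrArg Subtype.val (hA1 x hx y hy)
      · intro q hq hd
        rw [Subgroup.card_map_of_injective K.subtype_injective] at hd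
        exact hA2 q hq hd
      · intro q hq hqn hd
        rw [Subgroup.relIndex, Subgroup.subgroupOf, Subgroup.comap_map_eq_self_of_injective K.subtype_injective] at hd
        have := hA3 q hq hd
        omega
    have hup : ∀ {A K : Subgroup G}, A ≤ K → ∀ {q : ℕ}, q.Prime → ¬ q ∣ A.relIndex K → ¬ q ∣ K.index →
        ¬ q ∣ A.index := fun h q hq a b => Subgroup.relIndex_mul_index h ▸ hq.not_dvd_mul a b
    have hlarge : ∀ (A : Subgroup G), (∀ x ∈ A, ∀ y ∈ A, x * y = y * x) → ∀ {p : ℕ} [Fact p.Prime],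
        ¬ p ∣ A.index → ∃ P : Sylow p G, (P : Subgroup G) ≤ A ∧ A ≤ Subgroup.centralizer (P : Set G) := by
      intro A hA p _ hp
      obtain ⟨S⟩ : Nonempty (Sylow p A) := inferInstance
      have h1 : IsPGroup p ((S : Subgroup A).map A.subtype) := S.2.map _
      have h2 : ¬ p ∣ ((S : Subgroup A).map A.subtype).index := by
        rw [Subgroup.index_map_subtype]
        exact (Fact.out : p.Prime).not_dvd_mul S.not_dvd_index hp
      refine ⟨h1.toSylow h2, Subgroup.map_subtype_le _, fun a ha => Subgroup.mem_centralizer_iff.2 fun x hx => ?_⟩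
      exact hA x (Subgroup.map_subtype_le _ hx) a ha
    -- normal subgroups of large prime index
    have hnorm : ∀ (z : G) {q : ℕ} [Fact q.Prime], n + 1 < q → orderOf z = q → z ∈ Subgroup.center G →
        ∀ {p : ℕ} [Fact p.Prime], n + 1 < p → p ≠ q →
          ∃ A : Subgroup G, (∀ x ∈ A, ∀ y ∈ A, x * y = y * x) ∧ ¬ p ∣ A.index ∧ ¬ q ∣ A.index := by
      intro z q _ hqn hz hzc p _ hpn hpq
      obtain ⟨N, hN, hNi⟩ := exists_index_eq hχ hf hn (by omega) hz hzc
      haveI := hN
      obtain ⟨A, hAN, hA1, hA2, hA3⟩ := hsub N fun h => by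
        rw [h, Subgroup.index_top] at hNi
        exact (Fact.out : q.Prime).ne_one hNi.symm
      have hpN : ¬ p ∣ N.index := by
        rw [hNi]
        exact fun h => hpq ((Nat.prime_dvd_prime_iff_eq Fact.out Fact.out).1 h)
      obtain ⟨P, hPA, hAP⟩ := hlarge A hA1 (hup hAN Fact.out (hA3 p Fact.out hpn) hpN)
      have hPN : (P : Subgroup G) ≤ N := hPA.trans hAN
      set K := Subgroup.normalizer ((P : Subgroup G) : Set G)
      have hKN : N ⊔ K = ⊤ := by
        rw [sup_comm]
        have e := Sylow.normalizer_sup_eq_top (N := N) (P.subtype hPN)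
        rwa [Sylow.coe_subtype, Subgroup.subgroupOf_map_subtype, inf_eq_left.2 hPN] at e
      have hKq : ¬ q ∣ K.index := by
        intro h
        have e : K.index = K.relIndex N := by
          have h1 := CfsgLib.Core.card_sup_mul_card_inf K N (by rw [Subgroup.normalizer_eq_top]; exact le_top)
          rw [sup_comm, hKN, Subgroup.card_top, ← K.card_mul_index,
            ← Subgroup.card_mul_index ((K ⊓ N).subgroupOf N),
            Nat.card_congr (Subgroup.subgroupOfEquivOfLe (inf_le_right : K ⊓ N ≤ N)).toEquiv, mul_assoc] at h1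
          have h2 := Nat.eq_of_mul_eq_mul_left Nat.card_pos h1
          rw [mul_comm K.index] at h2
          have h3 := Nat.eq_of_mul_eq_mul_left Nat.card_pos h2
          rw [h3, ← Subgroup.inf_relIndex_right]
          rfl
        rw [e] at h
        have hqN : ¬ q ∣ A.relIndex N := hA3 q Fact.out hqn
        exact hqN (h.trans (Subgroup.relIndex_dvd_of_le_left N (hAP.trans (Subgroup.centralizer_le_normalizer _))))
      obtain ⟨Q⟩ : Nonempty (Sylow q K) := inferInstance
      let Q' := (Q : Subgroup K).map K.subtype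
      have hQK : Q' ≤ K := Subgroup.map_subtype_le _
      refine ⟨(P : Subgroup G) ⊔ Q', commute_of_large hχ hf hn _ fun r hr hd => ?_, ?_, ?_⟩
      · obtain ⟨i, hi⟩ := P.2.exists_card_eq
        obtain ⟨j, hj⟩ := (Q.2.map K.subtype).exists_card_eq
        have h1 : r ∣ p ^ i * q ^ j := by
          rw [← hi, ← hj]
          exact hd.trans (CfsgLib.Components.card_sup_dvd_mul hQK)
        rcases hr.dvd_mul.1 h1 with h | h
        · rw [(Nat.prime_dvd_prime_iff_eq hr Fact.out).1 (hr.dvd_of_dvd_pow h)]; exact hpn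
        · rw [(Nat.prime_dvd_prime_iff_eq hr Fact.out).1 (hr.dvd_of_dvd_pow h)]; exact hqn
      · exact fun h => P.not_dvd_index (h.trans (Subgroup.index_dvd_of_le le_sup_left))
      · intro h
        have h1 := h.trans (Subgroup.index_dvd_of_le (le_sup_right (a := (P : Subgroup G))))
        rw [Subgroup.index_map_subtype] at h1
        exact (Fact.out : q.Prime).not_dvd_mul Q.not_dvd_index hKq h1
    by_cases hp0 : ∃ p : ℕ, p.Prime ∧ n + 1 < p ∧ p ∣ Nat.card G
    swap
    · push Not at hp0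
      refine ⟨⊥, by simp, fun q hq h => absurd (by simpa using h) hq.not_dvd_one, fun q hq h => ?_⟩
      rw [Subgroup.index_bot] at h
      by_contra hlt
      exact hp0 q hq (by omega) h
    obtain ⟨p, hp, hpn, hpd⟩ := hp0
    haveI := Fact.mk hp
    -- for every other large prime a commuting pair of full Sylow subgroups
    have hpair : ∀ q : ℕ, q.Prime → n + 1 < q → q ∣ Nat.card G → q ≠ p →
        ∃ A : Subgroup G, (∀ x ∈ A, ∀ y ∈ A, x * y = y * x) ∧ ¬ p ∣ A.index ∧ ¬ q ∣ A.index := by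
      intro q hq hqn hqd hqp
      haveI := Fact.mk hq
      obtain ⟨x, y, hx, hy, hxy⟩ := exists_commuting hχ hf hn hp hq hpn hqn hqp.symm hpd hqd
      -- a Sylow subgroup lies in the centralizer of each of its elements
      have hfull : ∀ {r : ℕ} [Fact r.Prime], n + 1 < r → ∀ w : G, orderOf w = r →
          ¬ r ∣ (Subgroup.centralizer ({w} : Set G)).index := by
        intro r _ hr w hw h
        obtain ⟨S, hS⟩ := IsPGroup.exists_le_sylow (p := r) (P := Subgroup.zpowers w)
          (IsPGroup.of_card (n := 1) (by rw [Nat.card_zpowers, hw, pow_one]))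
        have hle : (S : Subgroup G) ≤ Subgroup.centralizer ({w} : Set G) := fun s hs =>
          Subgroup.mem_centralizer_singleton_iff.2 (commute_of_large hχ hf hn (S : Subgroup G) (fun t ht hd => by
            obtain ⟨i, hi⟩ := S.2.exists_card_eq
            rw [hi] at hd
            rw [(Nat.prime_dvd_prime_iff_eq ht Fact.out).1 (ht.dvd_of_dvd_pow hd)]; exact hr)
            s hs w (hS (Subgroup.mem_zpowers w)))
        exact S.not_dvd_index (h.trans (Subgroup.index_dvd_of_le hle))
      by_cases hxc : x ∈ Subgroup.center G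
      · obtain ⟨A, hA1, hA2, hA3⟩ := hnorm x hpn hx hxc hqn hqp
        exact ⟨A, hA1, hA3, hA2⟩
      obtain ⟨H, hHC, hH1, hH2, hH3⟩ := hsub (Subgroup.centralizer ({x} : Set G)) fun h => hxc (by
        rw [Subgroup.centralizer_eq_top_iff_subset] at h
        exact h rfl)
      obtain ⟨P, hPH, hHP⟩ := hlarge H hH1 (hup hHC hp (hH3 p hp hpn) (hfull hpn x hx))
      obtain ⟨z, hz, hzH⟩ : ∃ z, orderOf z = q ∧ z ∈ H := by
        have hqC : q ∣ Nat.card (Subgroup.centralizer ({x} : Set G)) := hy ▸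
          Subgroup.orderOf_dvd_natCard _ (Subgroup.mem_centralizer_singleton_iff.2 hxy.symm)
        have hqH : q ∣ Nat.card H := by
          rw [← Subgroup.card_mul_index (H.subgroupOf (Subgroup.centralizer ({x} : Set G)))] at hqC
          rcases hq.dvd_mul.1 hqC with h | h
          · rwa [Nat.card_congr (Subgroup.subgroupOfEquivOfLe hHC).toEquiv] at h
          · exfalso
            exact hH3 q hq hqn h
        obtain ⟨z, hz⟩ := exists_prime_orderOf_dvd_card' q hqH
        exact ⟨z, by rwa [Subgroup.orderOf_coe], z.2⟩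
      by_cases hzc : z ∈ Subgroup.center G
      · exact hnorm z hqn hz hzc hpn hqp.symm
      obtain ⟨A, hAC, hA1, hA2, hA3⟩ := hsub (Subgroup.centralizer ({z} : Set G)) fun h => hzc (by
        rw [Subgroup.centralizer_eq_top_iff_subset] at h
        exact h rfl)
      have hPz : (P : Subgroup G) ≤ Subgroup.centralizer ({z} : Set G) := fun a ha =>
        Subgroup.mem_centralizer_singleton_iff.2 (hH1 a (hPH ha) z hzH)
      exact ⟨A, hA1, hup hAC hp (hA3 p hp hpn) fun h => P.not_dvd_index (h.trans (Subgroup.index_dvd_of_le hPz)),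
        hup hAC hq (hA3 q hq hqn) (hfull hqn z hz)⟩
    -- the centralizer of a Sylow subgroup
    obtain ⟨P⟩ : Nonempty (Sylow p G) := inferInstance
    set C := Subgroup.centralizer ((P : Subgroup G) : Set G) with hCdef
    have hPC : (P : Subgroup G) ≤ C := fun a ha => Subgroup.mem_centralizer_iff.2 fun b hb =>
      commute_of_large hχ hf hn (P : Subgroup G) (fun t ht hd => by
        obtain ⟨i, hi⟩ := P.2.exists_card_eq
        rw [hi] at hd
        rw [(Nat.prime_dvd_prime_iff_eq ht hp).1 (ht.dvd_of_dvd_pow hd)]; exact hpn) b hb a ha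
    have hCq : ∀ q : ℕ, q.Prime → n + 1 < q → ¬ q ∣ C.index := by
      intro q hq hqn hd
      by_cases hqp : q = p
      · subst hqp
        exact P.not_dvd_index (hd.trans (Subgroup.index_dvd_of_le hPC))
      obtain ⟨A, hA1, hA2, hA3⟩ := hpair q hq hqn (hd.trans C.index_dvd_card) hqp
      obtain ⟨P', -, hAP'⟩ := hlarge A hA1 hA2
      obtain ⟨g, hg⟩ := MulAction.exists_smul_eq G P' P
      have e : C = (Subgroup.centralizer ((P' : Subgroup G) : Set G)).map (MulAut.conj g).toMonoidHom := by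
        rw [hCdef, ← hg]
        ext w
        simp only [Subgroup.mem_centralizer_iff, Subgroup.mem_map, MulEquiv.coe_toMonoidHom, SetLike.mem_coe,
          Sylow.coe_subgroup_smul, Subgroup.mem_pointwise_smul_iff_inv_smul_mem, MulAut.smul_def, map_inv,
          MulAut.inv_apply, MulAut.conj_symm_apply, MulAut.conj_apply]
        constructor
        · intro h
          refine ⟨g⁻¹ * w * g, fun b hb => ?_, by group⟩
          have h1 := h (g * b * g⁻¹) (by simpa [mul_assoc] using hb)
          calc b * (g⁻¹ * w * g) = g⁻¹ * (g * b * g⁻¹ * w) * g := by group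
            _ = _ := by rw [h1]; group
        · rintro ⟨v, hv, rfl⟩ b hb
          have h1 := hv _ hb
          calc b * (g * v * g⁻¹) = g * ((g⁻¹ * b * g) * v) * g⁻¹ := by group
            _ = _ := by rw [h1]; group
      rw [e, Subgroup.index_map_of_bijective (MulAut.conj g).bijective] at hd
      exact hA3 (hd.trans (Subgroup.index_dvd_of_le hAP'))
    by_cases hC : C = ⊤
    · -- the Sylow subgroup is central
      obtain ⟨z, hz⟩ := exists_prime_orderOf_dvd_card' (G := (P : Subgroup G)) p (P.dvd_card_of_dvd_card hpd)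
      have hcen : (P : Subgroup G) ≤ Subgroup.center G := Subgroup.centralizer_eq_top_iff_subset.1 hC
      obtain ⟨N, hN, hNi⟩ := exists_index_eq hχ hf hn (q := p) (by omega) (z := (z : G))
        (by rw [Subgroup.orderOf_coe, hz]) (hcen z.2)
      obtain ⟨A, hAN, hA1, hA2, hA3⟩ := hsub N fun h => by
        rw [h, Subgroup.index_top] at hNi
        exact hp.ne_one hNi.symm
      refine ⟨A ⊔ P, ?_, ?_, ?_⟩
      · intro a ha b hb
        have := Subgroup.isMulCommutative_closure (k := (A : Set G) ∪ (P : Subgroup G)) (by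
          rintro a (ha | ha) b (hb | hb)
          · exact hA1 a ha b hb
          · exact Subgroup.mem_center_iff.1 (hcen hb) a
          · exact (Subgroup.mem_center_iff.1 (hcen ha) b).symm
          · exact Subgroup.mem_center_iff.1 (hcen hb) a)
        rw [← Subgroup.sup_eq_closure] at this
        exact congrArg Subtype.val (mul_comm' (⟨a, ha⟩ : (A ⊔ P : Subgroup G)) ⟨b, hb⟩)
      · intro q hq hd
        obtain ⟨i, hi⟩ := P.2.exists_card_eq
        have h1 : q ∣ Nat.card A * p ^ i := hi ▸ hd.trans (CfsgLib.Components.card_sup_dvd_mul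
          ((hcen.trans (Subgroup.center_le_centralizer _)).trans (Subgroup.centralizer_le_normalizer _)))
        rcases hq.dvd_mul.1 h1 with h | h
        · exact hA2 q hq h
        · rw [(Nat.prime_dvd_prime_iff_eq hq hp).1 (hq.dvd_of_dvd_pow h)]; exact hpn
      · intro q hq hd
        by_contra hlt
        by_cases hqp : q = p
        · subst hqp
          exact P.not_dvd_index (hd.trans (Subgroup.index_dvd_of_le le_sup_right))
        · refine hup hAN hq (hA3 q hq (by omega)) ?_ (hd.trans (Subgroup.index_dvd_of_le le_sup_left))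
          rw [hNi]
          exact fun h => hqp ((Nat.prime_dvd_prime_iff_eq hq hp).1 h)
    obtain ⟨A, hAC, hA1, hA2, hA3⟩ := hsub C hC
    exact ⟨A, hA1, hA2, fun q hq hd => by
      by_contra hlt
      exact hup hAC hq (hA3 q hq (by omega)) (hCq q hq (by omega)) hd⟩

end CfsgLib.Blichfeldt
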