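import Cfsg.Agent.Lib.Char.Jordan

/-!
# Blichfeldt: an eigenvalue with all the others within sixty degrees

In a simple group, if an element `x` has an eigenvalue `ε` with `‖ρ x v - ε v‖ < ‖v‖` for all nonzero
`v`, then `ρ x = ε`. For `y` conjugate to `x` the distance of `ρ y E` from the eigenspace `E` decreases
on passing to `y⁻¹ x y`, so every conjugate of `x` preserves `E`.
-/

namespace CfsgLib.BlichfeldtArc

open CfsgLib.Jordan
open scoped ComplexConjugate

variable {G : Type*} [Group G] [Fintype G] {n : ℕ} (ρ : Representation ℂ G (Fin n → ℂ))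

/-- Blichfeldt: if `x` moves every vector less than its norm away from `ε`, all conjugates of `x` preserve
the `ε`-eigenspace. -/
theorem conj_preserves_eigenspace (x : G) {ε : ℂ} (hev : ∃ v : Fin n → ℂ, v ≠ 0 ∧ ρ x v = ε • v)
    (hnear : ∀ v : Fin n → ℂ, v ≠ 0 → ‖emb ρ (ρ x v) - ε • emb ρ v‖ < ‖emb ρ v‖) :
    ∀ g, ∀ e ∈ Module.End.eigenspace (ρ x) ε, ρ (g * x * g⁻¹) e ∈ Module.End.eigenspace (ρ x) ε := by
  classical
  have hpos : ∀ {v : Fin n → ℂ}, v ≠ 0 → 0 < ‖emb ρ v‖ := fun hv =>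
    norm_pos_iff.2 fun e => hv (emb_injective ρ (e.trans (map_zero _).symm))
  have hcomp : ∀ (a b : G) (v : Fin n → ℂ), ρ a (ρ b v) = ρ (a * b) v := fun a b v => by
    rw [map_mul, Module.End.mul_apply]
  have hinv : ∀ (g : G) (v : Fin n → ℂ), ρ g (ρ g⁻¹ v) = v := fun g v => by
    rw [hcomp, mul_inv_cancel, map_one, Module.End.one_apply]
  have hε : ‖ε‖ = 1 := by
    obtain ⟨v, hv0, hv⟩ := hev
    have h := norm_emb_apply ρ x v
    rw [hv, map_smul, norm_smul] at h
    exact mul_right_cancel₀ (hpos hv0).ne' (h.trans (one_mul _).symm)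
  let E : Submodule ℂ (Fin n → ℂ) := Module.End.eigenspace (ρ x) ε
  have hE : ∀ v, v ∈ E ↔ ρ x v = ε • v := fun v => Module.End.mem_eigenspace_iff
  -- the image of `ρ x - ε` is orthogonal to `E`
  have horth : ∀ v, ∀ e ∈ E, inner ℂ (emb ρ e) (emb ρ (ρ x v) - ε • emb ρ v) = 0 := by
    intro v e he
    have h := inner_emb_apply ρ x e v
    rw [(hE e).1 he, map_smul, inner_smul_left] at h
    rw [inner_sub_right, inner_smul_right, sub_eq_zero, ← h, ← mul_assoc, Complex.mul_conj,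
      Complex.normSq_eq_norm_sq, hε]
    simp
  let W : Submodule ℂ (EuclideanSpace ℂ (G × Fin n)) := E.map (emb ρ)
  -- the distance of `ρ y e` from `E`
  let d : G → (Fin n → ℂ) → ℝ := fun y e => ‖(Wᗮ).starProjection (emb ρ (ρ y e))‖
  have hd0 : ∀ y e, d y e = 0 ↔ ρ y e ∈ E := by
    intro y e
    rw [norm_eq_zero, Submodule.starProjection_orthogonal_val, sub_eq_zero, eq_comm,
      Submodule.starProjection_eq_self_iff, Submodule.mem_map]
    exact ⟨fun ⟨e', he', h⟩ => emb_injective ρ h ▸ he', fun h => ⟨_, h, rfl⟩⟩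
  have hstep : ∀ y, ∀ e ∈ E, d (y⁻¹ * x * y) e ≤ d y e ∧ (0 < d y e → d (y⁻¹ * x * y) e < d y e) := by
    intro y e he
    obtain ⟨w, hwE, hw⟩ := Submodule.mem_map.1 (W.starProjection_apply_mem (emb ρ (ρ y e)))
    set u := ρ y e - w with hu
    have hdu : d y e = ‖emb ρ u‖ := by
      show ‖_‖ = _
      rw [Submodule.starProjection_orthogonal_val, hu, map_sub, hw]
    have hx' : ρ x (ρ y e) - ε • ρ y e = ρ x u - ε • u := by
      rw [hu, map_sub, (hE w).1 hwE, smul_sub]
      abel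
    have hye : ρ (y⁻¹ * x * y) e - ε • e = ρ y⁻¹ (ρ x u - ε • u) := by
      rw [← hx', map_sub, map_smul, hcomp, hcomp, hcomp, inv_mul_cancel, map_one, Module.End.one_apply,
        mul_assoc]
    have hle : d (y⁻¹ * x * y) e ≤ ‖emb ρ (ρ x u) - ε • emb ρ u‖ := by
      have h1 : (Wᗮ).starProjection (emb ρ (ρ (y⁻¹ * x * y) e)) =
          (Wᗮ).starProjection (emb ρ (ρ (y⁻¹ * x * y) e - ε • e)) := by
        rw [map_sub, map_sub, map_smul, map_smul, show (Wᗮ).starProjection (emb ρ e) = 0 by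
          rw [Submodule.starProjection_orthogonal_val, Submodule.starProjection_eq_self_iff.2
            (Submodule.mem_map_of_mem he), sub_self], smul_zero, sub_zero]
      show ‖_‖ ≤ _
      rw [h1, hye]
      refine (Submodule.norm_starProjection_apply_le _ _).trans (le_of_eq ?_)
      rw [norm_emb_apply, map_sub, map_smul]
    rw [hdu]
    by_cases hu0 : u = 0
    · rw [hu0] at hle ⊢
      simp only [map_zero, smul_zero, sub_self, norm_zero] at hle ⊢
      exact ⟨hle, fun h => absurd h (lt_irrefl _)⟩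
    · exact ⟨hle.trans (hnear u hu0).le, fun _ => hle.trans_lt (hnear u hu0)⟩
  -- every conjugate preserves `E`
  have hconj : ∀ g, ∀ e ∈ E, ρ (g * x * g⁻¹) e ∈ E := by
    let b := Module.finBasis ℂ E
    let S : G → ℝ := fun y => ∑ i, d y (b i : Fin n → ℂ)
    have hS0 : ∀ y, S y = 0 ↔ ∀ e ∈ E, ρ y e ∈ E := by
      intro y
      rw [Finset.sum_eq_zero_iff_of_nonneg fun i _ => norm_nonneg _]
      constructor
      · intro h e he
        have : (⟨e, he⟩ : E) ∈ Submodule.comap ((ρ y).comp E.subtype) E := by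
          have hspan : Submodule.span ℂ (Set.range b) ≤ Submodule.comap ((ρ y).comp E.subtype) E := by
            rw [Submodule.span_le]
            rintro _ ⟨i, rfl⟩
            exact (hd0 y _).1 (h i (Finset.mem_univ i))
          exact hspan (by rw [b.span_eq]; trivial)
        exact this
      · exact fun h i _ => (hd0 y _).2 (h _ (b i).2)
    let T := Finset.univ.filter fun y : G => IsConj x y ∧ S y ≠ 0
    by_contra hcon
    push Not at hcon
    obtain ⟨g, e, he, hge⟩ := hcon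
    have hT : T.Nonempty := ⟨g * x * g⁻¹, Finset.mem_filter.2 ⟨Finset.mem_univ _,
      isConj_iff.2 ⟨g, rfl⟩, fun h => hge ((hS0 _).1 h e he)⟩⟩
    obtain ⟨y, hyT, hymin⟩ := T.exists_min_image S hT
    obtain ⟨-, -, hySne⟩ := Finset.mem_filter.1 hyT
    have hlt : S (y⁻¹ * x * y) < S y := by
      refine Finset.sum_lt_sum (fun i _ => (hstep y _ (b i).2).1) ?_
      obtain ⟨i, hi, hne⟩ := Finset.exists_ne_zero_of_sum_ne_zero hySne
      exact ⟨i, hi, (hstep y _ (b i).2).2 (lt_of_le_of_ne (norm_nonneg _) (Ne.symm hne))⟩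
    have hzero : S (y⁻¹ * x * y) = 0 := by
      by_contra hne
      exact (hymin _ (Finset.mem_filter.2 ⟨Finset.mem_univ _, isConj_iff.2 ⟨y⁻¹, by rw [inv_inv]⟩, hne⟩)).not_gt hlt
    refine hySne ((hS0 y).2 fun e he => (hE _).2 ?_)
    set e'' := ρ (y⁻¹ * x * y) e - ε • e with he''
    have he''E : e'' ∈ E := sub_mem ((hS0 _).1 hzero e he) (E.smul_mem _ he)
    have hy'' : ρ y e'' = ρ x (ρ y e) - ε • ρ y e := by
      rw [he'', map_sub, map_smul, hcomp, hcomp]
      group
    clear_value e''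
    suffices hz : e'' = 0 by
      rw [hz, map_zero, eq_comm, sub_eq_zero] at hy''
      exact hy''
    by_contra hz
    have h0 : inner ℂ (emb ρ e'') (emb ρ (ρ y e'')) = 0 := by
      rw [hy'', map_sub, map_smul]
      exact horth _ e'' he''E
    have hyconj : ∀ v : Fin n → ℂ, v ≠ 0 → ‖emb ρ (ρ y v) - ε • emb ρ v‖ < ‖emb ρ v‖ := by
      obtain ⟨h, rfl⟩ := isConj_iff.1 (Finset.mem_filter.1 hyT).2.1
      intro v hv
      have hv' : ρ h⁻¹ v ≠ 0 := fun e0 => hv (by rw [← hinv h v, e0, map_zero])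
      have := hnear _ hv'
      rw [← norm_emb_apply ρ h (ρ h⁻¹ v), hinv] at this
      refine lt_of_le_of_lt (le_of_eq ?_) this
      rw [← map_smul, ← map_sub, ← map_smul, ← map_sub, ← norm_emb_apply ρ h (ρ x (ρ h⁻¹ v) - ε • ρ h⁻¹ v)]
      congr 2
      rw [map_sub, map_smul, hinv, hcomp, hcomp]
    have hlt' := hyconj e'' hz
    have hsq := norm_add_sq_eq_norm_sq_add_norm_sq_of_inner_eq_zero (𝕜 := ℂ)
      (emb ρ (ρ y e'')) (-(ε • emb ρ e'')) (by
        rw [inner_neg_right, inner_smul_right, inner_eq_zero_symm.1 h0, mul_zero, neg_zero])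
    rw [← sub_eq_add_neg, norm_neg, norm_smul, hε, one_mul, norm_emb_apply] at hsq
    nlinarith [norm_nonneg (emb ρ (ρ y e'') - ε • emb ρ e''), norm_nonneg (emb ρ e'')]
  exact hconj

/-- An element of a simple group with an eigenvalue strictly nearer than one to all of it is scalar. -/
theorem scalar_of_near [IsSimpleGroup G] [ρ.IsIrreducible] (x : G) {ε : ℂ}
    (hev : ∃ v : Fin n → ℂ, v ≠ 0 ∧ ρ x v = ε • v)
    (hnear : ∀ v : Fin n → ℂ, v ≠ 0 → ‖emb ρ (ρ x v) - ε • emb ρ v‖ < ‖emb ρ v‖) :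
    ∀ v, ρ x v = ε • v := by
  classical
  by_cases hx1 : x = 1
  · obtain ⟨v, hv0, hv⟩ := hev
    rw [hx1, map_one, Module.End.one_apply] at hv
    have : ε = 1 := by
      by_contra hne
      exact hv0 ((smul_eq_zero.1 (show (1 - ε) • v = 0 by rw [sub_smul, one_smul, ← hv, sub_self])).resolve_left
        (sub_ne_zero.2 (Ne.symm hne)))
    intro w
    rw [hx1, map_one, Module.End.one_apply, this, one_smul]
  let E : Submodule ℂ (Fin n → ℂ) := Module.End.eigenspace (ρ x) ε
  have hE : ∀ v, v ∈ E ↔ ρ x v = ε • v := fun v => Module.End.mem_eigenspace_iff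
  have hconj : ∀ g, ∀ e ∈ E, ρ (g * x * g⁻¹) e ∈ E := conj_preserves_eigenspace ρ x hev hnear
  -- the stabiliser of `E` contains a normal subgroup
  have hall : ∀ g : G, ∀ e ∈ E, ρ g e ∈ E := by
    have htop : Subgroup.normalClosure ({x} : Set G) = ⊤ :=
      (IsSimpleGroup.eq_bot_or_eq_top_of_normal _ Subgroup.normalClosure_normal).resolve_left fun h =>
        hx1 (Subgroup.mem_bot.1 (h ▸ Subgroup.subset_normalClosure (Set.mem_singleton x)))
    intro g
    have hg : g ∈ Submonoid.closure (Group.conjugatesOfSet ({x} : Set G)) := by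
      have h1 : g ∈ Subgroup.closure (Group.conjugatesOfSet ({x} : Set G)) := by
        change g ∈ Subgroup.normalClosure ({x} : Set G)
        rw [htop]
        trivial
      rwa [← Subgroup.mem_toSubmonoid, Subgroup.closure_toSubmonoid_of_finite] at h1
    induction hg using Submonoid.closure_induction with
    | mem a ha =>
      rw [Group.mem_conjugatesOfSet_iff] at ha
      obtain ⟨x', rfl, hx'⟩ := ha
      obtain ⟨c, rfl⟩ := isConj_iff.1 hx'
      exact hconj c
    | one => intro e he; rwa [map_one, Module.End.one_apply]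
    | mul a b _ _ ha hb =>
      intro e he
      rw [map_mul, Module.End.mul_apply]
      exact ha _ (hb e he)
  have hEtop : E = ⊤ := CfsgLib.CharWeights.eq_top_of_invariant ρ E hall (by
    obtain ⟨v, hv0, hv⟩ := hev
    exact (Submodule.ne_bot_iff _).2 ⟨v, (hE v).2 hv, hv0⟩)
  intro v
  exact (hE v).1 (hEtop ▸ Submodule.mem_top)

/-- A combination of orthogonal eigenvectors with eigenvalues near `ε` is moved less than its norm. -/
theorem near_of_eigen {ι : Type*} [Fintype ι] (x : G) (ε : ℂ) (μ : ι → ℂ) (w : ι → Fin n → ℂ)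
    (hw : ∀ i, ρ x (w i) = μ i • w i) (hinj : ∀ i j, i ≠ j → w i ≠ 0 → w j ≠ 0 → μ i ≠ μ j)
    (hμ : ∀ i, w i ≠ 0 → ‖μ i - ε‖ < 1) (hne : ∑ i, w i ≠ 0) :
    ‖emb ρ (ρ x (∑ i, w i)) - ε • emb ρ (∑ i, w i)‖ < ‖emb ρ (∑ i, w i)‖ := by
  classical
  have horth : ∀ i j, i ≠ j → inner ℂ (emb ρ (w i)) (emb ρ (w j)) = 0 := by
    intro i j hij
    by_cases hi : w i = 0
    · rw [hi, map_zero, inner_zero_left]
    by_cases hj : w j = 0
    · rw [hj, map_zero, inner_zero_right]
    exact inner_eq_zero ρ (hw i) (hw j) hi (hinj i j hij hi hj)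
  have hsq : ∀ a : ι → ℂ, ‖∑ i, a i • emb ρ (w i)‖ ^ 2 = ∑ i, ‖a i‖ ^ 2 * ‖emb ρ (w i)‖ ^ 2 := by
    intro a
    rw [norm_sq_eq_re_inner (𝕜 := ℂ), sum_inner, map_sum]
    refine Finset.sum_congr rfl fun i _ => ?_
    rw [inner_sum, Finset.sum_eq_single i (fun j _ hji => by
      rw [inner_smul_left, inner_smul_right, horth i j (Ne.symm hji), mul_zero, mul_zero])
      (fun h => absurd (Finset.mem_univ i) h), ← norm_sq_eq_re_inner, norm_smul, mul_pow]
  have h1 : emb ρ (ρ x (∑ i, w i)) - ε • emb ρ (∑ i, w i) = ∑ i, (μ i - ε) • emb ρ (w i) := by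
    simp only [map_sum, hw, map_smul, Finset.smul_sum, sub_smul, Finset.sum_sub_distrib]
  have h2 : emb ρ (∑ i, w i) = ∑ i, (1 : ℂ) • emb ρ (w i) := by simp
  refine lt_of_pow_lt_pow_left₀ 2 (norm_nonneg _) ?_
  rw [h1, h2, hsq, hsq]
  obtain ⟨i, -, hi⟩ := Finset.exists_ne_zero_of_sum_ne_zero hne
  refine Finset.sum_lt_sum (fun j _ => ?_) ⟨i, Finset.mem_univ i, ?_⟩
  · by_cases hj : w j = 0
    · simp [hj]
    · rw [norm_one, one_pow, one_mul]
      exact mul_le_of_le_one_left (sq_nonneg _) (pow_le_one₀ (norm_nonneg _) (hμ j hj).le)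
  · rw [norm_one, one_pow, one_mul]
    refine mul_lt_of_lt_one_left (pow_pos (norm_pos_iff.2 fun e => hi (emb_injective ρ (e.trans
      (map_zero _).symm))) 2) ?_
    exact pow_lt_one₀ (norm_nonneg _) (hμ i hi) two_ne_zero

end CfsgLib.BlichfeldtArc
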