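import Cfsg.Agent.Lib.Char.CATI
import Cfsg.Agent.S0198

/-!
# The exceptional family of one self-centralizing subgroup
-/

namespace CfsgLib.CA

open CfsgLib.Char
open scoped ComplexConjugate Classical

variable {G : Type*} [Group G] [Fintype G] {A : Subgroup G}

local notation "NA" => Subgroup.normalizer (A : Set G)

/-- Exceptional characters attached to `A`. -/
structure Fam (A : Subgroup G) where
  n : ℕ
  z : Fin n
  two_le : 2 ≤ n
  even : Even n
  card_eq : n * A.relIndex (Subgroup.normalizer (A : Set G)) + 1 = Nat.card A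
  r : Fin n → Cfsg.IrrCharacter A
  r_ne : ∀ j, r j ≠ trivChar A
  r_orb : ∀ j k, j ≠ k → ∀ g : Subgroup.normalizer (A : Set G),
    (r j : A → ℂ) ∘ cj A g ≠ (r k : A → ℂ)
  r_all : ∀ lam : Cfsg.IrrCharacter A, lam ≠ trivChar A →
    ∃ j, ∃ g : Subgroup.normalizer (A : Set G), (r j : A → ℂ) ∘ cj A g = (lam : A → ℂ)
  r_card : ∀ j, Nat.card {lam : Cfsg.IrrCharacter A //
      ∃ g : Subgroup.normalizer (A : Set G), (r j : A → ℂ) ∘ cj A g = (lam : A → ℂ)} =
        A.relIndex (Subgroup.normalizer (A : Set G))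
  sgn : ℤ
  sgn_sq : sgn * sgn = 1
  θ : Fin n → Cfsg.IrrCharacter G
  θ_inj : Function.Injective θ
  rel : ∀ j, Cfsg.indFun A ((r j : A → ℂ) - (r z : A → ℂ)) =
    (sgn : ℂ) • ((θ j : G → ℂ) - (θ z : G → ℂ))

variable (hA : SelfCent A)
include hA

theorem sum_classInner_comp {n : ℕ} {r : Fin n → Cfsg.IrrCharacter A} (hne : ∀ j, r j ≠ trivChar A)
    (horb : ∀ j k, j ≠ k → ∀ g : NA, (r j : A → ℂ) ∘ cj A g ≠ (r k : A → ℂ)) (j k : Fin n) :
    ∑ g : NA, Cfsg.classInner (r j : A → ℂ) ((r k : A → ℂ) ∘ cj A g) =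
      if k = j then (Nat.card A : ℂ) else 0 := by
  have h : ∀ g : NA, Cfsg.classInner (r j : A → ℂ) ((r k : A → ℂ) ∘ cj A g) =
      if (r k : A → ℂ) ∘ cj A g = (r j : A → ℂ) then 1 else 0 := fun g => by
    have := classInner_irr (r j) ⟨_, isIrr_comp_cj g (r k)⟩
    simp only [Subtype.ext_iff] at this
    rw [this]
    exact if_congr eq_comm rfl rfl
  simp only [h, Finset.sum_boole]
  split_ifs with hjk
  · subst hjk
    rw [card_fix hA (hne k)]
  · rw [Finset.filter_eq_empty_iff.mpr fun g _ => horb k j hjk g, Finset.card_empty, Nat.cast_zero]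

omit hA [Fintype G] in
theorem classInner_triv_comp [Fintype A] [Finite G] (lam : Cfsg.IrrCharacter A)
    (h : lam ≠ trivChar A) (g : NA) :
    Cfsg.classInner (fun _ : A => (1 : ℂ)) ((lam : A → ℂ) ∘ cj A g) = 0 := by
  refine classInner_irr_of_ne (χ := trivChar A) (ψ := ⟨_, isIrr_comp_cj g lam⟩) fun e => h ?_
  refine Subtype.ext (funext fun a => ?_)
  have := congrFun (congrArg Subtype.val e) ((cj A g).symm a)
  simpa using this.symm

omit hA [Fintype G] in
theorem classInner_triv_self [Fintype A] :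
    Cfsg.classInner (fun _ => (1 : ℂ)) (fun _ : A => (1 : ℂ)) = 1 :=
  classInner_irr_self (trivChar A)

omit hA [Fintype G] in
theorem classInner_triv_right [Fintype A] (lam : Cfsg.IrrCharacter A) (h : lam ≠ trivChar A) :
    Cfsg.classInner (lam : A → ℂ) (fun _ : A => (1 : ℂ)) = 0 :=
  classInner_irr_of_ne (ψ := trivChar A) h

theorem exists_fam (hodd : Odd (Nat.card G)) (hne : A ≠ ⊥) : Nonempty (Fam A) := by
  obtain ⟨n, r, hcard, hrne, horb, hall, hrc⟩ := exists_reps hA
  have h1 : 1 < Nat.card A := A.one_lt_card_iff_ne_bot.mpr hne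
  have hoA : Odd (Nat.card A) := hodd.of_dvd_nat A.card_subgroup_dvd_card
  have hoe : Odd (A.relIndex NA) := by
    refine hodd.of_dvd_nat ((dvd_mul_right _ (Nat.card A)).trans ?_)
    rw [← Nat.card_congr (Subgroup.subgroupOfEquivOfLe (Subgroup.le_normalizer (H := A))).toEquiv,
      Subgroup.relIndex, Subgroup.index_mul_card]
    exact Subgroup.card_subgroup_dvd_card _
  have hev : Even n := by
    rw [← hcard, Nat.odd_add_one, Nat.not_odd_iff_even, Nat.even_mul] at hoA
    exact hoA.resolve_right (Nat.not_even_iff_odd.mpr hoe)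
  have h2 : 2 ≤ n := by
    rcases Nat.eq_zero_or_pos n with rfl | hn
    · omega
    · obtain ⟨k, rfl⟩ := hev; omega
  let z : Fin n := ⟨0, by omega⟩
  let τ : Fin n → G → ℂ := fun j => Cfsg.indFun A ((r j : A → ℂ) - (r z : A → ℂ))
  have hz : ∀ j, ((r j : A → ℂ) - (r z : A → ℂ)) 1 = 0 := fun j => by
    rw [Pi.sub_apply, degree_one hA, degree_one hA, sub_self]
  have hgram : ∀ i j, i ≠ z → j ≠ z →
      Cfsg.classInner (τ i) (τ j) = if i = j then 2 else 1 := by
    intro i j hi hj
    have h := classInner_indFun hA ((r i : A → ℂ) - (r z : A → ℂ)) (hz j)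
    simp only [sub_eq_add_neg (G := A → ℂ)] at h
    simp only [← sub_eq_add_neg] at h
    have hcomp : ∀ g : NA, ((r j : A → ℂ) - (r z : A → ℂ)) ∘ cj A g =
        (r j : A → ℂ) ∘ cj A g - (r z : A → ℂ) ∘ cj A g := fun g => rfl
    simp only [hcomp, classInner_sub_left, classInner_sub_right, Finset.sum_sub_distrib,
      sum_classInner_comp hA hrne horb, if_neg hj, if_neg (Ne.symm hi), if_pos] at h
    have hA0 : (Nat.card A : ℂ) ≠ 0 := Nat.cast_ne_zero.mpr Nat.card_pos.ne'
    refine mul_left_cancel₀ hA0 (h.trans ?_)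
    by_cases hij : i = j
    · subst hij; simp; ring
    · simp [hij, Ne.symm hij]
  obtain ⟨ε, hε, μ, hμ, hinj, hrel⟩ := Cfsg.Agent.S0198.result n z τ
    (by simp [τ, indFun_zero])
    (fun j => IsGen.indFun (IsGen.sub (IsGen.of_irr (r j).2) (IsGen.of_irr (r z).2)))
    (fun j => by simp only [τ]; rw [indFun_apply_one, hz j, mul_zero]) hgram
  obtain ⟨s, hs, hs2⟩ : ∃ s : ℤ, (s : ℂ) = ε ∧ s * s = 1 := by
    rcases hε with rfl | rfl
    · exact ⟨1, by simp, rfl⟩
    · exact ⟨-1, by simp, rfl⟩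
  exact ⟨{ n := n, z := z, two_le := h2, even := hev, card_eq := hcard, r := r, r_ne := hrne,
           r_orb := horb, r_all := hall, r_card := hrc, sgn := s, sgn_sq := hs2,
           θ := fun j => ⟨μ j, hμ j⟩, θ_inj := fun a b e => hinj (congrArg Subtype.val e),
           rel := fun j => by rw [hs]; exact hrel j }⟩

/-- The character `ind (1 - r z)`. -/
noncomputable def psi (_hA : SelfCent A) (F : Fam A) : G → ℂ :=
  Cfsg.indFun A ((fun _ : A => (1 : ℂ)) - (F.r F.z : A → ℂ))

omit hA in
theorem base_one (hA : SelfCent A) (F : Fam A) :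
    ((fun _ : A => (1 : ℂ)) - (F.r F.z : A → ℂ)) 1 = 0 := by
  rw [Pi.sub_apply, degree_one hA, sub_self]

omit hA in
theorem diff_one (hA : SelfCent A) (F : Fam A) (j : Fin F.n) :
    ((F.r j : A → ℂ) - (F.r F.z : A → ℂ)) 1 = 0 := by
  rw [Pi.sub_apply, degree_one hA, degree_one hA, sub_self]

theorem psi_gen (F : Fam A) : Cfsg.IsGeneralizedCharacter G (psi hA F) :=
  IsGen.indFun (IsGen.sub (IsGen.of_isCharacter isCharacter_one) (IsGen.of_irr (F.r F.z).2))

theorem psi_inner_self (F : Fam A) :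
    Cfsg.classInner (psi hA F) (psi hA F) =
      (A.relIndex NA : ℂ) + 1 := by
  have h := classInner_indFun hA ((fun _ : A => (1 : ℂ)) - (F.r F.z : A → ℂ)) (base_one hA F)
  have hcomp : ∀ g : NA, ((fun _ : A => (1 : ℂ)) - (F.r F.z : A → ℂ)) ∘ cj A g =
      (fun _ : A => (1 : ℂ)) - (F.r F.z : A → ℂ) ∘ cj A g := fun g => rfl
  simp only [hcomp, classInner_sub_left, classInner_sub_right, Finset.sum_sub_distrib,
    sum_classInner_comp hA F.r_ne F.r_orb, if_pos, classInner_triv_self,
    classInner_triv_comp _ (F.r_ne F.z), classInner_triv_right _ (F.r_ne F.z),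
    Finset.sum_const, nsmul_eq_mul, smul_zero, mul_zero] at h
  have h2 := Subgroup.index_mul_card (A.subgroupOf NA)
  rw [Nat.card_congr (Subgroup.subgroupOfEquivOfLe (Subgroup.le_normalizer (H := A))).toEquiv,
    ← Subgroup.relIndex, Nat.card_eq_fintype_card (α := NA)] at h2
  rw [Finset.card_univ, ← h2] at h
  refine mul_left_cancel₀ (Nat.cast_ne_zero.mpr (Nat.card_pos (α := A)).ne' : (Nat.card A : ℂ) ≠ 0)
    (h.trans ?_)
  push_cast
  ring

theorem psi_triv (F : Fam A) : Cfsg.classInner (psi hA F) (trivChar G : G → ℂ) = 1 := by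
  rw [psi, frobenius_reciprocity A _ (IsIrr.isClassFunction (trivChar G).2), classInner_sub_left]
  simp only [trivChar_apply]
  rw [classInner_triv_self, classInner_triv_right _ (F.r_ne F.z), sub_zero]

theorem psi_tau (F : Fam A) {j : Fin F.n} (hj : j ≠ F.z) :
    Cfsg.classInner (psi hA F) (Cfsg.indFun A ((F.r j : A → ℂ) - (F.r F.z : A → ℂ))) = 1 := by
  have h := classInner_indFun hA ((fun _ : A => (1 : ℂ)) - (F.r F.z : A → ℂ)) (diff_one hA F j)
  have hcomp : ∀ g : NA, ((F.r j : A → ℂ) - (F.r F.z : A → ℂ)) ∘ cj A g =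
      (F.r j : A → ℂ) ∘ cj A g - (F.r F.z : A → ℂ) ∘ cj A g := fun g => rfl
  simp only [hcomp, classInner_sub_left, classInner_sub_right, Finset.sum_sub_distrib,
    sum_classInner_comp hA F.r_ne F.r_orb, classInner_triv_comp _ (F.r_ne _), if_pos,
    if_neg hj, Finset.sum_const_zero] at h
  refine mul_left_cancel₀ (Nat.cast_ne_zero.mpr (Nat.card_pos (α := A)).ne' : (Nat.card A : ℂ) ≠ 0)
    (h.trans ?_)
  ring

omit hA in
theorem classInner_comp_cj {h f : A → ℂ} (g : NA) (hh : h ∘ cj A g = h) :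
    Cfsg.classInner h (f ∘ cj A g) = Cfsg.classInner h f := by
  conv_lhs => rw [← hh]
  simp only [Cfsg.classInner, Function.comp_apply]
  congr 1
  exact Equiv.sum_comp (cj A g).toEquiv fun a => h a * conj (f a)

omit hA in
theorem res_comp_cj {χ : G → ℂ} (hχ : Cfsg.IsClassFunction G χ) (g : NA) :
    (fun x : A => χ x) ∘ cj A g = fun x : A => χ x := by
  funext x
  rw [Function.comp_apply, coe_cj, hχ]

theorem inner_orbit (F : Fam A) (χ : Cfsg.IrrCharacter G) {j : Fin F.n}
    {lam : Cfsg.IrrCharacter A} (h : ∃ g : NA, (F.r j : A → ℂ) ∘ cj A g = (lam : A → ℂ)) :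
    Cfsg.classInner (fun x : A => (χ : G → ℂ) x) (lam : A → ℂ) =
      Cfsg.classInner (fun x : A => (χ : G → ℂ) x) (F.r F.z : A → ℂ) +
        (F.sgn : ℂ) * ((if χ = F.θ j then 1 else 0) - (if χ = F.θ F.z then 1 else 0)) := by
  obtain ⟨g, hg⟩ := h
  rw [← hg, classInner_comp_cj g (res_comp_cj (IsIrr.isClassFunction χ.2) g), ← sub_eq_iff_eq_add',
    ← classInner_sub_right, ← classInner_conj_symm,
    ← frobenius_reciprocity A _ (IsIrr.isClassFunction χ.2), F.rel, classInner_conj_symm,
    classInner_smul_right, classInner_sub_right, classInner_irr, classInner_irr, map_intCast]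

/-- Outside its own family, a character is constant on the non-identity elements of `A`. -/
theorem apply_eq_psi (F : Fam A) (χ : Cfsg.IrrCharacter G) (hχ : ∀ j, χ ≠ F.θ j) {a : A}
    (ha : a ≠ 1) : (χ : G → ℂ) a = conj (Cfsg.classInner (psi hA F) (χ : G → ℂ)) := by
  have := Fintype.ofFinite (Cfsg.IrrCharacter A)
  set h : A → ℂ := fun x => (χ : G → ℂ) x with hh
  set β := conj (Cfsg.classInner (psi hA F) (χ : G → ℂ)) with hβ
  have hβ' : β = Cfsg.classInner h (trivChar A : A → ℂ) -
      Cfsg.classInner h (F.r F.z : A → ℂ) := by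
    rw [hβ, psi, frobenius_reciprocity A _ (IsIrr.isClassFunction χ.2), classInner_conj_symm,
      classInner_sub_right]
    rfl
  have hcl : Cfsg.IsClassFunction A (h - β • (trivChar A : A → ℂ)) := fun x y => by
    rw [comm hA y x, mul_inv_cancel_right]
  have key : ∀ lam : Cfsg.IrrCharacter A,
      Cfsg.classInner (h - β • (trivChar A : A → ℂ)) (lam : A → ℂ) =
        Cfsg.classInner h (F.r F.z : A → ℂ) := by
    intro lam
    rw [classInner_sub_left, classInner_smul_left, classInner_irr]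
    by_cases hlam : lam = trivChar A
    · rw [hlam, if_pos rfl, hβ']; ring
    · obtain ⟨j, hj⟩ := F.r_all lam hlam
      rw [if_neg (Ne.symm hlam), mul_zero, sub_zero, inner_orbit hA F χ hj, if_neg (hχ j),
        if_neg (hχ F.z), sub_zero, mul_zero, add_zero]
  have h0 := classFunction_apply_eq_sum hcl a
  simp only [key, ← Finset.mul_sum] at h0
  have hreg : ∑ lam : Cfsg.IrrCharacter A, (lam : A → ℂ) a = 0 := by
    have := sum_degree_mul_apply_of_ne_one ha
    simpa [degree_one hA] using this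
  rw [hreg, mul_zero] at h0
  simpa [sub_eq_zero, hh] using h0

/-- The mass of a family member on the non-identity elements of its own subgroup. -/
theorem self_bound (F : Fam A) :
    ∃ S : ℤ, ((S : ℂ) = ∑ a : A, if a = 1 then 0 else
        (F.θ F.z : G → ℂ) a * conj ((F.θ F.z : G → ℂ) a)) ∧
      (A.relIndex NA : ℤ) * ((Nat.card A : ℤ) - A.relIndex NA) ≤ S := by
  have := Fintype.ofFinite (Cfsg.IrrCharacter A)
  set h : A → ℂ := fun x => (F.θ F.z : G → ℂ) x with hh
  set e := A.relIndex NA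
  have hchar : Cfsg.IsCharacter A h := IsChar.restrict A (IsIrr.isCharacter (F.θ F.z).2)
  have hm : ∀ lam : Cfsg.IrrCharacter A, ∃ m : ℤ, Cfsg.classInner h (lam : A → ℂ) = (m : ℂ) :=
    fun lam => by
      obtain ⟨k, hk⟩ := IsChar.classInner_eq_natCast hchar (IsIrr.isCharacter lam.2)
      exact ⟨k, by rw [hk, Int.cast_natCast]⟩
  choose m hm using hm
  let O : Finset (Cfsg.IrrCharacter A) := Finset.univ.filter fun lam =>
    ∃ g : NA, (F.r F.z : A → ℂ) ∘ cj A g = (lam : A → ℂ)
  have hOcard : O.card = e := by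
    refine Eq.trans ?_ (F.r_card F.z)
    rw [Nat.card_eq_fintype_card, Fintype.card_subtype]
  have hO1 : trivChar A ∉ O := fun hmem => by
    obtain ⟨g, hg⟩ := (Finset.mem_filter.mp hmem).2
    refine F.r_ne F.z (Subtype.ext (funext fun a => ?_))
    have := congrFun hg ((cj A g).symm a)
    simpa using this
  let K := m (F.r F.z) - F.sgn
  let m' := m (trivChar A) - K
  have hpt : ∀ lam, m lam = K + (if lam = trivChar A then m' else 0) +
      if lam ∈ O then F.sgn else 0 := by
    intro lam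
    by_cases hlam : lam = trivChar A
    · subst hlam
      rw [if_pos rfl, if_neg hO1]; simp only [m']; ring
    · rw [if_neg hlam, add_zero]
      obtain ⟨j, hj⟩ := F.r_all lam hlam
      have hi := inner_orbit hA F (F.θ F.z) hj
      rw [hm, hm] at hi
      by_cases hjz : j = F.z
      · subst hjz
        rw [if_pos rfl, sub_self, mul_zero, add_zero] at hi
        rw [if_pos (show lam ∈ O from Finset.mem_filter.mpr ⟨Finset.mem_univ _, hj⟩)]
        simp only [K]
        have : m lam = m (F.r F.z) := by exact_mod_cast hi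
        omega
      · rw [if_neg (fun e => hjz (F.θ_inj e).symm), if_pos rfl] at hi
        have hnO : lam ∉ O := fun hmem => by
          obtain ⟨g', hg'⟩ := (Finset.mem_filter.mp hmem).2
          obtain ⟨g, hg⟩ := hj
          refine F.r_orb F.z j (Ne.symm hjz) (g' * g⁻¹) ?_
          rw [comp_cj_mul, hg', ← hg, ← comp_cj_mul, mul_inv_cancel]
          exact funext fun a => congrArg _ (cj_one a)
        rw [if_neg hnO, add_zero]
        simp only [K]
        have hi2 : (m lam : ℂ) = ((m (F.r F.z) - F.sgn : ℤ) : ℂ) := by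
          rw [hi]; push_cast; ring
        exact_mod_cast hi2
  have hk : (Fintype.card (Cfsg.IrrCharacter A) : ℤ) = Nat.card A := by
    rw [← Nat.card_eq_fintype_card, card_irrCharacter]
    congr 1
    refine (Nat.card_congr (Equiv.ofBijective ConjClasses.mk
      ⟨fun a b h => ?_, ConjClasses.mk_surjective⟩)).symm
    obtain ⟨c, hc⟩ := isConj_iff.mp (ConjClasses.mk_eq_mk_iff_isConj.mp h)
    rwa [comm hA c, mul_inv_cancel_right] at hc
  have hs1 : ∑ lam, m lam = Nat.card A * K + m' + e * F.sgn := by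
    simp only [hpt, Finset.sum_add_distrib, Finset.sum_ite_eq', Finset.mem_univ, if_true,
      Finset.sum_const, Finset.sum_ite_mem, Finset.univ_inter, hOcard, nsmul_eq_mul,
      Finset.card_univ, hk]
  have hs2 : ∑ lam, m lam * m lam =
      Nat.card A * (K * K) + (2 * K * m' + m' * m') + e * (2 * K * F.sgn + 1) := by
    have hsq : ∀ lam, m lam * m lam = K * K + (if lam = trivChar A then 2 * K * m' + m' * m' else 0) +
        if lam ∈ O then 2 * K * F.sgn + 1 else 0 := by
      intro lam
      rw [hpt lam]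
      by_cases hlam : lam = trivChar A
      · subst hlam; rw [if_pos rfl, if_pos rfl, if_neg hO1, if_neg hO1]; ring
      · rw [if_neg hlam, if_neg hlam]
        split_ifs
        · linear_combination F.sgn_sq
        · ring
    simp only [hsq, Finset.sum_add_distrib, Finset.sum_ite_eq', Finset.mem_univ, if_true,
      Finset.sum_const, Finset.sum_ite_mem, Finset.univ_inter, hOcard, nsmul_eq_mul,
      Finset.card_univ, hk]
    ring
  refine ⟨(Nat.card A : ℤ) * ∑ lam, m lam * m lam - (∑ lam, m lam) * ∑ lam, m lam, ?_, ?_⟩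
  · have hclass : Cfsg.IsClassFunction A h := IsChar.isClassFunction hchar
    have hinner := classInner_eq_sum hclass h
    simp only [hm, map_intCast] at hinner
    have h1 : h 1 = ((∑ lam, m lam : ℤ) : ℂ) := by
      rw [classFunction_apply_eq_sum hclass 1]
      simp [hm, degree_one hA]
    have hrw : ∀ a : A, (if a = 1 then 0 else (F.θ F.z : G → ℂ) a * conj ((F.θ F.z : G → ℂ) a)) =
        h a * conj (h a) - if a = 1 then h a * conj (h a) else 0 := fun a => by
      split_ifs <;> simp [hh]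
    simp only [hrw, Finset.sum_sub_distrib, Finset.sum_ite_eq', Finset.mem_univ, if_true]
    rw [Cfsg.classInner] at hinner
    rw [h1, map_intCast]
    have hA0 : (Nat.card A : ℂ) ≠ 0 := Nat.cast_ne_zero.mpr Nat.card_pos.ne'
    rw [inv_mul_eq_iff_eq_mul₀ hA0] at hinner
    rw [hinner]
    push_cast
    ring
  · rw [hs1, hs2]
    have hc : (F.n : ℤ) * e + 1 = Nat.card A := by exact_mod_cast F.card_eq
    have h2 : (2 : ℤ) ≤ F.n := by exact_mod_cast F.two_le
    have hab : F.sgn * m' ≤ m' * m' := by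
      rcases (Int.mul_eq_one_iff_eq_one_or_neg_one (u := F.sgn) (v := F.sgn)).mp F.sgn_sq with
        ⟨hs, -⟩ | ⟨hs, -⟩ <;> rw [hs] <;> nlinarith [Int.le_self_sq m', Int.le_self_sq (-m')]
    have h5 : 0 ≤ (e : ℤ) * (m' * m' - F.sgn * m') := mul_nonneg (by positivity) (by linarith)
    have h6 : 0 ≤ ((F.n : ℤ) - 2) * e * (m' * m') :=
      mul_nonneg (mul_nonneg (by linarith) (by positivity)) (mul_self_nonneg m')
    linear_combination 2 * h5 + h6 + (m' * m') * hc + ((e : ℤ) * e) * F.sgn_sq

end CfsgLib.CA
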