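import Cfsg.Agent.Lib.Char.CAFamily

/-!
# Suzuki's theorem on groups of odd order with abelian centralizers
-/

namespace CfsgLib.CA

open CfsgLib.Char
open scoped ComplexConjugate Classical

variable {G : Type*} [Group G] [Fintype G]

/-- The centralizers of non-identity elements, one from each conjugacy class. -/
structure Partition (G : Type*) [Group G] (ι : Type*) where
  A : ι → Subgroup G
  selfCent : ∀ l, SelfCent (A l)
  ne_bot : ∀ l, A l ≠ ⊥
  cover : ∀ y : G, y ≠ 1 → ∃ l, ∃ g : G, ∃ a ∈ A l, g * a * g⁻¹ = y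
  disj : ∀ l m, ∀ a ∈ A l, a ≠ 1 → ∀ g : G, g * a * g⁻¹ ∈ A m → l = m

variable {ι : Type*} [Fintype ι] (P : Partition G ι)

theorem sum_partition {M : Type*} [AddCommGroup M] {f : G → M}
    (hf : ∀ g h : G, f (h * g * h⁻¹) = f g) :
    ∑ x : G, f x = f 1 + ∑ l, (Subgroup.normalizer (P.A l : Set G)).index •
      ∑ a : P.A l, if a = 1 then 0 else f a := by
  let Φ : (Σ l, (G ⧸ Subgroup.normalizer (P.A l : Set G)) × {a : P.A l // a ≠ 1}) → {y : G // y ≠ 1} :=
    fun p => ⟨p.2.1.out * p.2.2.1 * p.2.1.out⁻¹,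
      fun h => p.2.2.2 (Subtype.ext (conj_eq_one_iff.mp h))⟩
  have hΦ : Function.Bijective Φ := by
    constructor
    · rintro ⟨l, q, a, ha⟩ ⟨m, q', b, hb⟩ h
      have h' : q.out * (a : G) * q.out⁻¹ = q'.out * (b : G) * q'.out⁻¹ := congrArg Subtype.val h
      have hx : (q'.out⁻¹ * q.out) * (a : G) * (q'.out⁻¹ * q.out)⁻¹ = b := by
        calc _ = q'.out⁻¹ * (q.out * (a : G) * q.out⁻¹) * q'.out := by group
          _ = _ := by rw [h']; group
      have hlm : l = m := P.disj l m a a.2 (fun e => ha (Subtype.ext e)) _ (hx ▸ b.2)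
      subst hlm
      have hq : q = q' := by
        rw [← q.out_eq', ← q'.out_eq', eq_comm, QuotientGroup.eq]
        exact mem_normalizer_of_conj_mem (P.selfCent l) a.2 (fun e => ha (Subtype.ext e)) (hx ▸ b.2)
      subst hq
      have : a = b := Subtype.ext (mul_left_cancel (mul_right_cancel h'))
      subst this
      rfl
    · rintro ⟨y, hy⟩
      obtain ⟨l, g, a, ha, rfl⟩ := P.cover y hy
      obtain ⟨⟨c, hc⟩, hcg⟩ := QuotientGroup.mk_out_eq_mul (Subgroup.normalizer (P.A l : Set G)) g
      refine ⟨⟨l, (g : G ⧸ Subgroup.normalizer (P.A l : Set G)),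
        ⟨⟨c⁻¹ * a * c, (Subgroup.mem_normalizer_iff''.mp hc a).mp ha⟩, fun e => hy ?_⟩⟩, ?_⟩
      · have he : c⁻¹ * a * c = 1 := congrArg Subtype.val e
        have : a = 1 := by
          calc a = c * (c⁻¹ * a * c) * c⁻¹ := by group
            _ = 1 := by rw [he]; group
        rw [this]; group
      · refine Subtype.ext ?_
        simp only [Φ]
        rw [show ((g : G ⧸ Subgroup.normalizer (P.A l : Set G))).out = g * c from hcg]
        group
  rw [← Finset.add_sum_erase _ _ (Finset.mem_univ (1 : G)),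
    Finset.sum_subtype (Finset.univ.erase (1 : G)) (p := fun y => y ≠ 1) (fun x => by simp) f,
    ← Fintype.sum_bijective Φ hΦ (fun p => f p.2.2.1) _ (fun p => (hf _ _).symm), Fintype.sum_sigma]
  congr 1
  refine Finset.sum_congr rfl fun l _ => ?_
  rw [Fintype.sum_prod_type, Fintype.sum_congr (fun q : G ⧸ Subgroup.normalizer (P.A l : Set G) =>
      ∑ y : {a : P.A l // a ≠ 1}, f (y.1 : G)) (fun _ => ∑ y : {a : P.A l // a ≠ 1}, f (y.1 : G))
      (fun _ => rfl),
    Finset.sum_const, Finset.card_univ, ← Nat.card_eq_fintype_card, ← Subgroup.index]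
  congr 1
  rw [← Finset.sum_subtype (Finset.univ.erase (1 : P.A l)) (p := fun a => a ≠ 1) (fun x => by simp)
    (fun a : P.A l => f a), ← Finset.add_sum_erase _ _ (Finset.mem_univ (1 : P.A l)),
    if_pos rfl, zero_add]
  exact Finset.sum_congr rfl fun a ha => (if_neg (Finset.ne_of_mem_erase ha)).symm

theorem sum_ne_one_const (A : Subgroup G) {M : Type*} [AddCommGroup M] (c : M) :
    ∑ a : A, (if a = 1 then 0 else c) = (Nat.card A - 1) • c := by
  rw [Finset.sum_ite, Finset.sum_const_zero, zero_add, Finset.sum_const, Finset.filter_ne',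
    Finset.card_erase_of_mem (Finset.mem_univ _), Finset.card_univ, Nat.card_eq_fintype_card]

theorem index_normalizer_mul {A : Subgroup G} (_hA : SelfCent A) :
    (Subgroup.normalizer (A : Set G)).index * A.relIndex (Subgroup.normalizer (A : Set G)) *
      Nat.card A = Nat.card G := by
  rw [mul_comm _ (A.relIndex _), Subgroup.relIndex_mul_index (Subgroup.le_normalizer),
    Subgroup.index_mul_card]

theorem centralizer_conj_card (x h : G) :
    Nat.card (Subgroup.centralizer ({h * x * h⁻¹} : Set G)) =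
      Nat.card (Subgroup.centralizer ({x} : Set G)) := by
  refine (Nat.card_congr (Equiv.subtypeEquiv (MulAut.conj h).toEquiv fun a => ?_)).symm
  simp only [Subgroup.mem_centralizer_singleton_iff, MulEquiv.toEquiv_eq_coe,
    MulEquiv.coe_toEquiv, MulAut.conj_apply]
  constructor
  · intro e
    calc h * a * h⁻¹ * (h * x * h⁻¹) = h * (a * x) * h⁻¹ := by group
      _ = h * (x * a) * h⁻¹ := by rw [e]
      _ = _ := by group
  · intro e
    calc a * x = h⁻¹ * (h * a * h⁻¹ * (h * x * h⁻¹)) * h := by group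
      _ = h⁻¹ * (h * x * h⁻¹ * (h * a * h⁻¹)) * h := by rw [e]
      _ = _ := by group

theorem card_classes (F : ∀ l, Fam (P.A l)) :
    Nat.card (ConjClasses G) = 1 + ∑ l, (F l).n := by
  have hs := card_comm_eq_card_conjClasses_mul_card G
  have h1 : (∑ x : G, (Nat.card (Subgroup.centralizer ({x} : Set G)) : ℤ)) =
      Nat.card {p : G × G // Commute p.1 p.2} := by
    rw [Nat.card_congr (Equiv.subtypeProdEquivSigmaSubtype fun x y : G => Commute x y),
      Nat.card_sigma, Nat.cast_sum]
    refine Finset.sum_congr rfl fun x _ => ?_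
    congr 1
    refine Nat.card_congr (Equiv.subtypeEquivRight fun y => ?_)
    rw [Subgroup.mem_centralizer_singleton_iff]
    exact ⟨Eq.symm, Eq.symm⟩
  rw [sum_partition P (fun g h => by rw [centralizer_conj_card]), hs] at h1
  have h1' : Subgroup.centralizer ({(1 : G)} : Set G) = ⊤ := by
    ext; simp [Subgroup.mem_centralizer_singleton_iff]
  rw [h1', Subgroup.card_top] at h1
  have hl : ∀ l, (Subgroup.normalizer (P.A l : Set G)).index •
      (∑ a : P.A l, if a = 1 then 0 else (Nat.card (Subgroup.centralizer ({(a : G)} : Set G)) : ℤ)) =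
        (Nat.card G : ℤ) * (F l).n := by
    intro l
    have : ∀ a : P.A l, (if a = 1 then 0 else
        (Nat.card (Subgroup.centralizer ({(a : G)} : Set G)) : ℤ)) =
        if a = 1 then 0 else (Nat.card (P.A l) : ℤ) := fun a => by
      split_ifs with ha
      · rfl
      · rw [P.selfCent l a a.2 fun e => ha (Subtype.ext e)]
    rw [Finset.sum_congr rfl fun a _ => this a, sum_ne_one_const,
      ← (F l).card_eq, Nat.add_sub_cancel, (F l).card_eq, ← index_normalizer_mul (P.selfCent l)]
    push_cast [nsmul_eq_mul]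
    ring
  rw [Finset.sum_congr rfl fun l _ => hl l, ← Finset.mul_sum] at h1
  have hG : (Nat.card G : ℤ) ≠ 0 := Nat.cast_ne_zero.mpr Nat.card_pos.ne'
  have : ((1 + ∑ l, (F l).n : ℕ) : ℤ) = Nat.card (ConjClasses G) := by
    refine mul_left_cancel₀ hG ?_
    push_cast at h1 ⊢
    linear_combination h1
  exact_mod_cast this.symm

section Main

variable (hperf : commutator G = ⊤)
include hperf

omit [Fintype ι] in
theorem eq_triv_of_degree_one {χ : Cfsg.IrrCharacter G} (h1 : (χ : G → ℂ) 1 = 1) :
    χ = trivChar G := by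
  obtain ⟨l, hl⟩ := exists_linear_of_degree_one (IsIrr.isCharacter χ.2) h1
  refine irr_ext fun g => ?_
  have : g ∈ l.ker := Abelianization.commutator_subset_ker l (hperf ▸ Subgroup.mem_top g)
  simp only [hl, trivChar_apply]
  rw [MonoidHom.mem_ker.mp this, Units.val_one]

omit [Fintype ι] in
theorem fam_ne_triv {A : Subgroup G} (hA : SelfCent A) (F : Fam A) (j : Fin F.n) :
    F.θ j ≠ trivChar G := by
  have hdeg : ∀ k, (F.θ k : G → ℂ) 1 = (F.θ F.z : G → ℂ) 1 := fun k => by
    have h := congrFun (F.rel k) 1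
    rw [indFun_apply_one, diff_one hA F k, mul_zero, Pi.smul_apply, Pi.sub_apply, smul_eq_mul] at h
    rcases mul_eq_zero.mp h.symm with h0 | h0
    · have := F.sgn_sq
      rw [Int.cast_eq_zero] at h0
      simp [h0] at this
    · exact sub_eq_zero.mp h0
  intro e
  have hall : ∀ k, F.θ k = trivChar G := fun k =>
    eq_triv_of_degree_one hperf (by rw [hdeg, ← hdeg j, e, trivChar_apply])
  have h2 := F.two_le
  exact absurd (congrArg Fin.val (F.θ_inj ((hall ⟨0, by omega⟩).trans (hall ⟨1, by omega⟩).symm)))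
    (by simp)

omit hperf in
theorem inner_diff_eq_zero {l m : ι} (hlm : l ≠ m) (f : P.A l → ℂ) {f' : P.A m → ℂ}
    (h0 : f' 1 = 0) :
    Cfsg.classInner (Cfsg.indFun (P.A l) f) (Cfsg.indFun (P.A m) f') = 0 := by
  rw [frobenius_reciprocity _ f (isClassFunction_indFun _ f')]
  have : (fun h : P.A l => Cfsg.indFun (P.A m) f' h) = 0 := by
    funext h
    refine indFun_eq_zero h0 fun x hx => ?_
    by_contra hne
    refine hlm (P.disj l m h h.2 (fun e => hne ?_) x⁻¹ (by rwa [inv_inv]))
    rw [e]; group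
  rw [this, classInner_zero_right]

theorem false_of_partition (P : Partition G ι) (hι : Nonempty ι) (hodd : Odd (Nat.card G)) : False := by
  let F : ∀ l, Fam (P.A l) := fun l => (exists_fam (P.selfCent l) hodd (P.ne_bot l)).some
  have hrel := fun l j => (F l).rel j
  have hs0 : ∀ l, ((F l).sgn : ℂ) ≠ 0 := fun l h => by
    have := (F l).sgn_sq
    rw [Int.cast_eq_zero] at h
    simp [h] at this
  -- the families are disjoint
  have hdiff : ∀ l m, l ≠ m → ∀ j k, Cfsg.classInner
      (((F l).θ j : G → ℂ) - ((F l).θ (F l).z : G → ℂ))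
      (((F m).θ k : G → ℂ) - ((F m).θ (F m).z : G → ℂ)) = 0 := by
    intro l m hlm j k
    have h := inner_diff_eq_zero P hlm ((((F l).r j : P.A l → ℂ)) - ((F l).r (F l).z : P.A l → ℂ))
      (diff_one (P.selfCent m) (F m) k)
    rw [hrel, hrel, classInner_smul_left, classInner_smul_right] at h
    simp only [map_intCast, mul_eq_zero, hs0, false_or] at h
    exact h
  have hdis : ∀ l m, l ≠ m → ∀ j k, (F l).θ j ≠ (F m).θ k := by
    intro l m hlm j k e
    have hd : ∀ j' k', Cfsg.classInner (((F l).θ j : G → ℂ) - ((F l).θ j' : G → ℂ))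
        (((F m).θ k : G → ℂ) - ((F m).θ k' : G → ℂ)) = 0 := by
      intro j' k'
      rw [show ((F l).θ j : G → ℂ) - ((F l).θ j' : G → ℂ) =
        (((F l).θ j : G → ℂ) - ((F l).θ (F l).z : G → ℂ)) -
          (((F l).θ j' : G → ℂ) - ((F l).θ (F l).z : G → ℂ)) by abel,
        show ((F m).θ k : G → ℂ) - ((F m).θ k' : G → ℂ) =
        (((F m).θ k : G → ℂ) - ((F m).θ (F m).z : G → ℂ)) -
          (((F m).θ k' : G → ℂ) - ((F m).θ (F m).z : G → ℂ)) by abel]
      simp only [classInner_sub_left, classInner_sub_right]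
      have a := hdiff l m hlm j k
      have b := hdiff l m hlm j k'
      have c := hdiff l m hlm j' k
      have d := hdiff l m hlm j' k'
      simp only [classInner_sub_left, classInner_sub_right] at a b c d
      linear_combination a - b - c + d
    haveI := Fin.nontrivial_iff_two_le.mpr (F l).two_le
    haveI := Fin.nontrivial_iff_two_le.mpr (F m).two_le
    obtain ⟨j', hj'⟩ := exists_ne j
    obtain ⟨k', hk'⟩ := exists_ne k
    have h := hd j' k'
    simp only [classInner_sub_left, classInner_sub_right, classInner_irr] at h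
    rw [if_pos e, if_neg (fun e' : (F l).θ j = (F m).θ k' => hk' ((F m).θ_inj (e'.symm.trans e))),
      if_neg (fun e' : (F l).θ j' = (F m).θ k => hj' ((F l).θ_inj (e'.trans e.symm)))] at h
    split_ifs at h <;> norm_num at h
  -- all irreducible characters
  have := Fintype.ofFinite (Cfsg.IrrCharacter G)
  let E₀ : Option (Σ l, Fin (F l).n) → Cfsg.IrrCharacter G := fun o =>
    o.elim (trivChar G) fun p => (F p.1).θ p.2
  have hE : Function.Bijective E₀ := by
    refine (Fintype.bijective_iff_injective_and_card _).mpr ⟨?_, ?_⟩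
    · rintro (_ | ⟨l, j⟩) (_ | ⟨m, k⟩) h
      · rfl
      · exact absurd h.symm (fam_ne_triv hperf (P.selfCent m) _ k)
      · exact absurd h (fam_ne_triv hperf (P.selfCent l) _ j)
      · by_cases hlm : l = m
        · subst hlm
          have : j = k := (F l).θ_inj h
          subst this; rfl
        · exact absurd h (hdis l m hlm j k)
    · rw [Fintype.card_option, Fintype.card_sigma, ← Nat.card_eq_fintype_card (α := Cfsg.IrrCharacter G),
        card_irrCharacter, card_classes P F, add_comm]
      simp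
  -- integer coefficients
  have hc' : ∀ l (χ : Cfsg.IrrCharacter G), ∃ c : ℤ,
      Cfsg.classInner (psi (P.selfCent l) (F l)) (χ : G → ℂ) = (c : ℂ) := fun l χ =>
    IsGen.exists_classInner_eq_intCast (psi_gen (P.selfCent l) (F l)) (IsGen.of_irr χ.2)
  choose c hc using hc'
  have hval : ∀ l (χ : Cfsg.IrrCharacter G), (∀ j, χ ≠ (F l).θ j) → ∀ a : P.A l, a ≠ 1 →
      (χ : G → ℂ) a = (c l χ : ℂ) := fun l χ hχ a ha => by
    rw [apply_eq_psi (P.selfCent l) (F l) χ hχ ha, hc, map_intCast]
  have hconst : ∀ l m, m ≠ l → ∀ k, c l ((F m).θ k) = c l ((F m).θ (F m).z) := by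
    intro l m hml k
    have h := inner_diff_eq_zero P (Ne.symm hml)
      ((fun _ : P.A l => (1 : ℂ)) - ((F l).r (F l).z : P.A l → ℂ)) (diff_one (P.selfCent m) (F m) k)
    rw [hrel, classInner_smul_right, classInner_sub_right] at h
    simp only [map_intCast, mul_eq_zero, hs0, false_or, sub_eq_zero] at h
    change Cfsg.classInner (psi (P.selfCent l) (F l)) _ =
      Cfsg.classInner (psi (P.selfCent l) (F l)) _ at h
    rw [hc, hc] at h
    exact_mod_cast h
  have hone : ∀ l, c l (trivChar G) = 1 := fun l => by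
    have h := psi_triv (P.selfCent l) (F l)
    rw [hc] at h
    exact_mod_cast h
  have hown : ∀ l, ∃ k, c l ((F l).θ k) ≠ 0 := by
    intro l
    by_contra hall
    push Not at hall
    haveI := Fin.nontrivial_iff_two_le.mpr (F l).two_le
    obtain ⟨j, hj⟩ := exists_ne (F l).z
    have h := psi_tau (P.selfCent l) (F l) hj
    rw [hrel, classInner_smul_right, classInner_sub_right, hc, hc, hall, hall] at h
    simp at h
  -- the smallest relative index
  obtain ⟨i, -, hi⟩ := Finset.exists_min_image Finset.univ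
    (fun l => (P.A l).relIndex (Subgroup.normalizer (P.A l : Set G))) Finset.univ_nonempty
  let e : ι → ℕ := fun l => (P.A l).relIndex (Subgroup.normalizer (P.A l : Set G))
  let b : ι → ι → ℤ := fun m l => c l ((F m).θ (F m).z)
  let R : Finset ι := Finset.univ.erase i
  -- norm of `psi`
  have hnorm : ∑ l ∈ R, ((F l).n : ℤ) * (b l i * b l i) ≤ (e i : ℤ) - 1 := by
    have h := psi_inner_self (P.selfCent i) (F i)
    rw [classInner_eq_sum (IsGen.isClassFunction (psi_gen _ _))] at h
    simp only [hc, map_intCast] at h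
    have h' : ∑ χ, c i χ * c i χ = (e i : ℤ) + 1 := by
      have : ((∑ χ, c i χ * c i χ : ℤ) : ℂ) = (((e i : ℤ) + 1 : ℤ) : ℂ) := by
        push_cast; exact h
      exact_mod_cast this
    rw [← Fintype.sum_bijective E₀ hE _ _ (fun _ => rfl), Fintype.sum_option, Fintype.sum_sigma,
      ← Finset.add_sum_erase _ _ (Finset.mem_univ i)] at h'
    simp only [E₀, Option.elim_none, Option.elim_some, hone] at h'
    have hin : ∑ l ∈ R, ∑ k, c i ((F l).θ k) * c i ((F l).θ k) =
        ∑ l ∈ R, ((F l).n : ℤ) * (b l i * b l i) := by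
      refine Finset.sum_congr rfl fun l hl => ?_
      simp [hconst i l (Finset.ne_of_mem_erase hl), b]
    obtain ⟨k, hk⟩ := hown i
    have hpos : 1 ≤ ∑ k, c i ((F i).θ k) * c i ((F i).θ k) := by
      refine le_trans ?_ (Finset.single_le_sum (fun k _ => mul_self_nonneg _) (Finset.mem_univ k))
      exact Int.add_one_le_of_lt (mul_self_pos.mpr hk)
    rw [hin] at h'
    linarith
  -- where `psi` does not reach, its partner does not vanish
  have hreach : ∀ l ∈ R, b l i = 0 → b i l ≠ 0 := by
    intro l hl hbl hbi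
    have hli := Finset.ne_of_mem_erase hl
    obtain ⟨x, hx, hx1⟩ := (P.A l).ne_bot_iff_exists_ne_one.mp (P.ne_bot l) |> fun ⟨⟨x, hx⟩, h⟩ =>
      (⟨x, hx, fun e => h (Subtype.ext e)⟩ : ∃ x, x ∈ P.A l ∧ x ≠ 1)
    have hzero : psi (P.selfCent i) (F i) x = 0 := by
      refine indFun_eq_zero (base_one (P.selfCent i) (F i)) fun y hy => ?_
      by_contra hne
      refine hli (P.disj l i x hx hx1 y⁻¹ (by rwa [inv_inv]))
    have hexp : psi (P.selfCent i) (F i) x =
        ∑ χ : Cfsg.IrrCharacter G, (c i χ : ℂ) * (χ : G → ℂ) x := by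
      rw [classFunction_apply_eq_sum (IsGen.isClassFunction (psi_gen _ _)) x]
      simp only [hc]
    let v : ι → ℤ := fun m => if m = l ∨ m = i then 0 else b m l
    have hterm : ∀ m k, (c i ((F m).θ k) : ℂ) * ((F m).θ k : G → ℂ) x =
        ((b m i * v m : ℤ) : ℂ) := by
      intro m k
      by_cases hml : m = l
      · subst hml
        rw [hconst i m hli k, show c i ((F m).θ (F m).z) = 0 from hbl]
        simp [v]
      · have hvalm : ((F m).θ k : G → ℂ) x = (b m l : ℂ) := by
          have := hval l ((F m).θ k) (fun j => hdis m l hml k j) ⟨x, hx⟩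
            (fun e => hx1 (congrArg Subtype.val e))
          rw [this, hconst l m hml k]
        by_cases hmi : m = i
        · subst hmi
          rw [hvalm, show b m l = 0 from hbi]
          simp [v]
        · rw [hvalm, hconst i m hmi k]
          simp [v, b, hml, hmi]
    rw [hexp, ← Fintype.sum_bijective E₀ hE _ _ (fun _ => rfl), Fintype.sum_option,
      Fintype.sum_sigma] at hzero
    simp only [E₀, Option.elim_none, Option.elim_some, hone, hterm, trivChar_apply,
      Finset.sum_const, Finset.card_univ, Fintype.card_fin, Int.cast_one, mul_one] at hzero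
    have hz2 : (1 : ℤ) + ∑ m, ((F m).n : ℤ) * (b m i * v m) = 0 := by
      have : (((1 : ℤ) + ∑ m, ((F m).n : ℤ) * (b m i * v m) : ℤ) : ℂ) = ((0 : ℤ) : ℂ) := by
        push_cast
        simpa [nsmul_eq_mul] using hzero
      exact_mod_cast this
    have hdvd : (2 : ℤ) ∣ ∑ m, ((F m).n : ℤ) * (b m i * v m) :=
      Finset.dvd_sum fun m _ => Dvd.dvd.mul_right
        (by exact_mod_cast (F m).even.two_dvd) _
    omega
  -- the row of the member `θ i z`
  set θ := (F i).θ (F i).z
  obtain ⟨d, hd0, hd⟩ := IsIrr.exists_degree θ.2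
  obtain ⟨S, hS, hSb⟩ := self_bound (P.selfCent i) (F i)
  let N : ι → ℤ := fun l => (Subgroup.normalizer (P.A l : Set G)).index
  let a : ι → ℤ := fun l => Nat.card (P.A l)
  have hNea : ∀ l, N l * e l * a l = Nat.card G := fun l => by
    simp only [N, e, a]
    exact_mod_cast index_normalizer_mul (P.selfCent l)
  have hne1 : ∀ l, ((F l).n : ℤ) * e l + 1 = a l := fun l => by
    simp only [e, a]
    exact_mod_cast (F l).card_eq
  have hrow : (Nat.card G : ℤ) =
      (d : ℤ) * d + N i * S + ∑ l ∈ R, N l * ((a l - 1) * (b i l * b i l)) := by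
    have h := classInner_irr_self θ
    rw [Cfsg.classInner, inv_mul_eq_one₀ (Nat.cast_ne_zero.mpr Nat.card_pos.ne'),
      sum_partition P (f := fun g => (θ : G → ℂ) g * conj ((θ : G → ℂ) g))
        (fun g h => by simp only [IsIrr.isClassFunction θ.2 g h]),
      ← Finset.add_sum_erase _ _ (Finset.mem_univ i), ← hS] at h
    simp only [hd, map_natCast, nsmul_eq_mul] at h
    have hl : ∀ l ∈ R, ∑ x : P.A l, (if x = 1 then 0 else (θ : G → ℂ) x * conj ((θ : G → ℂ) x)) =
        (((a l - 1) * (b i l * b i l) : ℤ) : ℂ) := by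
      intro l hl
      have hli := Finset.ne_of_mem_erase hl
      have : ∀ x : P.A l, (if x = 1 then 0 else (θ : G → ℂ) x * conj ((θ : G → ℂ) x)) =
          if x = 1 then 0 else ((b i l * b i l : ℤ) : ℂ) := fun x => by
        split_ifs with hx
        · rfl
        · rw [hval l θ (fun j => hdis i l (Ne.symm hli) _ j) x hx]
          simp [b, θ]
      rw [Finset.sum_congr rfl fun x _ => this x, sum_ne_one_const, nsmul_eq_mul,
        Nat.cast_sub Nat.card_pos]
      simp only [a]
      push_cast
      ring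
    rw [Finset.sum_congr rfl fun l hl' => congrArg (fun t : ℂ => ((Subgroup.normalizer (P.A l : Set G)).index : ℂ) * t) (hl l hl')] at h
    have : ((Nat.card G : ℤ) : ℂ) =
        (((d : ℤ) * d + N i * S + ∑ l ∈ R, N l * ((a l - 1) * (b i l * b i l)) : ℤ) : ℂ) := by
      simp only [N]
      push_cast
      rw [h]
      push_cast
      ring
    exact_mod_cast this
  have htot : (Nat.card G : ℤ) = 1 + N i * (a i - 1) + ∑ l ∈ R, N l * (a l - 1) := by
    have h := sum_partition P (f := fun _ => (1 : ℤ)) (fun _ _ => rfl)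
    rw [← Finset.add_sum_erase _ _ (Finset.mem_univ i)] at h
    simp only [Finset.sum_const, Finset.card_univ, sum_ne_one_const, nsmul_eq_mul, mul_one,
      Nat.cast_sub (Nat.card_pos (α := P.A _)), ← Nat.card_eq_fintype_card] at h
    simp only [N, a]
    push_cast [Nat.cast_sub (Nat.card_pos (α := P.A _))] at h
    linarith
  let L := R.filter fun l => b l i ≠ 0
  have hsum1 : ∑ l ∈ R, N l * (a l - 1) ≤
      ∑ l ∈ R, N l * ((a l - 1) * (b i l * b i l)) + ∑ l ∈ L, N l * (a l - 1) := by
    rw [Finset.sum_filter, ← Finset.sum_add_distrib]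
    refine Finset.sum_le_sum fun l hl => ?_
    have ha1 : (1 : ℤ) ≤ a l := by
      simp only [a]
      exact_mod_cast Nat.card_pos
    have hN : (0 : ℤ) ≤ N l * (a l - 1) := mul_nonneg (by simp [N]) (by linarith)
    by_cases hb : b l i = 0
    · have := mul_self_pos.mpr (hreach l hl hb)
      rw [if_neg (not_not.mpr hb), add_zero]
      nlinarith
    · rw [if_pos hb]
      nlinarith [mul_self_nonneg (b i l)]
  have hL : (2 * (e i : ℤ) + 1) * ∑ l ∈ L, N l * (a l - 1) ≤
      (Nat.card G : ℤ) * ((e i : ℤ) - 1) := by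
    refine le_trans ?_ (mul_le_mul_of_nonneg_left hnorm (by positivity))
    rw [Finset.mul_sum, Finset.mul_sum]
    refine le_trans (Finset.sum_le_sum fun l hl => ?_)
      (Finset.sum_le_sum_of_subset_of_nonneg (Finset.filter_subset _ _)
        fun l _ _ => by have := mul_self_nonneg (b l i); positivity)
    have hb : (1 : ℤ) ≤ b l i * b l i :=
      Int.add_one_le_of_lt (mul_self_pos.mpr (Finset.mem_filter.mp hl).2)
    have hel : (e i : ℤ) ≤ e l := by exact_mod_cast hi l (Finset.mem_univ l)
    have h2 : (2 : ℤ) ≤ (F l).n := by exact_mod_cast (F l).two_le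
    have hal : 2 * (e i : ℤ) + 1 ≤ a l := by
      rw [← hne1]; nlinarith
    have hNn : (0 : ℤ) ≤ N l * ((F l).n * e l) := by positivity
    calc (2 * (e i : ℤ) + 1) * (N l * (a l - 1))
        ≤ a l * (N l * (a l - 1)) := by
          rw [← hne1 l, add_sub_cancel_right]
          exact mul_le_mul_of_nonneg_right (by rw [hne1]; exact hal) hNn
      _ = (Nat.card G : ℤ) * (F l).n := by rw [← hNea l, ← hne1 l]; ring
      _ ≤ (Nat.card G : ℤ) * ((F l).n * (b l i * b l i)) := by
          refine mul_le_mul_of_nonneg_left ?_ (by positivity)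
          nlinarith
  have hNpos : (0 : ℤ) ≤ N i := by simp [N]
  have he1 : (1 : ℤ) ≤ e i := by
    rcases Nat.eq_zero_or_pos (e i) with h | h
    · have := hNea i
      rw [h, Nat.cast_zero, mul_zero, zero_mul] at this
      have hp : (0 : ℤ) < Nat.card G := by exact_mod_cast Nat.card_pos
      omega
    · exact_mod_cast h
  have hai : 2 * (e i : ℤ) + 1 ≤ a i := by
    rw [← hne1]
    have : (2 : ℤ) ≤ (F i).n := by exact_mod_cast (F i).two_le
    nlinarith
  have hkey : (2 * (e i : ℤ) + 1) * ((d : ℤ) * d - 1) ≤ 0 := by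
    have h1 : (d : ℤ) * d - 1 ≤ N i * (a i - 1 - e i * (a i - e i)) + ∑ l ∈ L, N l * (a l - 1) := by
      have hSb' : N i * ((e i : ℤ) * (a i - e i)) ≤ N i * S :=
        mul_le_mul_of_nonneg_left hSb hNpos
      linarith
    have h2 := mul_le_mul_of_nonneg_left h1 (show (0 : ℤ) ≤ 2 * e i + 1 by positivity)
    have h3 : 0 ≤ N i * ((e i - 1) * ((e i + 1) * (a i - (2 * e i + 1)))) :=
      mul_nonneg hNpos (mul_nonneg (by linarith) (mul_nonneg (by linarith) (by linarith)))
    have h4 := hNea i
    nlinarith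
  have hd1 : (d : ℤ) * d ≤ 1 := by nlinarith
  have : d = 1 := by
    have : d * d ≤ 1 := by exact_mod_cast hd1
    nlinarith
  exact fam_ne_triv hperf (P.selfCent i) (F i) (F i).z
    (eq_triv_of_degree_one hperf (by rw [hd, this, Nat.cast_one]))

end Main

section Construction

universe u
variable {G : Type u} [Group G] [Fintype G]

theorem exists_partition
    (hCA : ∀ x : G, x ≠ 1 → ∀ a ∈ Subgroup.centralizer ({x} : Set G),
      ∀ b ∈ Subgroup.centralizer ({x} : Set G), a * b = b * a) [Nontrivial G] :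
    ∃ (κ : Type u) (_ : Fintype κ) (_ : Nonempty κ), Nonempty (Partition G κ) := by
  have hsc : ∀ x : G, x ≠ 1 → SelfCent (Subgroup.centralizer ({x} : Set G)) := by
    intro x hx y hy hy1
    refine le_antisymm (fun z hz => ?_) fun z hz =>
      Subgroup.mem_centralizer_singleton_iff.mpr (hCA x hx z hz y hy)
    have hxy : x ∈ Subgroup.centralizer ({y} : Set G) :=
      Subgroup.mem_centralizer_singleton_iff.mpr
        (Subgroup.mem_centralizer_singleton_iff.mp hy).symm
    exact Subgroup.mem_centralizer_singleton_iff.mpr (hCA y hy1 z hz x hxy)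
  let X := {x : G // x ≠ 1}
  have key : ∀ (x y : X) (g : G), g * x.1 * g⁻¹ ∈ Subgroup.centralizer ({y.1} : Set G) →
      g⁻¹ * y.1 * g ∈ Subgroup.centralizer ({x.1} : Set G) := by
    intro x y g h
    rw [Subgroup.mem_centralizer_singleton_iff] at h ⊢
    calc g⁻¹ * y.1 * g * x.1 = g⁻¹ * (y.1 * (g * x.1 * g⁻¹)) * g := by group
      _ = g⁻¹ * (g * x.1 * g⁻¹ * y.1) * g := by rw [h]
      _ = _ := by group
  let s : Setoid X :=
    { r := fun x y => ∃ g : G, g * x.1 * g⁻¹ ∈ Subgroup.centralizer ({y.1} : Set G)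
      iseqv :=
        { refl := fun x => ⟨1, by simp [Subgroup.mem_centralizer_singleton_iff]⟩
          symm := fun {x y} ⟨g, hg⟩ => ⟨g⁻¹, by rw [inv_inv]; exact key x y g hg⟩
          trans := fun {x y w} ⟨g, hg⟩ ⟨h, hh⟩ => ⟨h * g, by
            have hgx : g * x.1 * g⁻¹ ≠ 1 := fun e => x.2 (conj_eq_one_iff.mp e)
            have e1 : Subgroup.centralizer ({h * y.1 * h⁻¹} : Set G) =
                Subgroup.centralizer ({w.1} : Set G) :=
              hsc w.1 w.2 _ hh fun e => y.2 (conj_eq_one_iff.mp e)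
            rw [← e1, Subgroup.mem_centralizer_singleton_iff]
            rw [Subgroup.mem_centralizer_singleton_iff] at hg
            calc h * g * x.1 * (h * g)⁻¹ * (h * y.1 * h⁻¹)
                = h * (g * x.1 * g⁻¹ * y.1) * h⁻¹ := by group
              _ = h * (y.1 * (g * x.1 * g⁻¹)) * h⁻¹ := by rw [hg]
              _ = _ := by group⟩ } }
  obtain ⟨x₀, hx₀⟩ := exists_ne (1 : G)
  refine ⟨Quotient s, inferInstance, ⟨Quotient.mk s ⟨x₀, hx₀⟩⟩, ⟨{
    A := fun q => Subgroup.centralizer ({q.out.1} : Set G)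
    selfCent := fun q => hsc _ q.out.2
    ne_bot := fun q e => q.out.2 (by
      have : q.out.1 ∈ Subgroup.centralizer ({q.out.1} : Set G) :=
        Subgroup.mem_centralizer_singleton_iff.mpr rfl
      rwa [e, Subgroup.mem_bot] at this)
    cover := fun y hy => ?_
    disj := fun l m a ha ha1 g hg => ?_ }⟩⟩
  · obtain ⟨g, hg⟩ := Quotient.exact (s := s) (Quotient.out_eq (Quotient.mk s ⟨y, hy⟩)).symm
    exact ⟨_, g⁻¹, _, hg, by group⟩
  · have h1 : l.out ≈ ⟨a, ha1⟩ := ⟨1, by
      rw [Subgroup.mem_centralizer_singleton_iff] at ha ⊢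
      simpa using ha.symm⟩
    have h2 : (⟨a, ha1⟩ : X) ≈ m.out := ⟨g, hg⟩
    rw [← l.out_eq, ← m.out_eq]
    exact Quotient.sound (Setoid.trans h1 h2)

theorem subsingleton_of_perfect (hperf : commutator G = ⊤) (hodd : Odd (Nat.card G))
    (hCA : ∀ x : G, x ≠ 1 → ∀ a ∈ Subgroup.centralizer ({x} : Set G),
      ∀ b ∈ Subgroup.centralizer ({x} : Set G), a * b = b * a) : Subsingleton G := by
  by_contra h
  have := not_subsingleton_iff_nontrivial.mp h
  obtain ⟨κ, _, hκ, ⟨P⟩⟩ := exists_partition hCA
  exact false_of_partition hperf P hκ hodd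

end Construction

end CfsgLib.CA
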