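import Cfsg.Agent.Lib.Char.CAFamily
import Cfsg.Agent.Lib.Char.Complete
import Cfsg.Prelude.Def_Blocks

/-!
# The coefficients of the characters induced from `1 - λ` on a self-centralizing subgroup

* `vanish`: a character orthogonal to all of them vanishes on `A \ 1` and its degree is a multiple of `|A|`
* `exists_coef`: their coefficients away from the trivial character and a character constant on `A \ 1`
* `card_biUnion_le`: three-element sets meeting pairwise in two elements
-/

set_option autoImplicit false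

namespace CfsgLib.CA

open CfsgLib.Char
open scoped ComplexConjugate Classical

variable {G : Type*} [Group G] [Fintype G] {A : Subgroup G}

local notation "NA" => Subgroup.normalizer (A : Set G)

/-- The character induced from `1 - λ`. -/
noncomputable def psiOf (A : Subgroup G) (lam : Cfsg.IrrCharacter A) : G → ℂ :=
  Cfsg.indFun A ((fun _ : A => (1 : ℂ)) - (lam : A → ℂ))

theorem psiOf_classInner (lam : Cfsg.IrrCharacter A) [Fintype A] (χ : Cfsg.IrrCharacter G) :
    Cfsg.classInner (psiOf A lam) (χ : G → ℂ) =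
      Cfsg.classInner (fun _ : A => (1 : ℂ)) (fun x : A => (χ : G → ℂ) x) -
        Cfsg.classInner (lam : A → ℂ) (fun x : A => (χ : G → ℂ) x) := by
  rw [psiOf, frobenius_reciprocity A _ (IsIrr.isClassFunction χ.2), classInner_sub_left]

theorem psiOf_gen (lam : Cfsg.IrrCharacter A) : Cfsg.IsGeneralizedCharacter G (psiOf A lam) :=
  IsGen.indFun (IsGen.sub (IsGen.of_isCharacter isCharacter_one) (IsGen.of_irr lam.2))

theorem psiOf_isClass (lam : Cfsg.IrrCharacter A) : Cfsg.IsClassFunction G (psiOf A lam) :=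
  isClassFunction_indFun A _

theorem psiOf_one (hA : SelfCent A) (lam : Cfsg.IrrCharacter A) : psiOf A lam 1 = 0 := by
  rw [psiOf, indFun_apply_one, Pi.sub_apply, degree_one hA, sub_self, mul_zero]

theorem psiOf_eq_zero (hA : SelfCent A) (lam : Cfsg.IrrCharacter A) {y : G}
    (hy : ∀ x : G, x⁻¹ * y * x ∈ A → x⁻¹ * y * x = 1) : psiOf A lam y = 0 :=
  indFun_eq_zero (by rw [Pi.sub_apply, degree_one hA, sub_self]) hy

theorem psiOf_inner_triv (lam : Cfsg.IrrCharacter A) (h : lam ≠ trivChar A) :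
    Cfsg.classInner (psiOf A lam) (trivChar G : G → ℂ) = 1 := by
  rw [psiOf_classInner]
  simp only [trivChar_apply]
  rw [classInner_triv_self, classInner_triv_right _ h, sub_zero]

theorem psiOf_inner_const (hA : SelfCent A) (lam : Cfsg.IrrCharacter A) (h : lam ≠ trivChar A)
    (S : Cfsg.IrrCharacter G) (s : ℤ) (hs : ∀ a ∈ A, a ≠ 1 → (S : G → ℂ) a = s) :
    Cfsg.classInner (psiOf A lam) (S : G → ℂ) = s := by
  classical
  have e : Cfsg.classInner (fun x : A => (1 : ℂ) - (lam : A → ℂ) x) (fun x : A => (S : G → ℂ) x) =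
      Cfsg.classInner (fun x : A => (1 : ℂ) - (lam : A → ℂ) x) (fun _ : A => (s : ℂ)) := by
    simp only [Cfsg.classInner]
    congr 1
    refine Finset.sum_congr rfl fun a _ => ?_
    by_cases ha : a = 1
    · subst ha
      rw [degree_one hA, sub_self, zero_mul, zero_mul]
    · rw [hs a a.2 fun e => ha (Subtype.ext e)]
  rw [psiOf, frobenius_reciprocity A _ (IsIrr.isClassFunction S.2)]
  refine e.trans ?_
  rw [show (fun _ : A => (s : ℂ)) = (s : ℂ) • (fun _ : A => (1 : ℂ)) from funext fun _ => by simp,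
    classInner_smul_right, show (fun x : A => (1 : ℂ) - (lam : A → ℂ) x) = (fun _ : A => (1 : ℂ)) - (lam : A → ℂ) from rfl,
    classInner_sub_left, classInner_triv_self, classInner_triv_right _ h, sub_zero, mul_one, map_intCast]

/-- Reduction to representatives of the orbits of the normalizer. -/
theorem vanish (hA : SelfCent A) {n : ℕ} {r : Fin n → Cfsg.IrrCharacter A}
    (hall : ∀ lam : Cfsg.IrrCharacter A, lam ≠ trivChar A →
      ∃ j, ∃ g : NA, (r j : A → ℂ) ∘ cj A g = (lam : A → ℂ))
    (χ : Cfsg.IrrCharacter G) (h0 : ∀ j, Cfsg.classInner (psiOf A (r j)) (χ : G → ℂ) = 0) :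
    Nat.card A ∣ Cfsg.charDegree (χ : G → ℂ) ∧ ∀ a ∈ A, a ≠ 1 → (χ : G → ℂ) a = 0 := by
  classical
  have := Fintype.ofFinite (Cfsg.IrrCharacter A)
  set h : A → ℂ := fun x => (χ : G → ℂ) x with hh
  have hch : Cfsg.IsCharacter A h := IsChar.restrict A (IsIrr.isCharacter χ.2)
  obtain ⟨c, hc⟩ := IsChar.classInner_eq_natCast hch (IsIrr.isCharacter (trivChar A).2)
  have key : ∀ lam : Cfsg.IrrCharacter A, Cfsg.classInner h (lam : A → ℂ) = (c : ℂ) := by
    intro lam
    by_cases hlam : lam = trivChar A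
    · rw [hlam, hc]
    obtain ⟨j, g, hg⟩ := hall lam hlam
    have h1 := h0 j
    rw [psiOf_classInner, sub_eq_zero] at h1
    have h2 := congrArg (starRingEnd ℂ) h1
    rw [classInner_conj_symm, classInner_conj_symm] at h2
    rw [← hg, hh, classInner_comp_cj g (res_comp_cj (IsIrr.isClassFunction χ.2) g), ← h2, ← hc]
    rfl
  have hclass : Cfsg.IsClassFunction A h := IsChar.isClassFunction hch
  refine ⟨?_, fun a ha ha1 => ?_⟩
  · have h1 := classFunction_apply_eq_sum hclass 1
    simp only [key, degree_one hA, mul_one, Finset.sum_const, Finset.card_univ, nsmul_eq_mul] at h1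
    refine ⟨c, ?_⟩
    have hk : Fintype.card (Cfsg.IrrCharacter A) = Nat.card A := by
      rw [← Nat.card_eq_fintype_card, card_irrCharacter]
      refine (Nat.card_congr (Equiv.ofBijective ConjClasses.mk
        ⟨fun a b h => ?_, ConjClasses.mk_surjective⟩)).symm
      obtain ⟨k, hk⟩ := isConj_iff.mp (ConjClasses.mk_eq_mk_iff_isConj.mp h)
      rwa [comm hA k, mul_inv_cancel_right] at hk
    have h2 : (χ : G → ℂ) 1 = ((Nat.card A * c : ℕ) : ℂ) := by
      rw [hk] at h1
      rw [Nat.cast_mul, ← h1]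
      rfl
    rw [Cfsg.charDegree, h2, Complex.natCast_re, Nat.floor_natCast]
  · have h1 := classFunction_apply_eq_sum hclass (⟨a, ha⟩ : A)
    simp only [key, ← Finset.mul_sum] at h1
    have hreg : ∑ lam : Cfsg.IrrCharacter A, (lam : A → ℂ) ⟨a, ha⟩ = 0 := by
      have := sum_degree_mul_apply_of_ne_one (G := A) (g := ⟨a, ha⟩) fun e => ha1 (congrArg Subtype.val e)
      simpa [degree_one hA] using this
    rw [hreg, mul_zero] at h1
    exact h1

theorem psiOf_inner_self (hA : SelfCent A) {n : ℕ} {r : Fin n → Cfsg.IrrCharacter A}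
    (hne : ∀ j, r j ≠ trivChar A)
    (horb : ∀ j k, j ≠ k → ∀ g : NA, (r j : A → ℂ) ∘ cj A g ≠ (r k : A → ℂ)) (j k : Fin n) :
    Cfsg.classInner (psiOf A (r j)) (psiOf A (r k)) =
      (A.relIndex NA : ℂ) + if j = k then 1 else 0 := by
  have h0 : ((fun _ : A => (1 : ℂ)) - (r k : A → ℂ)) 1 = 0 := by rw [Pi.sub_apply, degree_one hA, sub_self]
  have h := classInner_indFun hA ((fun _ : A => (1 : ℂ)) - (r j : A → ℂ)) h0
  have hcomp : ∀ g : NA, ((fun _ : A => (1 : ℂ)) - (r k : A → ℂ)) ∘ cj A g =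
      (fun _ : A => (1 : ℂ)) - (r k : A → ℂ) ∘ cj A g := fun g => rfl
  simp only [hcomp, classInner_sub_left, classInner_sub_right, Finset.sum_sub_distrib,
    sum_classInner_comp hA hne horb, classInner_triv_self, classInner_triv_comp _ (hne k),
    classInner_triv_right _ (hne j), Finset.sum_const, nsmul_eq_mul, smul_zero, mul_zero] at h
  have h2 := Subgroup.index_mul_card (A.subgroupOf NA)
  rw [Nat.card_congr (Subgroup.subgroupOfEquivOfLe (Subgroup.le_normalizer (H := A))).toEquiv,
    ← Subgroup.relIndex, Nat.card_eq_fintype_card (α := NA)] at h2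
  rw [Finset.card_univ, ← h2] at h
  refine mul_left_cancel₀ (Nat.cast_ne_zero.mpr (Nat.card_pos (α := A)).ne' : (Nat.card A : ℂ) ≠ 0)
    (h.trans ?_)
  push_cast
  by_cases hjk : j = k
  · rw [if_pos hjk.symm, if_pos hjk]; ring
  · rw [if_neg (Ne.symm hjk), if_neg hjk]; ring

/-- The coefficients of the `ind (1 - λ)`, one `λ` from each orbit. -/
theorem exists_coef [Fintype (Cfsg.IrrCharacter G)] [DecidableEq (Cfsg.IrrCharacter G)] (hA : SelfCent A) {e : ℕ}
    (he : A.relIndex NA = e) (S : Cfsg.IrrCharacter G) (hS : S ≠ trivChar G) (s : ℤ) (hs2 : s * s = 1)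
    (hs : ∀ a ∈ A, a ≠ 1 → (S : G → ℂ) a = s) :
    ∃ (n : ℕ) (r : Fin n → Cfsg.IrrCharacter A) (c : Fin n → Cfsg.IrrCharacter G → ℤ),
      n * e + 1 = Nat.card A ∧
      (∀ j (χ : Cfsg.IrrCharacter G), Cfsg.classInner (psiOf A (r j)) (χ : G → ℂ) = (c j χ : ℂ)) ∧
      (∀ j, c j (trivChar G) = 1) ∧ (∀ j, c j S = s) ∧
      (∀ j k, ∑ χ ∈ (Finset.univ.erase (trivChar G)).erase S, c j χ * c k χ =
        (e : ℤ) - 2 + if j = k then 1 else 0) ∧
      (∀ j, ∑ χ ∈ (Finset.univ.erase (trivChar G)).erase S, c j χ * (Cfsg.charDegree (χ : G → ℂ) : ℤ) =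
        -1 - s * (Cfsg.charDegree (S : G → ℂ) : ℤ)) ∧
      ∀ χ : Cfsg.IrrCharacter G, (∀ j, c j χ = 0) →
        Nat.card A ∣ Cfsg.charDegree (χ : G → ℂ) ∧ ∀ a ∈ A, a ≠ 1 → (χ : G → ℂ) a = 0 := by
  classical
  obtain ⟨n, r, hcard, hne, horb, hall, -⟩ := exists_reps hA
  have hint : ∀ j (χ : Cfsg.IrrCharacter G), ∃ z : ℤ, Cfsg.classInner (psiOf A (r j)) (χ : G → ℂ) = (z : ℂ) :=
    fun j χ => IsGen.exists_classInner_eq_intCast (psiOf_gen _) (IsGen.of_irr χ.2)
  choose c hc using hint
  have hct : ∀ j, c j (trivChar G) = 1 := fun j => by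
    exact_mod_cast (hc j (trivChar G)).symm.trans (psiOf_inner_triv _ (hne j))
  have hcS : ∀ j, c j S = s := fun j => by
    exact_mod_cast (hc j S).symm.trans (psiOf_inner_const hA _ (hne j) S s hs)
  refine ⟨n, r, c, he ▸ hcard, hc, hct, hcS, fun j k => ?_, fun j => ?_, fun χ h0 => ?_⟩
  · have h := classInner_eq_sum (psiOf_isClass (r j)) (psiOf A (r k))
    rw [psiOf_inner_self hA hne horb j k, he] at h
    simp only [hc, map_intCast] at h
    rw [← Finset.add_sum_erase _ _ (Finset.mem_univ (trivChar G)),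
      ← Finset.add_sum_erase _ _ (Finset.mem_erase.2 ⟨hS, Finset.mem_univ S⟩), hct, hct, hcS, hcS] at h
    have h' : (e : ℤ) + (if j = k then 1 else 0) = 1 * 1 +
        (s * s + ∑ χ ∈ (Finset.univ.erase (trivChar G)).erase S, c j χ * c k χ) := by
      exact_mod_cast h
    rw [hs2] at h'
    omega
  · have h := classFunction_apply_eq_sum (psiOf_isClass (r j)) 1
    rw [psiOf_one hA] at h
    have hdeg : ∀ χ : Cfsg.IrrCharacter G, (χ : G → ℂ) 1 = (Cfsg.charDegree (χ : G → ℂ) : ℂ) := fun χ => by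
      obtain ⟨d, -, hd⟩ := IsIrr.exists_degree χ.2
      rw [Cfsg.charDegree, hd, Complex.natCast_re, Nat.floor_natCast]
    have ht : Cfsg.charDegree (trivChar G : G → ℂ) = 1 := by
      simp [Cfsg.charDegree, trivChar_apply]
    simp only [hc, hdeg] at h
    rw [← Finset.add_sum_erase _ _ (Finset.mem_univ (trivChar G)),
      ← Finset.add_sum_erase _ _ (Finset.mem_erase.2 ⟨hS, Finset.mem_univ S⟩), hct, hcS, ht] at h
    have h' : (0 : ℤ) = 1 * 1 + (s * (Cfsg.charDegree (S : G → ℂ) : ℤ) +
        ∑ χ ∈ (Finset.univ.erase (trivChar G)).erase S, c j χ * (Cfsg.charDegree (χ : G → ℂ) : ℤ)) := by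
      exact_mod_cast h
    omega
  · exact vanish hA hall χ fun j => by rw [hc, h0 j, Int.cast_zero]

/-- Three-element sets meeting pairwise in two elements have a union of at most `n + 2` elements. -/
theorem card_biUnion_le {α ι : Type*} [DecidableEq α] [Fintype ι] (S : ι → Finset α)
    (h3 : ∀ j, (S j).card = 3) (h2 : ∀ j k, j ≠ k → (S j ∩ S k).card = 2) :
    (Finset.univ.biUnion S).card ≤ Fintype.card ι + 2 := by
  classical
  rcases le_or_gt (Fintype.card ι) 1 with h1 | h1
  · refine Finset.card_biUnion_le.trans ?_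
    simp only [h3, Finset.sum_const, Finset.card_univ, smul_eq_mul]
    omega
  obtain ⟨i₁, i₂, h12⟩ := Fintype.exists_pair_of_one_lt_card h1
  let W := S i₁ ∪ S i₂
  have hW : W.card = 4 := by
    have := Finset.card_union_add_card_inter (S i₁) (S i₂)
    rw [h3, h3, h2 _ _ h12] at this
    show (S i₁ ∪ S i₂).card = 4
    omega
  let J : Finset ι := (Finset.univ.erase i₁).erase i₂
  have hJ : J.card + 2 = Fintype.card ι := by
    have e1 : J.card = (Finset.univ.erase i₁).card - 1 :=
      Finset.card_erase_of_mem (Finset.mem_erase.2 ⟨h12.symm, Finset.mem_univ _⟩)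
    rw [Finset.card_erase_of_mem (Finset.mem_univ _), Finset.card_univ] at e1
    omega
  have hadd : ∀ j ∈ J, (S j \ W).card ≤ 1 := fun j hj => by
    simp only [J, Finset.mem_erase, Finset.mem_univ, and_true] at hj
    have e1 : (S j ∩ S i₁).card ≤ (S j ∩ W).card :=
      Finset.card_le_card (Finset.inter_subset_inter_left Finset.subset_union_left)
    have e2 := Finset.card_sdiff_add_card_inter (S j) W
    rw [h2 _ _ hj.2] at e1
    rw [h3] at e2
    omega
  calc (Finset.univ.biUnion S).card ≤ (W ∪ J.biUnion fun j => S j \ W).card := by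
        refine Finset.card_le_card fun x hx => ?_
        obtain ⟨j, -, hj⟩ := Finset.mem_biUnion.1 hx
        by_cases hxW : x ∈ W
        · exact Finset.mem_union_left _ hxW
        refine Finset.mem_union_right _ (Finset.mem_biUnion.2 ⟨j, ?_, Finset.mem_sdiff.2 ⟨hj, hxW⟩⟩)
        simp only [J, Finset.mem_erase, Finset.mem_univ, and_true]
        exact ⟨fun e => hxW (Finset.mem_union_right _ (e ▸ hj)), fun e => hxW (Finset.mem_union_left _ (e ▸ hj))⟩
    _ ≤ 4 + J.card := (Finset.card_union_le _ _).trans (Nat.add_le_add hW.le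
        ((Finset.card_biUnion_le).trans ((Finset.sum_le_sum hadd).trans (by simp))))
    _ ≤ _ := by omega

/-- Integral vectors of squared length three: the supports have three elements, and two of them with
inner product two share exactly two. -/
theorem supports {α : Type*} [DecidableEq α] (R : Finset α) {n : ℕ} (c : Fin n → α → ℤ)
    (hc : ∀ j k, ∑ x ∈ R, c j x * c k x = 2 + if j = k then 1 else 0) :
    (∀ j, (R.filter fun x => c j x ≠ 0).card = 3) ∧
      ∀ j k, j ≠ k → ((R.filter fun x => c j x ≠ 0) ∩ (R.filter fun x => c k x ≠ 0)).card = 2 := by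
  have hsmall : ∀ j, ∀ x ∈ R, c j x = 0 ∨ c j x = 1 ∨ c j x = -1 := fun j x hx => by
    have h := hc j j
    rw [if_pos rfl] at h
    have h1 : c j x * c j x ≤ 3 :=
      (Finset.single_le_sum (f := fun y => c j y * c j y) (fun y _ => mul_self_nonneg _) hx).trans
        (by omega)
    have h2 : -1 ≤ c j x ∧ c j x ≤ 1 := by constructor <;> nlinarith
    omega
  have h3 : ∀ j, (R.filter fun x => c j x ≠ 0).card = 3 := fun j => by
    have h := hc j j
    rw [if_pos rfl, ← Finset.sum_filter_of_ne (p := fun x => c j x ≠ 0)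
      (fun x _ hx => left_ne_zero_of_mul hx), Finset.sum_congr rfl (g := fun _ => (1 : ℤ))] at h
    · simp only [Finset.sum_const, nsmul_eq_mul, mul_one] at h
      omega
    · intro x hx
      obtain ⟨hxR, hx0⟩ := Finset.mem_filter.1 hx
      rcases hsmall j x hxR with e | e | e
      · exact absurd e hx0
      all_goals rw [e]; norm_num
  refine ⟨h3, fun j k hjk => ?_⟩
  obtain ⟨U, hU⟩ : ∃ U, U = (R.filter fun x => c j x ≠ 0) ∩ (R.filter fun x => c k x ≠ 0) := ⟨_, rfl⟩
  have hval : ∀ x ∈ U, c j x * c k x = 1 ∨ c j x * c k x = -1 := fun x hx => by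
    simp only [hU, Finset.mem_inter, Finset.mem_filter] at hx
    obtain ⟨⟨hxR, hxj⟩, -, hxk⟩ := hx
    rcases hsmall j x hxR with e | e | e <;> rcases hsmall k x hxR with e' | e' | e' <;>
      simp_all
  have h := hc j k
  rw [if_neg hjk, add_zero, ← Finset.sum_filter_of_ne (p := fun x => c j x ≠ 0 ∧ c k x ≠ 0)
      (fun x _ hx => ⟨left_ne_zero_of_mul hx, right_ne_zero_of_mul hx⟩),
    show R.filter (fun x => c j x ≠ 0 ∧ c k x ≠ 0) = U by rw [hU]; ext x; simp; tauto] at h
  rw [← hU]
  have hle : U.card ≤ 3 := hU ▸ (Finset.card_le_card Finset.inter_subset_left).trans (h3 j).le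
  have hbound : ∑ x ∈ U, c j x * c k x ≤ U.card := by
    refine (Finset.sum_le_sum (g := fun _ => (1 : ℤ)) fun x hx => ?_).trans (by simp)
    rcases hval x hx with e | e <;> rw [e] <;> norm_num
  have hpar : (∑ x ∈ U, c j x * c k x) % 2 = (U.card : ℤ) % 2 := by
    rw [Finset.sum_int_mod, Finset.sum_congr rfl (g := fun _ => (1 : ℤ))]
    · simp
    · intro x hx
      rcases hval x hx with e | e <;> rw [e] <;> norm_num
  omega

end CfsgLib.CA
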