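import Cfsg.Agent.Lib.Char.CAFamily
import Cfsg.Agent.Lib.CharDegree.Basic
import Cfsg.Agent.Lib.Char.Real

/-!
# Exceptional characters from linear characters of a TI subgroup

A subgroup `A` containing the centralizers of its non-identity elements and meeting its other
conjugates trivially.  The linear characters of `A` give a family of irreducible characters of `G`;
no commutativity or coherence is needed.
-/

set_option linter.unusedSectionVars false

namespace CfsgLib.CNTI

open CfsgLib.Char CfsgLib.CA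
open scoped ComplexConjugate Classical

variable {G : Type*} [Group G]

/-- `A` contains the centralizers of its non-identity elements and is a TI subgroup. -/
structure TIK (A : Subgroup G) : Prop where
  cent : ∀ x ∈ A, x ≠ 1 → Subgroup.centralizer ({x} : Set G) ≤ A
  ti : ∀ g : G, g ∉ Subgroup.normalizer (A : Set G) → ∀ x ∈ A, g * x * g⁻¹ ∈ A → x = 1

/-- The index of the derived subgroup. -/
noncomputable def linCard (A : Subgroup G) : ℕ := (commutator A).index

/-- The order of the derived subgroup. -/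
noncomputable def derCard (A : Subgroup G) : ℕ := Nat.card (commutator A)

theorem linCard_mul_derCard (A : Subgroup G) : linCard A * derCard A = Nat.card A :=
  Subgroup.index_mul_card _

variable {A : Subgroup G}

theorem lin_map_mul {lam : Cfsg.IrrCharacter A} (h1 : (lam : A → ℂ) 1 = 1) (x y : A) :
    (lam : A → ℂ) (x * y) = (lam : A → ℂ) x * (lam : A → ℂ) y := by
  obtain ⟨l, hl⟩ := exists_linear_of_degree_one (IsIrr.isCharacter lam.2) h1
  simp [hl]

theorem lin_ne_zero {lam : Cfsg.IrrCharacter A} (h1 : (lam : A → ℂ) 1 = 1) (x : A) :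
    (lam : A → ℂ) x ≠ 0 := fun h => by
  have := lin_map_mul h1 x x⁻¹
  rw [mul_inv_cancel, h1, h, zero_mul] at this
  exact one_ne_zero this

theorem lin_commutator {lam : Cfsg.IrrCharacter A} (h1 : (lam : A → ℂ) 1 = 1) {x : A}
    (hx : x ∈ commutator A) : (lam : A → ℂ) x = 1 := by
  obtain ⟨l, hl⟩ := exists_linear_of_degree_one (IsIrr.isCharacter lam.2) h1
  have : x ∈ l.ker := Abelianization.commutator_subset_ker l hx
  simp [hl, MonoidHom.mem_ker.mp this]

/-- Column orthogonality for linear characters. -/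
theorem sum_lin [Finite G] [Fintype (Cfsg.IrrCharacter A)] (x : A) :
    ∑ lam ∈ Finset.univ.filter (fun lam : Cfsg.IrrCharacter A => (lam : A → ℂ) 1 = 1),
        (lam : A → ℂ) x = if x ∈ commutator A then (linCard A : ℂ) else 0 := by
  have := Fintype.ofFinite (Cfsg.IrrCharacter (A ⧸ commutator A))
  have hdeg : ∀ ψ : Cfsg.IrrCharacter (A ⧸ commutator A), (ψ : A ⧸ commutator A → ℂ) 1 = 1 :=
    fun ψ => by
      rw [← CharDegree.cast_irrDegree ψ,
        CharDegree.charDegree_of_comm CharDegree.quotient_commutator_comm ψ, Nat.cast_one]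
  have hmem : ∀ lam : Cfsg.IrrCharacter A,
      lam ∈ Finset.univ.filter (fun lam : Cfsg.IrrCharacter A => (lam : A → ℂ) 1 = 1) ↔
        ∃ ψ, CharDegree.infl (commutator A) ψ = lam := by
    intro lam
    rw [Finset.mem_filter]
    constructor
    · exact fun h => CharDegree.exists_infl (commutator A) lam fun g hg => by
        rw [lin_commutator h.2 hg, h.2]
    · rintro ⟨ψ, rfl⟩
      refine ⟨Finset.mem_univ _, ?_⟩
      rw [CharDegree.infl_apply]
      exact hdeg ψ
  rw [← Finset.sum_bij (fun ψ _ => CharDegree.infl (commutator A) ψ)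
    (s := (Finset.univ : Finset (Cfsg.IrrCharacter (A ⧸ commutator A))))
    (f := fun ψ => (ψ : A ⧸ commutator A → ℂ) (x : A ⧸ commutator A))
    (fun ψ _ => (hmem _).2 ⟨ψ, rfl⟩)
    (fun a _ b _ h => CharDegree.infl_injective _ h)
    (fun lam hlam => ((hmem lam).1 hlam).imp fun ψ h => ⟨Finset.mem_univ _, h⟩)
    (fun ψ _ => rfl)]
  split_ifs with hx
  · rw [(QuotientGroup.eq_one_iff x).mpr hx, Finset.sum_congr rfl fun ψ _ => hdeg ψ,
      Finset.sum_const, nsmul_one, Finset.card_univ, ← Nat.card_eq_fintype_card, card_irrCharacter,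
      linCard, Subgroup.index_eq_card]
    congr 1
    refine (Nat.card_congr (Equiv.ofBijective
      (ConjClasses.mk : A ⧸ commutator A → ConjClasses (A ⧸ commutator A))
      ⟨fun a b h => ?_, fun C => Quotient.inductionOn C fun g => ⟨g, rfl⟩⟩)).symm
    obtain ⟨c, hc⟩ := isConj_iff.mp (ConjClasses.mk_eq_mk_iff_isConj.mp h)
    rw [← hc, CharDegree.quotient_commutator_comm c a, mul_inv_cancel_right]
  · have h := sum_degree_mul_apply_of_ne_one (g := (x : A ⧸ commutator A))
      fun e => hx ((QuotientGroup.eq_one_iff x).mp e)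
    simpa [hdeg] using h

theorem card_lin [Finite G] [Fintype (Cfsg.IrrCharacter A)] :
    (Finset.univ.filter (fun lam : Cfsg.IrrCharacter A => (lam : A → ℂ) 1 = 1)).card =
      linCard A := by
  have h := sum_lin (A := A) 1
  rw [if_pos (one_mem _), Finset.sum_congr rfl fun lam hlam => (Finset.mem_filter.mp hlam).2,
    Finset.sum_const, nsmul_one, Nat.cast_inj] at h
  exact h

/-! ### The action of the normalizer -/

local notation "NA" => Subgroup.normalizer (A : Set G)

theorem mem_normalizer_of_conj_mem (hA : TIK A) {a x : G} (ha : a ∈ A) (ha1 : a ≠ 1)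
    (hx : x * a * x⁻¹ ∈ A) : x ∈ NA := by
  by_contra h
  exact ha1 (hA.ti x h a ha hx)

theorem lin_fix_iff [Finite G] (hA : TIK A) {lam : Cfsg.IrrCharacter A}
    (hl : (lam : A → ℂ) 1 = 1) (h1 : lam ≠ trivChar A) (g : NA) :
    (lam : A → ℂ) ∘ cj A g = (lam : A → ℂ) ↔ (g : G) ∈ A := by
  constructor
  · intro hfix
    by_contra hg
    have hinj : Function.Injective (fun x : A => x⁻¹ * cj A g x) := by
      intro x y h
      simp only at h
      have h' : cj A g (y * x⁻¹) = y * x⁻¹ := by
        rw [map_mul, map_inv]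
        have : cj A g y = y * (x⁻¹ * cj A g x) := by rw [h]; group
        rw [this]; group
      by_contra hne
      have hu : y * x⁻¹ ≠ 1 := fun e => hne (mul_inv_eq_one.mp e).symm
      refine hg (hA.cent _ (y * x⁻¹).2 (fun e => hu (Subtype.ext e))
        (Subgroup.mem_centralizer_singleton_iff.mpr ?_))
      exact mul_inv_eq_iff_eq_mul.mp (congrArg Subtype.val h')
    refine h1 (Subtype.ext (funext fun y => ?_))
    obtain ⟨x, rfl⟩ := Finite.surjective_of_injective hinj y
    have hgx : (lam : A → ℂ) (cj A g x) = (lam : A → ℂ) x := congrFun hfix x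
    rw [trivChar_apply, lin_map_mul hl, hgx, ← lin_map_mul hl, inv_mul_cancel, hl]
  · intro hg
    funext a
    have : cj A g a = ⟨g, hg⟩ * a * (⟨g, hg⟩ : A)⁻¹ := Subtype.ext rfl
    rw [Function.comp_apply, this, IsIrr.isClassFunction lam.2]

variable [Fintype G] [Fintype A] [Fintype (Subgroup.normalizer (A : Set G))]

theorem indFun_coe (hA : TIK A) {f : A → ℂ} (h0 : f 1 = 0) (a : A) :
    Cfsg.indFun A f a =
      (Nat.card A : ℂ)⁻¹ * ∑ g : NA, f (cj A g a) := by
  by_cases ha : a = 1
  · subst ha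
    rw [Subgroup.coe_one, indFun_apply_one, h0, mul_zero, Finset.sum_eq_zero, mul_zero]
    exact fun g _ => by rw [map_one, h0]
  rw [Cfsg.indFun, ← Equiv.sum_comp (Equiv.inv G)]
  congr 1
  rw [← Finset.sum_subset (Finset.subset_univ
    (Finset.univ.filter fun x : G => x ∈ NA)),
    Finset.sum_subtype (p := fun x : G => x ∈ NA) _ (fun x => by simp)]
  · refine Finset.sum_congr rfl fun g _ => ?_
    simp only [Equiv.inv_apply, inv_inv]
    exact extendByZero_coe A f (cj A g a)
  · intro x _ hx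
    simp only [Equiv.inv_apply, inv_inv]
    refine extendByZero_of_notMem A f fun h => hx ?_
    exact Finset.mem_filter.mpr ⟨Finset.mem_univ _,
      mem_normalizer_of_conj_mem hA a.2 (fun e => ha (Subtype.ext e)) h⟩

theorem classInner_indFun (hA : TIK A) (f : A → ℂ) {f' : A → ℂ} (h0 : f' 1 = 0) :
    (Nat.card A : ℂ) * Cfsg.classInner (Cfsg.indFun A f) (Cfsg.indFun A f') =
      ∑ g : NA, Cfsg.classInner f (f' ∘ cj A g) := by
  rw [frobenius_reciprocity A f (isClassFunction_indFun A f'),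
    show (fun h : A => Cfsg.indFun A f' h) =
      (Nat.card A : ℂ)⁻¹ • ∑ g : NA, f' ∘ cj A g from ?_,
    classInner_smul_right, classInner_sum_right, map_inv₀, map_natCast, ← mul_assoc,
    mul_inv_cancel₀ (Nat.cast_ne_zero.mpr Nat.card_pos.ne'), one_mul]
  funext a
  rw [indFun_coe hA h0, Pi.smul_apply, Finset.sum_apply, smul_eq_mul]
  rfl

theorem card_fix (hA : TIK A) {lam : Cfsg.IrrCharacter A} (hl : (lam : A → ℂ) 1 = 1)
    (h1 : lam ≠ trivChar A) :
    (Finset.univ.filter fun g : NA => (lam : A → ℂ) ∘ cj A g = (lam : A → ℂ)).card =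
      Nat.card A := by
  rw [← Fintype.card_subtype, ← Nat.card_eq_fintype_card]
  refine Nat.card_congr ⟨fun g => ⟨(g.1 : G), (lin_fix_iff hA hl h1 g.1).mp g.2⟩,
    fun a => ⟨⟨(a : G), Subgroup.le_normalizer a.2⟩, (lin_fix_iff hA hl h1 _).mpr a.2⟩,
    fun _ => rfl, fun _ => rfl⟩

theorem exists_reps (hA : TIK A) : ∃ (n : ℕ) (r : Fin n → Cfsg.IrrCharacter A),
    n * A.relIndex NA + 1 = linCard A ∧
    (∀ j, (r j : A → ℂ) 1 = 1) ∧
    (∀ j, r j ≠ trivChar A) ∧
    (∀ j k, j ≠ k → ∀ g : NA, (r j : A → ℂ) ∘ cj A g ≠ (r k : A → ℂ)) ∧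
    (∀ lam : Cfsg.IrrCharacter A, (lam : A → ℂ) 1 = 1 → lam ≠ trivChar A →
      ∃ j, ∃ g : NA, (r j : A → ℂ) ∘ cj A g = (lam : A → ℂ)) ∧
    ∀ j, Nat.card {lam : Cfsg.IrrCharacter A //
      ∃ g : NA, (r j : A → ℂ) ∘ cj A g = (lam : A → ℂ)} = A.relIndex NA := by
  have := Fintype.ofFinite (Cfsg.IrrCharacter A)
  let act : NA → Cfsg.IrrCharacter A → Cfsg.IrrCharacter A :=
    fun g lam => ⟨_, isIrr_comp_cj g lam⟩
  let O : Cfsg.IrrCharacter A → Finset (Cfsg.IrrCharacter A) :=
    fun lam => Finset.univ.image fun g => act g lam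
  have hactm : ∀ g h lam, act h (act g lam) = act (g * h) lam := fun g h lam =>
    Subtype.ext (comp_cj_mul g h (lam : A → ℂ)).symm
  have hact1 : ∀ lam, act 1 lam = lam := fun lam =>
    Subtype.ext (funext fun a => congrArg (lam : A → ℂ) (cj_one a))
  have hself : ∀ lam, lam ∈ O lam := fun lam =>
    Finset.mem_image.mpr ⟨1, Finset.mem_univ _, hact1 lam⟩
  have hOeq : ∀ lam mu, mu ∈ O lam → O mu = O lam := by
    intro lam mu hmu
    obtain ⟨g, -, rfl⟩ := Finset.mem_image.mp hmu
    ext nu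
    simp only [O, Finset.mem_image, Finset.mem_univ, true_and]
    constructor
    · rintro ⟨h, rfl⟩; exact ⟨g * h, (hactm g h lam).symm⟩
    · rintro ⟨h, rfl⟩; exact ⟨g⁻¹ * h, by rw [hactm, mul_inv_cancel_left]⟩
  let S := (Finset.univ.filter fun lam : Cfsg.IrrCharacter A => (lam : A → ℂ) 1 = 1).erase
    (trivChar A)
  have hS1 : ∀ lam ∈ S, (lam : A → ℂ) 1 = 1 := fun lam h =>
    (Finset.mem_filter.mp (Finset.mem_erase.mp h).2).2
  have hact0 : ∀ g lam, lam ≠ trivChar A → act g lam ≠ trivChar A := by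
    intro g lam hne h
    refine hne ?_
    calc lam = act g⁻¹ (act g lam) := by rw [hactm, mul_inv_cancel, hact1]
      _ = act g⁻¹ (trivChar A) := by rw [h]
      _ = trivChar A := rfl
  have hOcard : ∀ lam ∈ S, (O lam).card = A.relIndex NA := by
    intro lam hlam
    have hlam1 := (Finset.mem_erase.mp hlam).1
    have h := Finset.card_eq_sum_card_image (fun g => act g lam) (Finset.univ : Finset NA)
    rw [Finset.sum_congr rfl (g := fun _ => Nat.card A), Finset.sum_const, smul_eq_mul,
      Finset.card_univ] at h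
    · have h2 := Subgroup.index_mul_card (A.subgroupOf NA)
      rw [Nat.card_congr (Subgroup.subgroupOfEquivOfLe (Subgroup.le_normalizer)).toEquiv,
        ← Subgroup.relIndex, Nat.card_eq_fintype_card (α := NA), h] at h2
      exact (Nat.eq_of_mul_eq_mul_right Nat.card_pos h2).symm
    · intro mu hmu
      obtain ⟨g₀, -, rfl⟩ := Finset.mem_image.mp hmu
      rw [← card_fix hA (hS1 lam hlam) hlam1]
      refine Finset.card_bij' (fun g _ => g * g₀⁻¹) (fun g _ => g * g₀) ?_ ?_ ?_ ?_
      · intro g hg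
        simp only [Finset.mem_filter, Finset.mem_univ, true_and] at hg ⊢
        have : act (g * g₀⁻¹) lam = lam := by rw [← hactm, hg, hactm, mul_inv_cancel, hact1]
        exact congrArg Subtype.val this
      · intro g hg
        simp only [Finset.mem_filter, Finset.mem_univ, true_and] at hg ⊢
        have : act g lam = lam := Subtype.ext hg
        rw [← hactm, this]
      · intro g _; simp
      · intro g _; simp
  let 𝒪 := S.image O
  have hrep : ∀ j : 𝒪, ∃ lam ∈ S, O lam = (j : Finset (Cfsg.IrrCharacter A)) := fun j => by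
    obtain ⟨lam, h1, h2⟩ := Finset.mem_image.mp j.2
    exact ⟨lam, h1, h2⟩
  choose rep hrepS hrepO using hrep
  let eq := (Finset.equivFin 𝒪).symm
  refine ⟨𝒪.card, fun j => rep (eq j), ?_, fun j => hS1 _ (hrepS _),
    fun j => (Finset.mem_erase.mp (hrepS _)).1, ?_, ?_, fun j => ?_⟩
  · have h := Finset.card_eq_sum_card_image O S
    rw [Finset.sum_congr rfl (g := fun _ => A.relIndex NA),
      Finset.sum_const, smul_eq_mul] at h
    · rw [← h, show S = (Finset.univ.filter fun lam : Cfsg.IrrCharacter A =>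
          (lam : A → ℂ) 1 = 1).erase (trivChar A) from rfl, Finset.card_erase_of_mem
        (show trivChar A ∈ Finset.univ.filter (fun lam : Cfsg.IrrCharacter A =>
          (lam : A → ℂ) 1 = 1) from Finset.mem_filter.mpr ⟨Finset.mem_univ _, trivChar_apply _⟩),
        card_lin]
      exact Nat.sub_add_cancel (Nat.pos_of_ne_zero Subgroup.index_ne_zero_of_finite)
    · intro o ho
      obtain ⟨lam, hlam, rfl⟩ := Finset.mem_image.mp ho
      rw [← hOcard lam hlam]
      congr 1
      ext mu
      rw [Finset.mem_filter]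
      refine ⟨fun h => h.2 ▸ hself mu, fun h => ⟨?_, hOeq lam mu h⟩⟩
      obtain ⟨g, -, rfl⟩ := Finset.mem_image.mp h
      refine Finset.mem_erase.mpr ⟨hact0 g lam (Finset.mem_erase.mp hlam).1,
        Finset.mem_filter.mpr ⟨Finset.mem_univ _, ?_⟩⟩
      show (lam : A → ℂ) (cj A g 1) = 1
      rw [map_one, hS1 lam hlam]
  · intro j k hjk g h
    refine hjk (eq.injective (Subtype.ext ?_))
    rw [← hrepO (eq j), ← hrepO (eq k)]
    exact (hOeq _ _ (Finset.mem_image.mpr ⟨g, Finset.mem_univ _, Subtype.ext h⟩)).symm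
  · intro lam hl hlam
    have hlamS : lam ∈ S :=
      Finset.mem_erase.mpr ⟨hlam, Finset.mem_filter.mpr ⟨Finset.mem_univ _, hl⟩⟩
    refine ⟨eq.symm ⟨O lam, Finset.mem_image_of_mem O hlamS⟩, ?_⟩
    have hmem : lam ∈ O (rep (eq (eq.symm ⟨O lam, Finset.mem_image_of_mem O hlamS⟩))) := by
      rw [hrepO, Equiv.apply_symm_apply]
      exact hself lam
    obtain ⟨g, -, hg⟩ := Finset.mem_image.mp hmem
    exact ⟨g, congrArg Subtype.val hg⟩
  · refine Eq.trans ?_ (hOcard _ (hrepS (eq j)))
    refine Eq.trans ?_ (Nat.card_eq_finsetCard _)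
    refine Nat.card_congr (Equiv.subtypeEquivRight fun mu => ?_)
    simp only [O, Finset.mem_image, Finset.mem_univ, true_and]
    exact ⟨fun ⟨g, hg⟩ => ⟨g, Subtype.ext hg⟩, fun ⟨g, hg⟩ => ⟨g, congrArg Subtype.val hg⟩⟩

/-! ### The exceptional family -/

/-- The exceptional characters belonging to the linear characters of `A`. -/
structure Fam (A : Subgroup G) [Fintype G] where
  n : ℕ
  z : Fin n
  two_le : 2 ≤ n
  even : Even n
  card_eq : n * A.relIndex (Subgroup.normalizer (A : Set G)) + 1 = linCard A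
  r : Fin n → Cfsg.IrrCharacter A
  r_lin : ∀ j, (r j : A → ℂ) 1 = 1
  r_ne : ∀ j, r j ≠ trivChar A
  r_orb : ∀ j k, j ≠ k → ∀ g : Subgroup.normalizer (A : Set G),
    (r j : A → ℂ) ∘ cj A g ≠ (r k : A → ℂ)
  r_all : ∀ lam : Cfsg.IrrCharacter A, (lam : A → ℂ) 1 = 1 → lam ≠ trivChar A →
    ∃ j, ∃ g : Subgroup.normalizer (A : Set G), (r j : A → ℂ) ∘ cj A g = (lam : A → ℂ)
  r_card : ∀ j, Nat.card {lam : Cfsg.IrrCharacter A //
      ∃ g : Subgroup.normalizer (A : Set G), (r j : A → ℂ) ∘ cj A g = (lam : A → ℂ)} =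
        A.relIndex (Subgroup.normalizer (A : Set G))
  sgn : ℤ
  sgn_sq : sgn * sgn = 1
  θ : Fin n → Cfsg.IrrCharacter G
  θ_inj : Function.Injective θ
  rel : ∀ j, Cfsg.indFun A ((r j : A → ℂ) - (r z : A → ℂ)) =
    (sgn : ℂ) • ((θ j : G → ℂ) - (θ z : G → ℂ))

theorem sum_classInner_comp (hA : TIK A) {n : ℕ} {r : Fin n → Cfsg.IrrCharacter A}
    (hl : ∀ j, (r j : A → ℂ) 1 = 1) (hne : ∀ j, r j ≠ trivChar A)
    (horb : ∀ j k, j ≠ k → ∀ g : NA, (r j : A → ℂ) ∘ cj A g ≠ (r k : A → ℂ)) (j k : Fin n) :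
    ∑ g : NA, Cfsg.classInner (r j : A → ℂ) ((r k : A → ℂ) ∘ cj A g) =
      if k = j then (Nat.card A : ℂ) else 0 := by
  have h : ∀ g : NA, Cfsg.classInner (r j : A → ℂ) ((r k : A → ℂ) ∘ cj A g) =
      if (r k : A → ℂ) ∘ cj A g = (r j : A → ℂ) then 1 else 0 := fun g => by
    have := classInner_irr (r j) ⟨_, isIrr_comp_cj g (r k)⟩
    simp only [Subtype.ext_iff] at this
    rw [this]
    exact if_congr eq_comm rfl rfl
  simp only [h, Finset.sum_boole]
  split_ifs with hjk
  · subst hjk
    rw [card_fix hA (hl k) (hne k)]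
  · rw [Finset.filter_eq_empty_iff.mpr fun g _ => horb k j hjk g, Finset.card_empty, Nat.cast_zero]

theorem odd_relIndex (hodd : Odd (Nat.card G)) : Odd (A.relIndex NA) := by
  refine hodd.of_dvd_nat ((dvd_mul_right _ (Nat.card A)).trans ?_)
  rw [← Nat.card_congr (Subgroup.subgroupOfEquivOfLe (Subgroup.le_normalizer (H := A))).toEquiv,
    Subgroup.relIndex, Subgroup.index_mul_card]
  exact Subgroup.card_subgroup_dvd_card _

theorem exists_fam (hA : TIK A) (hodd : Odd (Nat.card G)) (hne : commutator A ≠ ⊤) :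
    Nonempty (Fam A) := by
  obtain ⟨n, r, hcard, hl, hrne, horb, hall, hrc⟩ := exists_reps hA
  have h1 : linCard A ≠ 1 := fun h => hne (Subgroup.index_eq_one.mp h)
  have hoA : Odd (linCard A) := (hodd.of_dvd_nat A.card_subgroup_dvd_card).of_dvd_nat
    ⟨_, (linCard_mul_derCard A).symm⟩
  have hev : Even n := by
    rw [← hcard, Nat.odd_add_one, Nat.not_odd_iff_even, Nat.even_mul] at hoA
    exact hoA.resolve_right (Nat.not_even_iff_odd.mpr (odd_relIndex hodd))
  have h2 : 2 ≤ n := by
    rcases Nat.eq_zero_or_pos n with rfl | hn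
    · rw [zero_mul, zero_add] at hcard; exact absurd hcard.symm h1
    · obtain ⟨k, rfl⟩ := hev; omega
  let z : Fin n := ⟨0, by omega⟩
  let τ : Fin n → G → ℂ := fun j => Cfsg.indFun A ((r j : A → ℂ) - (r z : A → ℂ))
  have hz : ∀ j, ((r j : A → ℂ) - (r z : A → ℂ)) 1 = 0 := fun j => by
    rw [Pi.sub_apply, hl, hl, sub_self]
  have hgram : ∀ i j, i ≠ z → j ≠ z →
      Cfsg.classInner (τ i) (τ j) = if i = j then 2 else 1 := by
    intro i j hi hj
    have h := classInner_indFun hA ((r i : A → ℂ) - (r z : A → ℂ)) (hz j)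
    have hcomp : ∀ g : NA, ((r j : A → ℂ) - (r z : A → ℂ)) ∘ cj A g =
        (r j : A → ℂ) ∘ cj A g - (r z : A → ℂ) ∘ cj A g := fun g => rfl
    simp only [hcomp, classInner_sub_left, classInner_sub_right, Finset.sum_sub_distrib,
      sum_classInner_comp hA hl hrne horb, if_neg hj, if_neg (Ne.symm hi), if_pos] at h
    have hA0 : (Nat.card A : ℂ) ≠ 0 := Nat.cast_ne_zero.mpr Nat.card_pos.ne'
    refine mul_left_cancel₀ hA0 (h.trans ?_)
    by_cases hij : i = j
    · subst hij; simp; ring
    · simp [hij, Ne.symm hij]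
  obtain ⟨ε, hε, μ, hμ, hinj, hrel⟩ := Cfsg.Agent.S0198.result n z τ
    (by simp [τ, indFun_zero])
    (fun j => IsGen.indFun (IsGen.sub (IsGen.of_irr (r j).2) (IsGen.of_irr (r z).2)))
    (fun j => by simp only [τ]; rw [indFun_apply_one, hz j, mul_zero]) hgram
  obtain ⟨s, hs, hs2⟩ : ∃ s : ℤ, (s : ℂ) = ε ∧ s * s = 1 := by
    rcases hε with rfl | rfl
    · exact ⟨1, by simp, rfl⟩
    · exact ⟨-1, by simp, rfl⟩
  exact ⟨{ n := n, z := z, two_le := h2, even := hev, card_eq := hcard, r := r, r_lin := hl,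
           r_ne := hrne, r_orb := horb, r_all := hall, r_card := hrc, sgn := s, sgn_sq := hs2,
           θ := fun j => ⟨μ j, hμ j⟩, θ_inj := fun a b e => hinj (congrArg Subtype.val e),
           rel := fun j => by rw [hs]; exact hrel j }⟩

/-- The character `ind (1 - r z)`. -/
noncomputable def psi (F : Fam A) : G → ℂ :=
  Cfsg.indFun A ((fun _ : A => (1 : ℂ)) - (F.r F.z : A → ℂ))

theorem base_one (F : Fam A) : ((fun _ : A => (1 : ℂ)) - (F.r F.z : A → ℂ)) 1 = 0 := by
  rw [Pi.sub_apply, F.r_lin, sub_self]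

theorem diff_one (F : Fam A) (j : Fin F.n) :
    ((F.r j : A → ℂ) - (F.r F.z : A → ℂ)) 1 = 0 := by
  rw [Pi.sub_apply, F.r_lin, F.r_lin, sub_self]

theorem psi_gen (F : Fam A) : Cfsg.IsGeneralizedCharacter G (psi F) :=
  IsGen.indFun (IsGen.sub (IsGen.of_isCharacter isCharacter_one) (IsGen.of_irr (F.r F.z).2))

theorem card_normalizer : Fintype.card NA = A.relIndex NA * Nat.card A := by
  have h2 := Subgroup.index_mul_card (A.subgroupOf NA)
  rw [Nat.card_congr (Subgroup.subgroupOfEquivOfLe (Subgroup.le_normalizer (H := A))).toEquiv,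
    ← Subgroup.relIndex, Nat.card_eq_fintype_card (α := NA)] at h2
  exact h2.symm

theorem psi_inner_self (hA : TIK A) (F : Fam A) :
    Cfsg.classInner (psi F) (psi F) = (A.relIndex NA : ℂ) + 1 := by
  have h := classInner_indFun hA ((fun _ : A => (1 : ℂ)) - (F.r F.z : A → ℂ)) (base_one F)
  have hcomp : ∀ g : NA, ((fun _ : A => (1 : ℂ)) - (F.r F.z : A → ℂ)) ∘ cj A g =
      (fun _ : A => (1 : ℂ)) - (F.r F.z : A → ℂ) ∘ cj A g := fun g => rfl
  simp only [hcomp, classInner_sub_left, classInner_sub_right, Finset.sum_sub_distrib,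
    sum_classInner_comp hA F.r_lin F.r_ne F.r_orb, if_pos, classInner_triv_self,
    classInner_triv_comp _ (F.r_ne F.z), classInner_triv_right _ (F.r_ne F.z),
    Finset.sum_const, nsmul_eq_mul, smul_zero, mul_zero] at h
  rw [Finset.card_univ, card_normalizer] at h
  refine mul_left_cancel₀ (Nat.cast_ne_zero.mpr (Nat.card_pos (α := A)).ne' : (Nat.card A : ℂ) ≠ 0)
    (h.trans ?_)
  push_cast
  ring

theorem psi_triv (F : Fam A) : Cfsg.classInner (psi F) (trivChar G : G → ℂ) = 1 := by
  rw [psi, frobenius_reciprocity A _ (IsIrr.isClassFunction (trivChar G).2), classInner_sub_left]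
  simp only [trivChar_apply]
  rw [classInner_triv_self, classInner_triv_right _ (F.r_ne F.z), sub_zero]

theorem psi_tau (hA : TIK A) (F : Fam A) {j : Fin F.n} (hj : j ≠ F.z) :
    Cfsg.classInner (psi F) (Cfsg.indFun A ((F.r j : A → ℂ) - (F.r F.z : A → ℂ))) = 1 := by
  have h := classInner_indFun hA ((fun _ : A => (1 : ℂ)) - (F.r F.z : A → ℂ)) (diff_one F j)
  have hcomp : ∀ g : NA, ((F.r j : A → ℂ) - (F.r F.z : A → ℂ)) ∘ cj A g =
      (F.r j : A → ℂ) ∘ cj A g - (F.r F.z : A → ℂ) ∘ cj A g := fun g => rfl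
  simp only [hcomp, classInner_sub_left, classInner_sub_right, Finset.sum_sub_distrib,
    sum_classInner_comp hA F.r_lin F.r_ne F.r_orb, classInner_triv_comp _ (F.r_ne _), if_pos,
    if_neg hj, Finset.sum_const_zero] at h
  refine mul_left_cancel₀ (Nat.cast_ne_zero.mpr (Nat.card_pos (α := A)).ne' : (Nat.card A : ℂ) ≠ 0)
    (h.trans ?_)
  ring

/-- The multiplicities of the linear characters in the restriction of a character. -/
theorem inner_orbit (F : Fam A) (χ : Cfsg.IrrCharacter G) {j : Fin F.n}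
    {lam : Cfsg.IrrCharacter A} (h : ∃ g : NA, (F.r j : A → ℂ) ∘ cj A g = (lam : A → ℂ)) :
    Cfsg.classInner (fun x : A => (χ : G → ℂ) x) (lam : A → ℂ) =
      Cfsg.classInner (fun x : A => (χ : G → ℂ) x) (F.r F.z : A → ℂ) +
        (F.sgn : ℂ) * ((if χ = F.θ j then 1 else 0) - (if χ = F.θ F.z then 1 else 0)) := by
  obtain ⟨g, hg⟩ := h
  have hcc : Cfsg.classInner (fun x : A => (χ : G → ℂ) x) ((F.r j : A → ℂ) ∘ cj A g) =
      Cfsg.classInner (fun x : A => (χ : G → ℂ) x) (F.r j : A → ℂ) := by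
    conv_lhs => rw [← res_comp_cj (IsIrr.isClassFunction χ.2) g]
    simp only [Cfsg.classInner, Function.comp_apply]
    congr 1
    exact Equiv.sum_comp (cj A g).toEquiv
      fun a : A => (χ : G → ℂ) a * conj ((F.r j : A → ℂ) a)
  rw [← hg, hcc]
  rw [← sub_eq_iff_eq_add', ← classInner_sub_right, ← classInner_conj_symm,
    ← frobenius_reciprocity A _ (IsIrr.isClassFunction χ.2), F.rel, classInner_conj_symm,
    classInner_smul_right, classInner_sub_right, classInner_irr, classInner_irr, map_intCast]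

/-- A character is outside the family iff all non-principal linear characters occur equally often
in its restriction. -/
theorem uniform_iff (F : Fam A) (χ : Cfsg.IrrCharacter G) :
    (∀ j, χ ≠ F.θ j) ↔ ∀ lam : Cfsg.IrrCharacter A, (lam : A → ℂ) 1 = 1 → lam ≠ trivChar A →
      Cfsg.classInner (fun x : A => (χ : G → ℂ) x) (lam : A → ℂ) =
        Cfsg.classInner (fun x : A => (χ : G → ℂ) x) (F.r F.z : A → ℂ) := by
  constructor
  · intro h lam hl hne
    obtain ⟨j, hj⟩ := F.r_all lam hl hne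
    rw [inner_orbit F χ hj, if_neg (h j), if_neg (h F.z), sub_self, mul_zero, add_zero]
  · intro h j e
    have hs : (F.sgn : ℂ) ≠ 0 := by
      rw [Int.cast_ne_zero]; intro h0; simpa [h0] using F.sgn_sq
    have hj : ∀ k, (if χ = F.θ k then (1 : ℂ) else 0) = if χ = F.θ F.z then 1 else 0 := by
      intro k
      have h1 := inner_orbit F χ (j := k) (lam := F.r k) ⟨1, funext fun a => by simp [cj_one]⟩
      rw [h _ (F.r_lin k) (F.r_ne k), left_eq_add, mul_eq_zero, or_iff_right hs, sub_eq_zero] at h1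
      exact h1
    haveI := Fin.nontrivial_iff_two_le.mpr F.two_le
    obtain ⟨k, hk⟩ := exists_ne j
    have h1 := (hj j).trans (hj k).symm
    rw [if_pos e, if_neg (fun e' => hk (F.θ_inj (e'.symm.trans e)))] at h1
    exact one_ne_zero h1

theorem classInner_conj_left (χ : G → ℂ) (lam : A → ℂ) :
    Cfsg.classInner (fun x : A => conj (χ x)) lam =
      conj (Cfsg.classInner (fun x : A => χ x) fun x => conj (lam x)) := by
  simp [Cfsg.classInner]

theorem uniform_conj (F : Fam A) (χ : Cfsg.IrrCharacter G) (h : ∀ j, χ ≠ F.θ j) :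
    (∀ j, conjIrr χ ≠ F.θ j) ∧
      Cfsg.classInner (psi F) (conjIrr χ : G → ℂ) = Cfsg.classInner (psi F) (χ : G → ℂ) := by
  have h' := (uniform_iff F χ).1 h
  have hres : (fun x : A => (conjIrr χ : G → ℂ) x) = fun x : A => conj ((χ : G → ℂ) x) :=
    funext fun x => conjIrr_apply χ x
  set a := Cfsg.classInner (fun x : A => (χ : G → ℂ) x) (F.r F.z : A → ℂ) with ha
  obtain ⟨m, hm⟩ := IsChar.classInner_eq_natCast (IsChar.restrict A (IsIrr.isCharacter χ.2))
    (IsIrr.isCharacter (F.r F.z).2)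
  obtain ⟨m₁, hm₁⟩ := IsChar.classInner_eq_natCast (IsChar.restrict A (IsIrr.isCharacter χ.2))
    (isCharacter_one (G := A))
  have key : ∀ lam : Cfsg.IrrCharacter A, (lam : A → ℂ) 1 = 1 → lam ≠ trivChar A →
      Cfsg.classInner (fun x : A => (conjIrr χ : G → ℂ) x) (lam : A → ℂ) = a := by
    intro lam hl hne
    rw [hres, classInner_conj_left, show (fun x => conj ((lam : A → ℂ) x)) =
      (conjIrr lam : A → ℂ) from funext fun x => (conjIrr_apply lam x).symm,
      h' _ (by rw [conjIrr_apply, hl, map_one]) (fun e => hne ?_)]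
    · rw [ha, hm, map_natCast]
    · rw [← conjIrr_conjIrr lam, e]
      exact irr_ext fun x => by simp [conjIrr_apply]
  have hout : ∀ j, conjIrr χ ≠ F.θ j := (uniform_iff F _).2 fun lam hl hne => by
    rw [key lam hl hne, key _ (F.r_lin _) (F.r_ne _)]
  refine ⟨hout, ?_⟩
  rw [psi, frobenius_reciprocity A _ (IsIrr.isClassFunction (conjIrr χ).2),
    frobenius_reciprocity A _ (IsIrr.isClassFunction χ.2), classInner_sub_left, classInner_sub_left,
    ← classInner_conj_symm (φ := fun x : A => (conjIrr χ : G → ℂ) x) (ψ := (F.r F.z : A → ℂ)),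
    key _ (F.r_lin _) (F.r_ne _), ← classInner_conj_symm (φ := fun x : A => (χ : G → ℂ) x)
      (ψ := (F.r F.z : A → ℂ)), ← ha]
  congr 1
  rw [← classInner_conj_symm, hres, classInner_conj_left, Complex.conj_conj]
  simp only [map_one]
  rw [hm₁, ← classInner_conj_symm, hm₁, map_natCast]

/-- The mass of a function off the derived subgroup, from its linear multiplicities. -/
theorem mass_bound [Fintype (Cfsg.IrrCharacter A)] (f : A → ℂ) (K m₁ s : ℤ)
    (O : Finset (Cfsg.IrrCharacter A))
    (hO : ∀ lam ∈ O, (lam : A → ℂ) 1 = 1 ∧ lam ≠ trivChar A)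
    (hm : ∀ lam : Cfsg.IrrCharacter A, (lam : A → ℂ) 1 = 1 → Cfsg.classInner f (lam : A → ℂ) =
      (K : ℂ) + (if lam = trivChar A then (m₁ : ℂ) else 0) + if lam ∈ O then (s : ℂ) else 0) :
    ((Nat.card A : ℝ) * ((m₁ : ℝ) ^ 2 + O.card * (s : ℝ) ^ 2)
        - derCard A * ((m₁ : ℝ) + s * O.card) ^ 2) ≤
      ∑ x : A, if x = 1 then 0 else Complex.normSq (f x) := by
  set T := Finset.univ.filter (fun lam : Cfsg.IrrCharacter A => (lam : A → ℂ) 1 = 1) with hT
  let w : A → ℂ := fun x => (m₁ : ℂ) + s * ∑ lam ∈ O, (lam : A → ℂ) x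
  have hw1 : ∀ x ∈ commutator A, w x = ((m₁ + s * O.card : ℤ) : ℂ) := fun x hx => by
    simp only [w]
    rw [Finset.sum_congr rfl fun lam hlam => lin_commutator (hO lam hlam).1 hx]
    simp
  have hA0 : (Nat.card A : ℂ) ≠ 0 := Nat.cast_ne_zero.mpr Nat.card_pos.ne'
  have hinner : ∀ lam : Cfsg.IrrCharacter A, ∑ x : A, f x * conj ((lam : A → ℂ) x) =
      (Nat.card A : ℂ) * Cfsg.classInner f (lam : A → ℂ) := fun lam => by
    rw [Cfsg.classInner, mul_inv_cancel_left₀ hA0]
  have htriv : ∀ lam ∈ O, lam ≠ trivChar A := fun lam h => (hO lam h).2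
  -- sums over all of `A`
  have h1 : ∑ x : A, f x * conj (w x) =
      (Nat.card A : ℂ) * (m₁ * (K + m₁) + s * O.card * (K + s)) := by
    have ht := hinner (trivChar A)
    rw [hm _ (trivChar_apply 1), if_pos rfl, if_neg (fun h => htriv _ h rfl), add_zero] at ht
    simp only [trivChar_apply, map_one, mul_one] at ht
    have hl : ∀ lam ∈ O, ∑ x : A, f x * conj ((lam : A → ℂ) x) = (Nat.card A : ℂ) * (K + s) :=
      fun lam h => by
        rw [hinner, hm _ (hO lam h).1, if_neg (htriv lam h), if_pos h, add_zero]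
    simp only [w, map_add, map_mul, map_sum, map_intCast, mul_add, Finset.mul_sum,
      Finset.sum_add_distrib]
    rw [Finset.sum_comm, ← Finset.sum_mul, ht]
    rw [Finset.sum_congr rfl fun (lam : Cfsg.IrrCharacter A) (hlam : lam ∈ O) =>
      show ∑ x : A, f x * ((s : ℂ) * conj ((lam : A → ℂ) x))
        = (s : ℂ) * ((Nat.card A : ℂ) * (K + s)) by
        rw [← hl lam hlam, Finset.mul_sum]
        exact Finset.sum_congr rfl fun x _ => by ring]
    rw [Finset.sum_const, nsmul_eq_mul]
    ring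
  have h2 : ∑ x : A, w x * conj (w x) = (Nat.card A : ℂ) * (m₁ * m₁ + s * s * O.card) := by
    have horth : ∀ a b : Cfsg.IrrCharacter A, ∑ x : A, (a : A → ℂ) x * conj ((b : A → ℂ) x) =
        (Nat.card A : ℂ) * if a = b then 1 else 0 := fun a b => by
      rw [← classInner_irr, Cfsg.classInner, mul_inv_cancel_left₀ hA0]
    have hsum0 : ∀ lam ∈ O, ∑ x : A, (lam : A → ℂ) x = 0 := fun lam h => by
      have := horth lam (trivChar A)
      rw [if_neg (htriv lam h), mul_zero] at this
      simpa using this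
    have hsum0' : ∀ lam ∈ O, ∑ x : A, conj ((lam : A → ℂ) x) = 0 := fun lam h => by
      rw [← map_sum, hsum0 lam h, map_zero]
    have e : ∀ x : A, w x * conj (w x) = (m₁ : ℂ) * m₁
        + (m₁ : ℂ) * s * ∑ lam ∈ O, conj ((lam : A → ℂ) x)
        + (m₁ : ℂ) * s * ∑ lam ∈ O, (lam : A → ℂ) x
        + (s : ℂ) * s * ∑ a ∈ O, ∑ b ∈ O, (a : A → ℂ) x * conj ((b : A → ℂ) x) := fun x => by
      simp only [w, map_add, map_mul, map_sum, map_intCast, ← Finset.sum_mul_sum]
      ring
    simp only [e, Finset.sum_add_distrib, ← Finset.mul_sum, Finset.sum_const, Finset.card_univ,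
      nsmul_eq_mul]
    rw [Finset.sum_comm (t := O), Finset.sum_eq_zero hsum0', Finset.sum_comm (t := O),
      Finset.sum_eq_zero hsum0, Finset.sum_comm (t := O),
      Finset.sum_congr rfl (g := fun _ => (Nat.card A : ℂ)), Finset.sum_const, nsmul_eq_mul,
      ← Nat.card_eq_fintype_card]
    · ring
    · intro a ha
      rw [Finset.sum_congr rfl fun x _ => Finset.mul_sum O _ _, Finset.sum_comm,
        Finset.sum_eq_single_of_mem a ha, horth, if_pos rfl, mul_one]
      intro b _ hb
      rw [horth, if_neg (Ne.symm hb), mul_zero]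
  -- sums over the derived subgroup
  have hder : ∀ g : A → ℂ, (∀ x ∈ commutator A, g x = g 1) →
      ∑ x : A, (if x ∈ commutator A then g x else 0) = (derCard A : ℂ) * g 1 := fun g hg => by
    rw [← Finset.sum_filter, Finset.sum_congr rfl fun x hx => hg x (Finset.mem_filter.mp hx).2,
      Finset.sum_const, nsmul_eq_mul, derCard, Nat.card_eq_fintype_card, Fintype.card_subtype]
  have hfsum : ∑ x : A, (if x ∈ commutator A then f x else 0) =
      (derCard A : ℂ) * ((linCard A : ℂ) * K + m₁ + s * O.card) := by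
    have hq : (linCard A : ℂ) ≠ 0 := Nat.cast_ne_zero.mpr Subgroup.index_ne_zero_of_finite
    refine mul_left_cancel₀ hq ?_
    rw [← mul_assoc, ← Nat.cast_mul, linCard_mul_derCard, Finset.mul_sum]
    have e : ∀ x : A, (linCard A : ℂ) * (if x ∈ commutator A then f x else 0) =
        ∑ lam ∈ T, f x * conj ((lam : A → ℂ) x) := fun x => by
      rw [← Finset.mul_sum, ← map_sum, hT, sum_lin]
      split_ifs <;> simp [mul_comm]
    rw [Finset.sum_congr rfl fun x _ => e x, Finset.sum_comm,
      Finset.sum_congr rfl fun lam _ => hinner lam, ← Finset.mul_sum,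
      Finset.sum_congr rfl fun lam hlam => hm lam (Finset.mem_filter.mp hlam).2,
      Finset.sum_add_distrib, Finset.sum_add_distrib, Finset.sum_const, nsmul_eq_mul, card_lin,
      Finset.sum_ite_eq', if_pos (show trivChar A ∈ T from
        Finset.mem_filter.mpr ⟨Finset.mem_univ _, trivChar_apply 1⟩),
      Finset.sum_ite_mem, Finset.inter_eq_right.mpr (show O ⊆ T from fun lam h =>
        Finset.mem_filter.mpr ⟨Finset.mem_univ _, (hO lam h).1⟩), Finset.sum_const, nsmul_eq_mul]
    ring
  set c : ℤ := m₁ + s * O.card with hc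
  have hfw : ∑ x : A, (if x ∈ commutator A then 0 else f x * conj (w x)) =
      (((Nat.card A : ℝ) * ((m₁ : ℝ) ^ 2 + O.card * (s : ℝ) ^ 2) -
        derCard A * (c : ℝ) ^ 2 : ℝ) : ℂ) := by
    have : ∀ x : A, (if x ∈ commutator A then 0 else f x * conj (w x)) =
        f x * conj (w x) - (if x ∈ commutator A then f x else 0) * (c : ℂ) := fun x => by
      split_ifs with h
      · rw [hw1 x h, map_intCast, sub_self]
      · rw [zero_mul, sub_zero]
    rw [Finset.sum_congr rfl fun x _ => this x, Finset.sum_sub_distrib, h1, ← Finset.sum_mul,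
      hfsum, hc]
    push_cast [← linCard_mul_derCard A]
    ring
  have hww : ∑ x : A, (if x ∈ commutator A then 0 else w x * conj (w x)) =
      (((Nat.card A : ℝ) * ((m₁ : ℝ) ^ 2 + O.card * (s : ℝ) ^ 2) -
        derCard A * (c : ℝ) ^ 2 : ℝ) : ℂ) := by
    have : ∀ x : A, (if x ∈ commutator A then 0 else w x * conj (w x)) =
        w x * conj (w x) - (if x ∈ commutator A then w x * conj (w x) else 0) := fun x => by
      split_ifs <;> simp
    rw [Finset.sum_congr rfl fun x _ => this x, Finset.sum_sub_distrib, h2,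
      hder _ (fun x hx => by rw [hw1 x hx, hw1 1 (one_mem _)]), hw1 1 (one_mem _), map_intCast]
    push_cast
    ring
  have key : ∀ x : A, 2 * (if x ∈ commutator A then 0 else f x * conj (w x)).re -
      (if x ∈ commutator A then 0 else w x * conj (w x)).re ≤
        if x = 1 then 0 else Complex.normSq (f x) := by
    intro x
    by_cases h : x ∈ commutator A
    · rw [if_pos h, if_pos h, Complex.zero_re, mul_zero, sub_zero]
      split_ifs
      · exact le_rfl
      · exact Complex.normSq_nonneg _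
    · rw [if_neg h, if_neg h, if_neg fun e : x = 1 => h (e ▸ one_mem _)]
      have h0 := Complex.normSq_nonneg (f x - w x)
      rw [Complex.normSq_sub, Complex.mul_conj (w x), Complex.ofReal_re] at *
      linarith
  refine le_trans (le_of_eq ?_) (Finset.sum_le_sum fun x _ => key x)
  rw [Finset.sum_sub_distrib, ← Finset.mul_sum, ← Complex.re_sum, ← Complex.re_sum, hfw, hww,
    Complex.ofReal_re, hc]
  push_cast
  ring

/-- Outside the family, the mass on `A` is controlled by the inner product with `psi`. -/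
theorem other_bound (F : Fam A) (χ : Cfsg.IrrCharacter G) (hχ : ∀ j, χ ≠ F.θ j) {b : ℤ}
    (hb : Cfsg.classInner (psi F) (χ : G → ℂ) = b) :
    ((Nat.card A : ℝ) - derCard A) * (b : ℝ) ^ 2 ≤
      ∑ x : A, if x = 1 then 0 else Complex.normSq ((χ : G → ℂ) x) := by
  have := Fintype.ofFinite (Cfsg.IrrCharacter A)
  obtain ⟨K, hK⟩ := IsChar.classInner_eq_natCast (IsChar.restrict A (IsIrr.isCharacter χ.2))
    (IsIrr.isCharacter (F.r F.z).2)
  have hone : Cfsg.classInner (fun x : A => (χ : G → ℂ) x) (trivChar A : A → ℂ) = (K : ℂ) + b := by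
    rw [psi, frobenius_reciprocity A _ (IsIrr.isClassFunction χ.2), classInner_sub_left] at hb
    have h1 := congrArg (starRingEnd ℂ) hb
    rw [map_sub, classInner_conj_symm, classInner_conj_symm, map_intCast] at h1
    rw [← h1, hK]
    simp [trivChar]
  refine le_trans (le_of_eq ?_) (mass_bound (fun x : A => (χ : G → ℂ) x) K b 0 ∅ (by simp) ?_)
  · simp; ring
  · intro lam hl
    by_cases h : lam = trivChar A
    · subst h; rw [hone, if_pos rfl]; simp
    · rw [(uniform_iff F χ).1 hχ lam hl h, hK, if_neg h]; simp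

/-- The mass of a family member on `A`. -/
theorem self_bound (F : Fam A) :
    (derCard A : ℝ) * A.relIndex NA * ((linCard A : ℝ) - A.relIndex NA) ≤
      ∑ x : A, if x = 1 then 0 else Complex.normSq ((F.θ F.z : G → ℂ) x) := by
  have := Fintype.ofFinite (Cfsg.IrrCharacter A)
  set h : A → ℂ := fun x => (F.θ F.z : G → ℂ) x with hh
  set e := A.relIndex NA with he
  let O : Finset (Cfsg.IrrCharacter A) := Finset.univ.filter fun lam =>
    ∃ g : NA, (F.r F.z : A → ℂ) ∘ cj A g = (lam : A → ℂ)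
  have hOcard : O.card = e := by
    refine Eq.trans ?_ (F.r_card F.z)
    rw [Nat.card_eq_fintype_card, Fintype.card_subtype]
  have hO : ∀ lam ∈ O, (lam : A → ℂ) 1 = 1 ∧ lam ≠ trivChar A := fun lam hmem => by
    obtain ⟨g, hg⟩ := (Finset.mem_filter.mp hmem).2
    refine ⟨?_, ?_⟩
    · rw [← hg, Function.comp_apply, map_one, F.r_lin]
    · rintro rfl
      refine F.r_ne F.z (Subtype.ext (funext fun a => ?_))
      have := congrFun hg ((cj A g).symm a)
      simpa using this
  obtain ⟨a, ha⟩ := IsChar.classInner_eq_natCast (IsChar.restrict A (IsIrr.isCharacter (F.θ F.z).2))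
    (IsIrr.isCharacter (F.r F.z).2)
  obtain ⟨a₁, ha₁⟩ := IsChar.classInner_eq_natCast
    (IsChar.restrict A (IsIrr.isCharacter (F.θ F.z).2)) (IsIrr.isCharacter (trivChar A).2)
  have hb := mass_bound h ((a : ℤ) - F.sgn) ((a₁ : ℤ) - ((a : ℤ) - F.sgn)) F.sgn O hO ?_
  · refine le_trans ?_ hb
    have hc : (F.n : ℝ) * e + 1 = linCard A := by exact_mod_cast F.card_eq
    have h2 : (2 : ℝ) ≤ F.n := by exact_mod_cast F.two_le
    have hs : (F.sgn : ℝ) * F.sgn = 1 := by exact_mod_cast F.sgn_sq
    have hhq : (linCard A : ℝ) * derCard A = Nat.card A := by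
      exact_mod_cast linCard_mul_derCard A
    set m := ((a₁ : ℤ) - ((a : ℤ) - F.sgn)) with hm
    have hm2 : (F.sgn : ℝ) * m ≤ (m : ℝ) * m := by
      have : F.sgn * m ≤ m * m := by
        rcases (Int.mul_eq_one_iff_eq_one_or_neg_one (u := F.sgn) (v := F.sgn)).mp F.sgn_sq with
          ⟨h, -⟩ | ⟨h, -⟩ <;> rw [h] <;> nlinarith [Int.le_self_sq m, Int.le_self_sq (-m)]
      exact_mod_cast this
    have hd : (0 : ℝ) ≤ derCard A := Nat.cast_nonneg _
    have he0 : (0 : ℝ) ≤ (e : ℝ) := Nat.cast_nonneg _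
    have h5 : 0 ≤ (derCard A : ℝ) * e * ((m : ℝ) * m - F.sgn * m) :=
      mul_nonneg (mul_nonneg hd he0) (by linarith)
    have h6 : 0 ≤ (derCard A : ℝ) * e * ((F.n : ℝ) - 2) * ((m : ℝ) * m) :=
      mul_nonneg (mul_nonneg (mul_nonneg hd he0) (by linarith)) (mul_self_nonneg _)
    rw [hOcard, ← hhq, ← hc]
    linear_combination 2 * h5 + h6 + (derCard A : ℝ) * ((e : ℝ) * e - e * ((F.n : ℝ) * e + 1)) * hs
  · intro lam hl
    by_cases h1 : lam = trivChar A
    · subst h1
      rw [ha₁, if_pos rfl, if_neg fun h => (hO _ h).2 rfl]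
      push_cast; ring
    · obtain ⟨j, hj⟩ := F.r_all lam hl h1
      rw [inner_orbit F (F.θ F.z) hj, ha, if_pos rfl, if_neg h1]
      by_cases hjz : j = F.z
      · subst hjz
        rw [if_pos rfl, if_pos (show lam ∈ O from Finset.mem_filter.mpr ⟨Finset.mem_univ _, hj⟩)]
        push_cast; ring
      · have hnO : lam ∉ O := fun hmem => by
          obtain ⟨g', hg'⟩ := (Finset.mem_filter.mp hmem).2
          obtain ⟨g, hg⟩ := hj
          refine F.r_orb F.z j (Ne.symm hjz) (g' * g⁻¹) ?_
          rw [comp_cj_mul, hg', ← hg, ← comp_cj_mul, mul_inv_cancel]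
          exact funext fun a => congrArg _ (cj_one a)
        rw [if_neg hnO, if_neg fun e' => hjz (F.θ_inj e').symm]
        push_cast; ring

end CfsgLib.CNTI
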