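import Cfsg.Agent.Lib.Char.PResidualDegree
import Cfsg.Agent.Lib.Char.Central

/-!
# Characters of degree prime to the order of a coprime complement
-/

namespace CfsgLib.CharExt

open CfsgLib.Char CfsgLib.Clifford CfsgLib.Gallagher
open scoped ComplexConjugate
open Module

variable {G : Type*} [Group G] [Finite G] (K : Subgroup G) [hK : K.Normal]

/-- With `|K|` prime to the index: the irreducible characters of degree prime to the index
correspond to pairs of a linear character of `G ⧸ K` and an invariant character of `K`. -/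
theorem card_coprime_degree (hcop : (Nat.card K).Coprime K.index) :
    Nat.card {χ : Cfsg.IrrCharacter G // (Cfsg.charDegree (χ : G → ℂ)).Coprime K.index} =
      Nat.card (G ⧸ K →* ℂˣ) *
        Nat.card {θ : Cfsg.IrrCharacter K // ∀ g : G, conjFn hK (θ : K → ℂ) g = θ} := by
  classical
  have := Fintype.ofFinite G
  have := Fintype.ofFinite K
  have hext : ∀ θ : {θ : Cfsg.IrrCharacter K // ∀ g : G, conjFn hK (θ : K → ℂ) g = θ},
      ∃ χ : Cfsg.IrrCharacter G, ∀ x : K, (χ : G → ℂ) x = (θ.1 : K → ℂ) x := by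
    rintro ⟨θ, hinv⟩
    obtain ⟨m, σ, hσ, hσc⟩ := θ.2
    have := hσ
    obtain ⟨ρ, hρ⟩ := exists_extension_coprime σ (fun g x => by
      rw [hσc]; exact congrFun (hinv g) x) (Nat.Coprime.mul_left
        (hcop.coprime_dvd_left (orderOf_dvd_of_pow_eq_one (hom_pow_card _)))
        (hcop.coprime_dvd_left (CharIntegral.finrank_dvd_card σ)))
    have := isIrreducible_of_restrict ρ K.subtype σ hρ
    refine ⟨irrOfRep ρ, fun x => ?_⟩
    show LinearMap.trace ℂ _ (ρ x) = _
    rw [hρ]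
    exact congrFun hσc x
  choose ext hext using hext
  have hres : ∀ θ, Cfsg.IsIrrCharacter K fun x : K => (ext θ : G → ℂ) x := fun θ => by
    rw [show (fun x : K => (ext θ : G → ℂ) x) = (θ.1 : K → ℂ) from funext (hext θ)]
    exact θ.1.2
  let lin : (G ⧸ K →* ℂˣ) → Cfsg.IrrCharacter (G ⧸ K) := fun l => ⟨_, isIrrCharacter_linear l⟩
  have hrestr : ∀ l θ (x : K), twistBy (ext θ : G → ℂ) (lin l : G ⧸ K → ℂ) x = (θ.1 : K → ℂ) x :=
    fun l θ x => by
      rw [twistBy_apply_coe, hext]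
      show ((l 1 : ℂˣ) : ℂ) * _ = _
      rw [map_one, Units.val_one, one_mul]
  let Φ : (G ⧸ K →* ℂˣ) × {θ : Cfsg.IrrCharacter K // ∀ g : G, conjFn hK (θ : K → ℂ) g = θ} →
      {χ : Cfsg.IrrCharacter G // (Cfsg.charDegree (χ : G → ℂ)).Coprime K.index} := fun p =>
    ⟨⟨_, isIrr_twistBy (IsIrr.isCharacter (ext p.2).2) (hres p.2) (lin p.1)⟩, by
      obtain ⟨m, σ, hσ, hσc⟩ := p.2.1.2
      have := hσ
      refine hcop.coprime_dvd_left ?_
      have h := hrestr p.1 p.2 1
      rw [OneMemClass.coe_one, ← hσc, Representation.char_one] at h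
      show ⌊(twistBy (ext p.2 : G → ℂ) (lin p.1 : G ⧸ K → ℂ) 1).re⌋₊ ∣ Nat.card K
      rw [h, Complex.natCast_re, Nat.floor_natCast]
      exact CharIntegral.finrank_dvd_card σ⟩
  rw [← Nat.card_prod]
  refine (Nat.card_eq_of_bijective Φ ⟨?_, ?_⟩).symm
  · rintro ⟨l, θ⟩ ⟨l', θ'⟩ h
    have h' : twistBy (ext θ : G → ℂ) (lin l : G ⧸ K → ℂ) =
        twistBy (ext θ' : G → ℂ) (lin l' : G ⧸ K → ℂ) := congrArg (fun z => (z.1 : G → ℂ)) h
    have hθ : θ = θ' := Subtype.ext (Subtype.ext (funext fun x =>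
      (hrestr l θ x).symm.trans ((congrFun h' x).trans (hrestr l' θ' x))))
    subst hθ
    have hl := congrArg (fun z : Cfsg.IrrCharacter (G ⧸ K) => (z : G ⧸ K → ℂ))
      (twistBy_injective (IsIrr.isCharacter (ext θ).2) (hres θ) (a₁ := lin l) (a₂ := lin l') h')
    exact Prod.ext (MonoidHom.ext fun g => Units.ext (congrFun hl g)) rfl
  · rintro ⟨χ, hχ⟩
    have hr := isIrr_restrict_of_coprime (K := K) χ hχ
    set θ : {θ : Cfsg.IrrCharacter K // ∀ g : G, conjFn hK (θ : K → ℂ) g = θ} :=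
      ⟨⟨_, hr⟩, fun g => funext fun x => IsIrr.isClassFunction χ.2 x g⟩ with hθ
    obtain ⟨β, hβ⟩ := exists_eq_twistBy (IsIrr.isCharacter (ext θ).2) (hres θ) χ (by
      rw [show (fun n : K => (ext θ : G → ℂ) n) = fun n : K => (χ : G → ℂ) n from
        funext fun n => hext θ n]
      exact ne_of_eq_of_ne (classInner_irr_self ⟨_, hr⟩) one_ne_zero)
    have hβ1 : (β : G ⧸ K → ℂ) 1 = 1 := by
      have h := congrFun hβ ((1 : K) : G)
      rw [twistBy_apply_coe, hext] at h
      exact (mul_eq_right₀ (IsIrr.apply_one_ne_zero hr)).mp h.symm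
    obtain ⟨l, hl⟩ := exists_linear_of_degree_one (IsIrr.isCharacter β.2) hβ1
    exact ⟨(l, θ), Subtype.ext (Subtype.ext (hβ.trans (by rw [hl])).symm)⟩

omit [Finite G] hK in
/-- A complement is isomorphic to the quotient. -/
theorem nonempty_equiv_quotient [K.Normal] (H : Subgroup G) (hinf : K ⊓ H = ⊥)
    (hsup : K ⊔ H = ⊤) : Nonempty (H ≃* G ⧸ K) := by
  refine ⟨MulEquiv.ofBijective ((QuotientGroup.mk' K).comp H.subtype) ⟨?_, ?_⟩⟩
  · rw [injective_iff_map_eq_one]
    intro h hh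
    have h1 : (h : G) ∈ K ⊓ H := ⟨(QuotientGroup.eq_one_iff (h : G)).mp hh, h.2⟩
    rw [hinf, Subgroup.mem_bot] at h1
    exact Subtype.ext h1
  · intro q
    induction q using QuotientGroup.induction_on with
    | H g =>
      obtain ⟨k, hk, h, hh, rfl⟩ := Subgroup.mem_sup_of_normal_left.mp
        (hsup ▸ Subgroup.mem_top g : g ∈ K ⊔ H)
      refine ⟨⟨h, hh⟩, ?_⟩
      show QuotientGroup.mk' K h = QuotientGroup.mk' K (k * h)
      rw [map_mul, show QuotientGroup.mk' K k = 1 from (QuotientGroup.eq_one_iff k).mpr hk, one_mul]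

end CfsgLib.CharExt
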