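import Cfsg.Agent.Lib.Char.Exceptional.TISet
import Cfsg.Agent.Lib.Char.Exceptional.Virtual
import Cfsg.Agent.Lib.Char.Exceptional.NormalInd

/-!
# Characters on a trivial-intersection coset complement

`G` is normal in `Γ`, `Γ = GH`, and an element of `H` outside `G` is moved out of `H` by every
element outside `H`. If `X` is irreducible on `Γ` and on `G`, then on `H` outside `G` it agrees up
to sign with a single irreducible character of `H`.
-/

namespace CfsgLib.CosetTI

open CfsgLib.Char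
open scoped Classical ComplexConjugate

variable {Γ : Type*} [Group Γ] [Fintype Γ] {G H : Subgroup Γ} [hGn : G.Normal] [Fintype H]

section Norm

variable (htop : G ⊔ H = ⊤) (hTI : ∀ g : Γ, ∀ h ∈ H, h ∉ G → g * h * g⁻¹ ∈ H → g ∈ H)

omit [Fintype Γ] [Fintype H] in
theorem ti_set (hTI : ∀ g : Γ, ∀ h ∈ H, h ∉ G → g * h * g⁻¹ ∈ H → g ∈ H) :
    ∀ g : Γ, g ∉ H → ∀ s ∈ {x : Γ | x ∈ H ∧ x ∉ G}, g * s * g⁻¹ ∉ {x : Γ | x ∈ H ∧ x ∉ G} :=
  fun g hg s hs h => hg (hTI g s hs.1 hs.2 h.1)

include htop in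
omit [Fintype Γ] [Fintype H] in
theorem index_subgroupOf : (G.subgroupOf H).index = G.index := by
  have h := Subgroup.relIndex_sup_left (H := H) (K := G)
  rw [htop, Subgroup.relIndex_top_right] at h
  exact h.symm

omit [Fintype Γ] in
theorem sum_split [Fintype (G.subgroupOf H)] (f : H → ℂ) :
    ∑ h : H, f h = (∑ c : G.subgroupOf H, f c) + ∑ h : H, if h ∈ G.subgroupOf H then 0 else f h := by
  rw [← Finset.sum_filter_add_sum_filter_not Finset.univ (fun h => h ∈ G.subgroupOf H),
    Finset.sum_ite, Finset.sum_const_zero, zero_add]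
  congr 1
  exact (Finset.sum_subtype (Finset.univ.filter fun h => h ∈ G.subgroupOf H) (by simp) f)

include htop hTI in
/-- The squares of `X` on `H` outside `G` sum to `|H| - |H ⊓ G|`. -/
theorem sum_sq_off {X : Γ → ℂ} (hX : Cfsg.IsIrrCharacter Γ X) [Fintype G]
    (hXG : Cfsg.IsIrrCharacter G fun g => X g) :
    (∑ h : H, if h ∈ G.subgroupOf H then 0 else X h * conj (X h)) =
      (Nat.card H : ℂ) - Nat.card (G.subgroupOf H) := by
  set S := {x : Γ | x ∈ H ∧ x ∉ G}
  let φ : H → ℂ := fun h => if h ∈ G.subgroupOf H then 0 else 1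
  have hφ : Cfsg.IsClassFunction H φ := fun a b => by
    have hn : (G.subgroupOf H).Normal := inferInstance
    have : b * a * b⁻¹ ∈ G.subgroupOf H ↔ a ∈ G.subgroupOf H :=
      ⟨fun h => by simpa [mul_assoc] using hn.conj_mem _ h b⁻¹, fun h => hn.conj_mem _ h b⟩
    simp only [φ, this]
  have hφS : ∀ x : H, (x : Γ) ∉ S → φ x = 0 := fun x hx => by
    simp only [φ]
    rw [if_pos (Subgroup.mem_subgroupOf.mpr (not_not.mp fun hh => hx ⟨x.2, hh⟩))]
  -- the induced function is the indicator of the complement of `G`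
  let F : Γ → ℝ := fun g => if ∃ y : Γ, y⁻¹ * g * y ∈ S then 1 else 0
  have hind : ∀ g, Cfsg.indFun H φ g = (F g : ℂ) := by
    intro g
    by_cases hg : ∃ y : Γ, y⁻¹ * g * y ∈ S
    · obtain ⟨y, hy⟩ := hg
      have h1 := isClassFunction_indFun H φ (y⁻¹ * g * y) y
      rw [show y * (y⁻¹ * g * y) * y⁻¹ = g by group] at h1
      rw [h1, show Cfsg.indFun H φ (y⁻¹ * g * y) = φ ⟨y⁻¹ * g * y, hy.1⟩ from
        Exceptional.ti_indFun_eq (ti_set hTI) hφ hφS (x := ⟨_, hy.1⟩) hy]
      simp only [φ, F]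
      rw [if_neg (fun h => hy.2 (Subgroup.mem_subgroupOf.mp h)), if_pos ⟨y, hy⟩, Complex.ofReal_one]
    · rw [Exceptional.indFun_eq_zero_of_support hφS (fun y hy => hg ⟨y, hy⟩)]
      simp [F, hg]
  have hsumφ : ∑ h : H, φ h = (Nat.card H : ℂ) - Nat.card (G.subgroupOf H) := by
    rw [eq_sub_iff_add_eq', Nat.card_eq_fintype_card (α := H)]
    have h := sum_split (G := G) (fun _ : H => (1 : ℂ))
    rw [Finset.sum_const, Finset.sum_const, Finset.card_univ, Finset.card_univ, nsmul_one,
      nsmul_one, ← Nat.card_eq_fintype_card (α := G.subgroupOf H)] at h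
    exact h.symm
  -- so it is all of the complement
  have hzero : ∀ g, g ∈ G → F g = 0 := fun g hg => if_neg fun ⟨y, hy⟩ =>
    hy.2 (by simpa using hGn.conj_mem g hg y⁻¹)
  have hle : ∀ g, F g ≤ (if g ∈ G then 0 else 1) := by
    intro g
    split_ifs with hg
    · exact (hzero g hg).le
    · simp only [F]; split_ifs <;> norm_num
  have hone : Cfsg.classInner (Cfsg.indFun H φ) (fun _ : Γ => (1 : ℂ)) =
      Cfsg.classInner φ (fun _ : H => (1 : ℂ)) :=
    frobenius_reciprocity H φ (fun _ _ => rfl)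
  simp only [Cfsg.classInner, map_one, mul_one, hsumφ] at hone
  have hcard : ∑ g : Γ, F g = (Nat.card Γ : ℝ) - Nat.card G := by
    have hr : (((∑ g : Γ, F g) : ℝ) : ℂ) = (((Nat.card Γ : ℝ) - Nat.card G : ℝ) : ℂ) := by
      push_cast
      rw [← Finset.sum_congr rfl fun g _ => hind g]
      have hΓ0 : (Nat.card Γ : ℂ) ≠ 0 := Nat.cast_ne_zero.mpr Nat.card_pos.ne'
      rw [inv_mul_eq_iff_eq_mul₀ hΓ0] at hone
      rw [hone]
      have e1 := (G.subgroupOf H).card_mul_index
      have e2 := G.card_mul_index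
      rw [index_subgroupOf htop] at e1
      have hH0 : (Nat.card H : ℂ) ≠ 0 := Nat.cast_ne_zero.mpr Nat.card_pos.ne'
      have hi0 : (G.index : ℂ) ≠ 0 := Nat.cast_ne_zero.mpr Subgroup.index_ne_zero_of_finite
      rw [← e2, Nat.cast_mul]
      have e1' : (Nat.card H : ℂ) = Nat.card (G.subgroupOf H) * G.index := by exact_mod_cast e1.symm
      field_simp
      linear_combination e1'
    exact Complex.ofReal_injective hr
  have heq : ∀ g, F g = (if g ∈ G then 0 else 1) := by
    have htot : ∑ g : Γ, (if g ∈ G then (0 : ℝ) else 1) = (Nat.card Γ : ℝ) - Nat.card G := by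
      rw [Finset.sum_ite, Finset.sum_const_zero, zero_add, Finset.sum_const, nsmul_one,
        Finset.filter_not, Finset.card_univ_diff, Nat.cast_sub (Finset.card_le_univ _),
        Nat.card_eq_fintype_card, Nat.card_eq_fintype_card, Fintype.card_subtype]
    exact fun g => (Finset.sum_eq_sum_iff_of_le fun g _ => hle g).mp (hcard.trans htot.symm) g
      (Finset.mem_univ g)
  -- pair with `|X|²`
  have hcl : Cfsg.IsClassFunction Γ fun g => X g * conj (X g) := fun g x => by
    simp only [IsIrr.isClassFunction hX g x]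
  have hfr := frobenius_reciprocity H φ hcl
  simp only [Cfsg.classInner, map_mul, Complex.conj_conj] at hfr
  have hL : ∑ g : Γ, Cfsg.indFun H φ g * (conj (X g) * X g) =
      (Nat.card Γ : ℂ) - Nat.card G := by
    have hnX := Exceptional.classInner_self_of_irr hX
    have hnG := Exceptional.classInner_self_of_irr hXG
    simp only [Cfsg.classInner] at hnX hnG
    rw [inv_mul_eq_iff_eq_mul₀ (Nat.cast_ne_zero.mpr Nat.card_pos.ne'), mul_one] at hnX hnG
    rw [← hnX, ← hnG, eq_sub_iff_add_eq, Finset.sum_congr rfl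
      (g := fun g => if g ∈ G then 0 else X g * conj (X g)) fun g _ => by
        rw [hind, heq]; split_ifs <;> simp [mul_comm],
      ← Finset.sum_subtype (Finset.univ.filter fun g : Γ => g ∈ G) (by simp)
        (fun g => X g * conj (X g)), Finset.sum_ite, Finset.sum_const_zero, zero_add, add_comm,
      Finset.sum_filter_add_sum_filter_not]
  rw [hL] at hfr
  have hR : ∑ h : H, φ h * (conj (X h) * X h) =
      ∑ h : H, if h ∈ G.subgroupOf H then 0 else X h * conj (X h) :=
    Finset.sum_congr rfl fun h _ => by simp only [φ]; split_ifs <;> simp [mul_comm]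
  rw [hR] at hfr
  have e1 := (G.subgroupOf H).card_mul_index
  have e2 := G.card_mul_index
  rw [index_subgroupOf htop] at e1
  have e1' : (Nat.card H : ℂ) = Nat.card (G.subgroupOf H) * G.index := by exact_mod_cast e1.symm
  rw [← e2, Nat.cast_mul] at hfr
  have hH0 : (Nat.card H : ℂ) ≠ 0 := Nat.cast_ne_zero.mpr Nat.card_pos.ne'
  have hi0 : (G.index : ℂ) ≠ 0 := Nat.cast_ne_zero.mpr Subgroup.index_ne_zero_of_finite
  have hG0 : (Nat.card G : ℂ) ≠ 0 := Nat.cast_ne_zero.mpr Nat.card_pos.ne'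
  field_simp at hfr
  apply mul_left_cancel₀ hi0
  linear_combination -hfr - e1'

end Norm

/-- Integers with pairwise differences at most one. -/
theorem two_values {Λ : Type*} [Fintype Λ] (b : Λ → ℤ) (h : ∀ i j, b i - b j ≤ 1) [Nonempty Λ] :
    ∃ (m : ℤ) (A : Finset Λ), (∀ i, b i = m + if i ∈ A then 1 else 0) ∧
      (Fintype.card Λ : ℤ) * ∑ i, b i ^ 2 - (∑ i, b i) ^ 2 =
        (A.card : ℤ) * ((Fintype.card Λ : ℤ) - A.card) := by
  obtain ⟨i₀, -, hmin⟩ := Finset.exists_min_image Finset.univ b Finset.univ_nonempty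
  refine ⟨b i₀, Finset.univ.filter (fun i => b i ≠ b i₀), ?_, ?_⟩
  · intro i
    have h1 := hmin i (Finset.mem_univ i)
    have h2 := h i i₀
    simp only [Finset.mem_filter, Finset.mem_univ, true_and]
    split_ifs <;> omega
  · have hb : ∀ i, b i = b i₀ + if b i ≠ b i₀ then 1 else 0 := fun i => by
      have h1 := hmin i (Finset.mem_univ i)
      have h2 := h i i₀
      split_ifs <;> omega
    have hk : ∑ i, (if b i ≠ b i₀ then (1 : ℤ) else 0) =
        ((Finset.univ.filter fun i => b i ≠ b i₀).card : ℤ) := by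
      rw [Finset.sum_boole]
    rw [Finset.sum_congr rfl (g := fun i => b i₀ ^ 2 + (2 * b i₀ + 1) * if b i ≠ b i₀ then 1 else 0)
        fun i _ => by nth_rw 1 [hb i]; split_ifs <;> ring,
      Finset.sum_congr rfl (f := b) fun i _ => hb i, Finset.sum_add_distrib, Finset.sum_add_distrib,
      Finset.sum_const, Finset.sum_const, ← Finset.mul_sum, hk, Finset.card_univ, nsmul_eq_mul,
      nsmul_eq_mul]
    ring

/-- The values outside `G`. -/
theorem profile (htop : G ⊔ H = ⊤)
    (hTI : ∀ g : Γ, ∀ h ∈ H, h ∉ G → g * h * g⁻¹ ∈ H → g ∈ H) {X : Γ → ℂ}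
    (hX : Cfsg.IsIrrCharacter Γ X) [Fintype G] (hXG : Cfsg.IsIrrCharacter G fun g => X g)
    [Fintype (G.subgroupOf H)] {Θ Λ : Type*} [Fintype Θ] [Fintype Λ]
    (hΛ : Fintype.card Λ = (G.subgroupOf H).index) (hn : 1 < (G.subgroupOf H).index)
    (th : Θ → Cfsg.IrrCharacter (G.subgroupOf H))
    (hXN : ∀ c : G.subgroupOf H, X (c : H) = ∑ t, Cfsg.classInner
      (fun c : G.subgroupOf H => X (c : H)) (th t : G.subgroupOf H → ℂ) *
        (th t : G.subgroupOf H → ℂ) c)
    (η : Θ → Λ → Cfsg.IrrCharacter H)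
    (hinj : Function.Injective fun p : Θ × Λ => η p.1 p.2)
    (hres : ∀ t l, ∀ c : G.subgroupOf H, (η t l : H → ℂ) c = (th t : G.subgroupOf H → ℂ) c)
    (hcol : ∀ t, ∀ h : H, h ∉ G.subgroupOf H → ∑ l, (η t l : H → ℂ) h = 0) :
    ∃ (t₀ : Θ) (l₀ : Λ) (ε : ℤ) (m : Θ → ℤ), (ε = 1 ∨ ε = -1) ∧
      (∀ h : H, h ∉ G.subgroupOf H → X h = (ε : ℂ) * (η t₀ l₀ : H → ℂ) h) ∧
      ∀ t, Cfsg.classInner (fun c : G.subgroupOf H => X (c : H)) (th t : G.subgroupOf H → ℂ) =
        (((Fintype.card Λ : ℤ) * m t + if t = t₀ then ε else 0 : ℤ) : ℂ) := by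
  let N := G.subgroupOf H
  have hNn : N.Normal := inferInstance
  have : Nonempty Λ := Fintype.card_pos_iff.mp (by omega)
  have hXH : Cfsg.IsCharacter H fun h => X h := IsChar.restrict H (IsIrr.isCharacter hX)
  choose b hb using fun t l => IsChar.classInner_eq_natCast hXH (IsIrr.isCharacter (η t l).2)
  -- row sums
  have hS : ∀ t, Cfsg.classInner (fun c : N => X (c : H)) (th t : N → ℂ) = ((∑ l, b t l : ℕ) : ℂ) := by
    intro t
    have hind : Cfsg.indFun N (th t : N → ℂ) = ∑ l, (η t l : H → ℂ) := by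
      funext h
      rw [Finset.sum_apply]
      by_cases hh : h ∈ N
      · lift h to N using hh
        obtain ⟨l₁⟩ := ‹Nonempty Λ›
        rw [Exceptional.indFun_normal_apply, Finset.sum_congr rfl fun l _ => hres t l h,
          Finset.sum_congr rfl (g := fun _ => (th t : N → ℂ) h) fun g _ => by
            rw [Exceptional.cjFun, ← hres t l₁, ← hres t l₁]
            exact IsIrr.isClassFunction (η t l₁).2 (h : H) g,
          Finset.sum_const, Finset.sum_const, Finset.card_univ, Finset.card_univ, nsmul_eq_mul,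
          nsmul_eq_mul, ← mul_assoc, hΛ, ← Nat.card_eq_fintype_card, ← N.card_mul_index,
          Nat.cast_mul, ← mul_assoc, inv_mul_cancel₀ (Nat.cast_ne_zero.mpr Nat.card_pos.ne'),
          one_mul]
      · rw [Exceptional.indFun_normal_eq_zero N _ hh, hcol t h hh]
    rw [← classInner_conj_symm, ← frobenius_reciprocity N _ (IsChar.isClassFunction hXH), hind,
      classInner_sum_left, map_sum, Nat.cast_sum]
    exact Finset.sum_congr rfl fun l _ => by rw [classInner_conj_symm, hb]
  -- the family exhausts the restriction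
  have hcov : (fun h : H => X h) = ∑ p : Θ × Λ, (b p.1 p.2 : ℂ) • (η p.1 p.2 : H → ℂ) := by
    have := Fintype.ofFinite (Cfsg.IrrCharacter H)
    obtain ⟨c, hc⟩ := IsChar.exists_sum hXH
    have hcb : ∀ p : Θ × Λ, c (η p.1 p.2) = b p.1 p.2 := fun p => by
      have h := hb p.1 p.2
      rw [hc, classInner_sum_irr] at h
      exact_mod_cast h
    let im : Finset (Cfsg.IrrCharacter H) := Finset.univ.image fun p : Θ × Λ => η p.1 p.2
    have hsum : ∀ f : Cfsg.IrrCharacter H → ℂ, ∑ ψ ∈ im, f ψ = ∑ p : Θ × Λ, f (η p.1 p.2) :=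
      fun f => Finset.sum_image fun a _ b _ h => hinj h
    have hone : (∑ ψ ∈ im, (c ψ : ℂ) * (ψ : H → ℂ) 1) = X (1 : H) := by
      rw [hsum, Fintype.sum_prod_type]
      have h1 := hXN 1
      rw [show ((1 : N) : H) = 1 from rfl] at h1
      rw [h1]
      refine Finset.sum_congr rfl fun t _ => ?_
      rw [hS t, Nat.cast_sum, Finset.sum_mul]
      refine Finset.sum_congr rfl fun l _ => ?_
      rw [hcb (t, l)]
      exact congrArg _ (hres t l 1)
    have hzero : ∀ ψ, ψ ∉ im → c ψ = 0 := by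
      intro ψ hψ
      have h1 := congrFun hc (1 : H)
      simp only [Finset.sum_apply, Pi.smul_apply, smul_eq_mul] at h1
      rw [← Finset.sum_sdiff (Finset.subset_univ im), hone, eq_comm, add_eq_right] at h1
      have hd : ∀ χ : Cfsg.IrrCharacter H, ∃ d : ℕ, 0 < d ∧ (χ : H → ℂ) 1 = d := fun χ =>
        IsIrr.exists_degree χ.2
      choose d hd0 hd using hd
      have h2 : ∑ χ ∈ Finset.univ \ im, c χ * d χ = 0 := by
        rw [Finset.sum_congr rfl fun χ _ => by rw [hd χ]] at h1
        exact_mod_cast h1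
      have := Finset.sum_eq_zero_iff.mp h2 ψ (Finset.mem_sdiff.mpr ⟨Finset.mem_univ _, hψ⟩)
      exact (Nat.mul_eq_zero.mp this).resolve_right (hd0 ψ).ne'
    rw [hc, ← Finset.sum_subset (Finset.subset_univ im) fun ψ _ hψ => by rw [hzero ψ hψ]; simp]
    rw [Finset.sum_image fun a _ b _ h => hinj h]
    exact Finset.sum_congr rfl fun p _ => by rw [hcb]
  -- adjacent values
  have hadj : ∀ t l l', (b t l : ℤ) - b t l' ≤ 1 := by
    intro t l l'
    rcases eq_or_ne l l' with rfl | hne
    · simp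
    set φ : H → ℂ := (η t l : H → ℂ) - (η t l' : H → ℂ)
    have hne' : (η t l : H → ℂ) ≠ (η t l' : H → ℂ) := fun h =>
      hne (congrArg Prod.snd (hinj (a₁ := (t, l)) (a₂ := (t, l')) (Subtype.ext h)))
    have hφS : ∀ x : H, (x : Γ) ∉ {x : Γ | x ∈ H ∧ x ∉ G} → φ x = 0 := by
      intro x hx
      have hxN : x ∈ N := Subgroup.mem_subgroupOf.mpr (not_not.mp fun hh => hx ⟨x.2, hh⟩)
      show (η t l : H → ℂ) x - (η t l' : H → ℂ) x = 0
      rw [hres t l ⟨x, hxN⟩, hres t l' ⟨x, hxN⟩, sub_self]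
    have hφgen : Cfsg.IsGeneralizedCharacter H φ :=
      Exceptional.IsGen.sub (Exceptional.IsGen.of_irr (η t l).2) (Exceptional.IsGen.of_irr (η t l').2)
    have hnorm : Cfsg.classInner (Cfsg.indFun H φ) (Cfsg.indFun H φ) = 2 := by
      rw [Exceptional.ti_indFun_inner (ti_set hTI) hφS
        (Exceptional.IsGen.isClassFunction hφgen) hφS]
      simp only [φ]
      rw [classInner_sub_left, classInner_sub_right, classInner_sub_right,
        Exceptional.classInner_self_of_irr (η t l).2, Exceptional.classInner_self_of_irr (η t l').2,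
        Exceptional.classInner_eq_zero_of_irr (η t l).2 (η t l').2 hne',
        Exceptional.classInner_eq_zero_of_irr (η t l').2 (η t l).2 hne'.symm]
      norm_num
    obtain ⟨a, a', ha, ha', -, he⟩ := Exceptional.IsGen.norm_two
      (Exceptional.IsGen.indFun H hφgen) hnorm (by
        rw [indFun_apply_one, hφS 1 (fun h => h.2 G.one_mem), mul_zero])
    have hfr := frobenius_reciprocity H φ (IsIrr.isClassFunction hX)
    rw [he, classInner_sub_left, Exceptional.classInner_of_irr ha hX,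
      Exceptional.classInner_of_irr ha' hX] at hfr
    simp only [φ] at hfr
    rw [classInner_sub_left, ← classInner_conj_symm, ← classInner_conj_symm (φ := fun h : H => X h),
      hb, hb, Complex.conj_natCast, Complex.conj_natCast] at hfr
    have hI : ((if a = X then (1 : ℤ) else 0) - (if a' = X then (1 : ℤ) else 0) : ℤ) =
        (b t l : ℤ) - b t l' := by
      apply Int.cast_injective (α := ℂ)
      push_cast
      rw [← hfr]
    rw [← hI]
    split_ifs <;> norm_num
  choose m A hA hAk using fun t => two_values (fun l => (b t l : ℤ)) (hadj t)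
  -- the norm
  set n := Fintype.card Λ with hn'
  have hnorm : ∑ t, ((A t).card : ℤ) * ((n : ℤ) - (A t).card) = n - 1 := by
    have hHH : Cfsg.classInner (fun h : H => X h) (fun h : H => X h) =
        ((∑ t, ∑ l, (b t l : ℤ) ^ 2 : ℤ) : ℂ) := by
      conv_lhs => arg 2; rw [hcov]
      rw [classInner_sum_right, Fintype.sum_prod_type]
      push_cast
      refine Finset.sum_congr rfl fun t _ => Finset.sum_congr rfl fun l _ => ?_
      rw [classInner_smul_right, hb, Complex.conj_natCast, sq]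
    have hNN : Cfsg.classInner (fun c : N => X (c : H)) (fun c : N => X (c : H)) =
        ((∑ t, (∑ l, (b t l : ℤ)) ^ 2 : ℤ) : ℂ) := by
      have e : (fun c : N => X (c : H)) = ∑ t, Cfsg.classInner (fun c : N => X (c : H))
          (th t : N → ℂ) • (th t : N → ℂ) := by
        funext c; rw [Finset.sum_apply]; exact hXN c
      conv_lhs => arg 2; rw [e]
      rw [classInner_sum_right]
      push_cast
      refine Finset.sum_congr rfl fun t _ => ?_
      rw [classInner_smul_right, hS, Complex.conj_natCast, sq, Nat.cast_sum]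
    simp only [Cfsg.classInner] at hHH hNN
    rw [inv_mul_eq_iff_eq_mul₀ (Nat.cast_ne_zero.mpr Nat.card_pos.ne')] at hHH hNN
    have hs := sum_split (G := G) (fun h : H => X h * conj (X h))
    rw [sum_sq_off htop hTI hX hXG, hHH, hNN] at hs
    have e1 : (Nat.card H : ℂ) = Nat.card N * (n : ℂ) := by
      rw [hΛ]; exact_mod_cast N.card_mul_index.symm
    rw [e1] at hs
    have hN0 : (Nat.card N : ℂ) ≠ 0 := Nat.cast_ne_zero.mpr Nat.card_pos.ne'
    have h2 : (n : ℤ) * ∑ t, ∑ l, (b t l : ℤ) ^ 2 =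
        ∑ t, (∑ l, (b t l : ℤ)) ^ 2 + n - 1 := by
      apply Int.cast_injective (α := ℂ)
      apply mul_left_cancel₀ hN0
      push_cast at hs ⊢
      linear_combination hs
    rw [Finset.sum_congr rfl fun t _ => (hAk t).symm, Finset.sum_sub_distrib, ← Finset.mul_sum]
    omega
  -- exactly one row is not constant, and it has one exceptional entry
  have hk : ∀ t, ((A t).card : ℤ) ≤ n := fun t => by exact_mod_cast Finset.card_le_univ (A t)
  have hnn : ∀ t, 0 ≤ ((A t).card : ℤ) * ((n : ℤ) - (A t).card) := fun t =>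
    mul_nonneg (Nat.cast_nonneg _) (sub_nonneg.mpr (hk t))
  have hn2 : (2 : ℤ) ≤ n := by omega
  obtain ⟨t₀, -, ht₀⟩ := Finset.exists_ne_zero_of_sum_ne_zero
    (show ∑ t, ((A t).card : ℤ) * ((n : ℤ) - (A t).card) ≠ 0 by omega)
  have h1 : ((A t₀).card : ℤ) ≠ 0 := fun h => ht₀ (by rw [h, zero_mul])
  have h2 : ((n : ℤ) - (A t₀).card) ≠ 0 := fun h => ht₀ (by rw [h, mul_zero])
  have hge : (n : ℤ) - 1 ≤ ((A t₀).card : ℤ) * ((n : ℤ) - (A t₀).card) := by
    have := hk t₀
    nlinarith [mul_nonneg (show (0 : ℤ) ≤ (A t₀).card - 1 by omega)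
      (show (0 : ℤ) ≤ (n : ℤ) - (A t₀).card - 1 by omega)]
  rw [← Finset.add_sum_erase _ _ (Finset.mem_univ t₀)] at hnorm
  have hrest0 : 0 ≤ ∑ t ∈ Finset.univ.erase t₀, ((A t).card : ℤ) * ((n : ℤ) - (A t).card) :=
    Finset.sum_nonneg fun t _ => hnn t
  have hzero : ∀ t ≠ t₀, A t = ∅ ∨ A t = Finset.univ := fun t ht => by
    have h0 := (Finset.sum_eq_zero_iff_of_nonneg fun t _ => hnn t).mp
      (show ∑ t ∈ Finset.univ.erase t₀, ((A t).card : ℤ) * ((n : ℤ) - (A t).card) = 0 by omega) t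
      (Finset.mem_erase.mpr ⟨ht, Finset.mem_univ _⟩)
    rcases mul_eq_zero.mp h0 with h | h
    · left; exact Finset.card_eq_zero.mp (by exact_mod_cast h)
    · right; exact Finset.card_eq_iff_eq_univ _ |>.mp (by omega)
  have hcase : (A t₀).card = 1 ∨ (A t₀)ᶜ.card = 1 := by
    rw [Finset.card_compl]
    have := hk t₀
    have hprod : ((A t₀).card - 1 : ℤ) * ((n : ℤ) - (A t₀).card - 1) = 0 := by
      have : ((A t₀).card : ℤ) * ((n : ℤ) - (A t₀).card) = n - 1 := by omega
      linear_combination this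
    rcases mul_eq_zero.mp hprod with h | h
    · left; omega
    · right; omega
  obtain ⟨l₀, ε, hε, m₀, hb₀⟩ : ∃ (l₀ : Λ) (ε : ℤ), (ε = 1 ∨ ε = -1) ∧ ∃ m₀ : ℤ,
      ∀ l, (b t₀ l : ℤ) = m₀ + if l = l₀ then ε else 0 := by
    rcases hcase with h | h
    · obtain ⟨l₀, hl₀⟩ := Finset.card_eq_one.mp h
      exact ⟨l₀, 1, Or.inl rfl, m t₀, fun l => by rw [hA t₀ l, hl₀]; simp⟩
    · obtain ⟨l₀, hl₀⟩ := Finset.card_eq_one.mp h
      refine ⟨l₀, -1, Or.inr rfl, m t₀ + 1, fun l => ?_⟩
      have hmem : l ∈ A t₀ ↔ l ≠ l₀ := by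
        rw [← Finset.notMem_singleton, ← hl₀, Finset.mem_compl, not_not]
      rw [hA t₀ l, if_congr hmem rfl rfl]
      by_cases hl : l = l₀ <;> simp [hl]
  have hconst : ∀ t ≠ t₀, ∃ c : ℤ, ∀ l, (b t l : ℤ) = c := fun t ht => by
    rcases hzero t ht with h | h
    · exact ⟨m t, fun l => by rw [hA t l, h]; simp⟩
    · exact ⟨m t + 1, fun l => by rw [hA t l, h]; simp⟩
  choose c hc using hconst
  let M : Θ → ℤ := fun t => if ht : t = t₀ then m₀ else c t ht
  have hbM : ∀ t l, (b t l : ℤ) = M t + if t = t₀ ∧ l = l₀ then ε else 0 := by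
    intro t l
    by_cases ht : t = t₀
    · subst ht; simp [M, hb₀]
    · simp [M, ht, hc t ht l]
  refine ⟨t₀, l₀, ε, M, hε, fun h hh => ?_, fun t => ?_⟩
  · rw [show X h = _ from congrFun hcov h, Finset.sum_apply, Fintype.sum_prod_type,
      Finset.sum_eq_single t₀ (fun t _ ht => ?_) (by simp)]
    · rw [Finset.sum_congr rfl (g := fun l => (M t₀ : ℂ) * (η t₀ l : H → ℂ) h +
          if l = l₀ then (ε : ℂ) * (η t₀ l : H → ℂ) h else 0) fun l _ => ?_,
        Finset.sum_add_distrib, ← Finset.mul_sum, hcol t₀ h hh, mul_zero, zero_add,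
        Finset.sum_ite_eq' Finset.univ l₀]
      · simp
      · have := congrArg (Int.cast : ℤ → ℂ) (hbM t₀ l)
        push_cast at this
        rw [Pi.smul_apply, smul_eq_mul, this]
        by_cases hl : l = l₀ <;> simp [hl]; ring
    · rw [Finset.sum_congr rfl (g := fun l => (M t : ℂ) * (η t l : H → ℂ) h) fun l _ => ?_,
        ← Finset.mul_sum, hcol t h hh, mul_zero]
      have := congrArg (Int.cast : ℤ → ℂ) (hbM t l)
      push_cast at this
      rw [Pi.smul_apply, smul_eq_mul, this]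
      simp [ht]
  · rw [hS t]
    have : ((∑ l, b t l : ℕ) : ℤ) = (n : ℤ) * M t + if t = t₀ then ε else 0 := by
      push_cast
      rw [Finset.sum_congr rfl fun l _ => hbM t l, Finset.sum_add_distrib, Finset.sum_const,
        Finset.card_univ, nsmul_eq_mul]
      by_cases ht : t = t₀ <;> simp [ht, n]
    exact_mod_cast congrArg (Int.cast : ℤ → ℂ) this

end CfsgLib.CosetTI
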