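import Cfsg.Agent.Lib.Char.CosetTI
import Cfsg.Agent.Lib.Char.Gallagher
import Cfsg.Agent.Lib.Char.AbelianInertia
import Cfsg.Agent.Lib.Char.Complete
import Cfsg.Agent.Lib.CharDegree.Basic
import Cfsg.Agent.Lib.CharDegree.CyclicExtend
import Cfsg.Prelude.Def_CharExt

/-!
# Two applications of the coset profile

Values of an extension on `Cx` for a fixed-point-free cyclic action, and fully ramified
characters under a cyclic Frobenius complement.
-/

namespace CfsgLib.CosetTI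

open CfsgLib.Char
open scoped Classical ComplexConjugate Pointwise

set_option maxHeartbeats 1000000 in
/-- The profile for an abelian quotient. -/
theorem profile_abelian {Γ : Type*} [Group Γ] [Fintype Γ] {G H : Subgroup Γ} [G.Normal]
    [Fintype H] [Fintype G] [Fintype (G.subgroupOf H)] (htop : G ⊔ H = ⊤)
    (hTI : ∀ g : Γ, ∀ h ∈ H, h ∉ G → g * h * g⁻¹ ∈ H → g ∈ H) {X : Γ → ℂ}
    (hX : Cfsg.IsIrrCharacter Γ X) (hXG : Cfsg.IsIrrCharacter G fun g => X g)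
    (hn : 1 < G.index) (hab : ∀ a b : H ⧸ G.subgroupOf H, a * b = b * a) {Θ : Type*} [Fintype Θ]
    (th : Θ → Cfsg.IrrCharacter (G.subgroupOf H)) (hth : Function.Injective th)
    (hXN : ∀ c : G.subgroupOf H, X (c : H) = ∑ t, Cfsg.classInner
      (fun c : G.subgroupOf H => X (c : H)) (th t : G.subgroupOf H → ℂ) *
        (th t : G.subgroupOf H → ℂ) c)
    (η : Θ → Cfsg.IrrCharacter H)
    (hres : ∀ t, ∀ c : G.subgroupOf H, (η t : H → ℂ) c = (th t : G.subgroupOf H → ℂ) c) :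
    ∃ (t₀ : Θ) (l : H →* ℂˣ) (ε : ℤ) (m : Θ → ℤ), (ε = 1 ∨ ε = -1) ∧
      (∀ c ∈ G.subgroupOf H, l c = 1) ∧
      (∀ h : H, h ∉ G.subgroupOf H → X h = (ε : ℂ) * ((l h : ℂ) * (η t₀ : H → ℂ) h)) ∧
      ∀ t, Cfsg.classInner (fun c : G.subgroupOf H => X (c : H)) (th t : G.subgroupOf H → ℂ) =
        (((G.index : ℤ) * m t + if t = t₀ then ε else 0 : ℤ) : ℂ) := by
  let N := G.subgroupOf H
  have hidx : N.index = G.index := index_subgroupOf htop
  let := Fintype.ofFinite (H ⧸ N)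
  let := Fintype.ofFinite (Cfsg.IrrCharacter (H ⧸ N))
  have hlin : ∀ β : Cfsg.IrrCharacter (H ⧸ N), (β : H ⧸ N → ℂ) 1 = 1 :=
    Clifford.apply_one_eq_one_of_commute hab
  have hres' : ∀ t, Cfsg.IsIrrCharacter N fun n : N => (η t : H → ℂ) n := fun t => by
    rw [show (fun n : N => (η t : H → ℂ) n) = (th t : N → ℂ) from funext (hres t)]
    exact (th t).2
  have hcard : Fintype.card (Cfsg.IrrCharacter (H ⧸ N)) = N.index := by
    have h := sum_sq_degree (G := H ⧸ N)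
    simp only [hlin, one_pow, Finset.sum_const, Finset.card_univ, nsmul_one] at h
    rw [Subgroup.index_eq_card]
    exact_mod_cast h
  let ζ : Θ → Cfsg.IrrCharacter (H ⧸ N) → Cfsg.IrrCharacter H := fun t β =>
    ⟨_, Gallagher.isIrr_twistBy (IsIrr.isCharacter (η t).2) (hres' t) β⟩
  have hζ : ∀ t β (c : N), (ζ t β : H → ℂ) c = (th t : N → ℂ) c := fun t β c => by
    show Gallagher.twistBy (η t : H → ℂ) (β : H ⧸ N → ℂ) c = _
    rw [Gallagher.twistBy_apply_coe, hlin, one_mul, hres]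
  have hinj : Function.Injective fun p : Θ × Cfsg.IrrCharacter (H ⧸ N) => ζ p.1 p.2 := by
    rintro ⟨t, β⟩ ⟨t', β'⟩ h
    obtain rfl : t = t' := hth (irr_ext fun c => by
      have h1 := congrFun (congrArg Subtype.val h) (c : H)
      rwa [hζ, hζ] at h1)
    exact Prod.ext rfl (Gallagher.twistBy_injective (IsIrr.isCharacter (η t).2) (hres' t)
      (congrArg Subtype.val h))
  obtain ⟨t₀, β, ε, m, hε, hoff, hm⟩ := profile htop hTI hX hXG (by rw [hcard])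
    (lt_of_lt_of_eq hn hidx.symm) th hXN ζ hinj hζ fun t h hh => by
      have hq : (QuotientGroup.mk' N h) ≠ 1 := fun e => hh ((QuotientGroup.eq_one_iff h).mp e)
      have h0 := sum_degree_mul_apply_of_ne_one hq
      simp only [hlin, one_mul] at h0
      show ∑ β : Cfsg.IrrCharacter (H ⧸ N), Gallagher.twistBy (η t : H → ℂ) (β : H ⧸ N → ℂ) h = 0
      simp only [Gallagher.twistBy_apply, ← Finset.sum_mul, h0, zero_mul]
  obtain ⟨l, hl⟩ := exists_linear_of_degree_one (IsIrr.isCharacter β.2) (hlin β)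
  refine ⟨t₀, l.comp (QuotientGroup.mk' N), ε, m, hε, fun c hc => ?_, fun h hh => ?_, fun t => ?_⟩
  · rw [MonoidHom.comp_apply, show QuotientGroup.mk' N c = 1 from (QuotientGroup.eq_one_iff c).mpr hc,
      map_one]
  · rw [hoff h hh]
    show (ε : ℂ) * Gallagher.twistBy (η t₀ : H → ℂ) (β : H ⧸ N → ℂ) h = _
    rw [Gallagher.twistBy_apply, congrFun hl]
    rfl
  · rw [hm t, hcard, hidx]

set_option maxHeartbeats 2000000 in
/-- Fixed-point-free cyclic action: values on `Cx` for all `x ≠ 1`. -/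
theorem fpf_values {Γ : Type*} [Group Γ] [Fintype Γ] (G S : Subgroup Γ) [Fintype G]
    (hnorm : ∀ s ∈ S, ∀ g ∈ G, s * g * s⁻¹ ∈ G) (hcop : (Nat.card G).Coprime (Nat.card S))
    (htop : G ⊔ S = ⊤) (hcyc : IsCyclic S) (C : Subgroup Γ) [Fintype C]
    (hC : C = G ⊓ Subgroup.centralizer (S : Set Γ)) (hCG : C ≤ G)
    (hfpf : ∀ x ∈ S, x ≠ 1 → G ⊓ Subgroup.centralizer ({x} : Set Γ) = C)
    (χ : Cfsg.IrrCharacter G) (χh : Cfsg.IrrCharacter Γ)
    (hext : ∀ g : G, (χh : Γ → ℂ) g = (χ : G → ℂ) g)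
    (β : Cfsg.IrrCharacter C) (ε₀ : ℤ) (hε₀ : ε₀ = 1 ∨ ε₀ = -1)
    (hβ : ∀ c : C, ∀ s : Γ, Subgroup.zpowers s = S →
      (χh : Γ → ℂ) ((c : Γ) * s) = (ε₀ : ℂ) * (β : C → ℂ) c) :
    ∃ ε : ℤ, (ε = 1 ∨ ε = -1) ∧
      (∃ μ : S → ℂ, Cfsg.IsCharacter S μ ∧ μ 1 = 1 ∧ (∀ x : S, μ x * μ x = 1) ∧
        ∀ c : C, ∀ x : S, x ≠ 1 → (χh : Γ → ℂ) ((c : Γ) * x) = (ε : ℂ) * (β : C → ℂ) c * μ x) ∧
      (∃ ϑ : C → ℂ, Cfsg.IsCharacter C ϑ ∧ (fun c : C => (χ : G → ℂ) ⟨c, hCG c.2⟩) =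
        fun c => (Nat.card S : ℂ) * ϑ c + (ε : ℂ) * (β : C → ℂ) c) ∧
      (Nat.card S : ℤ) ∣ (Cfsg.charDegree (χ : G → ℂ) : ℤ) -
        ε * (Cfsg.charDegree (β : C → ℂ) : ℤ) := by
  obtain ⟨⟨s, hsS⟩, hs⟩ := hcyc.exists_generator
  have hgen : Subgroup.zpowers s = S := le_antisymm (by rwa [Subgroup.zpowers_le]) fun x hx => by
    obtain ⟨k, hk⟩ := Subgroup.mem_zpowers_iff.mp (hs ⟨x, hx⟩)
    exact Subgroup.mem_zpowers_iff.mpr ⟨k, congrArg Subtype.val hk⟩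
  -- the last two clauses follow from a decomposition of the restriction
  suffices H : ∃ ε : ℤ, (ε = 1 ∨ ε = -1) ∧
      (∃ μ : S → ℂ, Cfsg.IsCharacter S μ ∧ μ 1 = 1 ∧ (∀ x : S, μ x * μ x = 1) ∧
        ∀ c : C, ∀ x : S, x ≠ 1 → (χh : Γ → ℂ) ((c : Γ) * x) = (ε : ℂ) * (β : C → ℂ) c * μ x) ∧
      ∃ ϑ : C → ℂ, Cfsg.IsCharacter C ϑ ∧ (fun c : C => (χ : G → ℂ) ⟨c, hCG c.2⟩) =
        fun c => (Nat.card S : ℂ) * ϑ c + (ε : ℂ) * (β : C → ℂ) c by
    obtain ⟨ε, hε, hμ, ϑ, hϑ, he⟩ := H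
    refine ⟨ε, hε, hμ, ⟨ϑ, hϑ, he⟩, ?_⟩
    obtain ⟨d, hd⟩ := IsChar.exists_degree hϑ
    have h1 : (χ : G → ℂ) 1 = (Nat.card S : ℂ) * d + (ε : ℂ) * (β : C → ℂ) 1 := by
      rw [← hd]; exact congrFun he (1 : C)
    rw [← CharDegree.cast_irrDegree, ← CharDegree.cast_irrDegree] at h1
    refine ⟨d, ?_⟩
    have h2 : (Cfsg.charDegree (χ : G → ℂ) : ℤ) =
        (Nat.card S : ℤ) * d + ε * (Cfsg.charDegree (β : C → ℂ) : ℤ) := by exact_mod_cast h1
    linarith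
  by_cases hS1 : Nat.card S = 1
  · have hbot : S = ⊥ := Subgroup.eq_bot_of_card_eq S hS1
    refine ⟨ε₀, hε₀, ⟨fun _ => 1, isCharacter_one, rfl, fun _ => one_mul 1, fun c x hx => ?_⟩,
      0, isCharacter_zero, funext fun c => ?_⟩
    · exact absurd (Subtype.ext (Subgroup.mem_bot.mp (hbot ▸ x.2))) hx
    · have h := hβ c 1 (by rw [hbot, Subgroup.zpowers_one_eq_bot])
      rw [mul_one] at h
      simp only [Pi.zero_apply, mul_zero, zero_add]
      rw [← h]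
      exact (hext ⟨c, hCG c.2⟩).symm
  -- the setting
  have hGn : G.Normal := Subgroup.normalizer_eq_top_iff.mp (top_le_iff.mp (htop ▸ sup_le
    Subgroup.le_normalizer fun x hx => Subgroup.mem_normalizer_iff.mpr fun g =>
      ⟨fun hg => hnorm x hx g hg, fun hg => by
        simpa [mul_assoc] using hnorm x⁻¹ (S.inv_mem hx) _ hg⟩))
  have hinf : G ⊓ S = ⊥ := by
    rw [← Subgroup.card_eq_one]
    exact Nat.eq_one_of_dvd_coprimes hcop (Subgroup.card_dvd_of_le inf_le_left)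
      (Subgroup.card_dvd_of_le inf_le_right)
  have hGS : ∀ x, x ∈ G → x ∈ S → x = 1 := fun x h1 h2 =>
    Subgroup.mem_bot.mp (hinf ▸ (⟨h1, h2⟩ : x ∈ G ⊓ S))
  have hcomm : ∀ c ∈ C, ∀ x ∈ S, Commute c x := fun c hc x hx =>
    (Subgroup.mem_centralizer_iff.mp (hC.le hc).2 x hx).symm
  let Hs : Subgroup Γ :=
    { carrier := {γ | ∃ c ∈ C, ∃ x ∈ S, γ = c * x}
      one_mem' := ⟨1, C.one_mem, 1, S.one_mem, (one_mul 1).symm⟩
      mul_mem' := by
        rintro _ _ ⟨c, hc, x, hx, rfl⟩ ⟨c', hc', x', hx', rfl⟩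
        exact ⟨c * c', C.mul_mem hc hc', x * x', S.mul_mem hx hx', (hcomm c' hc' x hx).symm.mul_mul_mul_comm c x'⟩
      inv_mem' := by
        rintro _ ⟨c, hc, x, hx, rfl⟩
        exact ⟨c⁻¹, C.inv_mem hc, x⁻¹, S.inv_mem hx, by
          rw [mul_inv_rev]; exact ((hcomm c hc x hx).inv_inv.symm).eq⟩ }
  have := Fintype.ofFinite Hs
  have := Fintype.ofFinite (G.subgroupOf Hs)
  -- exponents separating the two parts
  obtain ⟨k, hk1, hk0⟩ := Nat.chineseRemainder hcop 1 0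
  obtain ⟨k', hk'0, hk'1⟩ := Nat.chineseRemainder hcop 0 1
  have hpow : ∀ {K : Subgroup Γ} {x : Γ} {a b : ℕ}, x ∈ K → a ≡ b [MOD Nat.card K] → x ^ a = x ^ b := by
    intro K x a b hx hab
    refine pow_eq_pow_iff_modEq.mpr (hab.of_dvd ?_)
    exact (Subgroup.orderOf_mk x hx) ▸ orderOf_dvd_natCard (⟨x, hx⟩ : K)
  have hpowk : ∀ c ∈ C, ∀ x ∈ S, (c * x) ^ k = c := fun c hc x hx => by
    rw [(hcomm c hc x hx).mul_pow, hpow (hCG hc) hk1, hpow hx hk0, pow_one, pow_zero, mul_one]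
  have hpowk' : ∀ c ∈ C, ∀ x ∈ S, (c * x) ^ k' = x := fun c hc x hx => by
    rw [(hcomm c hc x hx).mul_pow, hpow (hCG hc) hk'0, hpow hx hk'1, pow_one, pow_zero, one_mul]
  let π : Hs →* C :=
    { toFun := fun h => ⟨(h : Γ) ^ k, by
        obtain ⟨c, hc, x, hx, e⟩ := h.2; rw [e, hpowk c hc x hx]; exact hc⟩
      map_one' := Subtype.ext (one_pow k)
      map_mul' := by
        rintro ⟨_, c, hc, x, hx, rfl⟩ ⟨_, c', hc', x', hx', rfl⟩
        refine Subtype.ext ?_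
        show ((c * x) * (c' * x')) ^ k = (c * x) ^ k * (c' * x') ^ k
        rw [(hcomm c' hc' x hx).symm.mul_mul_mul_comm c x', hpowk c hc x hx, hpowk c' hc' x' hx',
          hpowk _ (C.mul_mem hc hc') _ (S.mul_mem hx hx')] }
  have hCH : ∀ c ∈ C, c ∈ Hs := fun c hc => ⟨c, hc, 1, S.one_mem, (mul_one c).symm⟩
  have hπC : ∀ c : C, π ⟨c, hCH c c.2⟩ = c := fun c => Subtype.ext (by
    have := hpowk c c.2 1 S.one_mem; rwa [mul_one] at this)
  have hπsur : Function.Surjective π := fun c => ⟨_, hπC c⟩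
  have hN : ∀ h : G.subgroupOf Hs, ((h : Hs) : Γ) ∈ C := by
    intro h
    obtain ⟨c, hc, x, hx, e⟩ := (h : Hs).2
    have : x = 1 := hGS x (by
      rw [show x = c⁻¹ * ((h : Hs) : Γ) by rw [e, inv_mul_cancel_left]]
      exact G.mul_mem (G.inv_mem (hCG hc)) (Subgroup.mem_subgroupOf.mp h.2)) hx
    rw [e, this, mul_one]; exact hc
  let e : G.subgroupOf Hs ≃* C :=
    { toFun := fun h => ⟨_, hN h⟩
      invFun := fun c => ⟨⟨c, hCH c c.2⟩, Subgroup.mem_subgroupOf.mpr (hCG c.2)⟩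
      left_inv := fun h => rfl
      right_inv := fun c => rfl
      map_mul' := fun a b => rfl }
  have htop' : G ⊔ Hs = ⊤ := top_le_iff.mp (htop ▸ sup_le_sup_left
    (fun x hx => (⟨1, C.one_mem, x, hx, (one_mul x).symm⟩ : x ∈ Hs)) G)
  have hTI : ∀ g : Γ, ∀ h ∈ Hs, h ∉ G → g * h * g⁻¹ ∈ Hs → g ∈ Hs := by
    rintro g _ ⟨c, hc, x, hx, rfl⟩ hG ⟨c', hc', x', hx', heq⟩
    have hx1 : x ≠ 1 := fun h => hG (by rw [h, mul_one]; exact hCG hc)
    have hgx : g * x * g⁻¹ = x' := by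
      have := congrArg (· ^ k') heq
      simp only [conj_pow, hpowk' c hc x hx, hpowk' c' hc' x' hx'] at this
      exact this
    have hg : g ∈ ((G : Subgroup Γ) : Set Γ) * (S : Set Γ) := by
      rw [← Subgroup.normal_mul, htop]; trivial
    obtain ⟨g₀, hg₀, t, ht, rfl⟩ := Set.mem_mul.mp hg
    have htx : t * x * t⁻¹ = x := by
      have := hcyc.isMulCommutative.is_comm.comm ⟨t, ht⟩ ⟨x, hx⟩
      have h' : t * x = x * t := congrArg Subtype.val this
      rw [h', mul_inv_cancel_right]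
    have hg₀x : g₀ * x * g₀⁻¹ = x' := by
      rw [← hgx]
      calc g₀ * x * g₀⁻¹ = g₀ * (t * x * t⁻¹) * g₀⁻¹ := by rw [htx]
        _ = _ := by group
    have hxx : x' = x := by
      have h1 : x' * x⁻¹ ∈ G := by
        rw [← hg₀x, show g₀ * x * g₀⁻¹ * x⁻¹ = g₀ * (x * g₀⁻¹ * x⁻¹) by group]
        exact G.mul_mem hg₀ (hnorm x hx _ (G.inv_mem hg₀))
      exact mul_inv_eq_one.mp (hGS _ h1 (S.mul_mem hx' (S.inv_mem hx)))
    have : g₀ ∈ C := by
      rw [← hfpf x hx hx1]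
      refine ⟨hg₀, Subgroup.mem_centralizer_singleton_iff.mpr ?_⟩
      rw [hxx] at hg₀x
      exact mul_inv_eq_iff_eq_mul.mp hg₀x
    exact ⟨g₀, this, t, ht, rfl⟩
  have hidx : G.index = Nat.card S :=
    (Subgroup.isComplement'_of_disjoint_and_mul_eq_univ (disjoint_iff.mpr hinf)
      (by rw [← Subgroup.normal_mul, htop]; rfl)).symm.index_eq_card
  have hab : ∀ a b : Hs ⧸ G.subgroupOf Hs, a * b = b * a := by
    intro a b
    induction a using QuotientGroup.induction_on with | H a =>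
    induction b using QuotientGroup.induction_on with | H b =>
    obtain ⟨c, hc, x, hx, ea⟩ := a.2
    obtain ⟨c', hc', x', hx', eb⟩ := b.2
    rw [← QuotientGroup.mk_mul, ← QuotientGroup.mk_mul, QuotientGroup.eq, Subgroup.mem_subgroupOf]
    have h : x * x' = x' * x := congrArg Subtype.val (hcyc.isMulCommutative.is_comm.comm ⟨x, hx⟩ ⟨x', hx'⟩)
    show ((a : Γ) * b)⁻¹ * ((b : Γ) * a) ∈ G
    rw [ea, eb, (hcomm c' hc' x hx).symm.mul_mul_mul_comm c x', (hcomm c hc x' hx').symm.mul_mul_mul_comm c' x]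
    rw [← h, mul_inv_rev, show (x * x')⁻¹ * (c * c')⁻¹ * (c' * c * (x * x')) =
      (x * x')⁻¹ * ((c * c')⁻¹ * (c' * c)) * ((x * x')⁻¹)⁻¹ by group]
    exact hGn.conj_mem _ (hCG (C.mul_mem (C.inv_mem (C.mul_mem hc hc')) (C.mul_mem hc' hc))) _
  let := Fintype.ofFinite (Cfsg.IrrCharacter C)
  let th : Cfsg.IrrCharacter C → Cfsg.IrrCharacter (G.subgroupOf Hs) := fun t =>
    ⟨fun h => (t : C → ℂ) (e h), IsIrr.comp_surjective e.toMonoidHom e.surjective t.2⟩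
  have hth : Function.Injective th := fun a b h => irr_ext fun c => by
    have := congrFun (congrArg Subtype.val h) (e.symm c)
    simpa [th] using this
  let η : Cfsg.IrrCharacter C → Cfsg.IrrCharacter Hs := fun t =>
    ⟨fun h => (t : C → ℂ) (π h), IsIrr.comp_surjective π hπsur t.2⟩
  obtain ⟨mC, hmC⟩ := IsChar.exists_sum
    (IsChar.restrict C (IsIrr.isCharacter χh.2) : Cfsg.IsCharacter C fun c : C => (χh : Γ → ℂ) c)
  have hinner : ∀ t, Cfsg.classInner (fun c : G.subgroupOf Hs => (χh : Γ → ℂ) (c : Hs))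
      (th t : G.subgroupOf Hs → ℂ) = (mC t : ℂ) := fun t => by
    refine (Clifford.classInner_comp_equiv e (fun c : C => (χh : Γ → ℂ) c) (t : C → ℂ)).trans ?_
    rw [hmC, classInner_sum_irr]
  have hXG : Cfsg.IsIrrCharacter G fun g => (χh : Γ → ℂ) g := by
    rw [funext hext]; exact χ.2
  have hn : 1 < G.index := by
    rw [hidx]
    have := Nat.card_pos (α := S)
    omega
  obtain ⟨t₀, l, ε, m, hε, hl, hoff, hm⟩ := profile_abelian htop' hTI χh.2 hXG hn hab th hth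
    (fun c => by
      simp only [hinner]
      have h := congrFun hmC (e c)
      simp only [Finset.sum_apply, Pi.smul_apply, smul_eq_mul] at h
      exact h)
    η (fun t c => congrArg (t : C → ℂ) (Subtype.ext (congrArg Subtype.val (hπC (e c)))))
  -- the homomorphism on `S`
  let iS : S →* Hs :=
    { toFun := fun x => ⟨x, 1, C.one_mem, x, x.2, (one_mul _).symm⟩
      map_one' := rfl
      map_mul' := fun a b => rfl }
  let μ : S →* ℂˣ := l.comp iS
  have hval : ∀ c : C, ∀ x : S, x ≠ 1 →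
      (χh : Γ → ℂ) ((c : Γ) * x) = (ε : ℂ) * ((μ x : ℂ) * (t₀ : C → ℂ) c) := by
    intro c x hx
    let h : Hs := ⟨(c : Γ) * x, c, c.2, x, x.2, rfl⟩
    have hh : h ∉ G.subgroupOf Hs := fun hh => hx (Subtype.ext (hGS _ (by
      have := G.mul_mem (G.inv_mem (hCG c.2)) (Subgroup.mem_subgroupOf.mp hh)
      simpa [h] using this) x.2))
    have h1 := hoff h hh
    have e1 : π h = c := Subtype.ext (hpowk c c.2 x x.2)
    have e2 : (l h : ℂ) = μ x := by
      rw [show h = ⟨c, hCH c c.2⟩ * iS x from rfl, map_mul,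
        hl ⟨c, hCH c c.2⟩ (Subgroup.mem_subgroupOf.mpr (hCG c.2)), one_mul]
      rfl
    rw [show ((η t₀ : Cfsg.IrrCharacter Hs) : Hs → ℂ) h = (t₀ : C → ℂ) (π h) from rfl, e1, e2] at h1
    exact h1
  have hs1 : (⟨s, hsS⟩ : S) ≠ 1 := fun h => hS1 (by
    rw [← hgen, Nat.card_zpowers, show s = 1 from congrArg Subtype.val h, orderOf_one])
  -- identify the character of `C` and the sign at generators
  have hεC : (ε : ℂ) * ε = 1 := by rcases hε with rfl | rfl <;> norm_num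
  have hε₀C : (ε₀ : ℂ) * ε₀ = 1 := by rcases hε₀ with rfl | rfl <;> norm_num
  set a : ℂ := (ε₀ : ℂ) * ε * (μ ⟨s, hsS⟩ : ℂ) with ha
  have hprop : (β : C → ℂ) = a • (t₀ : C → ℂ) := funext fun c => by
    have h := (hβ c s hgen).symm.trans (hval c ⟨s, hsS⟩ hs1)
    rw [Pi.smul_apply, smul_eq_mul, ha]
    linear_combination (ε₀ : ℂ) * h - (β : C → ℂ) c * hε₀C
  have hbt : β = t₀ := by
    by_contra hne
    have h := classInner_irr_of_ne (χ := β) (ψ := t₀) hne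
    rw [hprop, classInner_smul_left, classInner_irr_self, mul_one] at h
    exact IsIrr.apply_one_ne_zero β.2 (by rw [hprop, h, zero_smul]; rfl)
  subst hbt
  have ha1 : a = 1 := by
    have := congrFun hprop 1
    rw [Pi.smul_apply, smul_eq_mul] at this
    exact (mul_eq_right₀ (IsIrr.apply_one_ne_zero β.2)).mp this.symm
  have hμ2 : ∀ x : S, (μ x : ℂ) * μ x = 1 := by
    have hs2 : μ ⟨s, hsS⟩ * μ ⟨s, hsS⟩ = 1 := Units.ext (by
      rw [Units.val_mul, Units.val_one]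
      linear_combination (1 + a) * ha1 - (μ ⟨s, hsS⟩ : ℂ) ^ 2 * (ε₀ : ℂ) * ε₀ * hεC -
        (μ ⟨s, hsS⟩ : ℂ) ^ 2 * hε₀C)
    intro x
    obtain ⟨i, hi⟩ := Subgroup.mem_zpowers_iff.mp (hs x)
    rw [← hi, map_zpow, ← Units.val_mul, ← mul_zpow, hs2, one_zpow, Units.val_one]
  -- the multiplicities
  have hmul : ∀ t, (mC t : ℤ) = (Nat.card S : ℤ) * m t + if t = β then ε else 0 := fun t => by
    have h := (hinner t).symm.trans (hm t)
    rw [hidx] at h
    exact_mod_cast h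
  have hpos : ∀ t, 0 ≤ m t := by
    intro t
    by_contra hneg
    push Not at hneg
    have h2 : (2 : ℤ) ≤ Nat.card S := by rw [← hidx]; exact_mod_cast hn
    have h := hmul t
    have hp : (0 : ℤ) ≤ mC t := Nat.cast_nonneg _
    split_ifs at h <;> rcases hε with rfl | rfl <;> nlinarith
  refine ⟨ε, hε, ⟨fun x => (μ x : ℂ), IsIrr.isCharacter (isIrrCharacter_linear μ), by simp, hμ2,
    fun c x hx => ?_⟩, ∑ t, ((m t).toNat : ℂ) • (t : C → ℂ), isCharacter_natCast_sum _,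
    funext fun c => ?_⟩
  · rw [hval c x hx]; ring
  · have h := congrFun hmC c
    simp only [Finset.sum_apply, Pi.smul_apply, smul_eq_mul] at h ⊢
    rw [← hext ⟨c, hCG c.2⟩]
    show (χh : Γ → ℂ) c = _
    rw [h, Finset.mul_sum, Finset.sum_congr rfl (g := fun t =>
      (Nat.card S : ℂ) * (((m t).toNat : ℂ) * (t : C → ℂ) c) +
        if t = β then (ε : ℂ) * (t : C → ℂ) c else 0) fun t _ => ?_,
      Finset.sum_add_distrib, Finset.sum_ite_eq' Finset.univ β]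
    · simp
    · have h1 := congrArg (Int.cast : ℤ → ℂ) (hmul t)
      have h2 : ((m t).toNat : ℂ) = (m t : ℂ) := by
        exact_mod_cast congrArg (Int.cast : ℤ → ℂ) (Int.toNat_of_nonneg (hpos t))
      push_cast at h1
      rw [h1, h2]
      split_ifs <;> ring

set_option maxHeartbeats 2000000 in
/-- Fully ramified characters under a cyclic Frobenius complement. -/
theorem ramified_dvd {Γ : Type*} [Group Γ] [Fintype Γ] (G N : Subgroup Γ) [hG : G.Normal]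
    [hN : N.Normal] [Fintype G] [Fintype N] (hNG : N ≤ G) (hGlt : G ≠ ⊤) (hNlt : N ≠ G)
    (hcyc : IsCyclic (Γ ⧸ G))
    (hfrob : ∀ x : Γ, x ∉ G → ∀ g : Γ, g ∈ G → x * g * x⁻¹ * g⁻¹ ∈ N → g ∈ N)
    (θ : Cfsg.IrrCharacter N)
    (hinv : ∀ (x : Γ) (n : N), (θ : N → ℂ) ⟨x * n * x⁻¹, hN.conj_mem n n.2 x⟩ = (θ : N → ℂ) n)
    (χ : Cfsg.IrrCharacter G) (e : ℕ)
    (hram : Cfsg.indFun (N.subgroupOf G)
      (fun n : N.subgroupOf G => (θ : N → ℂ) ⟨(n : G), n.2⟩) = fun g => (e : ℂ) * (χ : G → ℂ) g) :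
    (G.index : ℤ) ∣ (e : ℤ) - 1 ∨ (G.index : ℤ) ∣ (e : ℤ) + 1 := by
  obtain ⟨ū, hu⟩ := hcyc.exists_generator
  obtain ⟨y, rfl⟩ := QuotientGroup.mk'_surjective G ū
  have hy : y ∉ G := fun h => hGlt (top_le_iff.mp fun γ _ => by
    obtain ⟨i, hi⟩ := Subgroup.mem_zpowers_iff.mp (hu (γ : Γ ⧸ G))
    rw [show QuotientGroup.mk' G y = 1 from (QuotientGroup.eq_one_iff y).mpr h, one_zpow] at hi
    exact (QuotientGroup.eq_one_iff γ).mp hi.symm)
  let Hs : Subgroup Γ :=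
    (Subgroup.centralizer ({QuotientGroup.mk' N y} : Set (Γ ⧸ N))).comap (QuotientGroup.mk' N)
  have := Fintype.ofFinite Hs
  have := Fintype.ofFinite (G.subgroupOf Hs)
  have hmemH : ∀ γ, γ ∈ Hs ↔ γ * y * γ⁻¹ * y⁻¹ ∈ N := fun γ => by
    rw [Subgroup.mem_comap, Subgroup.mem_centralizer_singleton_iff, ← QuotientGroup.eq_one_iff]
    simp only [QuotientGroup.mk'_apply, QuotientGroup.mk_mul, QuotientGroup.mk_inv]
    rw [mul_inv_eq_one, mul_inv_eq_iff_eq_mul]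
  have hyH : y ∈ Hs := (hmemH y).mpr (by group; exact N.one_mem)
  have hHG : ∀ g ∈ Hs, g ∈ G → g ∈ N := by
    intro g hg hgG
    refine hfrob y hy g hgG ?_
    rw [show y * g * y⁻¹ * g⁻¹ = (g * y * g⁻¹ * y⁻¹)⁻¹ by group]
    exact N.inv_mem ((hmemH g).mp hg)
  have hNH : N ≤ Hs := fun n hn => (hmemH n).mpr (by
    rw [show n * y * n⁻¹ * y⁻¹ = n * (y * n⁻¹ * y⁻¹) by group]
    exact N.mul_mem hn (hN.conj_mem _ (N.inv_mem hn) y))
  have htop : G ⊔ Hs = ⊤ := top_le_iff.mp fun γ _ => by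
    obtain ⟨i, hi⟩ := Subgroup.mem_zpowers_iff.mp (hu (γ : Γ ⧸ G))
    have h1 : γ * (y ^ i)⁻¹ ∈ G := by
      rw [← QuotientGroup.eq_one_iff, QuotientGroup.mk_mul, QuotientGroup.mk_inv,
        QuotientGroup.mk_zpow, mul_inv_eq_one]
      exact hi.symm
    rw [show γ = γ * (y ^ i)⁻¹ * y ^ i by group]
    exact Subgroup.mul_mem_sup h1 (Hs.zpow_mem hyH i)
  have hTI : ∀ g : Γ, ∀ h ∈ Hs, h ∉ G → g * h * g⁻¹ ∈ Hs → g ∈ Hs := by
    intro g h hh hhG hgh
    have hg : g ∈ ((G : Subgroup Γ) : Set Γ) * (Hs : Set Γ) := by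
      rw [← Subgroup.normal_mul, htop]; trivial
    obtain ⟨g₀, hg₀, t, ht, rfl⟩ := Set.mem_mul.mp hg
    refine Hs.mul_mem (hNH ?_) ht
    -- `t` centralizes `h` modulo `G`
    have hth : t * h * t⁻¹ ∈ Hs := Hs.mul_mem (Hs.mul_mem ht hh) (Hs.inv_mem ht)
    have h1 : g₀ * (t * h * t⁻¹) * g₀⁻¹ * (t * h * t⁻¹)⁻¹ ∈ N := by
      refine hHG _ (Hs.mul_mem ?_ (Hs.inv_mem hth)) ?_
      · rw [show g₀ * (t * h * t⁻¹) * g₀⁻¹ = g₀ * t * h * (g₀ * t)⁻¹ by group]; exact hgh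
      · rw [mul_assoc _ g₀⁻¹, mul_assoc g₀,
          show (t * h * t⁻¹) * (g₀⁻¹ * (t * h * t⁻¹)⁻¹) =
            (t * h * t⁻¹) * g₀⁻¹ * (t * h * t⁻¹)⁻¹ by group]
        exact G.mul_mem hg₀ (hG.conj_mem _ (G.inv_mem hg₀) _)
    refine hfrob (t * h * t⁻¹) (fun hc => hhG ?_) g₀ hg₀ ?_
    · simpa [mul_assoc] using hG.conj_mem _ hc t⁻¹
    · rw [show (t * h * t⁻¹) * g₀ * (t * h * t⁻¹)⁻¹ * g₀⁻¹ =
        (g₀ * (t * h * t⁻¹) * g₀⁻¹ * (t * h * t⁻¹)⁻¹)⁻¹ by group]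
      exact N.inv_mem h1
  have hn : 1 < G.index := Subgroup.one_lt_index_of_ne_top hGlt
  have hcycH : IsCyclic (Hs ⧸ G.subgroupOf Hs) := by
    refine isCyclic_of_injective
      (QuotientGroup.map (G.subgroupOf Hs) G Hs.subtype le_rfl) ?_
    rw [injective_iff_map_eq_one]
    intro q
    induction q using QuotientGroup.induction_on with
    | H x =>
      intro hx
      change ((x : Γ) : Γ ⧸ G) = 1 at hx
      rw [QuotientGroup.eq_one_iff] at hx
      exact (QuotientGroup.eq_one_iff x).mpr (Subgroup.mem_subgroupOf.mpr hx)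
  have heq : G.subgroupOf Hs = N.subgroupOf Hs := by
    ext x
    simp only [Subgroup.mem_subgroupOf]
    exact ⟨hHG x x.2, fun h => hNG h⟩
  -- `θ` on `G.subgroupOf Hs`
  let eN : G.subgroupOf Hs ≃* N :=
    (MulEquiv.subgroupCongr heq).trans (Subgroup.subgroupOfEquivOfLe hNH)
  let θH : Cfsg.IrrCharacter (G.subgroupOf Hs) :=
    ⟨fun c => (θ : N → ℂ) (eN c), IsIrr.comp_surjective eN.toMonoidHom eN.surjective θ.2⟩
  obtain ⟨n₀, σ, hσ, hσc⟩ := θH.2
  obtain ⟨ρ, hρ⟩ := CharDegree.exists_extension_of_cyclic σ (fun g n => by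
    rw [hσc]
    exact (congrArg (θ : N → ℂ) (Subtype.ext rfl)).trans (hinv (g : Γ) (eN n))) hcycH
  let η : Cfsg.IrrCharacter Hs := ⟨ρ.character, by
    have := CharExt.isIrreducible_of_restrict ρ (G.subgroupOf Hs).subtype σ hρ
    exact isIrrCharacter_rep ρ⟩
  -- `χ` extends to `Γ`
  set ι := N.subgroupOf G
  have hιn : ι.Normal := inferInstance
  have := Fintype.ofFinite ι
  have he0 : (e : ℂ) ≠ 0 := by
    intro h0
    have h := congrFun hram 1
    rw [indFun_apply_one, h0, zero_mul] at h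
    rcases mul_eq_zero.mp h with h | h
    · exact Nat.cast_ne_zero.mpr Subgroup.index_ne_zero_of_finite h
    · exact IsIrr.apply_one_ne_zero θ.2 h
  have hind : ∀ c : ι, Cfsg.indFun ι (fun n : ι => (θ : N → ℂ) ⟨(n : G), n.2⟩) c =
      (ι.index : ℂ) * (θ : N → ℂ) ⟨(c : G), c.2⟩ := by
    intro c
    have hsum : ∀ g : G, Exceptional.cjFun ι g (fun n : ι => (θ : N → ℂ) ⟨(n : G), n.2⟩) c =
        (θ : N → ℂ) ⟨((c : G) : Γ), c.2⟩ := fun g => hinv (g : Γ) ⟨(c : G), c.2⟩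
    rw [Exceptional.indFun_normal_apply, Finset.sum_congr rfl fun g _ => hsum g,
      Finset.sum_const, Finset.card_univ, nsmul_eq_mul, ← Nat.card_eq_fintype_card,
      ← ι.card_mul_index, Nat.cast_mul, ← mul_assoc, ← mul_assoc,
      inv_mul_cancel₀ (Nat.cast_ne_zero.mpr Nat.card_pos.ne'), one_mul]
  have hχinv : ∀ (x : Γ) (g : G), (χ : G → ℂ) ⟨x * g * x⁻¹, hG.conj_mem g g.2 x⟩ = (χ : G → ℂ) g := by
    intro x g
    apply mul_left_cancel₀ he0
    rw [← congrFun hram g, ← congrFun hram ⟨x * g * x⁻¹, hG.conj_mem g g.2 x⟩]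
    by_cases hg : g ∈ ι
    · have hg' : (⟨x * g * x⁻¹, hG.conj_mem g g.2 x⟩ : G) ∈ ι := hN.conj_mem _ hg x
      rw [hind ⟨g, hg⟩, hind ⟨_, hg'⟩]
      exact congrArg _ (hinv x ⟨g, hg⟩)
    · rw [Exceptional.indFun_normal_eq_zero ι _ hg, Exceptional.indFun_normal_eq_zero ι _ fun h =>
        hg (Subgroup.mem_subgroupOf.mpr (by
          simpa [mul_assoc] using hN.conj_mem _ (Subgroup.mem_subgroupOf.mp h) x⁻¹))]
  obtain ⟨n₁, τ, hτ, hτc⟩ := χ.2
  obtain ⟨P, hP⟩ := CharDegree.exists_extension_of_cyclic τ (fun g n => by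
    rw [hτc]; exact (congrArg (χ : G → ℂ) (Subtype.ext rfl)).trans (hχinv g n)) hcyc
  have hPG : ∀ g : G, P.character g = (χ : G → ℂ) g := fun g => by
    rw [← hτc]; exact congrArg (LinearMap.trace ℂ _) (hP g)
  have hPirr : Cfsg.IsIrrCharacter Γ P.character := by
    have := CharExt.isIrreducible_of_restrict P G.subtype τ hP
    exact isIrrCharacter_rep P
  -- the restriction to `N`
  have hmult : Cfsg.classInner (fun c : ι => (χ : G → ℂ) c)
      (fun n : ι => (θ : N → ℂ) ⟨(n : G), n.2⟩) = (e : ℂ) := by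
    rw [← classInner_conj_symm, ← frobenius_reciprocity ι _ (IsIrr.isClassFunction χ.2), hram,
      show (fun g => (e : ℂ) * (χ : G → ℂ) g) = (e : ℂ) • (χ : G → ℂ) from rfl,
      classInner_smul_left, classInner_irr_self, mul_one, Complex.conj_natCast]
  let e' : ι ≃* N := Subgroup.subgroupOfEquivOfLe hNG
  have hθn : Cfsg.classInner (θ : N → ℂ) (θ : N → ℂ) = 1 := classInner_irr_self θ
  have hχN : ∀ n : N, (χ : G → ℂ) ⟨n, hNG n.2⟩ = (e : ℂ) * (θ : N → ℂ) n := by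
    have hc : ∀ n : N, (χ : G → ℂ) ⟨n, hNG n.2⟩ = (e : ℂ)⁻¹ * ι.index * (θ : N → ℂ) n := fun n => by
      have h := congrFun hram ((e'.symm n : ι) : G)
      rw [hind] at h
      rw [mul_assoc, eq_inv_mul_iff_mul_eq₀ he0]
      exact h.symm
    have hfun : (fun c : ι => (χ : G → ℂ) c) =
        ((e : ℂ)⁻¹ * ι.index) • fun n : ι => (θ : N → ℂ) ⟨(n : G), n.2⟩ :=
      funext fun c => hc ⟨(c : G), c.2⟩
    have h2 : Cfsg.classInner (fun n : ι => (θ : N → ℂ) ⟨(n : G), n.2⟩)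
        (fun n : ι => (θ : N → ℂ) ⟨(n : G), n.2⟩) = 1 :=
      (Clifford.classInner_comp_equiv e' (θ : N → ℂ) (θ : N → ℂ)).trans hθn
    rw [hfun, classInner_smul_left, h2, mul_one] at hmult
    intro n
    rw [hc n, hmult]
  have hPN : ∀ c : G.subgroupOf Hs, P.character (c : Hs) = (e : ℂ) * (θH : G.subgroupOf Hs → ℂ) c :=
    fun c => by
      rw [hPG ⟨(c : Hs), Subgroup.mem_subgroupOf.mp c.2⟩]
      exact hχN (eN c)
  have hPin : Cfsg.classInner (fun c : G.subgroupOf Hs => P.character (c : Hs))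
      (θH : G.subgroupOf Hs → ℂ) = (e : ℂ) := by
    rw [funext hPN, show (fun c => (e : ℂ) * (θH : G.subgroupOf Hs → ℂ) c) =
      (e : ℂ) • (θH : G.subgroupOf Hs → ℂ) from rfl, classInner_smul_left, classInner_irr_self, mul_one]
  obtain ⟨t₀, l, ε, m, hε, -, -, hm⟩ := profile_abelian htop hTI hPirr
    (by rw [funext hPG]; exact χ.2) hn (fun a b => hcycH.isMulCommutative.is_comm.comm a b)
    (fun _ : Unit => θH) (fun _ _ _ => rfl)
    (fun c => by rw [Fintype.sum_unique, hPin]; exact hPN c) (fun _ => η)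
    (fun _ c => by
      show ρ.character (c : Hs) = (θH : G.subgroupOf Hs → ℂ) c
      rw [← hσc]; exact congrArg (LinearMap.trace ℂ _) (hρ c))
  have h := hPin.symm.trans (hm ())
  rw [if_pos (Subsingleton.elim _ _)] at h
  have h' : (e : ℤ) = (G.index : ℤ) * m () + ε := by exact_mod_cast h
  rcases hε with rfl | rfl
  · exact Or.inl ⟨m (), by omega⟩
  · exact Or.inr ⟨m (), by omega⟩

end CfsgLib.CosetTI
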