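import Cfsg.Agent.Lib.Char.GaloisMean
import Mathlib.LinearAlgebra.Trace
import Mathlib.LinearAlgebra.PID

/-!
# Restriction to a normal subgroup and vanishing on cosets
-/

namespace CfsgLib.Char

open scoped ComplexConjugate
open Module

variable {G : Type*} [Group G]

/-- The operators commuting with a normal subgroup form a subrepresentation of `End V`. -/
def centralizerSubrep {V : Type*} [AddCommGroup V] [Module ℂ V] (ρ : Representation ℂ G V)
    (N : Subgroup G) [N.Normal] : Subrepresentation (ρ.linHom ρ) where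
  toSubmodule :=
    { carrier := {f | ∀ n : N, ρ.linHom ρ (n : G) f = f}
      zero_mem' := fun n => map_zero _
      add_mem' := fun ha hb n => by rw [map_add, ha n, hb n]
      smul_mem' := fun c f hf n => by rw [map_smul, hf n] }
  apply_mem_toSubmodule g f hf n := by
    rw [← Module.End.mul_apply, ← map_mul,
      show (n : G) * g = g * (g⁻¹ * n * g) by group, map_mul, Module.End.mul_apply]
    rw [hf ⟨g⁻¹ * n * g, ‹N.Normal›.conj_mem' n n.2 g⟩]

theorem restriction_reducible_iff [Finite G] (N : Subgroup G) [N.Normal]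
    (χ : Cfsg.IrrCharacter G) :
    ¬ Cfsg.IsIrrCharacter N (fun n : N => (χ : G → ℂ) n) ↔
      ∃ x : G, ∀ n : N, (χ : G → ℂ) ((n : G) * x) = 0 := by
  classical
  have := Fintype.ofFinite G
  have := Fintype.ofFinite N
  obtain ⟨n₀, ρ, hρ, hχ⟩ := χ.2
  rw [← hχ]
  set L := ρ.linHom ρ with hL
  set W := centralizerSubrep ρ N with hW
  set ψ : G → ℂ := Representation.character (V := ↥W.toSubmodule) W.toRepresentation with hψ
  have hψc : Cfsg.IsCharacter G ψ := isCharacter_rep _
  have hN0 : (Nat.card N : ℂ) ≠ 0 := Nat.cast_ne_zero.mpr Nat.card_pos.ne'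
  set E : Module.End ℂ ((Fin n₀ → ℂ) →ₗ[ℂ] (Fin n₀ → ℂ)) :=
    (Nat.card N : ℂ)⁻¹ • ∑ n : N, L n with hE
  have hEmem : ∀ f, E f ∈ W.toSubmodule := fun f m => by
    simp only [hE, LinearMap.smul_apply, LinearMap.sum_apply, map_smul, map_sum, ← hL]
    congr 1
    refine Fintype.sum_equiv (Equiv.mulLeft m) _ _ fun x => ?_
    rw [← Module.End.mul_apply, ← map_mul]
    rfl
  have hEfix : ∀ f ∈ W.toSubmodule, E f = f := fun f hf => by
    simp only [hE, LinearMap.smul_apply, LinearMap.sum_apply]
    rw [Finset.sum_congr rfl fun n _ => hf n, Finset.sum_const, Finset.card_univ,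
      ← Nat.cast_smul_eq_nsmul ℂ, smul_smul, ← Nat.card_eq_fintype_card, inv_mul_cancel₀ hN0,
      one_smul]
  have hψx : ∀ x : G, ψ x =
      (((Nat.card N : ℝ)⁻¹ * ∑ n : N, Complex.normSq (ρ.character ((n : G) * x)) : ℝ) : ℂ) := by
    intro x
    have h1 := LinearMap.trace_restrict_eq_of_forall_mem W.toSubmodule (E * L x)
      (fun f => hEmem (L x f))
    have h2 : (E * L x).restrict (fun f (_ : f ∈ W.toSubmodule) => hEmem (L x f)) =
        W.toRepresentation x := by
      apply LinearMap.ext
      intro f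
      exact Subtype.ext (hEfix _ (W.apply_mem_toSubmodule x f.2))
    rw [hψ, Representation.character, ← h2, h1]
    simp only [hE, smul_mul_assoc, Finset.sum_mul, map_smul, map_sum, smul_eq_mul, ← map_mul]
    rw [Complex.ofReal_mul, Complex.ofReal_inv, Complex.ofReal_natCast, Complex.ofReal_sum]
    congr 1
    refine Finset.sum_congr rfl fun n _ => ?_
    have h3 := Representation.char_linHom ρ ρ ((n : G) * x)
    rw [Representation.character] at h3
    rw [hL, h3, character_inv, mul_comm, Complex.mul_conj]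
  have hψ1 : ψ 1 = Cfsg.classInner (fun n : N => ρ.character n) (fun n : N => ρ.character n) := by
    rw [hψx]
    simp [Cfsg.classInner, Complex.mul_conj]
  obtain ⟨r, hr⟩ := IsChar.exists_degree hψc
  constructor
  · intro hred
    by_contra hno
    push Not at hno
    have hψne : ∀ x, ψ x ≠ 0 := fun x hx => by
      obtain ⟨n, hn⟩ := hno x
      rw [hψx, Complex.ofReal_eq_zero, mul_eq_zero] at hx
      rcases hx with hx | hx
      · exact (inv_ne_zero (Nat.cast_ne_zero.mpr Nat.card_pos.ne')) hx
      · exact hn (Complex.normSq_eq_zero.mp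
          ((Finset.sum_eq_zero_iff_of_nonneg fun m _ => Complex.normSq_nonneg _).mp hx n
            (Finset.mem_univ _)))
    have hnorm : ∀ x, ‖ψ x‖ = (Nat.card N : ℝ)⁻¹ * ∑ n : N, Complex.normSq (ρ.character ((n : G) * x)) :=
      fun x => by
        rw [hψx, Complex.norm_real, Real.norm_eq_abs, abs_of_nonneg]
        exact mul_nonneg (by positivity) (Finset.sum_nonneg fun _ _ => Complex.normSq_nonneg _)
    have htotal : ∑ x : G, ‖ψ x‖ = (Nat.card G : ℝ) := by
      have h : (Nat.card G : ℂ)⁻¹ * ∑ g : G, ρ.character g * conj (ρ.character g) = 1 :=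
        (isIrreducible_iff_classInner_eq_one ρ).mp hρ
      rw [inv_mul_eq_one₀ (Nat.cast_ne_zero.mpr Nat.card_pos.ne')] at h
      simp only [Complex.mul_conj, ← Complex.ofReal_sum] at h
      rw [← Complex.ofReal_natCast, Complex.ofReal_inj] at h
      simp only [hnorm, ← Finset.mul_sum]
      have hsh : ∀ n : N, ∑ x : G, Complex.normSq (ρ.character ((n : G) * x)) =
          ∑ x : G, Complex.normSq (ρ.character x) := fun n =>
        Fintype.sum_equiv (Equiv.mulLeft (n : G)) _ _ fun x => rfl
      rw [Finset.sum_comm, Finset.sum_congr rfl fun (n : N) _ => hsh n, ← h,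
        Finset.sum_const, Finset.card_univ, nsmul_eq_mul, ← Nat.card_eq_fintype_card,
        inv_mul_cancel_left₀ (Nat.cast_ne_zero.mpr Nat.card_pos.ne')]
    have hout := card_le_sum_norm hψc (Finset.univ.filter fun x => x ∉ N)
      (fun x _ => hψne x) (fun x hx k hk => by
        simp only [Finset.mem_filter, Finset.mem_univ, true_and] at hx ⊢
        intro hm
        obtain ⟨m, hm'⟩ := exists_pow_eq_self_of_coprime (x := x)
          ((hk.symm.coprime_dvd_left (orderOf_dvd_natCard x)).symm)
        exact hx (hm' ▸ pow_mem hm m))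
    have hin : ∀ x ∈ N, ‖ψ x‖ = (r : ℝ) := fun x hx => by
      have hr' : (r : ℝ) = ‖ψ 1‖ := by rw [hr, Complex.norm_natCast]
      rw [hnorm, hr', hnorm]
      congr 1
      exact Fintype.sum_equiv (Equiv.mulRight (⟨x, hx⟩ : N)) _ _ fun n => by simp
    have hr1 : r ≤ 1 := by
      have h1 := Finset.card_filter_add_card_filter_not (s := (Finset.univ : Finset G))
        (fun x => x ∈ N)
      have h2 : (Finset.univ.filter fun x : G => x ∈ N).card = Nat.card N := by
        rw [Nat.card_eq_fintype_card, Fintype.card_subtype]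
      have h3 := Finset.sum_filter_add_sum_filter_not Finset.univ (fun x : G => x ∈ N)
        (fun x => ‖ψ x‖)
      rw [Finset.sum_congr rfl fun x hx => hin x (Finset.mem_filter.mp hx).2, Finset.sum_const,
        nsmul_eq_mul, h2, htotal] at h3
      have h4 : (Nat.card N : ℝ) + (Finset.univ.filter fun x : G => x ∉ N).card = Nat.card G := by
        rw [h2, Finset.card_univ, ← Nat.card_eq_fintype_card] at h1
        exact_mod_cast h1
      have h5 : (Nat.card N : ℝ) * r ≤ (Nat.card N : ℝ) * 1 := by linarith
      exact_mod_cast le_of_mul_le_mul_left h5 (Nat.cast_pos.mpr Nat.card_pos)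
    have hr0 : r ≠ 0 := fun h0 => hψne 1 (by rw [hr, h0, Nat.cast_zero])
    apply hred
    refine IsChar.isIrr_of_classInner_eq_one (IsChar.restrict N (isCharacter_rep ρ)) ?_
    rw [← hψ1, hr, show r = 1 by omega, Nat.cast_one]
  · rintro ⟨x, hx⟩ hirr
    let σ : Representation ℂ N (Fin n₀ → ℂ) := ρ.comp N.subtype
    haveI : σ.IsIrreducible := (isIrreducible_iff_classInner_eq_one σ).mpr
      (classInner_irr_self ⟨_, hirr⟩)
    have hscal : ∀ f ∈ W.toSubmodule, L x f = f := by
      intro f hf
      have hcomm : ∀ n : N, f * σ n = σ n * f := fun n => by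
        have h : ρ (n : G) * f * ρ (n : G)⁻¹ = f := hf n
        show f * ρ (n : G) = ρ (n : G) * f
        conv_lhs => rw [← h]
        rw [mul_assoc (ρ (n : G) * f), ← map_mul, inv_mul_cancel, map_one, mul_one]
      obtain ⟨c, rfl⟩ := exists_eq_smul_of_commute σ f hcomm
      show ρ x * (c • LinearMap.id) * ρ x⁻¹ = c • LinearMap.id
      rw [show (LinearMap.id : Module.End ℂ (Fin n₀ → ℂ)) = 1 from rfl, mul_smul_comm, mul_one,
        smul_mul_assoc, ← map_mul, mul_inv_cancel, map_one]
    have h1 : ψ x = ψ 1 := by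
      simp only [hψ, Representation.character]
      congr 1
      apply LinearMap.ext
      intro f
      rw [map_one]
      exact Subtype.ext (hscal f f.2)
    have hone : ψ 1 = 1 := hψ1.trans (classInner_irr_self ⟨_, hirr⟩)
    rw [hψx, hone] at h1
    simp [hx] at h1

end CfsgLib.Char
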