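import Cfsg.Agent.Lib.Char.PowerTwist
import Cfsg.Agent.Lib.Char.Gallagher
import Cfsg.Agent.Lib.Char.AbelianInertia
import Cfsg.Agent.Lib.Char.Rationality
import Cfsg.Agent.Lib.Char.Central
import Mathlib.GroupTheory.NoncommCoprod

/-!
# Canonical extensions for a coprime cyclic action

`G` is normal in `Γ` with cyclic complement `S = ⟨s⟩` of coprime order. The values of the canonical
extension of an invariant irreducible character of `G` on `Cs`, with `C = C_G(S)`, give up to sign
an irreducible character of `C`.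
-/

namespace CfsgLib.CyclicGlauberman

open CfsgLib.Char CfsgLib.CharExt CfsgLib.Gallagher
open scoped ComplexConjugate
open Module

variable {Γ : Type*} [Group Γ] [Fintype Γ]

/-- The hypotheses on `(Γ, G, S, s, C)`. -/
structure Setting (G S C : Subgroup Γ) (s : Γ) : Prop where
  normal : G.Normal
  gen : Subgroup.zpowers s = S
  sup : G ⊔ S = ⊤
  cop : (Nat.card G).Coprime (Nat.card S)
  cent : C = G ⊓ Subgroup.centralizer (S : Set Γ)

/-- The canonical extensions. -/
def IsCanon (G S : Subgroup Γ) (χ : Γ → ℂ) : Prop :=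
  Cfsg.IsIrrCharacter Γ χ ∧ Cfsg.IsIrrCharacter G (fun g : G => χ g) ∧
    (Cfsg.detOrder χ).Coprime (Nat.card S)

variable {G S C : Subgroup Γ} {s : Γ}

namespace Setting

variable (D : Setting G S C s)

include D

theorem inf_eq_bot : G ⊓ S = ⊥ := by
  rw [← Subgroup.card_eq_one]
  exact Nat.eq_one_of_dvd_coprimes D.cop (Subgroup.card_dvd_of_le inf_le_left)
    (Subgroup.card_dvd_of_le inf_le_right)

theorem mem_s : s ∈ S := D.gen ▸ Subgroup.mem_zpowers s

theorem exists_zpow {a : Γ} (ha : a ∈ S) : ∃ i : ℤ, s ^ i = a :=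
  Subgroup.mem_zpowers_iff.mp (by rw [D.gen]; exact ha)

theorem orderOf_s : orderOf s = Nat.card S := by rw [← Nat.card_zpowers, D.gen]

theorem le_G : C ≤ G := D.cent.le.trans inf_le_left

theorem commute {c a : Γ} (hc : c ∈ C) (ha : a ∈ S) : Commute c a :=
  (Subgroup.mem_centralizer_iff.mp (D.cent.le hc).2 a ha).symm

theorem mem_C {x : Γ} (hx : x ∈ G) (h : Commute x s) : x ∈ C := by
  rw [D.cent]
  refine ⟨hx, Subgroup.mem_centralizer_iff.mpr fun a ha => ?_⟩
  rw [← D.gen] at ha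
  obtain ⟨k, rfl⟩ := Subgroup.mem_zpowers_iff.mp ha
  exact (h.zpow_right k).eq.symm

theorem card_Γ : Nat.card Γ = Nat.card G * Nat.card S := by
  have hidx : G.index = Nat.card S := by
    have := D.normal
    have hb : Function.Bijective ((QuotientGroup.mk' G).comp S.subtype) := by
      refine ⟨?_, fun q => ?_⟩
      · rw [injective_iff_map_eq_one]
        intro a ha
        have h1 : (a : Γ) ∈ G ⊓ S := ⟨(QuotientGroup.eq_one_iff (a : Γ)).mp ha, a.2⟩
        rw [D.inf_eq_bot, Subgroup.mem_bot] at h1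
        exact Subtype.ext h1
      · induction q using QuotientGroup.induction_on with
        | H g =>
          obtain ⟨k, hk, a, ha, rfl⟩ := Subgroup.mem_sup_of_normal_left.mp
            (D.sup ▸ Subgroup.mem_top g : g ∈ G ⊔ S)
          refine ⟨⟨a, ha⟩, QuotientGroup.eq.mpr ?_⟩
          show a⁻¹ * (k * a) ∈ G
          rw [← mul_assoc]
          exact D.normal.conj_mem' k hk a
    rw [Subgroup.index_eq_card, ← Nat.card_eq_of_bijective _ hb]
  rw [← hidx, Subgroup.card_mul_index]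

theorem index_eq : G.index = Nat.card S :=
  Nat.eq_of_mul_eq_mul_left Nat.card_pos ((G.card_mul_index).trans D.card_Γ)

/-- A representation with determinantal order prime to `|S|` has determinant one on `S`. -/
theorem detHom_eq_one {V : Type*} [AddCommGroup V] [Module ℂ V] (ρ : Representation ℂ Γ V)
    (h : (orderOf (detHom ρ)).Coprime (Nat.card S)) {a : Γ} (ha : a ∈ S) : detHom ρ a = 1 := by
  have h1 : detHom ρ a ^ orderOf (detHom ρ) = 1 := by
    rw [← MonoidHom.pow_apply, pow_orderOf_eq_one]; rfl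
  have h2 : detHom ρ a ^ Nat.card S = 1 := by
    rw [← map_pow]
    have := congrArg Subtype.val (pow_card_eq_one' (x := (⟨a, ha⟩ : S)))
    simp only [SubgroupClass.coe_pow, OneMemClass.coe_one] at this
    rw [this, map_one]
  have h3 := pow_gcd_eq_one.mpr ⟨h1, h2⟩
  rwa [h.gcd_eq_one, pow_one] at h3

theorem eq_of_isCanon {χ χ' : Γ → ℂ} (h : IsCanon G S χ) (h' : IsCanon G S χ')
    (heq : ∀ g : G, χ' g = χ g) : χ' = χ := by
  classical
  have := D.normal
  obtain ⟨⟨n, ρ, -, rfl⟩, hres, hdet⟩ := h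
  obtain ⟨⟨m, τ, -, rfl⟩, -, hdet'⟩ := h'
  rw [detOrder_eq] at hdet hdet'
  obtain ⟨k, σ, hσ, hσc⟩ := hres
  have := hσ
  have hdeg : finrank ℂ (Fin n → ℂ) = finrank ℂ (Fin k → ℂ) := by
    have h1 := congrFun hσc 1
    rw [OneMemClass.coe_one, Representation.char_one, Representation.char_one] at h1
    exact_mod_cast h1.symm
  have hd : (finrank ℂ (Fin n → ℂ)).Coprime G.index := by
    rw [hdeg, D.index_eq]
    exact D.cop.coprime_dvd_left (CharIntegral.finrank_dvd_card σ)
  rw [← D.index_eq] at hdet hdet'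
  exact eq_of_extensions (N := G) ρ τ ⟨k, σ, hσ, hσc⟩ heq hdet hdet' hd

/-- Canonical extensions are fixed by the Galois twists fixing the values on `G`. -/
theorem apply_pow {χ : Γ → ℂ} (h : IsCanon G S χ) {k : ℕ} (hk : k ≡ 1 [MOD Nat.card G])
    (hkc : k.Coprime (Nat.card Γ)) (x : Γ) : χ (x ^ k) = χ x := by
  classical
  have := D.normal
  have hirr := isIrrCharacter_pow h.1 hkc
  have hG : ∀ g : G, χ ((g : Γ) ^ k) = χ g := fun g => by
    have : (g : G) ^ k = g := by
      conv_rhs => rw [← pow_one g]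
      exact pow_eq_pow_iff_modEq.mpr (hk.of_dvd (orderOf_dvd_natCard g))
    rw [← SubgroupClass.coe_pow, this]
  refine congrFun (D.eq_of_isCanon h ⟨hirr, ?_, ?_⟩ hG) x
  · rw [show (fun g : G => χ ((g : Γ) ^ k)) = fun g : G => χ g from funext hG]
    exact h.2.1
  obtain ⟨n, ρ, -, hρ⟩ := h.1
  obtain ⟨m, τ, -, hτ⟩ := hirr
  have hdet : (orderOf (detHom ρ)).Coprime (Nat.card S) := by
    rw [← detOrder_eq ρ, hρ]; exact h.2.2
  let f : S →* S :=
    { toFun := fun a => a ^ k
      map_one' := one_pow k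
      map_mul' := fun a b => by
        refine Commute.mul_pow ?_ k
        obtain ⟨i, hi⟩ := D.exists_zpow a.2
        obtain ⟨j, hj⟩ := D.exists_zpow b.2
        exact Subtype.ext (by
          show (a : Γ) * b = b * a
          rw [← hi, ← hj, ← zpow_add, ← zpow_add, add_comm]) }
  let τS : Representation ℂ S (Fin m → ℂ) := τ.comp S.subtype
  let ρS : Representation ℂ S (Fin n → ℂ) := (ρ.comp S.subtype).comp f
  have hS : detHom τS = detHom ρS := detHom_eq_of_character_eq τS ρS (funext fun a => by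
    show τ.character (a : Γ) = ρ.character ((a ^ k : S) : Γ)
    rw [hτ, hρ, SubgroupClass.coe_pow])
  have h1 : ∀ a ∈ S, detHom τ a = 1 := fun a ha => by
    have h2 := congrArg (fun F : S →* ℂˣ => F ⟨a, ha⟩) hS
    refine Eq.trans h2 (Units.ext ?_)
    rw [detHom_apply, Units.val_one]
    show LinearMap.det (ρ (((⟨a, ha⟩ : S) ^ k : S) : Γ)) = 1
    rw [← detHom_apply, D.detHom_eq_one ρ hdet ((⟨a, ha⟩ : S) ^ k).2, Units.val_one]
  rw [← hτ, detOrder_eq]
  refine D.cop.coprime_dvd_left (orderOf_dvd_of_pow_eq_one (MonoidHom.ext fun y => ?_))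
  obtain ⟨g, hg, a, ha, rfl⟩ := Subgroup.mem_sup_of_normal_left.mp
    (D.sup ▸ Subgroup.mem_top y : y ∈ G ⊔ S)
  rw [MonoidHom.pow_apply, map_mul, h1 a ha, mul_one, ← map_pow,
    show g ^ Nat.card G = 1 from congrArg Subtype.val (pow_card_eq_one' (x := (⟨g, hg⟩ : G))),
    map_one]
  rfl

/-- A sum over the coset `G s` of a class function reduces to `C s`. -/
theorem sum_coset [Fintype G] [Fintype C] {F : Γ → ℂ} (hF : Cfsg.IsClassFunction Γ F) :
    (Nat.card C : ℂ) * ∑ g : G, F ((g : Γ) * s) = (Nat.card G : ℂ) * ∑ c : C, F ((c : Γ) * s) := by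
  classical
  let C' := C.subgroupOf G
  have := Fintype.ofFinite (G ⧸ C')
  have hmem : ∀ (x : G) (c : C), (x : Γ) * (c * s) * (x : Γ)⁻¹ * s⁻¹ ∈ G := by
    intro x c
    have e : (x : Γ) * (c * s) * (x : Γ)⁻¹ * s⁻¹ = x * c * (s * (x : Γ)⁻¹ * s⁻¹) := by group
    rw [e]
    exact mul_mem (mul_mem x.2 (D.le_G c.2)) (D.normal.conj_mem _ (inv_mem x.2) s)
  let Φ : (G ⧸ C') × C → G := fun p => ⟨_, hmem p.1.out p.2⟩
  obtain ⟨k, hk0, hk1⟩ := Nat.chineseRemainder D.cop 0 1
  have hpow : ∀ c : C, ((c : Γ) * s) ^ k = s := fun c => by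
    rw [(D.commute c.2 D.mem_s).mul_pow,
      show (c : Γ) ^ k = 1 by
        rw [← orderOf_dvd_iff_pow_eq_one]
        refine Nat.dvd_trans ?_ (Nat.modEq_zero_iff_dvd.mp hk0)
        rw [Subgroup.orderOf_coe]
        exact (orderOf_dvd_natCard c).trans (Subgroup.card_dvd_of_le D.le_G), one_mul]
    conv_rhs => rw [← pow_one s]
    exact pow_eq_pow_iff_modEq.mpr (hk1.of_dvd D.orderOf_s.dvd)
  have hinj : Function.Injective Φ := by
    rintro ⟨q, c⟩ ⟨q', c'⟩ h
    have h1 : (q.out : Γ) * (c * s) * (q.out : Γ)⁻¹ = (q'.out : Γ) * (c' * s) * (q'.out : Γ)⁻¹ :=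
      mul_right_cancel (congrArg Subtype.val h)
    have h2 := congrArg (· ^ k) h1
    simp only [conj_pow, hpow] at h2
    have h3 : ((q.out⁻¹ * q'.out : G) : Γ) ∈ C := D.mem_C (q.out⁻¹ * q'.out).2 (by
      show (q.out : Γ)⁻¹ * (q'.out : Γ) * s = s * ((q.out : Γ)⁻¹ * (q'.out : Γ))
      calc (q.out : Γ)⁻¹ * (q'.out : Γ) * s
          = (q.out : Γ)⁻¹ * ((q'.out : Γ) * s * (q'.out : Γ)⁻¹) * (q'.out : Γ) := by group
        _ = (q.out : Γ)⁻¹ * ((q.out : Γ) * s * (q.out : Γ)⁻¹) * (q'.out : Γ) := by rw [h2]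
        _ = _ := by group)
    have h4 : q = q' := by
      rw [← QuotientGroup.out_eq' q, ← QuotientGroup.out_eq' q']
      exact QuotientGroup.eq.mpr h3
    subst h4
    exact Prod.ext rfl (Subtype.ext (mul_right_cancel (mul_left_cancel (mul_right_cancel h1))))
  have hCcard : Nat.card C' = Nat.card C :=
    Nat.card_congr (Subgroup.subgroupOfEquivOfLe D.le_G).toEquiv
  have hcard : Nat.card ((G ⧸ C') × C) = Nat.card G := by
    rw [Nat.card_prod, ← hCcard, ← Subgroup.card_eq_card_quotient_mul_card_subgroup]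
  have hbij : Function.Bijective Φ :=
    (Fintype.bijective_iff_injective_and_card Φ).mpr ⟨hinj, by
      rwa [← Nat.card_eq_fintype_card, ← Nat.card_eq_fintype_card]⟩
  rw [← Fintype.sum_bijective Φ hbij (fun p => F ((p.2 : Γ) * s)) (fun g => F ((g : Γ) * s))
    (fun p => by
      show _ = F ((p.1.out : Γ) * (p.2 * s) * (p.1.out : Γ)⁻¹ * s⁻¹ * s)
      rw [inv_mul_cancel_right, hF]),
    Fintype.sum_prod_type]
  dsimp only
  rw [Finset.sum_const, Finset.card_univ, nsmul_eq_mul, ← mul_assoc,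
    ← Nat.card_eq_fintype_card, ← Nat.cast_mul]
  congr 2
  rw [Subgroup.card_eq_card_quotient_mul_card_subgroup C', hCcard, mul_comm]

/-- Orthogonality of canonical extensions on the coset `G s`. -/
theorem sum_coset_mul_conj [Fintype G] {χ χ' : Γ → ℂ} (h : IsCanon G S χ) (h' : IsCanon G S χ')
    [Decidable (χ = χ')] :
    ∑ g : G, χ ((g : Γ) * s) * conj (χ' ((g : Γ) * s)) =
      if χ = χ' then (Nat.card G : ℂ) else 0 := by
  classical
  have := D.normal
  let Q := Γ ⧸ G
  have := Fintype.ofFinite (Cfsg.IrrCharacter Q)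
  have hcomm : ∀ a b : Q, a * b = b * a := by
    have hgen : ∀ q : Q, ∃ i : ℤ, QuotientGroup.mk' G s ^ i = q := by
      intro q
      induction q using QuotientGroup.induction_on with
      | H y =>
        obtain ⟨g, hg, a, ha, rfl⟩ := Subgroup.mem_sup_of_normal_left.mp
          (D.sup ▸ Subgroup.mem_top y : y ∈ G ⊔ S)
        obtain ⟨i, rfl⟩ := D.exists_zpow ha
        refine ⟨i, ?_⟩
        show QuotientGroup.mk' G s ^ i = QuotientGroup.mk' G (g * s ^ i)
        rw [map_mul, show QuotientGroup.mk' G g = 1 from (QuotientGroup.eq_one_iff g).mpr hg,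
          one_mul, map_zpow]
    intro a b
    obtain ⟨i, rfl⟩ := hgen a
    obtain ⟨j, rfl⟩ := hgen b
    rw [← zpow_add, ← zpow_add, add_comm]
  have hinner : ∀ l : Cfsg.IrrCharacter Q,
      Cfsg.classInner (twistBy χ (l : Q → ℂ)) χ' = if l = trivChar Q ∧ χ = χ' then 1 else 0 := by
    intro l
    by_cases he : χ = χ'
    · subst he
      have h1 := classInner_twistBy (IsIrr.isCharacter h.1) h.2.1 l (trivChar Q)
      rw [show twistBy χ (trivChar Q : Q → ℂ) = χ from funext fun g => by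
        rw [twistBy_apply, trivChar_apply, one_mul]] at h1
      rw [h1]
      exact if_congr (and_iff_left rfl).symm rfl rfl
    · rw [if_neg fun hh => he hh.2]
      refine classInner_irr_of_ne (χ := ⟨_, isIrr_twistBy (IsIrr.isCharacter h.1) h.2.1 l⟩)
        (ψ := ⟨χ', h'.1⟩) fun e => he (D.eq_of_isCanon h h' fun g => ?_).symm
      have h2 := congrFun (congrArg Subtype.val e) (g : Γ)
      dsimp only at h2
      rw [twistBy_apply_coe, CfsgLib.Clifford.apply_one_eq_one_of_commute hcomm, one_mul] at h2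
      exact h2.symm
  let q := QuotientGroup.mk' G s
  have hsum : ∑ l : Cfsg.IrrCharacter Q, conj ((l : Q → ℂ) q) *
      Cfsg.classInner (twistBy χ (l : Q → ℂ)) χ' = if χ = χ' then 1 else 0 := by
    simp only [hinner]
    by_cases he : χ = χ'
    · rw [if_pos he, Finset.sum_eq_single (trivChar Q)
        (fun l _ hl => by rw [if_neg fun hh => hl hh.1, mul_zero])
        (fun hh => absurd (Finset.mem_univ _) hh), if_pos ⟨rfl, he⟩, trivChar_apply, map_one,
        mul_one]
    · rw [if_neg he, Finset.sum_eq_zero fun l _ => by rw [if_neg fun hh => he hh.2, mul_zero]]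
  have hcol : ∀ y : Γ, ∑ l : Cfsg.IrrCharacter Q, conj ((l : Q → ℂ) q) *
      (l : Q → ℂ) (QuotientGroup.mk' G y) =
        if QuotientGroup.mk' G y = q then (Nat.card S : ℂ) else 0 := by
    intro y
    rw [Finset.sum_congr rfl fun l _ => mul_comm _ _, column_orthogonality]
    by_cases hy : QuotientGroup.mk' G y = q
    · rw [if_pos (hy ▸ IsConj.refl _), if_pos hy, show Subgroup.centralizer
        ({QuotientGroup.mk' G y} : Set Q) = ⊤ from eq_top_iff.mpr fun z _ =>
          Subgroup.mem_centralizer_singleton_iff.mpr (hcomm z _), Subgroup.card_top,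
        ← Subgroup.index_eq_card, D.index_eq]
    · rw [if_neg hy, if_neg fun hc => hy ?_]
      obtain ⟨z, hz⟩ := isConj_iff.mp hc
      rwa [hcomm z, mul_inv_cancel_right] at hz
  have hrw : ∑ l : Cfsg.IrrCharacter Q, conj ((l : Q → ℂ) q) *
      Cfsg.classInner (twistBy χ (l : Q → ℂ)) χ' = (Nat.card Γ : ℂ)⁻¹ * ∑ y : Γ,
        (if QuotientGroup.mk' G y = q then (Nat.card S : ℂ) else 0) * (χ y * conj (χ' y)) := by
    simp only [Cfsg.classInner, twistBy_apply, Finset.mul_sum]
    rw [Finset.sum_comm]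
    refine Finset.sum_congr rfl fun y _ => ?_
    rw [← hcol y, Finset.sum_mul, Finset.mul_sum]
    exact Finset.sum_congr rfl fun l _ => by ring
  have hfilter : ∑ y : Γ, (if QuotientGroup.mk' G y = q then (Nat.card S : ℂ) else 0) *
      (χ y * conj (χ' y)) =
        (Nat.card S : ℂ) * ∑ g : G, χ ((g : Γ) * s) * conj (χ' ((g : Γ) * s)) := by
    simp only [ite_mul, zero_mul]
    rw [← Finset.sum_filter, ← Finset.mul_sum]
    congr 1
    symm
    refine Finset.sum_bij' (fun g _ => (g : Γ) * s) (fun y hy => ⟨y * s⁻¹, ?_⟩)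
      (fun g _ => Finset.mem_filter.mpr ⟨Finset.mem_univ _, ?_⟩) (fun y _ => Finset.mem_univ _)
      (fun g _ => Subtype.ext (mul_inv_cancel_right _ _))
      (fun y _ => inv_mul_cancel_right _ _) (fun g _ => rfl)
    · rw [← QuotientGroup.eq_one_iff]
      show QuotientGroup.mk' G (y * s⁻¹) = 1
      rw [map_mul, map_inv, (Finset.mem_filter.mp hy).2, mul_inv_cancel]
    · rw [map_mul, show QuotientGroup.mk' G (g : Γ) = 1 from (QuotientGroup.eq_one_iff _).mpr g.2,
        one_mul]
  rw [hrw, hfilter, D.card_Γ, Nat.cast_mul] at hsum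
  have h1 : (Nat.card G : ℂ) ≠ 0 := Nat.cast_ne_zero.mpr Nat.card_pos.ne'
  have h2 : (Nat.card S : ℂ) ≠ 0 := Nat.cast_ne_zero.mpr Nat.card_pos.ne'
  split_ifs at hsum ⊢ <;> field_simp at hsum <;> linear_combination hsum

omit D in
/-- The values on `C s`. -/
def value (χ : Γ → ℂ) (C : Subgroup Γ) (s : Γ) : C → ℂ := fun c => χ ((c : Γ) * s)

theorem classInner_value [Fintype C] {χ χ' : Γ → ℂ} (h : IsCanon G S χ) (h' : IsCanon G S χ')
    [Decidable (χ = χ')] :
    Cfsg.classInner (value χ C s) (value χ' C s) = if χ = χ' then 1 else 0 := by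
  classical
  have := Fintype.ofFinite G
  have h1 := D.sum_coset (F := fun x => χ x * conj (χ' x)) fun g x => by
    show χ (x * g * x⁻¹) * conj (χ' (x * g * x⁻¹)) = χ g * conj (χ' g)
    rw [IsIrr.isClassFunction h.1, IsIrr.isClassFunction h'.1]
  rw [D.sum_coset_mul_conj h h'] at h1
  have hG : (Nat.card G : ℂ) ≠ 0 := Nat.cast_ne_zero.mpr Nat.card_pos.ne'
  have hC : (Nat.card C : ℂ) ≠ 0 := Nat.cast_ne_zero.mpr Nat.card_pos.ne'
  show (Nat.card C : ℂ)⁻¹ * ∑ c : C, χ ((c : Γ) * s) * conj (χ' ((c : Γ) * s)) = _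
  rw [inv_mul_eq_iff_eq_mul₀ hC]
  refine mul_left_cancel₀ hG ?_
  rw [← h1]
  split_ifs <;> ring

theorem isClassFunction_value {χ : Γ → ℂ} (h : IsCanon G S χ) :
    Cfsg.IsClassFunction C (value χ C s) := fun c d => by
  show χ ((d * c * d⁻¹ : C) * s) = χ ((c : Γ) * s)
  rw [← IsIrr.isClassFunction h.1 ((c : Γ) * s) (d : Γ)]
  congr 1
  have e := (D.commute (inv_mem d.2) D.mem_s).eq
  simp only [Subgroup.coe_mul, InvMemClass.coe_inv]
  rw [mul_assoc _ _ s, e]
  group

/-- The inner products with irreducible characters of `C` come from a character of `S`. -/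
theorem exists_isCharacter_inner [Fintype C] [Fintype S] {χ : Γ → ℂ} (h : IsCanon G S χ)
    (β : Cfsg.IrrCharacter C) : Cfsg.IsCharacter S fun a : S =>
      Cfsg.classInner (fun c : C => χ ((c : Γ) * a)) (β : C → ℂ) := by
  classical
  have := Fintype.ofFinite (Cfsg.IrrCharacter S)
  set T : S → ℂ := fun a => Cfsg.classInner (fun c : C => χ ((c : Γ) * a)) (β : C → ℂ) with hT
  have hclass : Cfsg.IsClassFunction S T := fun a b => by
    have hab : b * a * b⁻¹ = a := by
      obtain ⟨i, hi⟩ := D.exists_zpow a.2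
      obtain ⟨j, hj⟩ := D.exists_zpow b.2
      refine Subtype.ext ?_
      simp only [Subgroup.coe_mul, InvMemClass.coe_inv]
      rw [← hi, ← hj, ← zpow_add, ← zpow_neg, ← zpow_add]
      congr 1
      omega
    rw [hab]
  let φ : C × S →* Γ :=
    MonoidHom.noncommCoprod C.subtype S.subtype fun c a => D.commute c.2 a.2
  have hnat : ∀ l : Cfsg.IrrCharacter S, ∃ m : ℕ, Cfsg.classInner T (l : S → ℂ) = m := by
    intro l
    obtain ⟨m, hm⟩ := IsChar.classInner_eq_natCast
      (IsChar.comp φ (IsIrr.isCharacter h.1))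
      (IsChar.mul (IsChar.comp (MonoidHom.fst C S) (IsIrr.isCharacter β.2))
        (IsChar.comp (MonoidHom.snd C S) (IsIrr.isCharacter l.2)))
    refine ⟨m, ?_⟩
    rw [← hm]
    simp only [hT, Cfsg.classInner, Fintype.sum_prod_type_right, Nat.card_prod, Nat.cast_mul,
      Finset.mul_sum, Finset.sum_mul, Pi.mul_apply, map_mul, MonoidHom.coe_fst, MonoidHom.coe_snd]
    refine Finset.sum_congr rfl fun a _ => Finset.sum_congr rfl fun c _ => ?_
    rw [show φ (c, a) = (c : Γ) * a from rfl]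
    field_simp
  choose m hm using hnat
  rw [show T = ∑ l : Cfsg.IrrCharacter S, (m l : ℂ) • (l : S → ℂ) by
    simp only [← hm]; exact classFunction_eq_sum hclass]
  exact isCharacter_natCast_sum m

theorem exists_int_inner [Fintype C] {χ : Γ → ℂ} (h : IsCanon G S χ) (β : Cfsg.IrrCharacter C) :
    ∃ z : ℤ, Cfsg.classInner (value χ C s) (β : C → ℂ) = z := by
  classical
  have := Fintype.ofFinite S
  obtain ⟨n, ρ, hρ⟩ := D.exists_isCharacter_inner h β
  set a : S := ⟨s, D.mem_s⟩ with ha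
  have hval : ρ.character a = Cfsg.classInner (value χ C s) (β : C → ℂ) := congrFun hρ a
  obtain ⟨q, hq⟩ := CharRational.exists_rat_of_apply_pow_eq ρ a fun m hm => by
    rw [hρ]
    show Cfsg.classInner (fun c : C => χ ((c : Γ) * ((a ^ m : S) : Γ))) (β : C → ℂ) =
      Cfsg.classInner (value χ C s) (β : C → ℂ)
    congr 1
    funext c
    obtain ⟨k, hk1, hkm⟩ := Nat.chineseRemainder D.cop 1 m
    have hkc : k.Coprime (Nat.card Γ) := by
      rw [D.card_Γ]
      refine Nat.Coprime.mul_right ?_ ?_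
      · rw [Nat.coprime_iff_gcd_eq_one, hk1.gcd_eq]; exact Nat.gcd_one_left _
      · rw [Nat.coprime_iff_gcd_eq_one, hkm.gcd_eq]; exact hm
    show χ ((c : Γ) * ((a ^ m : S) : Γ)) = χ ((c : Γ) * s)
    rw [← D.apply_pow h hk1 hkc ((c : Γ) * s), (D.commute c.2 D.mem_s).mul_pow]
    congr 2
    · rw [← SubgroupClass.coe_pow]
      refine congrArg Subtype.val ?_
      conv_lhs => rw [← pow_one c]
      exact (pow_eq_pow_iff_modEq.mpr
        (hk1.of_dvd ((orderOf_dvd_natCard c).trans (Subgroup.card_dvd_of_le D.le_G)))).symm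
    · rw [ha, SubgroupClass.coe_pow]
      exact (pow_eq_pow_iff_modEq.mpr (hkm.of_dvd D.orderOf_s.dvd)).symm
  have hint := IsChar.isIntegral ⟨n, ρ, rfl⟩ a
  rw [hq] at hint
  have h2 : IsIntegral ℤ q :=
    (isIntegral_algHom_iff ((Algebra.ofId ℚ ℂ).restrictScalars ℤ)
      (algebraMap ℚ ℂ).injective).mp hint
  obtain ⟨z, hz⟩ := IsIntegrallyClosed.isIntegral_iff.mp h2
  exact ⟨z, by rw [← hval, hq, ← hz]; simp⟩

/-- Up to sign the values on `C s` form an irreducible character of `C`. -/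
theorem exists_sign [Fintype C] {χ : Γ → ℂ} (h : IsCanon G S χ) :
    ∃ (β : Cfsg.IrrCharacter C) (ε : ℤ), (ε = 1 ∨ ε = -1) ∧
      ∀ c : C, value χ C s c = (ε : ℂ) * (β : C → ℂ) c := by
  classical
  have hgen := isGeneralizedCharacter_of_classInner (D.isClassFunction_value h)
    (D.exists_int_inner h)
  have hn : Cfsg.classInner (value χ C s) (value χ C s) = 1 := by
    rw [D.classInner_value h h, if_pos rfl]
  rcases IsGen.isIrr_or_neg hgen hn with hp | hp
  · exact ⟨⟨_, hp⟩, 1, Or.inl rfl, fun c => by simp⟩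
  · exact ⟨⟨_, hp⟩, -1, Or.inr rfl, fun c => by simp⟩

/-- The character so obtained is a constituent of the restriction. -/
theorem classInner_restrict_ne_zero [Fintype C] {χ : Γ → ℂ} (h : IsCanon G S χ)
    (β : Cfsg.IrrCharacter C) (hne : Cfsg.classInner (value χ C s) (β : C → ℂ) ≠ 0) :
    Cfsg.classInner (fun c : C => χ c) (β : C → ℂ) ≠ 0 := by
  classical
  have := Fintype.ofFinite S
  intro h0
  have hT := D.exists_isCharacter_inner h β
  have hz := IsChar.eq_zero_of_apply_one hT (by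
    show Cfsg.classInner (fun c : C => χ ((c : Γ) * ((1 : S) : Γ))) (β : C → ℂ) = 0
    simp only [OneMemClass.coe_one, mul_one]
    exact h0)
  exact hne (congrFun hz ⟨s, D.mem_s⟩)

/-- Every generator of `S` gives the same values. -/
theorem apply_mul_gen {χ : Γ → ℂ} (h : IsCanon G S χ) (c : C) {s' : Γ}
    (hs' : Subgroup.zpowers s' = S) : χ ((c : Γ) * s') = χ ((c : Γ) * s) := by
  obtain ⟨m, rfl⟩ := (isOfFinOrder_of_finite s).mem_powers_iff_mem_zpowers.mpr
    (show s' ∈ Subgroup.zpowers s by rw [D.gen, ← hs']; exact Subgroup.mem_zpowers s')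
  have hm : m.Coprime (Nat.card S) := by
    have ho : orderOf (s ^ m) = Nat.card S := by rw [← Nat.card_zpowers, hs']
    rw [orderOf_pow, D.orderOf_s] at ho
    have h2 : Nat.gcd (Nat.card S) m = 1 := by
      by_contra hne
      have h3 : 1 < Nat.gcd (Nat.card S) m :=
        lt_of_le_of_ne (Nat.gcd_pos_of_pos_left _ Nat.card_pos) (Ne.symm hne)
      exact absurd ho (Nat.div_lt_self Nat.card_pos h3).ne
    rw [Nat.coprime_comm]
    exact h2
  obtain ⟨k, hk1, hkm⟩ := Nat.chineseRemainder D.cop 1 m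
  have hkc : k.Coprime (Nat.card Γ) := by
    rw [D.card_Γ]
    refine Nat.Coprime.mul_right ?_ ?_
    · rw [Nat.coprime_iff_gcd_eq_one, hk1.gcd_eq]; exact Nat.gcd_one_left _
    · rw [Nat.coprime_iff_gcd_eq_one, hkm.gcd_eq]; exact hm
  show χ ((c : Γ) * s ^ m) = χ ((c : Γ) * s)
  rw [← D.apply_pow h hk1 hkc ((c : Γ) * s), (D.commute c.2 D.mem_s).mul_pow]
  congr 2
  · rw [← SubgroupClass.coe_pow]
    refine congrArg Subtype.val ?_
    conv_lhs => rw [← pow_one c]
    exact (pow_eq_pow_iff_modEq.mpr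
      (hk1.of_dvd ((orderOf_dvd_natCard c).trans (Subgroup.card_dvd_of_le D.le_G)))).symm
  · exact (pow_eq_pow_iff_modEq.mpr (hkm.of_dvd D.orderOf_s.dvd)).symm

end Setting

end CfsgLib.CyclicGlauberman
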