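import Mathlib

/-!
# Integral combinations of the `p`-th roots of unity have congruent coefficients
-/

namespace CfsgLib.CyclotomicCoeff

open Polynomial

/-- A rational combination of the `p`-th roots of unity that is an algebraic integer has coefficients
differing by integers. -/
theorem exists_add_int {p : ℕ} [hp : Fact p.Prime] {ζ : ℂ} (hζ : IsPrimitiveRoot ζ p) (c : ℕ → ℚ)
    (h : IsIntegral ℤ (∑ i ∈ Finset.range p, (c i : ℂ) * ζ ^ i)) :
    ∃ (t : ℚ) (b : ℕ → ℤ), ∀ i < p, c i = t + b i := by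
  classical
  have hp1 : 1 ≤ p := hp.out.one_le
  obtain ⟨P, hP⟩ : ∃ P : ℤ[X], aeval ζ P = ∑ i ∈ Finset.range p, (c i : ℂ) * ζ ^ i := by
    haveI : NeZero p := ⟨hp.out.ne_zero⟩
    let K := CyclotomicField p ℚ
    haveI : IsCyclotomicExtension {p} ℚ K := CyclotomicField.isCyclotomicExtension p ℚ
    have hK := IsCyclotomicExtension.zeta_spec p ℚ K
    let pb := hK.powerBasis ℚ
    have hroot : aeval ζ (minpoly ℚ pb.gen) = 0 := by
      rw [show pb.gen = IsCyclotomicExtension.zeta p ℚ K from hK.powerBasis_gen ℚ,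
        ← hK.minpoly_eq_cyclotomic_of_irreducible (cyclotomic.irreducible_rat hp.out.pos),
        aeval_def, eval₂_eq_eval_map, map_cyclotomic]
      exact hζ.isRoot_cyclotomic hp.out.pos
    let f : K →ₐ[ℚ] ℂ := pb.lift ζ hroot
    have hf : f (IsCyclotomicExtension.zeta p ℚ K) = ζ := by
      have := pb.lift_gen ζ hroot
      rwa [show pb.gen = IsCyclotomicExtension.zeta p ℚ K from hK.powerBasis_gen ℚ] at this
    set a : K := ∑ i ∈ Finset.range p, (c i : K) * IsCyclotomicExtension.zeta p ℚ K ^ i with ha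
    have hfa : f a = ∑ i ∈ Finset.range p, (c i : ℂ) * ζ ^ i := by
      simp [ha, map_sum, map_mul, map_pow, hf, map_ratCast]
    have hai : IsIntegral ℤ a :=
      (isIntegral_algHom_iff (f.restrictScalars ℤ) f.toRingHom.injective).1 (by
        simpa [hfa] using h)
    obtain ⟨y, hy⟩ :=
      (IsCyclotomicExtension.Rat.isIntegralClosure_adjoin_singleton_of_prime hK).isIntegral_iff.1 hai
    have hy' : (y : K) ∈ (aeval (R := ℤ) (IsCyclotomicExtension.zeta p ℚ K)).range := by
      rw [← Algebra.adjoin_singleton_eq_range_aeval]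
      exact y.2
    obtain ⟨P, hP⟩ := hy'
    refine ⟨P, ?_⟩
    rw [← hfa, ← hy, show algebraMap _ K y = (y : K) from rfl, ← hP, ← hf]
    exact aeval_algHom_apply (f.restrictScalars ℤ) _ P
  set R := P %ₘ cyclotomic p ℤ with hR
  have hRdeg : R.natDegree < p - 1 := by
    have h1 : (cyclotomic p ℤ).natDegree = p - 1 := by
      rw [natDegree_cyclotomic, Nat.totient_prime hp.out]
    have := natDegree_modByMonic_lt P (cyclotomic.monic p ℤ) (by
      intro e; have := congrArg natDegree e; rw [h1, natDegree_one] at this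
      have := hp.out.two_le; omega)
    rwa [h1] at this
  have hRζ : aeval ζ R = ∑ i ∈ Finset.range p, (c i : ℂ) * ζ ^ i := by
    rw [← hP, hR, aeval_modByMonic_eq_self_of_root]
    rw [aeval_def, eval₂_eq_eval_map, map_cyclotomic]
    exact hζ.isRoot_cyclotomic hp.out.pos
  set Q : ℚ[X] := (∑ i ∈ Finset.range p, C (c i) * X ^ i) - R.map (Int.castRingHom ℚ) with hQ
  have hcoeff : ∀ i < p, Q.coeff i = c i - (R.coeff i : ℚ) := by
    intro i hi
    rw [hQ, coeff_sub, finsetSum_coeff, coeff_map]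
    simp [coeff_C_mul, coeff_X_pow, hi]
  have hQζ : aeval ζ Q = 0 := by
    rw [hQ, map_sub, map_sum, sub_eq_zero, show aeval ζ (R.map (Int.castRingHom ℚ)) = aeval ζ R from
      aeval_map_algebraMap ℚ ζ R, hRζ]
    simp
  obtain ⟨S, hS⟩ : cyclotomic p ℚ ∣ Q := by
    rw [cyclotomic_eq_minpoly_rat hζ hp.out.pos]
    exact minpoly.dvd ℚ ζ hQζ
  have hQdeg : Q.natDegree ≤ p - 1 := by
    refine (natDegree_sub_le _ _).trans (max_le ?_ ?_)
    · refine natDegree_sum_le_of_forall_le _ _ fun i hi => ?_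
      exact (natDegree_C_mul_X_pow_le _ _).trans (by have := Finset.mem_range.1 hi; omega)
    · exact natDegree_map_le.trans hRdeg.le
  have hSdeg : S.natDegree = 0 := by
    by_cases hS0 : S = 0
    · rw [hS0, natDegree_zero]
    · rw [hS, natDegree_mul (cyclotomic_ne_zero p ℚ) hS0, natDegree_cyclotomic,
        Nat.totient_prime hp.out] at hQdeg
      omega
  obtain ⟨t, ht⟩ := natDegree_eq_zero.1 hSdeg
  refine ⟨t, fun i => R.coeff i, fun i hi => ?_⟩
  have h1 := hcoeff i hi
  rw [hS, ← ht, coeff_mul_C, cyclotomic_prime, finsetSum_coeff] at h1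
  simp [coeff_X_pow, hi] at h1
  linarith

end CfsgLib.CyclotomicCoeff
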