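import Cfsg.Agent.Lib.Char.Exceptional.Dade
import Cfsg.Agent.Lib.Char.Induced
import Cfsg.Agent.Lib.Char.Virtual

/-!
# The Dade map

Values, the summation formula over its support, isometry, and the alternating sum of induced
functions showing that it carries generalized characters to generalized characters.
-/

set_option autoImplicit false

namespace CfsgLib.DadeMap

open CfsgLib.Char CfsgLib.Char.Exceptional
open scoped ComplexConjugate
open Cfsg

variable {G : Type*} [Group G] [Fintype G] {A : Set G} {L : Subgroup G} {H : G → Subgroup G}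

omit [Fintype G] in
theorem finsum_coe_subgroup {M : Type*} [AddCommMonoid M] (K : Subgroup G) [Fintype K] (f : G → M) :
    ∑ᶠ u ∈ (K : Set G), f u = ∑ u : K, f u := by
  classical
  rw [← finsum_set_coe_eq_finsum_mem]
  exact finsum_eq_sum_of_fintype _

/-- The average over `a H(a)`. -/
noncomputable def avg (H : G → Subgroup G) (χ : G → ℂ) (a : G) : ℂ :=
  (Nat.card (H a) : ℂ)⁻¹ * ∑ᶠ u ∈ (H a : Set G), χ (a * u)

/-- The support of the Dade map. -/
def InSupport (A : Set G) (L : Subgroup G) (H : G → Subgroup G) (g : G) : Prop :=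
  ∃ a : L, (a : G) ∈ A ∧ ∃ x : G, ∃ u ∈ H (a : G), x * g * x⁻¹ = (a : G) * u

omit [Fintype G] in
theorem apply_zero {α : L → ℂ} {g : G} (h : ¬ InSupport A L H g) :
    dadeIsometry A L H α g = 0 := by
  classical
  exact dif_neg h

theorem apply_eq (hD : DadeHypothesis A L H) {α : L → ℂ} (hα : IsClassFunction L α) {a : L}
    (ha : (a : G) ∈ A) {g x u : G} (hu : u ∈ H (a : G)) (h : x * g * x⁻¹ = (a : G) * u) :
    dadeIsometry A L H α g = α a := by
  classical
  have hs : ∃ a : L, (a : G) ∈ A ∧ ∃ x : G, ∃ u ∈ H (a : G), x * g * x⁻¹ = (a : G) * u :=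
    ⟨a, ha, x, u, hu, h⟩
  unfold dadeIsometry
  rw [dif_pos hs]
  obtain ⟨hc, x', u', hu', h'⟩ := Classical.choose_spec hs
  set a' := Classical.choose hs
  have h1 : (x * x'⁻¹) * ((a' : G) * u') * (x * x'⁻¹)⁻¹ = (a : G) * u := by
    rw [← h', ← h]; group
  have h2 := (dade_split_conj hD hc ha hu' hu h1).1
  obtain ⟨z, hz, hz'⟩ := hD.fusion _ hc (x * x'⁻¹) (h2.symm ▸ ha)
  rw [h2] at hz'
  rw [← hα a' ⟨z, hz⟩]
  exact congrArg α (Subtype.ext hz')

theorem apply_coset (hD : DadeHypothesis A L H) {α : L → ℂ} (hα : IsClassFunction L α) {a : L}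
    (ha : (a : G) ∈ A) {u : G} (hu : u ∈ H (a : G)) :
    dadeIsometry A L H α ((a : G) * u) = α a :=
  apply_eq hD hα ha (x := 1) hu (by group)

omit [Fintype G] in
theorem inSupport_conj {g : G} (y : G) : InSupport A L H (y * g * y⁻¹) ↔ InSupport A L H g := by
  constructor
  · rintro ⟨a, ha, x, u, hu, h⟩
    exact ⟨a, ha, x * y, u, hu, by rw [← h]; group⟩
  · rintro ⟨a, ha, x, u, hu, h⟩
    exact ⟨a, ha, x * y⁻¹, u, hu, by rw [← h]; group⟩

theorem isClassFunction_dade (hD : DadeHypothesis A L H) {α : L → ℂ} (hα : IsClassFunction L α) :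
    IsClassFunction G (dadeIsometry A L H α) := by
  intro g y
  by_cases hs : InSupport A L H g
  · obtain ⟨a, ha, x, u, hu, h⟩ := hs
    rw [apply_eq hD hα ha hu h,
      apply_eq hD hα ha (x := x * y⁻¹) (g := y * g * y⁻¹) hu (by rw [← h]; group)]
  · rw [apply_zero hs, apply_zero (fun h => hs ((inSupport_conj y).mp h))]

omit [Fintype G] in
theorem not_inSupport_one (hD : DadeHypothesis A L H) : ¬ InSupport A L H 1 := by
  rintro ⟨a, ha, x, u, hu, h⟩
  rw [mul_one, mul_inv_cancel] at h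
  have ha1 : (a : G) ∈ H (a : G) ⊓ (L ⊓ Subgroup.centralizer ({(a : G)} : Set G)) := by
    refine ⟨?_, dade_mem_centralizer_self hD ha⟩
    have h2 := (H (a : G)).inv_mem hu
    have e : u⁻¹ = (a : G) := (eq_inv_of_mul_eq_one_left h.symm).symm
    exact e ▸ h2
  rw [hD.inf_eq_bot _ ha, Subgroup.mem_bot] at ha1
  exact hD.one_not_mem (ha1 ▸ ha)

variable [Fintype L]

open scoped Classical in
/-- Sum of a class function living on the support of the Dade map. -/
theorem sum_support (hD : DadeHypothesis A L H) {F : G → ℂ} (hF : IsClassFunction G F)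
    (h0 : ∀ g, ¬ InSupport A L H g → F g = 0) :
    (Nat.card L : ℂ) * ∑ g, F g =
      (Nat.card G : ℂ) * ∑ a : L, if (a : G) ∈ A then avg H F a else 0 := by
  have hft : ∀ a : G, Fintype (H a) := fun a => Fintype.ofFinite _
  let P := Σ a : {a : L // (a : G) ∈ A}, H (a.1 : G) × G
  let Ψ : P → G := fun p => p.2.2 * ((p.1.1 : G) * (p.2.1 : G)) * p.2.2⁻¹
  let w : P → ℂ := fun p => (Nat.card (H (p.1.1 : G)) : ℂ)⁻¹
  have hfib : ∀ g, InSupport A L H g →
      ∑ p ∈ Finset.univ.filter (fun p => Ψ p = g), w p = (Nat.card L : ℂ) := by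
    rintro g ⟨a, ha, x₀, u, hu, hx₀⟩
    set x := x₀⁻¹ with hxdef
    have hg : g = x * ((a : G) * u) * x⁻¹ := by rw [← hx₀, hxdef]; group
    let a' : L → {b : L // (b : G) ∈ A} := fun l =>
      ⟨l * a * l⁻¹, by simpa using hD.conj_mem l l.2 a ha⟩
    have hla : ∀ (l : L) (h : H (a : G)),
        ((l : G) * h) * (a : G) * ((l : G) * h)⁻¹ = ((a' l).1 : G) := by
      intro l h
      show _ = ((l * a * l⁻¹ : L) : G)
      have hc := mem_centralizer_singleton.1 (hD.le_centralizer _ ha h.2)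
      calc ((l : G) * h) * (a : G) * ((l : G) * h)⁻¹
          = (l : G) * ((h : G) * (a : G)) * (h : G)⁻¹ * (l : G)⁻¹ := by group
        _ = (l : G) * ((a : G) * (h : G)) * (h : G)⁻¹ * (l : G)⁻¹ := by rw [hc]
        _ = _ := by simp [mul_assoc]
    let Φ : L × H (a : G) → P := fun lh =>
      ⟨a' lh.1, ⟨((lh.1 : G) * lh.2) * u * ((lh.1 : G) * lh.2)⁻¹,
        dade_conj_mem_H hD ha (a' lh.1).2 (hla _ _) hu⟩, x * ((lh.1 : G) * lh.2)⁻¹⟩
    have hw : ∀ lh, w (Φ lh) = (Nat.card (H (a : G)) : ℂ)⁻¹ := fun lh => by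
      show (Nat.card (H ((a' lh.1).1 : G)) : ℂ)⁻¹ = _
      rw [dade_card_H_conj hD ha (a' lh.1).2 (hla lh.1 lh.2)]
    have hsum : ∑ p ∈ Finset.univ.filter (fun p => Ψ p = g), w p = ∑ lh, w (Φ lh) := by
      refine (Finset.sum_bij (fun lh _ => Φ lh) (fun lh _ => ?_) (fun p _ q _ hpq => ?_)
        (fun p hp => ?_) (fun lh _ => rfl)).symm
      · refine Finset.mem_filter.mpr ⟨Finset.mem_univ _, ?_⟩
        show x * ((lh.1 : G) * lh.2)⁻¹ * (((a' lh.1).1 : G) * (((lh.1 : G) * lh.2) * u *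
          ((lh.1 : G) * lh.2)⁻¹)) * (x * ((lh.1 : G) * lh.2)⁻¹)⁻¹ = g
        rw [← hla lh.1 lh.2, hg]
        group
      · have h1 : x * ((p.1 : G) * p.2)⁻¹ = x * ((q.1 : G) * q.2)⁻¹ :=
          congrArg (fun r : P => r.2.2) hpq
        have h2 : (p.1 : G) * p.2 = (q.1 : G) * q.2 := inv_injective (mul_left_cancel h1)
        have h3 : (q.1 : G)⁻¹ * p.1 = (q.2 : G) * (p.2 : G)⁻¹ := by
          rw [eq_mul_inv_iff_mul_eq, mul_assoc, h2, inv_mul_cancel_left]
        have h4 : (q.1 : G)⁻¹ * p.1 ∈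
            H (a : G) ⊓ (L ⊓ Subgroup.centralizer ({(a : G)} : Set G)) := by
          have hm : (q.2 : G) * (p.2 : G)⁻¹ ∈ H (a : G) := (H (a : G)).mul_mem q.2.2 ((H (a : G)).inv_mem p.2.2)
          exact ⟨by rw [h3]; exact hm, L.mul_mem (L.inv_mem q.1.2) p.1.2,
            by rw [h3]; exact hD.le_centralizer _ ha hm⟩
        rw [hD.inf_eq_bot _ ha, Subgroup.mem_bot, inv_mul_eq_one] at h4
        refine Prod.ext (Subtype.ext h4.symm) (Subtype.ext ?_)
        rw [← h4] at h2
        exact mul_left_cancel h2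
      · obtain ⟨⟨⟨b, hb⟩, ⟨v, hv⟩, x'⟩, hp2⟩ : ∃ p', p' = p := ⟨p, rfl⟩
        subst hp2
        have hpg : x' * ((b : G) * v) * x'⁻¹ = g := (Finset.mem_filter.mp hp).2
        have h1 : (x'⁻¹ * x) * ((a : G) * u) * (x'⁻¹ * x)⁻¹ = (b : G) * v := by
          rw [hg] at hpg
          calc (x'⁻¹ * x) * ((a : G) * u) * (x'⁻¹ * x)⁻¹
              = x'⁻¹ * (x * ((a : G) * u) * x⁻¹) * x' := by group
            _ = x'⁻¹ * (x' * ((b : G) * v) * x'⁻¹) * x' := by rw [hpg]
            _ = _ := by group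
        obtain ⟨h2, h2'⟩ := dade_split_conj hD ha hb hu hv h1
        obtain ⟨z, hz, hz'⟩ := hD.fusion _ ha (x'⁻¹ * x) (h2.symm ▸ hb)
        have hc : z⁻¹ * (x'⁻¹ * x) ∈ Subgroup.centralizer ({(a : G)} : Set G) := by
          rw [mem_centralizer_singleton]
          calc (a : G) * (z⁻¹ * (x'⁻¹ * x)) = z⁻¹ * (z * (a : G) * z⁻¹) * (x'⁻¹ * x) := by group
            _ = z⁻¹ * ((x'⁻¹ * x) * (a : G) * (x'⁻¹ * x)⁻¹) * (x'⁻¹ * x) := by rw [hz']
            _ = _ := by group
        obtain ⟨h, hh, m, hm, hhm⟩ := dade_decomp hD ha hc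
        refine ⟨(⟨z * m, mul_mem hz hm.1⟩, ⟨m⁻¹ * h * m⁻¹⁻¹,
          hD.conj_mem_H _ ha _ (inv_mem hm.2) h hh⟩), Finset.mem_univ _, ?_⟩
        have hy : (z * m) * (m⁻¹ * h * m⁻¹⁻¹) = x'⁻¹ * x := by
          calc (z * m) * (m⁻¹ * h * m⁻¹⁻¹) = z * (h * m) := by group
            _ = z * (z⁻¹ * (x'⁻¹ * x)) := by rw [hhm]
            _ = _ := by group
        have hbeq : (a' ⟨z * m, mul_mem hz hm.1⟩) = ⟨b, hb⟩ := by
          refine Subtype.ext (Subtype.ext ?_)
          rw [← h2, ← hy, hla ⟨z * m, mul_mem hz hm.1⟩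
            ⟨m⁻¹ * h * m⁻¹⁻¹, hD.conj_mem_H _ ha _ (inv_mem hm.2) h hh⟩]
        refine Sigma.ext hbeq ?_
        have key : ∀ (b₁ : {b : L // (b : G) ∈ A}) (q : H (b₁.1 : G) × G), b₁ = ⟨b, hb⟩ →
            (q.1 : G) = v → q.2 = x' →
            HEq q ((⟨v, hv⟩, x') : H (b : G) × G) := by
          rintro b₁ ⟨⟨q1, hq1⟩, q2⟩ rfl e1 e2
          dsimp only at e1 e2
          subst e1 e2
          rfl
        refine key _ _ hbeq ?_ ?_
        · show (z * m) * (m⁻¹ * h * m⁻¹⁻¹) * u * ((z * m) * (m⁻¹ * h * m⁻¹⁻¹))⁻¹ = v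
          rw [hy, h2']
        · show x * ((z * m) * (m⁻¹ * h * m⁻¹⁻¹))⁻¹ = x'
          rw [hy]; group
    rw [hsum, Finset.sum_congr rfl fun lh _ => hw lh, Finset.sum_const, Finset.card_univ,
      Fintype.card_prod, nsmul_eq_mul, Nat.cast_mul, mul_assoc, ← Nat.card_eq_fintype_card,
      ← Nat.card_eq_fintype_card, mul_inv_cancel₀ (Nat.cast_ne_zero.mpr Nat.card_pos.ne'), mul_one]
  have h1 : ∑ p, w p * F (Ψ p) = (Nat.card L : ℂ) * ∑ g, F g := by
    rw [← Finset.sum_fiberwise Finset.univ Ψ, Finset.mul_sum]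
    refine Finset.sum_congr rfl fun g _ => ?_
    rw [Finset.sum_congr rfl (g := fun p => w p * F g) fun p hp => by
      rw [(Finset.mem_filter.mp hp).2], ← Finset.sum_mul]
    by_cases hs : InSupport A L H g
    · rw [hfib g hs]
    · rw [h0 g hs, mul_zero, mul_zero]
  rw [← h1, Fintype.sum_sigma, ← Finset.sum_filter,
    Finset.sum_subtype (p := fun a : L => (a : G) ∈ A) _ (fun a => by simp), Finset.mul_sum]
  refine Finset.sum_congr rfl fun a _ => ?_
  rw [Fintype.sum_prod_type, avg, finsum_coe_subgroup, Finset.mul_sum, Finset.mul_sum]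
  refine Finset.sum_congr rfl fun u _ => ?_
  rw [Finset.sum_congr rfl fun x _ => show w ⟨a, (u, x)⟩ * F (Ψ ⟨a, (u, x)⟩) =
    (Nat.card (H (a.1 : G)) : ℂ)⁻¹ * F ((a.1 : G) * u) from congrArg _ (hF _ x),
    Finset.sum_const, Finset.card_univ, nsmul_eq_mul, ← Nat.card_eq_fintype_card]

theorem avg_dade (hD : DadeHypothesis A L H) {α : L → ℂ} (hα : IsClassFunction L α) {a : L}
    (ha : (a : G) ∈ A) (χ : G → ℂ) :
    avg H (fun g => dadeIsometry A L H α g * χ g) a = α a * avg H χ a := by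
  have := Fintype.ofFinite (H (a : G))
  rw [avg, avg, finsum_coe_subgroup, finsum_coe_subgroup, mul_left_comm (α a), Finset.mul_sum _ _ (α a)]
  congr 1
  exact Finset.sum_congr rfl fun u _ => by rw [apply_coset hD hα ha u.2]

theorem avg_one (a : G) : avg H (fun _ => (1 : ℂ)) a = 1 := by
  have := Fintype.ofFinite (H a)
  rw [avg, finsum_coe_subgroup, Finset.sum_const, Finset.card_univ, nsmul_one,
    Nat.card_eq_fintype_card, inv_mul_cancel₀ (Nat.cast_ne_zero.mpr Fintype.card_pos.ne')]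

open scoped Classical in
/-- The inner product of a Dade image with a class function. -/
theorem classInner_dade (hD : DadeHypothesis A L H) {α : L → ℂ} (hα : IsClassFunction L α)
    (hαA : ∀ x : L, (x : G) ∉ A → α x = 0) {χ : G → ℂ} (hχ : IsClassFunction G χ) (ψ : L → ℂ)
    (hψ : ∀ a : L, (a : G) ∈ A → ψ a = avg H χ a) :
    classInner (dadeIsometry A L H α) χ = classInner α ψ := by
  have h := sum_support hD (F := fun g => dadeIsometry A L H α g * conj (χ g))
    (fun g y => by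
      show _ * conj (χ (y * g * y⁻¹)) = _
      rw [isClassFunction_dade hD hα, hχ])
    (fun g hg => by rw [apply_zero hg, zero_mul])
  have hG : (Nat.card G : ℂ) ≠ 0 := Nat.cast_ne_zero.mpr Nat.card_pos.ne'
  have hL : (Nat.card L : ℂ) ≠ 0 := Nat.cast_ne_zero.mpr Nat.card_pos.ne'
  have hR : ∑ a : L, (if (a : G) ∈ A then
      avg H (fun g => dadeIsometry A L H α g * conj (χ g)) a else 0) =
        ∑ a : L, α a * conj (ψ a) := by
    refine Finset.sum_congr rfl fun a _ => ?_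
    by_cases ha : (a : G) ∈ A
    · have := Fintype.ofFinite (H (a : G))
      rw [if_pos ha, avg_dade hD hα ha fun g => conj (χ g), hψ a ha, avg, avg, finsum_coe_subgroup,
        finsum_coe_subgroup, map_mul, map_inv₀, map_natCast, map_sum]
    · rw [if_neg ha, hαA a ha, zero_mul]
  rw [hR] at h
  simp only [classInner]
  field_simp
  linear_combination h

/-- The Dade map is an isometry. -/
theorem classInner_dade_dade (hD : DadeHypothesis A L H) {α β : L → ℂ} (hα : IsClassFunction L α)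
    (hαA : ∀ x : L, (x : G) ∉ A → α x = 0) (hβ : IsClassFunction L β) :
    classInner (dadeIsometry A L H α) (dadeIsometry A L H β) = classInner α β := by
  refine classInner_dade hD hα hαA (isClassFunction_dade hD hβ) β fun a ha => ?_
  have h := avg_dade hD hβ ha fun _ => (1 : ℂ)
  simp only [mul_one, avg_one] at h
  exact h.symm

omit [Fintype L] in
/-- For `l` normalizing `K` of coprime order, averaging over `K l` reduces to the centralizer. -/
theorem sum_coset_reduce (K : Subgroup G) [Fintype K] {l : G} (hl : ∀ k ∈ K, l * k * l⁻¹ ∈ K)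
    (hcop : (orderOf l).Coprime (Nat.card K)) {φ : G → ℂ} (hφ : IsClassFunction G φ)
    {C : Subgroup G} [Fintype C] (hC : C = K ⊓ Subgroup.centralizer ({l} : Set G)) :
    (Nat.card K : ℂ)⁻¹ * ∑ k : K, φ ((k : G) * l) =
      (Nat.card C : ℂ)⁻¹ * ∑ c : C, φ ((c : G) * l) := by
  classical
  have hle : C ≤ K := hC.le.trans inf_le_left
  have hcomm : ∀ c : C, Commute (c : G) l := fun c =>
    (mem_centralizer_singleton.1 (hC.le c.2).2).symm
  let C' := C.subgroupOf K
  have := Fintype.ofFinite (K ⧸ C')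
  have hmem : ∀ (x : K) (c : C), (x : G) * (c * l) * (x : G)⁻¹ * l⁻¹ ∈ K := by
    intro x c
    have e : (x : G) * (c * l) * (x : G)⁻¹ * l⁻¹ = x * c * (l * (x : G)⁻¹ * l⁻¹) := by group
    rw [e]
    exact mul_mem (mul_mem x.2 (hle c.2)) (hl _ (inv_mem x.2))
  let Φ : (K ⧸ C') × C → K := fun p => ⟨_, hmem p.1.out p.2⟩
  obtain ⟨n, hn⟩ := exists_pow_select hcop (orderOf_pos l).ne' Nat.card_pos.ne'
  have hpow : ∀ c : C, ((c : G) * l) ^ n = l := fun c => by
    rw [(hcomm c).eq]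
    refine hn l c (hcomm c).symm (pow_orderOf_eq_one l) (orderOf_dvd_iff_pow_eq_one.1 ?_)
    exact Subgroup.orderOf_dvd_natCard _ (hle c.2)
  have hinj : Function.Injective Φ := by
    rintro ⟨q, c⟩ ⟨q', c'⟩ h
    have h1 : (q.out : G) * (c * l) * (q.out : G)⁻¹ = (q'.out : G) * (c' * l) * (q'.out : G)⁻¹ :=
      mul_right_cancel (congrArg Subtype.val h)
    have h2 := congrArg (· ^ n) h1
    simp only [conj_pow, hpow] at h2
    have h3 : ((q.out⁻¹ * q'.out : K) : G) ∈ C := hC ▸ ⟨(q.out⁻¹ * q'.out).2,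
      mem_centralizer_singleton.2 (by
        show l * ((q.out : G)⁻¹ * (q'.out : G)) = (q.out : G)⁻¹ * (q'.out : G) * l
        calc l * ((q.out : G)⁻¹ * (q'.out : G))
            = (q.out : G)⁻¹ * ((q.out : G) * l * (q.out : G)⁻¹) * (q'.out : G) := by group
          _ = (q.out : G)⁻¹ * ((q'.out : G) * l * (q'.out : G)⁻¹) * (q'.out : G) := by rw [h2]
          _ = _ := by group)⟩
    have h4 : q = q' := by
      rw [← QuotientGroup.out_eq' q, ← QuotientGroup.out_eq' q']
      exact QuotientGroup.eq.mpr h3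
    subst h4
    exact Prod.ext rfl (Subtype.ext (mul_right_cancel (mul_left_cancel (mul_right_cancel h1))))
  have hcardK : Nat.card K = Nat.card (K ⧸ C') * Nat.card C := by
    rw [← Nat.card_congr (Subgroup.subgroupOfEquivOfLe hle).toEquiv,
      ← Subgroup.card_eq_card_quotient_mul_card_subgroup]
  have hbij : Function.Bijective Φ :=
    (Fintype.bijective_iff_injective_and_card Φ).mpr ⟨hinj, by
      rw [← Nat.card_eq_fintype_card, ← Nat.card_eq_fintype_card, Nat.card_prod, hcardK]⟩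
  rw [← Fintype.sum_bijective Φ hbij (fun p => φ ((p.2 : G) * l)) (fun k => φ ((k : G) * l))
    (fun p => by
      show _ = φ ((p.1.out : G) * (p.2 * l) * (p.1.out : G)⁻¹ * l⁻¹ * l)
      rw [inv_mul_cancel_right, hφ]),
    Fintype.sum_prod_type]
  dsimp only
  rw [Finset.sum_const, Finset.card_univ, nsmul_eq_mul, hcardK, Nat.cast_mul,
    ← Nat.card_eq_fintype_card, mul_inv, ← mul_assoc]
  have h5 : (Nat.card (K ⧸ C') : ℂ) ≠ 0 := Nat.cast_ne_zero.mpr Nat.card_pos.ne'
  field_simp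

end CfsgLib.DadeMap
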