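import Cfsg.Agent.Lib.Char.ComplementRestrict
import Cfsg.Agent.Lib.CharAction.RelativeGlauberman
import Cfsg.Agent.Lib.PGroups.PComplement
import Cfsg.Agent.Lib.Blocks.FongReynolds
import Cfsg.Agent.Lib.Blocks.CoveringDefect

/-!
# Lifts and Fong characters in `p`-solvable groups

For a `p`-solvable group `G` with `p`-complement `H` there are pairs `(φ, α)`, `φ ∈ Irr(G)`,
`α ∈ Irr(H)`, with `⟨φ|H, α'⟩ = δ`, such that a class function of `G` whose restriction to `H` is
orthogonal to every `α` vanishes on `H`.  Consequently the restriction of every character to the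
`p`-regular elements is the combination of the `φ` with coefficients `⟨χ|H, α⟩`.
-/

namespace CfsgLib.FongChar

open Cfsg CfsgLib.Char CfsgLib.Blocks CfsgLib.Supplement
open CfsgLib.PGroups.PComplement (IsPCompl exists_pCompl exists_conj_le exists_normal_factor)
open scoped ComplexConjugate Classical

universe u

variable {G : Type*} [Group G] [Fintype G]

/-- Lying over the restriction of `θ`. -/
def OverH (H N : Subgroup G) (θ : N → ℂ) (ξ : IrrCharacter H) : Prop :=
  classInner (fun k : N.subgroupOf H => (ξ : H → ℂ) k) (resInf N H θ) ≠ 0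

/-- The condition carried along the induction. -/
structure Cond (p : ℕ) (H N : Subgroup G) [N.Normal] (θ : IrrCharacter N) : Prop where
  inv : ∀ g : G, conjIrr N g θ = θ
  deg : ¬ p ∣ charDegree (θ : N → ℂ)
  det : ¬ p ∣ detOrder (θ : N → ℂ)
  irr : IsIrrCharacter (N.subgroupOf H) (resInf N H (θ : N → ℂ))

/-- The conclusion. -/
def Good (H N : Subgroup G) (θ : IrrCharacter N) : Prop :=
  ∃ L : Finset (IrrCharacter G × IrrCharacter H),
    (∀ q ∈ L, classInner (fun n : N => (q.1 : G → ℂ) n) (θ : N → ℂ) ≠ 0 ∧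
      OverH H N (θ : N → ℂ) q.2) ∧
    (∀ q ∈ L, ∀ q' ∈ L, classInner (fun h : H => (q.1 : G → ℂ) h) (q'.2 : H → ℂ) =
      if q = q' then 1 else 0) ∧
    ∀ F : G → ℂ, IsClassFunction G F →
      (∀ q ∈ L, classInner (fun h : H => F h) (q.2 : H → ℂ) = 0) →
      ∀ ξ : IrrCharacter H, OverH H N (θ : N → ℂ) ξ →
        classInner (fun h : H => F h) (ξ : H → ℂ) = 0

/-- Constituents on an intermediate normal subgroup of a character over an invariant one lie over
it. -/
theorem over_of_constituent {N M : Subgroup G} [N.Normal] (hNM : N ≤ M) {θ : IrrCharacter N}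
    (hinv : ∀ g : G, conjIrr N g θ = θ) {χ : IrrCharacter G}
    (hχ : classInner (fun n : N => (χ : G → ℂ) n) (θ : N → ℂ) ≠ 0) {μ : IrrCharacter M}
    (hμ : classInner (fun m : M => (χ : G → ℂ) m) (μ : M → ℂ) ≠ 0) :
    classInner (fun n : N => (μ : M → ℂ) ⟨n, hNM n.2⟩) (θ : N → ℂ) ≠ 0 := by
  obtain ⟨θ', hθ'⟩ := Clifford.exists_constituent (G := N)
    (Φ := fun n : N => (μ : M → ℂ) ⟨n, hNM n.2⟩)
    (IsChar.isClassFunction (Clifford.isCharacter_resTo hNM (IsIrr.isCharacter μ.2)))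
    fun h0 => IsIrr.apply_one_ne_zero μ.2 (congrFun h0 1)
  have h2 := classInner_comp_ne_zero (IsChar.restrict M (IsIrr.isCharacter χ.2)) hμ
    (Subgroup.inclusion hNM) θ' hθ'
  have h1 := FongInvariant.restrict_eq_smul N hinv hχ
  obtain rfl : θ' = θ := by
    by_contra hne
    change classInner (fun n : N => (χ : G → ℂ) n) (θ' : N → ℂ) ≠ 0 at h2
    rw [h1, classInner_smul_left, classInner_irr_of_ne (Ne.symm hne), mul_zero] at h2
    exact h2 rfl
  exact hθ'

/-- An invariant character extends invariantly over a `p`-section. -/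
theorem exists_cond_extension {p : ℕ} [Fact p.Prime] {H N M : Subgroup G} [N.Normal] [M.Normal]
    (hNM : N ≤ M) {k : ℕ} (hk : N.relIndex M = p ^ k) (hH : (Nat.card H).Coprime p)
    {θ : IrrCharacter N} (hθ : Cond p H N θ) :
    ∃ η : IrrCharacter M, Cond p H M η ∧ (∀ n : N, (η : M → ℂ) ⟨n, hNM n.2⟩ = (θ : N → ℂ) n) ∧
      M.subgroupOf H = N.subgroupOf H := by
  have hp : p.Prime := Fact.out
  let e := Subgroup.subgroupOfEquivOfLe hNM
  have hKeq : M.subgroupOf H = N.subgroupOf H := by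
    refine le_antisymm (fun x hx => ?_) fun x hx => hNM hx
    rw [Subgroup.mem_subgroupOf] at hx ⊢
    have h1 : orderOf (QuotientGroup.mk' (N.subgroupOf M) ⟨(x : G), hx⟩) = 1 := by
      refine Nat.eq_one_of_dvd_coprimes (hH.symm.pow_left k) ?_ ?_
      · rw [← hk, Subgroup.relIndex, Subgroup.index_eq_card]
        exact orderOf_dvd_natCard _
      · refine (orderOf_map_dvd _ _).trans ?_
        rw [Subgroup.orderOf_mk, Subgroup.orderOf_coe]
        exact orderOf_dvd_natCard x
    rw [orderOf_eq_one_iff, QuotientGroup.mk'_apply, QuotientGroup.eq_one_iff] at h1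
    exact Subgroup.mem_subgroupOf.1 h1
  have hθ' : IsIrrCharacter (N.subgroupOf M) fun x => (θ : N → ℂ) (e x) :=
    IsIrr.comp_surjective e.toMonoidHom e.surjective θ.2
  have hinv' : ∀ (h : M) (x : N.subgroupOf M), (θ : N → ℂ) (e ⟨h * x * h⁻¹,
      (inferInstance : (N.subgroupOf M).Normal).conj_mem _ x.2 h⟩) = (θ : N → ℂ) (e x) := by
    intro h x
    conv_rhs => rw [← hθ.inv (h : G), Blocks.conjIrr_apply]
    rfl
  have hdeg' : ((fun x => (θ : N → ℂ) (e x)) : N.subgroupOf M → ℂ) 1 =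
      (charDegree (θ : N → ℂ) : ℂ) := by
    show (θ : N → ℂ) (e 1) = _
    rw [map_one, apply_one_eq_charDegree]
  have hdet' : detOrder (fun x => (θ : N → ℂ) (e x)) = detOrder (θ : N → ℂ) := by
    obtain ⟨j, σ, hσ, hσc⟩ := θ.2
    let σ' : Representation ℂ (N.subgroupOf M) (Fin j → ℂ) := σ.comp e.toMonoidHom
    have h1 : σ'.character = fun x => (θ : N → ℂ) (e x) := funext fun x => congrFun hσc (e x)
    rw [← h1, ← hσc]
    refine Nat.dvd_antisymm (CanonExt.detOrder_dvd σ σ' e.toMonoidHom rfl)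
      (CanonExt.detOrder_dvd σ' σ e.symm.toMonoidHom (funext fun x => ?_))
    show σ.character x = σ.character (e (e.symm x))
    rw [MulEquiv.apply_symm_apply]
  have hcop : Nat.Coprime (p ^ k) (detOrder (θ : N → ℂ) * charDegree (θ : N → ℂ)) :=
    Nat.Coprime.pow_left k (((Nat.Prime.coprime_iff_not_dvd hp).2 hθ.det).mul_right
      ((Nat.Prime.coprime_iff_not_dvd hp).2 hθ.deg))
  obtain ⟨η, ⟨hη, hres, hdet⟩, huniq⟩ := Exceptional.canonical_extension
    (N := N.subgroupOf M) hθ' hinv' hdeg' (by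
      rw [show (N.subgroupOf M).index = p ^ k from hk, hdet']
      exact hcop)
  have hres' : ∀ n : N, η ⟨n, hNM n.2⟩ = (θ : N → ℂ) n := fun n =>
    (hres (e.symm n)).trans (congrArg (θ : N → ℂ) (e.apply_symm_apply n))
  refine ⟨⟨η, hη⟩, ⟨fun g => Subtype.ext ?_, ?_, ?_, ?_⟩, hres', hKeq⟩
  · refine huniq _ (conjIrr M g ⟨η, hη⟩).2 (fun x => ?_) ?_
    · rw [Blocks.conjIrr_apply]
      refine (hres ⟨⟨g * ((x : M) : G) * g⁻¹, (inferInstance : M.Normal).conj_mem _ (x : M).2 g⟩,
        Subgroup.mem_subgroupOf.2 ((inferInstance : N.Normal).conj_mem _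
          (Subgroup.mem_subgroupOf.1 x.2) g)⟩).trans ?_
      conv_rhs => rw [← hθ.inv g, Blocks.conjIrr_apply]
      rfl
    · obtain ⟨j, τ, hτ, hτc⟩ := (conjIrr M g ⟨η, hη⟩).2
      obtain ⟨j', τ', hτ', rfl⟩ := id hη
      have h1 : detOrder τ.character ∣ detOrder τ'.character :=
        CanonExt.detOrder_dvd τ' τ (MulAut.conjNormal g).toMonoidHom (by
          rw [hτc]
          rfl)
      rw [← hτc]
      refine Nat.Coprime.coprime_dvd_right h1 ?_
      rw [hdet, hdet', show (N.subgroupOf M).index = p ^ k from hk]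
      exact Nat.Coprime.pow_left k ((Nat.Prime.coprime_iff_not_dvd hp).2 hθ.det)
  · rw [charDegree_eq (χ := (⟨η, hη⟩ : IrrCharacter M)) (n := charDegree (θ : N → ℂ))]
    · exact hθ.deg
    · show η 1 = _
      rw [← apply_one_eq_charDegree θ, ← hres' 1]
      rfl
  · show ¬ p ∣ detOrder η
    rw [hdet, hdet']
    exact hθ.det
  · have h1 := IsIrr.comp_surjective (MulEquiv.subgroupCongr hKeq).toMonoidHom
      (MulEquiv.subgroupCongr hKeq).surjective hθ.irr
    have h2 : resInf M H η = fun x =>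
        resInf N H (θ : N → ℂ) ((MulEquiv.subgroupCongr hKeq).toMonoidHom x) :=
      funext fun x => hres' ⟨((x : H) : G), Subgroup.mem_subgroupOf.1
        (hKeq ▸ x.2 : (x : H) ∈ N.subgroupOf H)⟩
    show IsIrrCharacter _ (resInf M H η)
    rw [h2]
    exact h1

section Layer

variable {p : ℕ} {H N M : Subgroup G} [N.Normal] [M.Normal]
  (hNM : N ≤ M) (hsup : N.subgroupOf M ⊔ H.subgroupOf M = ⊤) {θ : IrrCharacter N}
  (hθ : Cond p H N θ)

/-- `M ∩ H` seen in `H` and in `M`. -/
def infEquiv (H M : Subgroup G) : M.subgroupOf H ≃* H.subgroupOf M where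
  toFun x := ⟨⟨((x : H) : G), x.2⟩, (x : H).2⟩
  invFun y := ⟨⟨((y : M) : G), y.2⟩, (y : M).2⟩
  left_inv x := rfl
  right_inv y := rfl
  map_mul' a b := rfl

include hNM hθ

theorem layer_hyps :
    IsIrrCharacter ((N.subgroupOf M).subgroupOf (H.subgroupOf M))
      (resInf (N.subgroupOf M) (H.subgroupOf M)
        (pullEquiv (Subgroup.subgroupOfEquivOfLe hNM) θ : N.subgroupOf M → ℂ)) ∧
    ∀ g : M, conjIrr (N.subgroupOf M) g (pullEquiv (Subgroup.subgroupOfEquivOfLe hNM) θ) =
      pullEquiv (Subgroup.subgroupOfEquivOfLe hNM) θ := by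
  refine ⟨?_, fun g => Subtype.ext (funext fun x => ?_)⟩
  · let s : (N.subgroupOf M).subgroupOf (H.subgroupOf M) ≃* N.subgroupOf H :=
      { toFun := fun y => ⟨⟨(((y : H.subgroupOf M) : M) : G), (y : H.subgroupOf M).2⟩, y.2⟩
        invFun := fun z => ⟨⟨⟨((z : H) : G), hNM z.2⟩, (z : H).2⟩, z.2⟩
        left_inv := fun y => rfl
        right_inv := fun z => rfl
        map_mul' := fun a b => rfl }
    exact IsIrr.comp_surjective s.toMonoidHom s.surjective hθ.irr
  · rw [Blocks.conjIrr_apply, pullEquiv_apply, pullEquiv_apply]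
    conv_rhs => rw [← hθ.inv (g : G), Blocks.conjIrr_apply]
    rfl

omit hθ in
theorem over_layer_iff (η : IrrCharacter M) :
    classInner (fun n : N.subgroupOf M => (η : M → ℂ) n)
      (pullEquiv (Subgroup.subgroupOfEquivOfLe hNM) θ : N.subgroupOf M → ℂ) =
      classInner (fun n : N => (η : M → ℂ) ⟨n, hNM n.2⟩) (θ : N → ℂ) :=
  Clifford.classInner_comp_equiv (Subgroup.subgroupOfEquivOfLe hNM)
    (fun n : N => (η : M → ℂ) ⟨n, hNM n.2⟩) (θ : N → ℂ)

include hsup

theorem restrict_irr {η : IrrCharacter M}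
    (hη : classInner (fun n : N => (η : M → ℂ) ⟨n, hNM n.2⟩) (θ : N → ℂ) ≠ 0) :
    IsIrrCharacter (M.subgroupOf H) (resInf M H (η : M → ℂ)) := by
  obtain ⟨h1, h2⟩ := layer_hyps hNM hθ
  exact IsIrr.comp_surjective (infEquiv H M).toMonoidHom (infEquiv H M).surjective
    (isIrr_restrict hsup h1 h2 (η := η) (by rwa [over_layer_iff hNM]))

theorem eq_of_classInner_ne_zero {η η' : IrrCharacter M}
    (hη : classInner (fun n : N => (η : M → ℂ) ⟨n, hNM n.2⟩) (θ : N → ℂ) ≠ 0)
    (hη' : classInner (fun n : N => (η' : M → ℂ) ⟨n, hNM n.2⟩) (θ : N → ℂ) ≠ 0)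
    (h : classInner (resInf M H (η : M → ℂ)) (resInf M H (η' : M → ℂ)) ≠ 0) : η = η' := by
  obtain ⟨h1, h2⟩ := layer_hyps hNM hθ
  by_contra hne
  refine h ?_
  have h3 := classInner_restrict hsup h1 h2 (η := η) (η' := η')
    (by rwa [over_layer_iff hNM]) (by rwa [over_layer_iff hNM])
  rw [if_neg hne] at h3
  exact (Clifford.classInner_comp_equiv (infEquiv H M) _ _).trans h3

theorem exists_eq_resInf {μ : IrrCharacter (M.subgroupOf H)}
    (hμ : classInner (fun k : N.subgroupOf H => (μ : M.subgroupOf H → ℂ) ⟨k, hNM k.2⟩)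
      (resInf N H (θ : N → ℂ)) ≠ 0) :
    ∃ η : IrrCharacter M, classInner (fun n : N => (η : M → ℂ) ⟨n, hNM n.2⟩) (θ : N → ℂ) ≠ 0 ∧
      (μ : M.subgroupOf H → ℂ) = resInf M H (η : M → ℂ) := by
  obtain ⟨h1, h2⟩ := layer_hyps hNM hθ
  let ξ : IrrCharacter (H.subgroupOf M) := pullEquiv (infEquiv H M).symm μ
  let s : (N.subgroupOf M).subgroupOf (H.subgroupOf M) ≃* N.subgroupOf H :=
    { toFun := fun y => ⟨⟨(((y : H.subgroupOf M) : M) : G), (y : H.subgroupOf M).2⟩, y.2⟩
      invFun := fun z => ⟨⟨⟨((z : H) : G), hNM z.2⟩, (z : H).2⟩, z.2⟩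
      left_inv := fun y => rfl
      right_inv := fun z => rfl
      map_mul' := fun a b => rfl }
  obtain ⟨η, hη, hξ⟩ := exists_eq_restrict hsup h1 h2 (ξ := ξ) (by
    rw [← Clifford.classInner_comp_equiv s] at hμ
    exact hμ)
  refine ⟨η, by rwa [over_layer_iff hNM] at hη, funext fun x => ?_⟩
  have h3 := congrFun hξ (infEquiv H M x)
  simp only [ξ, pullEquiv_apply, MulEquiv.symm_apply_apply] at h3
  exact h3

end Layer

/-- A `p`-complement supplements `N` in a normal subgroup with `p'`-quotient over `N`. -/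
theorem sup_subgroupOf_eq_top {p : ℕ} [Fact p.Prime] {H N M : Subgroup G} [N.Normal] [M.Normal]
    (hH : IsPCompl p H) (hidx : ¬ p ∣ N.relIndex M) :
    N.subgroupOf M ⊔ H.subgroupOf M = ⊤ := by
  rw [← Subgroup.index_eq_one]
  obtain ⟨k, hk⟩ := hH.2
  refine Nat.eq_one_of_dvd_coprimes
    (((Nat.Prime.coprime_iff_not_dvd (Fact.out : p.Prime)).2 hidx).pow_left k) ?_ ?_
  · refine (Subgroup.index_dvd_of_le (le_sup_right : H.subgroupOf M ≤ _)).trans ?_
    rw [← hk]
    have h1 : (H.subgroupOf M).index ∣ H.index := by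
      rw [← Subgroup.inf_subgroupOf_right, show (H ⊓ M).subgroupOf M = (H ⊓ M).subgroupOf M from rfl]
      have h2 := Subgroup.relIndex_mul_index (inf_le_left : H ⊓ M ≤ H)
      have h3 := Subgroup.relIndex_mul_index (inf_le_right : H ⊓ M ≤ M)
      have h4 : (H ⊓ M).relIndex H = M.relIndex H := Subgroup.inf_relIndex_left H M
      have h5 : M.relIndex H ∣ M.index := Subgroup.relIndex_dvd_index_of_normal M H
      obtain ⟨c, hc⟩ := h5
      have h6 : M.relIndex H * H.index = (H ⊓ M).relIndex M * (M.relIndex H * c) := by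
        rw [← h4, h2, ← h3, hc, h4]
      have h7 : (H ⊓ M).relIndex M * c = H.index := by
        have hne : M.relIndex H ≠ 0 := Subgroup.index_ne_zero_of_finite
        refine Nat.eq_of_mul_eq_mul_left (Nat.pos_of_ne_zero hne) ?_
        rw [h6]; ring
      exact Dvd.intro c h7
    exact h1
  · exact Subgroup.index_dvd_of_le le_sup_left

theorem isPCompl_of_map {p : ℕ} [Fact p.Prime] {H T : Subgroup G} (hH : (Nat.card H).Coprime p)
    {W : Subgroup T} (hW : IsPCompl p W) {g : G}
    (hle : ∀ w ∈ W, g * (w : G) * g⁻¹ ∈ H) {T' : Subgroup G}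
    (hT' : ∀ x : G, x ∈ T' ↔ g⁻¹ * x * g ∈ T) :
    IsPCompl p (H.subgroupOf T') := by
  refine ⟨hH.coprime_dvd_left ?_, ?_⟩
  · rw [← Subgroup.card_map_of_injective T'.subtype_injective]
    exact Subgroup.card_dvd_of_le (by rintro _ ⟨x, hx, rfl⟩; exact hx)
  obtain ⟨k, hk⟩ := hW.2
  let c : T ≃* T' :=
    { toFun := fun t => ⟨g * (t : G) * g⁻¹, (hT' _).2 (by
        rw [show g⁻¹ * (g * (t : G) * g⁻¹) * g = t by group]
        exact t.2)⟩
      invFun := fun x => ⟨g⁻¹ * (x : G) * g, (hT' _).1 x.2⟩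
      left_inv := fun t => Subtype.ext (by simp [mul_assoc])
      right_inv := fun x => Subtype.ext (by simp [mul_assoc])
      map_mul' := fun a b => Subtype.ext (by simp [mul_assoc]) }
  have hle' : W.map c.toMonoidHom ≤ H.subgroupOf T' := by
    rintro _ ⟨w, hw, rfl⟩
    exact hle w hw
  have h1 : (H.subgroupOf T').index ∣ p ^ k := by
    rw [← hk, ← Subgroup.index_map_equiv W c]
    exact Subgroup.index_dvd_of_le hle'
  obtain ⟨j, -, hj⟩ := (Nat.dvd_prime_pow (Fact.out : p.Prime)).1 h1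
  exact ⟨j, hj⟩

/-- The induction step over a `p'`-section. -/
theorem good_of_pPrime_step {G : Type u} [Group G] [Fintype G] {p : ℕ} [Fact p.Prime]
    (hsolv : IsPSolvable p G) {H N M : Subgroup G} [N.Normal] [M.Normal] (hH : IsPCompl p H)
    (hNM : N ≤ M) (hidx : ¬ p ∣ N.relIndex M) {θ : IrrCharacter N} (hθ : Cond p H N θ)
    (IH : ∀ (T : Type u) [Group T] [Fintype T], IsPSolvable p T → ∀ (W X : Subgroup T) [X.Normal]
      (ζ : IrrCharacter X), X.index ≤ M.index → IsPCompl p W → Cond p W X ζ → Good W X ζ) :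
    Good H N θ := by
  have hM : M.Normal := inferInstance
  have hsup := sup_subgroupOf_eq_top (H := H) hH hidx
  let OverN : IrrCharacter M → Prop := fun η =>
    classInner (fun n : N => (η : M → ℂ) ⟨n, hNM n.2⟩) (θ : N → ℂ) ≠ 0
  let Tof : IrrCharacter M → Subgroup G := fun η => Clifford.inertia hM (η : M → ℂ)
  have hTle : ∀ η : IrrCharacter M, M ≤ Tof η := fun η =>
    Clifford.le_inertia hM (IsIrr.isClassFunction η.2)
  let Nice : IrrCharacter M → Prop := fun η => OverN η ∧ IsPCompl p (H.subgroupOf (Tof η))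
  have hOverConj : ∀ η g, OverN η → OverN (conjIrr M g η) := by
    intro η g h
    show classInner (fun n : N => (conjIrr M g η : M → ℂ) ⟨n, hNM n.2⟩) (θ : N → ℂ) ≠ 0
    have h1 : (θ : N → ℂ) = fun n => (θ : N → ℂ) (MulAut.conjNormal (H := N) g n) := funext fun n => by
      conv_lhs => rw [← hθ.inv g, Blocks.conjIrr_apply]
      exact congrArg _ (Subtype.ext (by simp))
    have h2 : (fun n : N => (conjIrr M g η : M → ℂ) ⟨n, hNM n.2⟩) =
        fun n => (fun n : N => (η : M → ℂ) ⟨n, hNM n.2⟩) (MulAut.conjNormal (H := N) g n) :=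
      funext fun n => by
        rw [Blocks.conjIrr_apply]
        exact congrArg _ (Subtype.ext (by simp))
    rw [h2]
    conv => congr; arg 2; rw [h1]
    rwa [Clifford.classInner_comp_equiv (MulAut.conjNormal (H := N) g)
      (fun n : N => (η : M → ℂ) ⟨n, hNM n.2⟩) (θ : N → ℂ)]
  have hnice : ∀ η, OverN η → ∃ g : G, Nice (conjIrr M g η) := by
    intro η hη
    have hsT : IsPSolvable p (Tof η) := PLocal.isPSolvable_subgroup hsolv _
    obtain ⟨W, hW⟩ := exists_pCompl hsT
    obtain ⟨g, hg⟩ := exists_conj_le hsolv hH (K := W.map (Tof η).subtype)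
      (by rw [Subgroup.card_map_of_injective (Tof η).subtype_injective]; exact hW.1)
    refine ⟨g⁻¹, hOverConj η _ hη, isPCompl_of_map hH.1 hW (g := g) (fun w hw => ?_) fun x => ?_⟩
    · refine hg ?_
      rw [Core.conj_smul_eq_map]
      exact ⟨w, ⟨w, hw, rfl⟩, rfl⟩
    · simp only [Tof, Clifford.mem_inertia, conjIrr_eq_conjFn]
      rw [← Clifford.conjFn_mul]
      constructor
      · intro h
        have h' := congrArg (fun f => Clifford.conjFn hM f g) h
        simp only [← Clifford.conjFn_mul, inv_mul_cancel, Clifford.conjFn_one, mul_assoc] at h' ⊢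
        exact h'
      · intro h
        have h' := congrArg (fun f => Clifford.conjFn hM f g⁻¹) h
        simp only [← Clifford.conjFn_mul, mul_assoc, mul_inv_cancel, mul_one] at h'
        exact h'
  -- one nice representative in each orbit
  let orb : IrrCharacter M → Finset (IrrCharacter M) := fun η =>
    Finset.univ.image fun g : G => conjIrr M g η
  have := Fintype.ofFinite (IrrCharacter M)
  let pick : Finset (IrrCharacter M) → IrrCharacter M := fun S =>
    if h : ∃ ζ ∈ S, Nice ζ then h.choose else ⟨fun _ => 1, (Char.trivChar M).2⟩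
  have hpick : ∀ η, OverN η → Nice (pick (orb η)) ∧ ∃ g, pick (orb η) = conjIrr M g η := by
    intro η hη
    obtain ⟨g, hg⟩ := hnice η hη
    have h : ∃ ζ ∈ orb η, Nice ζ := ⟨_, Finset.mem_image.2 ⟨g, Finset.mem_univ _, rfl⟩, hg⟩
    obtain ⟨h1, h2⟩ := h.choose_spec
    simp only [pick, dif_pos h]
    obtain ⟨g', -, hg'⟩ := Finset.mem_image.1 h1
    exact ⟨h2, g', hg'.symm⟩
  let R := (Finset.univ.filter OverN).image fun η => pick (orb η)
  have hRnice : ∀ ζ ∈ R, Nice ζ := fun ζ hζ => by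
    obtain ⟨η, hη, rfl⟩ := Finset.mem_image.1 hζ
    exact (hpick η (Finset.mem_filter.1 hη).2).1
  have hRuniq : ∀ ζ ∈ R, ∀ ζ' ∈ R, (∃ g, ζ' = conjIrr M g ζ) → ζ = ζ' := by
    intro ζ hζ ζ' hζ' ⟨g, hg⟩
    obtain ⟨η, hη, rfl⟩ := Finset.mem_image.1 hζ
    obtain ⟨η', hη', rfl⟩ := Finset.mem_image.1 hζ'
    obtain ⟨-, a, ha⟩ := hpick η (Finset.mem_filter.1 hη).2
    obtain ⟨-, a', ha'⟩ := hpick η' (Finset.mem_filter.1 hη').2
    rw [ha, ha', ← Blocks.conjIrr_mul] at hg
    have horb : orb η = orb η' := by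
      have hη'eq : η' = conjIrr M (a * g * a'⁻¹) η := by
        rw [Blocks.conjIrr_mul, ← hg, ← Blocks.conjIrr_mul, mul_inv_cancel,
          conjIrr_of_mem M M.one_mem]
      ext x
      simp only [orb, Finset.mem_image, Finset.mem_univ, true_and, hη'eq, ← Blocks.conjIrr_mul]
      constructor
      · rintro ⟨c, rfl⟩
        exact ⟨(a * g * a'⁻¹)⁻¹ * c, by rw [mul_inv_cancel_left]⟩
      · rintro ⟨c, rfl⟩
        exact ⟨_, rfl⟩
    exact congrArg pick horb
  -- the inner conditions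
  have hcond : ∀ ζ ∈ R, Good (H.subgroupOf (Tof ζ)) (M.subgroupOf (Tof ζ))
      (pullEquiv (Subgroup.subgroupOfEquivOfLe (hTle ζ)) ζ) := by
    intro ζ hζ
    obtain ⟨hover, hcompl⟩ := hRnice ζ hζ
    have hidxM : ¬ p ∣ (N.subgroupOf M).index := hidx
    have hθ' : ∀ g : M, conjIrr (N.subgroupOf M) g (pullEquiv (Subgroup.subgroupOfEquivOfLe hNM) θ) =
        pullEquiv (Subgroup.subgroupOfEquivOfLe hNM) θ := (layer_hyps hNM hθ).2
    have hdθ : charDegree (pullEquiv (Subgroup.subgroupOfEquivOfLe hNM) θ : N.subgroupOf M → ℂ) =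
        charDegree (θ : N → ℂ) := charDegree_eq (χ := pullEquiv _ θ) (by
      rw [pullEquiv_apply, map_one, apply_one_eq_charDegree])
    have hoθ : detOrder (pullEquiv (Subgroup.subgroupOfEquivOfLe hNM) θ : N.subgroupOf M → ℂ) ∣
        detOrder (θ : N → ℂ) := by
      obtain ⟨j, σ, hσ, hσc⟩ := θ.2
      let σ' : Representation ℂ (N.subgroupOf M) (Fin j → ℂ) :=
        σ.comp (Subgroup.subgroupOfEquivOfLe hNM).toMonoidHom
      have h1 : σ'.character = (pullEquiv (Subgroup.subgroupOfEquivOfLe hNM) θ : N.subgroupOf M → ℂ) :=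
        funext fun x => congrFun hσc _
      rw [← h1, ← hσc]
      exact CanonExt.detOrder_dvd σ σ' _ rfl
    obtain ⟨hd1, hd2⟩ := not_dvd_of_over hidxM hθ' (hdθ.symm ▸ hθ.deg)
      (fun h => hθ.det (h.trans hoθ)) (η := ζ) (by rwa [over_layer_iff hNM])
    refine IH (Tof ζ) (PLocal.isPSolvable_subgroup hsolv _) _ _ _ ?_ hcompl ⟨fun t => ?_, ?_, ?_, ?_⟩
    · exact Nat.le_of_dvd (Nat.pos_of_ne_zero Subgroup.index_ne_zero_of_finite)
        (Subgroup.relIndex_dvd_index_of_normal M (Tof ζ))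
    · refine Subtype.ext (funext fun x => ?_)
      rw [Blocks.conjIrr_apply, pullEquiv_apply, pullEquiv_apply]
      exact congrFun (Clifford.mem_inertia.1 t.2) ⟨((x : Tof ζ) : G), x.2⟩
    · rw [charDegree_eq (χ := pullEquiv _ ζ) (n := charDegree (ζ : M → ℂ))]
      · exact hd1
      · rw [pullEquiv_apply, map_one, apply_one_eq_charDegree]
    · obtain ⟨j, σ, hσ, hσc⟩ := ζ.2
      let σ' : Representation ℂ (M.subgroupOf (Tof ζ)) (Fin j → ℂ) :=
        σ.comp (Subgroup.subgroupOfEquivOfLe (hTle ζ)).toMonoidHom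
      have h1 : σ'.character =
          (pullEquiv (Subgroup.subgroupOfEquivOfLe (hTle ζ)) ζ : M.subgroupOf (Tof ζ) → ℂ) :=
        funext fun x => congrFun hσc _
      refine fun h => hd2 (h.trans ?_)
      rw [← h1, ← hσc]
      exact CanonExt.detOrder_dvd σ σ' _ rfl
    · let s : (M.subgroupOf (Tof ζ)).subgroupOf (H.subgroupOf (Tof ζ)) ≃* M.subgroupOf H :=
        { toFun := fun y => ⟨⟨(((y : H.subgroupOf (Tof ζ)) : Tof ζ) : G),
            (y : H.subgroupOf (Tof ζ)).2⟩, y.2⟩
          invFun := fun z => ⟨⟨⟨((z : H) : G), hTle ζ z.2⟩, (z : H).2⟩, z.2⟩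
          left_inv := fun y => rfl
          right_inv := fun z => rfl
          map_mul' := fun a b => rfl }
      exact IsIrr.comp_surjective s.toMonoidHom s.surjective (restrict_irr hNM hsup hθ hover)
  choose L hLover hLdelta hLspan using hcond
  -- data inside `H`
  have hKM : (M.subgroupOf H).Normal := inferInstance
  let η0 : IrrCharacter M → (M.subgroupOf H → ℂ) := fun ζ => resInf M H (ζ : M → ℂ)
  have hJ : ∀ ζ, OverN ζ → ∀ h : H,
      h ∈ (Tof ζ).subgroupOf H ↔ Clifford.conjFn hKM (η0 ζ) h = η0 ζ := by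
    intro ζ hζ h
    have hconj : Clifford.conjFn hKM (η0 ζ) h = η0 (conjIrr M (h : G) ζ) := funext fun x => by
      simp only [η0, resInf, Clifford.conjFn_apply]
      rw [Blocks.conjIrr_apply]
      rfl
    rw [hconj, Subgroup.mem_subgroupOf, Clifford.mem_inertia, ← conjIrr_eq_conjFn]
    refine ⟨fun e => by simp only [η0]; rw [e], fun e => ?_⟩
    have h1 : conjIrr M (h : G) ζ = ζ := by
      refine eq_of_classInner_ne_zero hNM hsup hθ (hOverConj ζ _ hζ) hζ ?_
      rw [show resInf M H (conjIrr M (h : G) ζ : M → ℂ) = η0 ζ from e]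
      exact fun h0 => one_ne_zero ((classInner_irr_self ⟨_, restrict_irr hNM hsup hθ hζ⟩).symm.trans h0)
    rw [h1]
  have hJle : ∀ ζ, M.subgroupOf H ≤ (Tof ζ).subgroupOf H := fun ζ x hx => hTle ζ hx
  let ε : ∀ ζ : IrrCharacter M, (Tof ζ).subgroupOf H ≃* H.subgroupOf (Tof ζ) := fun ζ =>
    { toFun := fun x => ⟨⟨((x : H) : G), x.2⟩, (x : H).2⟩
      invFun := fun y => ⟨⟨((y : Tof ζ) : G), y.2⟩, (y : Tof ζ).2⟩
      left_inv := fun x => rfl
      right_inv := fun y => rfl
      map_mul' := fun a b => rfl }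
  -- what the inner pairs give
  have hinner : ∀ ζ (hζ : ζ ∈ R), ∀ q ∈ L ζ hζ,
      classInner (fun n : M => (q.1 : Tof ζ → ℂ) ⟨n, hTle ζ n.2⟩) (ζ : M → ℂ) ≠ 0 ∧
      classInner (fun k : M.subgroupOf H =>
        (pullEquiv (ε ζ) q.2 : (Tof ζ).subgroupOf H → ℂ) ⟨k, hJle ζ k.2⟩) (η0 ζ) ≠ 0 := by
    intro ζ hζ q hq
    obtain ⟨h1, h2⟩ := hLover ζ hζ q hq
    refine ⟨?_, ?_⟩
    · rw [← Clifford.classInner_comp_equiv (Subgroup.subgroupOfEquivOfLe (hTle ζ))]
      exact h1
    · let s : (M.subgroupOf (Tof ζ)).subgroupOf (H.subgroupOf (Tof ζ)) ≃* M.subgroupOf H :=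
        { toFun := fun y => ⟨⟨(((y : H.subgroupOf (Tof ζ)) : Tof ζ) : G),
            (y : H.subgroupOf (Tof ζ)).2⟩, y.2⟩
          invFun := fun z => ⟨⟨⟨((z : H) : G), hTle ζ z.2⟩, (z : H).2⟩, z.2⟩
          left_inv := fun y => rfl
          right_inv := fun z => rfl
          map_mul' := fun a b => rfl }
      rw [← Clifford.classInner_comp_equiv s]
      exact h2
  -- the pairs
  have hpairs : ∀ ζ (hζ : ζ ∈ R), ∀ q ∈ L ζ hζ, ∃ φ : IrrCharacter G, ∃ α : IrrCharacter H,
      (φ : G → ℂ) = indFun (Tof ζ) (q.1 : Tof ζ → ℂ) ∧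
      (α : H → ℂ) = indFun ((Tof ζ).subgroupOf H)
        (pullEquiv (ε ζ) q.2 : (Tof ζ).subgroupOf H → ℂ) := by
    intro ζ hζ q hq
    obtain ⟨h1, h2⟩ := hinner ζ hζ q hq
    have i1 := Clifford.isIrr_indFun_of_over hM ζ.2 (T := Tof ζ)
      (fun g => Clifford.mem_inertia) (hTle ζ) q.1.2 h1
    have i2 := Clifford.isIrr_indFun_of_over hKM (restrict_irr hNM hsup hθ (hRnice ζ hζ).1)
      (T := (Tof ζ).subgroupOf H) (hJ ζ (hRnice ζ hζ).1) (hJle ζ) (pullEquiv (ε ζ) q.2).2 h2
    exact ⟨⟨_, i1⟩, ⟨_, i2⟩, rfl, rfl⟩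
  have := Fintype.ofFinite (IrrCharacter G)
  have := Fintype.ofFinite (IrrCharacter H)
  refine ⟨Finset.univ.filter fun P : IrrCharacter G × IrrCharacter H =>
    ∃ ζ, ∃ hζ : ζ ∈ R, ∃ q ∈ L ζ hζ,
      (P.1 : G → ℂ) = indFun (Tof ζ) (q.1 : Tof ζ → ℂ) ∧
      (P.2 : H → ℂ) = indFun ((Tof ζ).subgroupOf H)
        (pullEquiv (ε ζ) q.2 : (Tof ζ).subgroupOf H → ℂ), ?_, ?_, ?_⟩
  · -- over
    intro P hP
    obtain ⟨ζ, hζ, q, hq, hP1, hP2⟩ := (Finset.mem_filter.1 hP).2
    obtain ⟨h1, h2⟩ := hinner ζ hζ q hq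
    refine ⟨?_, ?_⟩
    · have h3 : classInner (fun n : M => (P.1 : G → ℂ) n) (ζ : M → ℂ) ≠ 0 := by
        rw [hP1]
        exact (Clifford.classInner_restrict_indFun hM ζ.2 (fun g => Clifford.mem_inertia)
          (hTle ζ) q.1.2 h1).trans_ne h1
      exact classInner_comp_ne_zero (IsChar.restrict M (IsIrr.isCharacter P.1.2)) h3
        (Subgroup.inclusion hNM) θ (hRnice ζ hζ).1
    · have h3 : classInner (fun k : M.subgroupOf H => (P.2 : H → ℂ) k) (η0 ζ) ≠ 0 := by
        rw [hP2]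
        exact (Clifford.classInner_restrict_indFun hKM (restrict_irr hNM hsup hθ (hRnice ζ hζ).1)
          (hJ ζ (hRnice ζ hζ).1) (hJle ζ) (pullEquiv (ε ζ) q.2).2 h2).trans_ne h2
      let i : N.subgroupOf H →* M.subgroupOf H := Subgroup.inclusion fun x hx => hNM hx
      refine classInner_comp_ne_zero (IsChar.restrict _ (IsIrr.isCharacter P.2.2))
        (ν := ⟨_, restrict_irr hNM hsup hθ (hRnice ζ hζ).1⟩) h3 i ⟨_, hθ.irr⟩ ?_
      -- the restriction of `ζ` to `N ∩ H` contains that of `θ`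
      have hζN : (fun n : N => (ζ : M → ℂ) ⟨n, hNM n.2⟩) =
          classInner (fun n : N => (ζ : M → ℂ) ⟨n, hNM n.2⟩) (θ : N → ℂ) • (θ : N → ℂ) := by
        have h4 := FongInvariant.restrict_eq_smul (N.subgroupOf M) (layer_hyps hNM hθ).2
          (χ := ζ) (by rw [over_layer_iff hNM]; exact (hRnice ζ hζ).1)
        rw [over_layer_iff hNM] at h4
        funext n
        exact congrFun h4 ⟨⟨n, hNM n.2⟩, n.2⟩
      have h5 : (fun x : N.subgroupOf H => η0 ζ (i x)) =
          classInner (fun n : N => (ζ : M → ℂ) ⟨n, hNM n.2⟩) (θ : N → ℂ) •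
            resInf N H (θ : N → ℂ) :=
        funext fun x => congrFun hζN ⟨((x : H) : G), x.2⟩
      show classInner (fun x : N.subgroupOf H => η0 ζ (i x)) (resInf N H (θ : N → ℂ)) ≠ 0
      rw [h5, classInner_smul_left]
      exact mul_ne_zero (hRnice ζ hζ).1
        (fun h0 => one_ne_zero ((classInner_irr_self ⟨_, hθ.irr⟩).symm.trans h0))
  · -- orthogonality
    intro P hP P' hP'
    obtain ⟨ζ, hζ, q, hq, hP1, hP2⟩ := (Finset.mem_filter.1 hP).2
    obtain ⟨ζ', hζ', q', hq', hP1', hP2'⟩ := (Finset.mem_filter.1 hP').2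
    obtain ⟨h1, h2⟩ := hinner ζ hζ q hq
    obtain ⟨h1', h2'⟩ := hinner ζ' hζ' q' hq'
    have hfr : classInner (fun h : H => (P.1 : G → ℂ) h) (P'.2 : H → ℂ) =
        classInner (fun j : (Tof ζ').subgroupOf H => (P.1 : G → ℂ) ((j : H) : G))
          (pullEquiv (ε ζ') q'.2 : (Tof ζ').subgroupOf H → ℂ) := by
      rw [hP2', ← classInner_conj_symm, frobenius_reciprocity _ _
        (IsChar.isClassFunction (IsChar.restrict H (IsIrr.isCharacter P.1.2))),
        classInner_conj_symm]
    have hover1 : classInner (fun n : M => (P.1 : G → ℂ) n) (ζ : M → ℂ) ≠ 0 := by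
      rw [hP1]
      exact (Clifford.classInner_restrict_indFun hM ζ.2 (fun g => Clifford.mem_inertia)
        (hTle ζ) q.1.2 h1).trans_ne h1
    have hPθ : classInner (fun n : N => (P.1 : G → ℂ) n) (θ : N → ℂ) ≠ 0 :=
      classInner_comp_ne_zero (IsChar.restrict M (IsIrr.isCharacter P.1.2)) hover1
        (Subgroup.inclusion hNM) θ (hRnice ζ hζ).1
    by_cases hζζ : ζ = ζ'
    swap
    · rw [if_neg]
      swap
      · intro e
        refine hζζ (hRuniq ζ hζ ζ' hζ' ?_)
        have hover2 : classInner (fun n : M => (P'.1 : G → ℂ) n) (ζ' : M → ℂ) ≠ 0 := by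
          rw [hP1']
          exact (Clifford.classInner_restrict_indFun hM ζ'.2 (fun g => Clifford.mem_inertia)
            (hTle ζ') q'.1.2 h1').trans_ne h1'
        rw [← e] at hover2
        obtain ⟨g, hg⟩ := (RelGlauberman.constituent_iff hM P.1.2 ζ.2 hover1 ζ'.2).1 hover2
        exact ⟨g, Subtype.ext (hg.trans (conjIrr_eq_conjFn M g ζ).symm)⟩
      by_contra hne
      rw [hfr] at hne
      refine hζζ (hRuniq ζ hζ ζ' hζ' ?_)
      -- `φ` lies over `ζ'`
      let i : M.subgroupOf H →* (Tof ζ').subgroupOf H := Subgroup.inclusion (hJle ζ')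
      have hJchar : IsCharacter ((Tof ζ').subgroupOf H)
          fun j : (Tof ζ').subgroupOf H => (P.1 : G → ℂ) ((j : H) : G) :=
        IsChar.restrict _ (IsChar.restrict H (IsIrr.isCharacter P.1.2))
      have h3 := classInner_comp_ne_zero hJchar hne i
        ⟨_, restrict_irr hNM hsup hθ (hRnice ζ' hζ').1⟩ h2'
      let i' : M.subgroupOf H →* M :=
        { toFun := fun k => ⟨((k : H) : G), k.2⟩
          map_one' := rfl
          map_mul' := fun a b => rfl }
      obtain ⟨μ, hμ, hμ'⟩ := exists_constituent_between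
        (IsChar.restrict M (IsIrr.isCharacter P.1.2)) i' (η0 ζ') h3
      have hμθ : OverN μ := over_of_constituent hNM hθ.inv hPθ hμ
      obtain rfl := eq_of_classInner_ne_zero hNM hsup hθ hμθ (hRnice ζ' hζ').1 hμ'
      obtain ⟨g, hg⟩ := (RelGlauberman.constituent_iff hM P.1.2 ζ.2 hover1 μ.2).1 hμ
      exact ⟨g, Subtype.ext (hg.trans (conjIrr_eq_conjFn M g ζ).symm)⟩
    subst hζζ
    have hqq : P = P' ↔ q = q' := by
      constructor
      · intro e
        refine Prod.ext (Subtype.ext (Clifford.indFun_injective_of_over hM ζ.2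
          (fun g => Clifford.mem_inertia) (hTle ζ) q.1.2 q'.1.2 h1 h1' ?_)) ?_
        · rw [← hP1, ← hP1', e]
        · refine (pullEquiv (ε ζ)).injective (Subtype.ext (Clifford.indFun_injective_of_over hKM
            (restrict_irr hNM hsup hθ (hRnice ζ hζ).1) (hJ ζ (hRnice ζ hζ).1) (hJle ζ)
            (pullEquiv (ε ζ) q.2).2 (pullEquiv (ε ζ) q'.2).2 h2 h2' ?_))
          rw [← hP2, ← hP2', e]
      · rintro rfl
        exact Prod.ext (Subtype.ext (hP1.trans hP1'.symm)) (Subtype.ext (hP2.trans hP2'.symm))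
    rw [hfr, if_congr hqq rfl rfl, ← hLdelta ζ hζ q hq q' hq']
    -- the other constituents of `φ` on the inertia group do not reach `η0`
    have := Fintype.ofFinite (IrrCharacter (Tof ζ))
    have hrest : ∀ ω : IrrCharacter (Tof ζ), ω ≠ q.1 →
        classInner (fun t : Tof ζ => (P.1 : G → ℂ) t) (ω : Tof ζ → ℂ) *
          classInner (fun j : (Tof ζ).subgroupOf H => (ω : Tof ζ → ℂ) (ε ζ j : Tof ζ))
            (pullEquiv (ε ζ) q'.2 : (Tof ζ).subgroupOf H → ℂ) = 0 := by
      intro ω hω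
      by_contra hne
      obtain ⟨ha, hb⟩ := ne_zero_and_ne_zero_of_mul hne
      have hχ' : Cfsg.classInner (Cfsg.indFun (Tof ζ) (q.1 : Tof ζ → ℂ)) (P.1 : G → ℂ) ≠ 0 := by
        rw [← hP1, classInner_irr_self]
        exact one_ne_zero
      rcases (Clifford.indFun_eq_of_constituent hM ζ.2 (fun g => Clifford.mem_inertia) (hTle ζ)
        q.1.2 h1 P.1 hχ').2.2 ω (fun e => hω (Subtype.ext e)) with h0 | h0
      · exact ha h0
      let i : M.subgroupOf H →* (Tof ζ).subgroupOf H := Subgroup.inclusion (hJle ζ)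
      have h3 := classInner_comp_ne_zero
        (IsChar.comp ((H.subgroupOf (Tof ζ)).subtype.comp (ε ζ).toMonoidHom)
          (IsIrr.isCharacter ω.2)) hb i ⟨_, restrict_irr hNM hsup hθ (hRnice ζ hζ).1⟩ h2'
      let i' : M.subgroupOf H →* M :=
        { toFun := fun k => ⟨((k : H) : G), k.2⟩
          map_one' := rfl
          map_mul' := fun a b => rfl }
      obtain ⟨μ, hμ, hμ'⟩ := exists_constituent_between
        (Clifford.isCharacter_resTo (hTle ζ) (IsIrr.isCharacter ω.2)) i' (η0 ζ) h3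
      have hμP : classInner (fun m : M => (P.1 : G → ℂ) m) (μ : M → ℂ) ≠ 0 :=
        classInner_comp_ne_zero (IsChar.restrict (Tof ζ) (IsIrr.isCharacter P.1.2)) ha
          (Subgroup.inclusion (hTle ζ)) μ hμ
      obtain rfl := eq_of_classInner_ne_zero hNM hsup hθ (over_of_constituent hNM hθ.inv hPθ hμP)
        (hRnice ζ hζ).1 hμ'
      exact hμ h0
    have hone : classInner (fun t : Tof ζ => (P.1 : G → ℂ) t) (q.1 : Tof ζ → ℂ) = 1 := by
      rw [← classInner_conj_symm, ← frobenius_reciprocity _ _ (IsIrr.isClassFunction P.1.2), ← hP1,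
        classInner_irr_self, map_one]
    have hdec : (fun j : (Tof ζ).subgroupOf H => (P.1 : G → ℂ) ((j : H) : G)) =
        ∑ ω : IrrCharacter (Tof ζ), classInner (fun t : Tof ζ => (P.1 : G → ℂ) t) (ω : Tof ζ → ℂ) •
          fun j : (Tof ζ).subgroupOf H => (ω : Tof ζ → ℂ) (ε ζ j : Tof ζ) := funext fun j => by
      have h := congrFun (classFunction_eq_sum (IsChar.isClassFunction
        (IsChar.restrict (Tof ζ) (IsIrr.isCharacter P.1.2)))) (ε ζ j : Tof ζ)
      rw [Finset.sum_apply] at h ⊢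
      exact h
    rw [hdec, classInner_sum_left, Finset.sum_eq_single q.1 (fun ω _ hω => ?_)
      (fun h => absurd (Finset.mem_univ _) h), classInner_smul_left, hone, one_mul]
    · exact Clifford.classInner_comp_equiv (ε ζ)
        (fun w : H.subgroupOf (Tof ζ) => (q.1 : Tof ζ → ℂ) w) (q'.2 : H.subgroupOf (Tof ζ) → ℂ)
    · rw [classInner_smul_left]
      exact hrest ω hω
  · -- spanning
    intro F hF hFL ξ hξ
    have hθH : ∀ h : H, conjIrr (N.subgroupOf H) h ⟨_, hθ.irr⟩ = ⟨_, hθ.irr⟩ := fun h =>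
      Subtype.ext (funext fun x => by
        rw [Blocks.conjIrr_apply]
        show (θ : N → ℂ) _ = (θ : N → ℂ) _
        conv_rhs => rw [← hθ.inv (h : G), Blocks.conjIrr_apply]
        rfl)
    obtain ⟨μ, hμ⟩ := Blocks.exists_constituent (M.subgroupOf H) ξ
    have hμθ := over_of_constituent (G := H) (M := M.subgroupOf H)
      (fun x hx => hNM hx : N.subgroupOf H ≤ M.subgroupOf H) hθH (θ := ⟨_, hθ.irr⟩) hξ hμ
    obtain ⟨η', hη', hμeq⟩ := exists_eq_resInf hNM hsup hθ hμθ
    rw [hμeq] at hμ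
    obtain ⟨ν, hν, hν0, -, hind⟩ := Clifford.exists_over_inertia hKM
      (restrict_irr hNM hsup hθ hη') (T := (Tof η').subgroupOf H) (hJ η' hη') (hJle η') ξ hμ
    have hFH : IsClassFunction H fun h : H => F h := fun a b => by
      simpa using hF (a : G) (b : G)
    rw [← classInner_conj_symm, ← hind, frobenius_reciprocity _ _ hFH, classInner_conj_symm]
    -- move into the inertia group of the representative
    set ζ := pick (orb η') with hζdef
    have hζR : ζ ∈ R := Finset.mem_image.2 ⟨η', Finset.mem_filter.2 ⟨Finset.mem_univ _, hη'⟩, rfl⟩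
    obtain ⟨g, hg⟩ := (hpick η' hη').2
    rw [← hζdef] at hg
    have hmemT : ∀ y : G, y ∈ Tof η' → g⁻¹ * y * g ∈ Tof ζ := by
      intro y hy
      rw [Clifford.mem_inertia] at hy ⊢
      rw [hg, conjIrr_eq_conjFn, ← Clifford.conjFn_mul,
        show g * (g⁻¹ * y * g) = y * g by group, Clifford.conjFn_mul, hy]
    let c : (Tof η').subgroupOf H →* Tof ζ :=
      { toFun := fun j => ⟨g⁻¹ * ((j : H) : G) * g, hmemT _ j.2⟩
        map_one' := Subtype.ext (by simp)
        map_mul' := fun a b => Subtype.ext (by simp [mul_assoc]) }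
    obtain ⟨t, ht⟩ := exists_conj_le (PLocal.isPSolvable_subgroup hsolv (Tof ζ)) (hRnice ζ hζR).2
      (K := c.range) ((hH.1.coprime_dvd_left
        (Subgroup.card_subgroup_dvd_card _)).coprime_dvd_left (Subgroup.card_range_dvd c))
    let x : G := (t : G) * g⁻¹
    let ι : (Tof η').subgroupOf H →* H.subgroupOf (Tof ζ) :=
      { toFun := fun j => ⟨t * c j * t⁻¹, ht (by
          rw [Core.conj_smul_eq_map]
          exact ⟨c j, ⟨j, rfl⟩, rfl⟩)⟩
        map_one' := Subtype.ext (by simp)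
        map_mul' := fun a b => Subtype.ext (by simp [mul_assoc]) }
    have hι : ∀ j, (((ι j : H.subgroupOf (Tof ζ)) : Tof ζ) : G) = x * ((j : H) : G) * x⁻¹ := fun j => by
      show (t : G) * (g⁻¹ * ((j : H) : G) * g) * (t : G)⁻¹ = _
      simp only [x]
      group
    have hζval : ∀ (k : M) (hk : x * (k : G) * x⁻¹ ∈ M),
        (ζ : M → ℂ) ⟨x * (k : G) * x⁻¹, hk⟩ = (η' : M → ℂ) k := by
      intro k hk
      have hk' : g⁻¹ * (k : G) * g ∈ M := by simpa using hM.conj_mem _ k.2 g⁻¹
      have h1 : (ζ : M → ℂ) ⟨x * (k : G) * x⁻¹, hk⟩ = (ζ : M → ℂ) ⟨g⁻¹ * (k : G) * g, hk'⟩ := by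
        conv_rhs => rw [← Clifford.mem_inertia.1 t.2, Clifford.conjFn_apply]
        exact congrArg _ (Subtype.ext (by simp only [x]; group))
      rw [h1, hg, Blocks.conjIrr_apply]
      exact congrArg _ (Subtype.ext (by simp [mul_assoc]))
    have hrange : (fun j : (Tof η').subgroupOf H => F ((j : H) : G)) =
        fun j => F (((ι j : H.subgroupOf (Tof ζ)) : Tof ζ) : G) := funext fun j => by
      rw [hι]; exact (hF _ x).symm
    rw [hrange]
    have := Fintype.ofFinite (IrrCharacter (H.subgroupOf (Tof ζ)))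
    have hFW : IsClassFunction (H.subgroupOf (Tof ζ))
        fun w : H.subgroupOf (Tof ζ) => F ((w : Tof ζ) : G) := fun a b => by
      simpa using hF ((a : Tof ζ) : G) ((b : Tof ζ) : G)
    have hFT : IsClassFunction (Tof ζ) fun y : Tof ζ => F y := fun a b => by
      simpa using hF (a : G) (b : G)
    have hexp : (fun j => F (((ι j : H.subgroupOf (Tof ζ)) : Tof ζ) : G)) =
        ∑ ω : IrrCharacter (H.subgroupOf (Tof ζ)),
          classInner (fun w : H.subgroupOf (Tof ζ) => F ((w : Tof ζ) : G))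
              (ω : H.subgroupOf (Tof ζ) → ℂ) •
            fun j => (ω : H.subgroupOf (Tof ζ) → ℂ) (ι j) := funext fun j => by
      have h := congrFun (classFunction_eq_sum hFW) (ι j)
      rw [Finset.sum_apply] at h ⊢
      exact h
    rw [hexp, classInner_sum_left]
    refine Finset.sum_eq_zero fun ω _ => ?_
    rw [classInner_smul_left]
    by_contra hne
    obtain ⟨hc, hd⟩ := ne_zero_and_ne_zero_of_mul hne
    -- `ω` lies over the restriction of `ζ`
    let i : M.subgroupOf H →* (Tof η').subgroupOf H := Subgroup.inclusion (hJle η')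
    have hd' := classInner_comp_ne_zero (IsChar.comp ι (IsIrr.isCharacter ω.2))
      (ν := ⟨ν, hν⟩) hd i ⟨_, restrict_irr hNM hsup hθ hη'⟩ hν0
    let MW := (M.subgroupOf (Tof ζ)).subgroupOf (H.subgroupOf (Tof ζ))
    let κ : M.subgroupOf H →* MW :=
      { toFun := fun k => ⟨ι (i k), by
          show (((ι (i k) : H.subgroupOf (Tof ζ)) : Tof ζ) : G) ∈ M
          rw [hι]
          exact hM.conj_mem _ k.2 x⟩
        map_one' := Subtype.ext (by simp)
        map_mul' := fun a b => Subtype.ext (by simp) }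
    have hκinj : Function.Injective κ := fun a b hab => by
      have h := congrArg (fun z : MW => (((z : H.subgroupOf (Tof ζ)) : Tof ζ) : G)) hab
      change (((ι (i a) : H.subgroupOf (Tof ζ)) : Tof ζ) : G) =
        (((ι (i b) : H.subgroupOf (Tof ζ)) : Tof ζ) : G) at h
      rw [hι, hι] at h
      exact Subtype.ext (Subtype.ext (mul_left_cancel (mul_right_cancel h)))
    let s : MW ≃ M.subgroupOf H :=
      { toFun := fun y => ⟨⟨(((y : H.subgroupOf (Tof ζ)) : Tof ζ) : G),
          (y : H.subgroupOf (Tof ζ)).2⟩, y.2⟩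
        invFun := fun z => ⟨⟨⟨((z : H) : G), hTle ζ z.2⟩, (z : H).2⟩, z.2⟩
        left_inv := fun y => rfl
        right_inv := fun z => rfl }
    have hκ : Function.Bijective κ :=
      (Fintype.bijective_iff_injective_and_card κ).2 ⟨hκinj, (Fintype.card_congr s).symm⟩
    refine hc (hLspan ζ hζR (fun y => F y) hFT (fun q hq => ?_) ω ?_)
    · -- orthogonal to the pairs of `ζ`
      obtain ⟨φ, α, hφ, hα⟩ := hpairs ζ hζR q hq
      have h := hFL (φ, α) (Finset.mem_filter.2 ⟨Finset.mem_univ _, ζ, hζR, q, hq, hφ, hα⟩)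
      rw [hα, ← classInner_conj_symm, frobenius_reciprocity _ _ hFH, classInner_conj_symm] at h
      rw [← Clifford.classInner_comp_equiv (ε ζ)]
      exact h
    · show classInner (fun k : MW => (ω : H.subgroupOf (Tof ζ) → ℂ) k) _ ≠ 0
      rw [← Clifford.classInner_comp_equiv (MulEquiv.ofBijective κ hκ)]
      have heta : (fun k => resInf (M.subgroupOf (Tof ζ)) (H.subgroupOf (Tof ζ))
          (pullEquiv (Subgroup.subgroupOfEquivOfLe (hTle ζ)) ζ : M.subgroupOf (Tof ζ) → ℂ)
          (MulEquiv.ofBijective κ hκ k)) = η0 η' := funext fun k => by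
        show (ζ : M → ℂ) ⟨(((ι (i k) : H.subgroupOf (Tof ζ)) : Tof ζ) : G), _⟩ =
          (η' : M → ℂ) ⟨((k : H) : G), k.2⟩
        rw [← hζval ⟨((k : H) : G), k.2⟩ (hM.conj_mem _ k.2 x)]
        exact congrArg _ (Subtype.ext (hι (i k)))
      rw [heta]
      exact hd'

theorem good_aux {p : ℕ} [Fact p.Prime] (n : ℕ) : ∀ (G : Type u) [Group G] [Fintype G],
    IsPSolvable p G → ∀ (H N : Subgroup G) [N.Normal] (θ : IrrCharacter N), N.index = n →
      IsPCompl p H → Cond p H N θ → Good H N θ := by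
  induction n using Nat.strong_induction_on with
  | _ n ih =>
    intro G _ _ hsolv H N _ θ hn hH hθ
    rcases eq_or_ne N ⊤ with rfl | hne
    · -- the only pair is `θ` with its restriction
      let e : G ≃* (⊤ : Subgroup G) := Subgroup.topEquiv.symm
      let eH : H ≃* (⊤ : Subgroup G).subgroupOf H :=
        { toFun := fun h => ⟨h, Subgroup.mem_top _⟩
          invFun := fun k => k
          left_inv := fun h => rfl
          right_inv := fun k => rfl
          map_mul' := fun a b => rfl }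
      let φ : IrrCharacter G := pullEquiv e θ
      let α : IrrCharacter H :=
        ⟨_, IsIrr.comp_surjective eH.toMonoidHom eH.surjective hθ.irr⟩
      have hres : (fun k : (⊤ : Subgroup G).subgroupOf H => (α : H → ℂ) k) =
          resInf ⊤ H (θ : (⊤ : Subgroup G) → ℂ) := rfl
      refine ⟨{(φ, α)}, fun q hq => ?_, fun q hq q' hq' => ?_, fun F hF hFL ξ hξ => ?_⟩
      · rw [Finset.mem_singleton] at hq
        subst hq
        refine ⟨?_, ?_⟩
        · rw [show (fun n : (⊤ : Subgroup G) => (φ : G → ℂ) n) = (θ : (⊤ : Subgroup G) → ℂ) from rfl,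
            classInner_irr_self]
          exact one_ne_zero
        · show classInner _ _ ≠ 0
          rw [hres]
          exact fun h0 => one_ne_zero ((classInner_irr_self ⟨_, hθ.irr⟩).symm.trans h0)
      · rw [Finset.mem_singleton] at hq hq'
        subst hq hq'
        rw [if_pos rfl]
        exact classInner_irr_self α
      · have hξα : ξ = α := by
          by_contra hne
          refine hξ ?_
          show classInner (fun k : (⊤ : Subgroup G).subgroupOf H => (ξ : H → ℂ) k) _ = 0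
          rw [← hres, ← Clifford.classInner_comp_equiv eH]
          exact classInner_irr_of_ne hne
        rw [hξα]
        exact hFL _ (Finset.mem_singleton_self _)
    have : Nontrivial (G ⧸ N) := QuotientGroup.nontrivial_iff.2 hne
    obtain ⟨M', hM', hM'ne, hM'p⟩ := exists_normal_factor (PLocal.isPSolvable_quotient hsolv N)
    set M := M'.comap (QuotientGroup.mk' N)
    have : M.Normal := inferInstance
    have hNM : N ≤ M := QuotientGroup.le_comap_mk' N M'
    have hrel : N.relIndex M = Nat.card M' := by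
      have h := Subgroup.relIndex_comap (⊥ : Subgroup (G ⧸ N)) (QuotientGroup.mk' N) M
      rw [MonoidHom.comap_bot, QuotientGroup.ker_mk'] at h
      rw [h, Subgroup.map_comap_eq_self_of_surjective (QuotientGroup.mk'_surjective N),
        Subgroup.relIndex_bot_left]
    have hlt : M.index < n := by
      have h1 := Subgroup.relIndex_mul_index hNM
      rw [hn, hrel] at h1
      have h2 : 1 < Nat.card M' := by
        rcases Nat.lt_or_ge 1 (Nat.card M') with h | h
        · exact h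
        · exact absurd (Subgroup.card_eq_one.1
            (le_antisymm h (Nat.card_pos : 0 < Nat.card M'))) hM'ne
      calc M.index = 1 * M.index := (one_mul _).symm
        _ < Nat.card M' * M.index :=
            Nat.mul_lt_mul_of_pos_right h2 (Nat.pos_of_ne_zero Subgroup.index_ne_zero_of_finite)
        _ = n := h1
    rcases hM'p with hpg | hcop
    · obtain ⟨k, hk⟩ := IsPGroup.iff_card.1 hpg
      obtain ⟨η, hη, hext, hK⟩ := exists_cond_extension hNM (hrel.trans hk) hH.1 hθ
      obtain ⟨L, hL1, hL2, hL3⟩ := ih M.index hlt G hsolv H M η rfl hH hη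
      have hover : ∀ ξ : IrrCharacter H, OverH H M (η : M → ℂ) ξ ↔ OverH H N (θ : N → ℂ) ξ := by
        intro ξ
        show classInner _ _ ≠ 0 ↔ classInner _ _ ≠ 0
        rw [← Clifford.classInner_comp_equiv (MulEquiv.subgroupCongr hK)
          (fun k : N.subgroupOf H => (ξ : H → ℂ) k) (resInf N H (θ : N → ℂ))]
        have h1 : (fun a => resInf N H (θ : N → ℂ) (MulEquiv.subgroupCongr hK a)) =
            resInf M H (η : M → ℂ) := funext fun x =>
          (hext ⟨((x : H) : G), Subgroup.mem_subgroupOf.1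
            (hK ▸ x.2 : (x : H) ∈ N.subgroupOf H)⟩).symm
        rw [h1]
        rfl
      refine ⟨L, fun q hq => ⟨?_, (hover _).1 (hL1 q hq).2⟩, hL2, fun F hF hFL ξ hξ =>
        hL3 F hF hFL ξ ((hover ξ).2 hξ)⟩
      refine classInner_comp_ne_zero (IsChar.restrict M (IsIrr.isCharacter q.1.2)) (hL1 q hq).1
        (Subgroup.inclusion hNM) θ ?_
      show classInner (fun n : N => (η : M → ℂ) ⟨n, hNM n.2⟩) (θ : N → ℂ) ≠ 0
      rw [funext hext, classInner_irr_self]
      exact one_ne_zero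
    · refine good_of_pPrime_step hsolv hH hNM ?_ hθ fun T _ _ hT W X _ ζ hX hW hc => ?_
      · rw [hrel]
        exact (Nat.Prime.coprime_iff_not_dvd (Fact.out : p.Prime)).1 hcop.symm
      · exact ih X.index (lt_of_le_of_lt hX hlt) T hT W X ζ rfl hW hc

/-- Lifts and Fong characters. -/
theorem exists_fong_lifts {G : Type u} [Group G] [Fintype G] {p : ℕ} [Fact p.Prime]
    (hsolv : IsPSolvable p G) {H : Subgroup G} (hH : IsPCompl p H) :
    ∃ L : Finset (IrrCharacter G × IrrCharacter H),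
      (∀ q ∈ L, ∀ q' ∈ L, classInner (fun h : H => (q.1 : G → ℂ) h) (q'.2 : H → ℂ) =
        if q = q' then 1 else 0) ∧
      ∀ F : G → ℂ, IsClassFunction G F →
        (∀ q ∈ L, classInner (fun h : H => F h) (q.2 : H → ℂ) = 0) → ∀ h : H, F h = 0 := by
  have hp : p.Prime := Fact.out
  let θ : IrrCharacter (⊥ : Subgroup G) := Char.trivChar _
  have hirr : IsIrrCharacter ((⊥ : Subgroup G).subgroupOf H)
      (resInf ⊥ H (θ : (⊥ : Subgroup G) → ℂ)) := (Char.trivChar _).2
  have hdeg : charDegree (θ : (⊥ : Subgroup G) → ℂ) = 1 :=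
    charDegree_eq (χ := θ) (by simp [θ])
  have hdet : detOrder (θ : (⊥ : Subgroup G) → ℂ) = 1 := by
    obtain ⟨j, σ, hσ, hσc⟩ := θ.2
    rw [← hσc, CharExt.detOrder_eq, orderOf_eq_one_iff]
    refine MonoidHom.ext fun x => ?_
    rw [Subsingleton.elim x 1, map_one]
    rfl
  have hcond : Cond p H ⊥ θ := by
    refine ⟨fun g => Subtype.ext (funext fun n => ?_), by rw [hdeg]; exact hp.not_dvd_one,
      by rw [hdet]; exact hp.not_dvd_one, hirr⟩
    rw [Blocks.conjIrr_apply]
    simp [θ]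
  obtain ⟨L, -, hL2, hL3⟩ := good_aux _ G hsolv H ⊥ θ rfl hH hcond
  refine ⟨L, hL2, fun F hF hFL h => ?_⟩
  have hzero : (fun x : H => F x) = 0 := by
    refine eq_zero_of_classInner_eq_zero (fun a b => by simpa using hF (a : G) (b : G)) fun ξ => ?_
    refine hL3 F hF hFL ξ ?_
    show classInner (fun k : (⊥ : Subgroup G).subgroupOf H => (ξ : H → ℂ) k) _ ≠ 0
    have hsub : ∀ k : (⊥ : Subgroup G).subgroupOf H, (k : H) = 1 := fun k =>
      Subtype.ext (Subgroup.mem_bot.1 k.2)
    simp only [classInner, resInf, hsub, θ, Char.trivChar_apply, map_one, mul_one, Finset.sum_const,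
      nsmul_eq_mul, Finset.card_univ]
    exact mul_ne_zero (inv_ne_zero (Nat.cast_ne_zero.2 Nat.card_pos.ne'))
      (mul_ne_zero (Nat.cast_ne_zero.2 Fintype.card_ne_zero) (IsIrr.apply_one_ne_zero ξ.2))
  exact congrFun hzero h

end CfsgLib.FongChar
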