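import Cfsg.Agent.Lib.CharAction.Galois
import Cfsg.Agent.Lib.Char.Complete

/-!
# Arithmetic means of the Galois conjugates of a nonzero character value
-/

namespace CfsgLib.Char

open scoped ComplexConjugate
open Module

/-- The Galois conjugates of a nonzero character value have absolute values of product at least
one, so their arithmetic mean is at least one. -/
theorem exists_galois_conjugates_norm (G : Type*) [Group G] [Finite G] :
    ∃ (ι : Type) (_ : Fintype ι) (_ : Nonempty ι) (kk : ι → ℕ), (∀ i, (kk i).Coprime (Nat.card G)) ∧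
      ∀ (χ : G → ℂ) (g : G), Cfsg.IsCharacter G χ → χ g ≠ 0 →
        (Fintype.card ι : ℝ) ≤ ∑ i, ‖χ (g ^ kk i)‖ := by
  classical
  set N := Nat.card G with hN
  have hN0 : 0 < N := Nat.card_pos
  let ζ : ℂ := Complex.exp (2 * Real.pi * Complex.I / N)
  have hζ : IsPrimitiveRoot ζ N := Complex.isPrimitiveRoot_exp N hN0.ne'
  let K : IntermediateField ℚ ℂ := IntermediateField.adjoin ℚ {ζ}
  have hfin : FiniteDimensional ℚ K :=
    IntermediateField.adjoin.finiteDimensional (IsIntegral.of_pow hN0 (by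
      rw [hζ.pow_eq_one]; exact isIntegral_one))
  let z : K := ⟨ζ, IntermediateField.mem_adjoin_simple_self ℚ ζ⟩
  have hz : IsPrimitiveRoot z N :=
    IsPrimitiveRoot.of_map_of_injective (f := K.val) hζ K.val.injective
  haveI : NeZero N := ⟨hN0.ne'⟩
  have hk : ∀ σ : K →ₐ[ℚ] ℂ, ∃ k : ℕ, k.Coprime N ∧ σ z = ζ ^ k := fun σ => by
    have h : IsPrimitiveRoot (σ z) N := hz.map_of_injective σ.injective
    obtain ⟨i, hi, hi'⟩ := hζ.eq_pow_of_pow_eq_one h.pow_eq_one
    refine ⟨i, ?_, hi'.symm⟩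
    rw [← hi'] at h
    exact (hζ.pow_iff_coprime hN0 i).mp h
  choose kk hkc hke using hk
  have hne : Nonempty (Fin (Fintype.card (K →ₐ[ℚ] ℂ))) :=
    ⟨Fintype.equivFin _ { K.val.toRingHom with commutes' := fun r => by simp }⟩
  refine ⟨Fin (Fintype.card (K →ₐ[ℚ] ℂ)), inferInstance, hne,
    fun i => kk ((Fintype.equivFin _).symm i), fun i => hkc _, ?_⟩
  intro χ g hχ hg
  obtain ⟨m, ρ, rfl⟩ := hχ
  obtain ⟨ε, hε, -, hpow, -⟩ := exists_eigenvalues ρ g
  have hj : ∀ i, ∃ j : ℕ, ζ ^ j = ε i := fun i => by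
    obtain ⟨d, hd⟩ := orderOf_dvd_natCard g
    obtain ⟨j, -, hj⟩ := hζ.eq_pow_of_pow_eq_one (ξ := ε i)
      (by rw [hN, hd, pow_mul, hε i, one_pow])
    exact ⟨j, hj⟩
  choose j hj using hj
  let x : K := ∑ i, z ^ j i
  have hxv : ∀ k : ℕ, ρ.character (g ^ k) = ∑ i, (ζ ^ k) ^ j i := fun k => by
    rw [hpow]
    exact Finset.sum_congr rfl fun i _ => by rw [← hj i, ← pow_mul, ← pow_mul, Nat.mul_comm]
  have hσ : ∀ σ : K →ₐ[ℚ] ℂ, σ x = ρ.character (g ^ kk σ) := fun σ => by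
    rw [hxv]; simp [x, hke σ]
  have hx0 : x ≠ 0 := fun h => hg (by
    have h2 := congrArg K.val h
    have h1 := hxv 1
    simp only [pow_one] at h1
    rw [h1]
    simpa [x, z] using h2)
  have hxi : IsIntegral ℤ x := by
    refine IsIntegral.sum _ fun i _ => IsIntegral.pow (IsIntegral.of_pow hN0 ?_) _
    rw [hz.pow_eq_one]; exact isIntegral_one
  obtain ⟨c, hc⟩ := IsIntegrallyClosed.isIntegral_iff.mp (Algebra.isIntegral_norm ℚ hxi)
  have hprod := Algebra.norm_eq_prod_embeddings ℚ ℂ x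
  have hc0 : c ≠ 0 := fun h => by
    rw [h, map_zero, eq_comm, Algebra.norm_eq_zero_iff] at hc
    exact hx0 hc
  have h1 : 1 ≤ ∏ σ : K →ₐ[ℚ] ℂ, ‖ρ.character (g ^ kk σ)‖ := by
    rw [← norm_prod, ← Finset.prod_congr rfl (fun σ _ => hσ σ), ← hprod, ← hc]
    simp only [eq_intCast, map_intCast, Complex.norm_intCast]
    exact_mod_cast Int.one_le_abs hc0
  have h2 := CharAction.card_le_sum_of_one_le_prod (Finset.univ : Finset (K →ₐ[ℚ] ℂ))
    (fun σ => ‖ρ.character (g ^ kk σ)‖) (fun σ _ => ?_) h1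
  · rw [Finset.card_univ] at h2
    rw [Fintype.card_fin, (Fintype.equivFin (K →ₐ[ℚ] ℂ)).symm.sum_comp
      (fun σ => ‖ρ.character (g ^ kk σ)‖)]
    exact h2
  · have : ρ.character (g ^ kk σ) ≠ 0 := by
      rw [← hσ σ]; exact (map_ne_zero σ).mpr hx0
    positivity

/-- Over a set of nonzeros closed under coprime powers, the sum of the absolute values is at
least the number of elements. -/
theorem card_le_sum_norm {G : Type*} [Group G] [Finite G] {χ : G → ℂ} (hχ : Cfsg.IsCharacter G χ)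
    (A : Finset G) (hne : ∀ x ∈ A, χ x ≠ 0)
    (hcl : ∀ x ∈ A, ∀ k : ℕ, k.Coprime (Nat.card G) → x ^ k ∈ A) :
    (A.card : ℝ) ≤ ∑ x ∈ A, ‖χ x‖ := by
  classical
  obtain ⟨ι, hι, hne', kk, hkk, hgal⟩ := exists_galois_conjugates_norm G
  have hperm : ∀ i, ∑ x ∈ A, ‖χ (x ^ kk i)‖ = ∑ x ∈ A, ‖χ x‖ := by
    intro i
    have hbij : Function.Bijective fun x : G => x ^ kk i :=
      (powCoprime (G := G) (hkk i).symm).bijective
    have himg : A.image (fun x => x ^ kk i) = A := by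
      refine Finset.eq_of_subset_of_card_le (fun y hy => ?_)
        (Finset.card_image_of_injective A hbij.1).ge
      obtain ⟨x, hx, rfl⟩ := Finset.mem_image.mp hy
      exact hcl x hx _ (hkk i)
    conv_rhs => rw [← himg, Finset.sum_image fun a _ b _ h => hbij.1 h]
  have hW : (0 : ℝ) < (Fintype.card ι : ℝ) := Nat.cast_pos.mpr Fintype.card_pos
  refine le_of_mul_le_mul_left ?_ hW
  calc (Fintype.card ι : ℝ) * A.card = ∑ _x ∈ A, (Fintype.card ι : ℝ) := by
        rw [Finset.sum_const, nsmul_eq_mul, mul_comm]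
    _ ≤ ∑ x ∈ A, ∑ i, ‖χ (x ^ kk i)‖ := Finset.sum_le_sum fun x hx => hgal χ x hχ (hne x hx)
    _ = _ := by
        rw [Finset.sum_comm]
        simp [hperm]

end CfsgLib.Char
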