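import Cfsg.Agent.Lib.Char.Weights
import Mathlib.Analysis.InnerProductSpace.PiL2
import Mathlib.Analysis.SpecialFunctions.Trigonometric.Bounds

/-!
# Blichfeldt's argument: elements near the scalars generate an abelian normal subgroup
-/

namespace CfsgLib.Jordan

open CfsgLib.CharWeights
open scoped ComplexConjugate

variable {G : Type*} [Group G] [Fintype G] {n : ℕ} (ρ : Representation ℂ G (Fin n → ℂ))

/-- The embedding realising an invariant inner product. -/
noncomputable def emb : (Fin n → ℂ) →ₗ[ℂ] EuclideanSpace ℂ (G × Fin n) :=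
  (WithLp.linearEquiv 2 ℂ (G × Fin n → ℂ)).symm.toLinearMap ∘ₗ
    LinearMap.pi fun gi => (LinearMap.proj gi.2).comp (ρ gi.1)

theorem emb_apply (v : Fin n → ℂ) (gi : G × Fin n) : emb ρ v gi = ρ gi.1 v gi.2 := rfl

theorem norm_emb_apply (h : G) (v : Fin n → ℂ) : ‖emb ρ (ρ h v)‖ = ‖emb ρ v‖ := by
  rw [EuclideanSpace.norm_eq, EuclideanSpace.norm_eq]
  congr 1
  refine Fintype.sum_equiv ((Equiv.mulRight h).prodCongr (Equiv.refl _)) _ _ fun gi => ?_
  simp [emb_apply]

theorem inner_emb_apply (h : G) (u v : Fin n → ℂ) :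
    inner ℂ (emb ρ (ρ h u)) (emb ρ (ρ h v)) = inner ℂ (emb ρ u) (emb ρ v) := by
  simp only [PiLp.inner_apply]
  refine Fintype.sum_equiv ((Equiv.mulRight h).prodCongr (Equiv.refl _)) _ _ fun gi => ?_
  simp [emb_apply]

theorem emb_injective : Function.Injective (emb ρ) := fun u v h => funext fun i => by
  have := congrArg (fun w : EuclideanSpace ℂ (G × Fin n) => w (1, i)) h
  simpa [emb_apply] using this

/-- Eigenvectors for distinct eigenvalues of an element are orthogonal. -/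
theorem inner_eq_zero {x : G} {u v : Fin n → ℂ} {a b : ℂ} (hu : ρ x u = a • u) (hv : ρ x v = b • v)
    (hu0 : u ≠ 0) (hab : a ≠ b) : inner ℂ (emb ρ u) (emb ρ v) = 0 := by
  have ha : ‖a‖ = 1 := by
    have h := norm_emb_apply ρ x u
    rw [hu, map_smul, norm_smul] at h
    have h0 : ‖emb ρ u‖ ≠ 0 := norm_ne_zero_iff.2 fun e => hu0 (emb_injective ρ (e.trans (map_zero _).symm))
    exact mul_right_cancel₀ h0 (h.trans (one_mul _).symm)
  have h := inner_emb_apply ρ x u v
  rw [hu, hv, map_smul, map_smul, inner_smul_left, inner_smul_right, ← mul_assoc] at h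
  by_contra hne
  have h1 : conj a * b = 1 := mul_right_cancel₀ hne (h.trans (one_mul _).symm)
  refine hab ?_
  calc a = a * (conj a * b) := by rw [h1, mul_one]
    _ = (a * conj a) * b := by ring
    _ = b := by rw [Complex.mul_conj, Complex.normSq_eq_norm_sq, ha]; simp

/-- `x` is within `r` of the scalar `lam`. -/
def Within (x : G) (lam : ℂ) (r : ℝ) : Prop :=
  ∀ v, ‖emb ρ (ρ x v) - lam • emb ρ v‖ ≤ r * ‖emb ρ v‖

theorem within_commutator {x y : G} {lam mu : ℂ} {r s : ℝ} (hr : 0 ≤ r) (hs : 0 ≤ s)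
    (hx : Within ρ x lam r) (hy : Within ρ y mu s) :
    Within ρ (x * y * x⁻¹ * y⁻¹) 1 (2 * r * s) := by
  intro v
  set w := ρ (x⁻¹ * y⁻¹) v with hw
  have h1 : ρ (x * y * x⁻¹ * y⁻¹) v = ρ x (ρ y w) := by
    rw [hw, ← Module.End.mul_apply, ← map_mul, ← Module.End.mul_apply, ← map_mul]
    group
  have h2 : v = ρ y (ρ x w) := by
    rw [hw, ← Module.End.mul_apply, ← map_mul, ← Module.End.mul_apply, ← map_mul]
    simp [mul_assoc]
  set p := ρ y w - mu • w with hp
  set q := ρ x w - lam • w with hq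
  have hkey : emb ρ (ρ x (ρ y w)) - emb ρ (ρ y (ρ x w)) =
      (emb ρ (ρ x p) - lam • emb ρ p) - (emb ρ (ρ y q) - mu • emb ρ q) := by
    simp only [hp, hq, map_sub, map_smul, smul_sub, smul_smul, mul_comm lam mu]
    abel
  have hn : ‖emb ρ v‖ = ‖emb ρ w‖ := by rw [hw, norm_emb_apply]
  rw [one_smul, h1, show emb ρ v = emb ρ (ρ y (ρ x w)) from congrArg _ h2, hkey]
  rw [show emb ρ (ρ y (ρ x w)) = emb ρ v from congrArg _ h2.symm, hn]
  calc ‖(emb ρ (ρ x p) - lam • emb ρ p) - (emb ρ (ρ y q) - mu • emb ρ q)‖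
      ≤ ‖emb ρ (ρ x p) - lam • emb ρ p‖ + ‖emb ρ (ρ y q) - mu • emb ρ q‖ := norm_sub_le _ _
    _ ≤ r * ‖emb ρ p‖ + s * ‖emb ρ q‖ := add_le_add (hx p) (hy q)
    _ ≤ r * (s * ‖emb ρ w‖) + s * (r * ‖emb ρ w‖) := by
        gcongr
        · simpa [hp, map_sub, map_smul] using hy w
        · simpa [hq, map_sub, map_smul] using hx w
    _ = 2 * r * s * ‖emb ρ w‖ := by ring

variable (hρ : Function.Injective ρ)
include hρ

/-- If `x` commutes with its commutator with an element close to a scalar, they commute. -/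
theorem commute_of_commute_commutator {x w : G} {mu : ℂ} {r : ℝ} (hr : r < 1)
    (hw : Within ρ w mu r) (hc : Commute x (x * w * x⁻¹ * w⁻¹)) : Commute x w := by
  set z := w * x * w⁻¹ with hz
  have hxz : Commute x z := by
    have : z = (x * w * x⁻¹ * w⁻¹)⁻¹ * x := by rw [hz]; group
    rw [this]
    exact hc.inv_right.mul_right (Commute.refl x)
  set A := Subgroup.closure ({x, z} : Set G) with hA
  have := Subgroup.isMulCommutative_closure (k := ({x, z} : Set G)) (by
    rintro a (rfl | rfl) b (rfl | rfl)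
    · rfl
    · exact hxz.eq
    · exact hxz.eq.symm
    · rfl)
  have hab : ∀ a ∈ A, ∀ b ∈ A, a * b = b * a := fun a ha b hb =>
    congrArg Subtype.val (mul_comm' (⟨a, ha⟩ : A) ⟨b, hb⟩)
  by_contra hne
  have hne' : ρ z ≠ ρ x := fun e => hne (by
    show x * w = w * x
    calc x * w = z * w := by rw [hρ e]
      _ = w * x := by rw [hz, inv_mul_cancel_right])
  let ax : A := ⟨x, Subgroup.subset_closure (Or.inl rfl)⟩
  let az : A := ⟨z, Subgroup.subset_closure (Or.inr rfl)⟩
  refine hne' (LinearMap.ext fun v => ?_)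
  have hv : v ∈ ⨆ lam, wspace ρ A lam := by rw [iSup_wspace ρ A hab]; trivial
  refine Submodule.iSup_induction (motive := fun v => ρ z v = ρ x v) _ hv ?_ (by simp) ?_
  · intro lam u hu
    rw [mem_wspace] at hu
    have hux : ρ x u = lam ax • u := hu ax
    have huz : ρ z u = lam az • u := hu az
    rw [hux, huz]
    by_cases hu0 : u = 0
    · simp [hu0]
    congr 1
    by_contra hne2
    set u' := ρ w⁻¹ u with hu'
    have hu'x : ρ x u' = lam az • u' := by
      rw [hu', ← map_smul, ← huz, ← Module.End.mul_apply, ← map_mul, ← Module.End.mul_apply,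
        ← map_mul, hz]
      group
    have h0 := inner_eq_zero ρ hux hu'x hu0 (Ne.symm hne2)
    have h := hw u'
    have hback : ρ w u' = u := by
      rw [hu', ← Module.End.mul_apply, ← map_mul, mul_inv_cancel, map_one, Module.End.one_apply]
    rw [hback, show ‖emb ρ u'‖ = ‖emb ρ u‖ by rw [hu', norm_emb_apply]] at h
    have hpos : 0 < ‖emb ρ u‖ :=
      norm_pos_iff.2 fun e => hu0 (emb_injective ρ (e.trans (map_zero _).symm))
    have hsq : ‖emb ρ u - mu • emb ρ u'‖ * ‖emb ρ u - mu • emb ρ u'‖ =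
        ‖emb ρ u‖ * ‖emb ρ u‖ + ‖mu • emb ρ u'‖ * ‖mu • emb ρ u'‖ := by
      rw [sub_eq_add_neg, ← norm_neg (mu • emb ρ u')]
      exact norm_add_sq_eq_norm_sq_add_norm_sq_of_inner_eq_zero (𝕜 := ℂ) _ _
        (by rw [inner_neg_right, inner_smul_right, h0, mul_zero, neg_zero])
    have hr0 : r * ‖emb ρ u‖ < ‖emb ρ u‖ := mul_lt_of_lt_one_left hpos hr
    nlinarith [norm_nonneg (emb ρ u - mu • emb ρ u'), norm_nonneg (mu • emb ρ u')]
  · intro a b ha hb
    rw [map_add, map_add, ha, hb]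

/-- Two elements near the scalars commute. -/
theorem commute_of_within {x y : G} {lam mu : ℂ} {r s : ℝ} (hr : r < 1 / 2) (hs : s < 1 / 2)
    (hx : Within ρ x lam r) (hy : Within ρ y mu s) : Commute x y := by
  by_cases hn : n = 0
  · subst hn
    exact hρ (LinearMap.ext fun v => funext fun i => i.elim0)
  have : Nonempty (Fin n) := ⟨⟨0, Nat.pos_of_ne_zero hn⟩⟩
  obtain ⟨v₀, hv₀⟩ := exists_ne (0 : Fin n → ℂ)
  have hv₀' : 0 < ‖emb ρ v₀‖ :=
    norm_pos_iff.2 fun e => hv₀ (emb_injective ρ (e.trans (map_zero _).symm))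
  have hr0 : 0 ≤ r := nonneg_of_mul_nonneg_left ((norm_nonneg _).trans (hx v₀)) hv₀'
  have hs0 : 0 ≤ s := nonneg_of_mul_nonneg_left ((norm_nonneg _).trans (hy v₀)) hv₀'
  let c : ℕ → G := fun k => Nat.rec (x * y * x⁻¹ * y⁻¹) (fun _ d => x * d * x⁻¹ * d⁻¹) k
  have hc : ∀ k, Within ρ (c k) 1 (2 * r * s * (2 * r) ^ k) := by
    intro k
    induction k with
    | zero =>
      rw [pow_zero, mul_one]
      exact within_commutator ρ hr0 hs0 hx hy
    | succ k ih =>
      have h := within_commutator ρ hr0 (by positivity) hx ih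
      rwa [show 2 * r * (2 * r * s * (2 * r) ^ k) = 2 * r * s * (2 * r) ^ (k + 1) by ring] at h
  have hlt : ∀ k, 2 * r * s * (2 * r) ^ k < 1 := fun k => by
    have h1 : (2 * r) ^ k ≤ 1 := pow_le_one₀ (by positivity) (by linarith)
    have h2 : 2 * r * s ≤ s := by nlinarith
    nlinarith [mul_nonneg (mul_nonneg (by positivity : (0:ℝ) ≤ 2 * r) hs0) (sub_nonneg.2 h1)]
  -- the sequence reaches `1`
  have hone : ∃ k, c k = 1 := by
    by_contra hcon
    push Not at hcon
    obtain ⟨g, hg, hinf⟩ : ∃ g : G, g ≠ 1 ∧ (Set.Infinite {k | c k = g}) := by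
      obtain ⟨g, hg⟩ := Finite.exists_infinite_fiber c
      refine ⟨g, fun e => ?_, Set.infinite_coe_iff.1 hg⟩
      have : Infinite {k // c k = g} := hg
      obtain ⟨⟨k, hk⟩⟩ := (inferInstance : Nonempty {k // c k = g})
      exact hcon k (hk.trans e)
    obtain ⟨v, hv⟩ : ∃ v, ρ g v ≠ v := by
      by_contra hcon'
      push Not at hcon'
      exact hg (hρ ((LinearMap.ext hcon').trans (map_one ρ).symm))
    have hv0 : 0 < ‖emb ρ (ρ g v) - (1 : ℂ) • emb ρ v‖ := by
      rw [one_smul, norm_pos_iff, sub_ne_zero]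
      exact fun e => hv (emb_injective ρ e)
    have hlim : Filter.Tendsto (fun k : ℕ => 2 * r * s * (2 * r) ^ k * ‖emb ρ v‖) Filter.atTop
        (nhds 0) := by
      have := ((tendsto_pow_atTop_nhds_zero_of_lt_one (by positivity : (0:ℝ) ≤ 2 * r)
        (by linarith)).const_mul (2 * r * s)).mul_const ‖emb ρ v‖
      simpa using this
    obtain ⟨K, hK⟩ := Filter.eventually_atTop.1 (hlim.eventually (gt_mem_nhds hv0))
    obtain ⟨k, hk, hkK⟩ := hinf.exists_gt K
    have h := hc k v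
    rw [show c k = g from hk] at h
    exact absurd (h.trans_lt (hK k hkK.le)) (lt_irrefl _)
  obtain ⟨k, hk⟩ := hone
  have hdown : ∀ k, c k = 1 → c 0 = 1 := by
    intro k
    induction k with
    | zero => exact id
    | succ k ih =>
      intro hk
      refine ih ?_
      have hcomm : Commute x (c k) := by
        show x * c k = c k * x
        have h : x * c k * x⁻¹ * (c k)⁻¹ = 1 := hk
        exact (mul_inv_eq_iff_eq_mul.1 (mul_inv_eq_one.1 h))
      cases k with
      | zero =>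
        have h := commute_of_commute_commutator ρ hρ (by linarith) hy hcomm
        show x * y * x⁻¹ * y⁻¹ = 1
        rw [h.eq, mul_inv_cancel_right, mul_inv_cancel]
      | succ j =>
        have h := commute_of_commute_commutator ρ hρ (hlt j) (hc j) hcomm
        show x * c j * x⁻¹ * (c j)⁻¹ = 1
        rw [h.eq, mul_inv_cancel_right, mul_inv_cancel]
  have h : x * y * x⁻¹ * y⁻¹ = 1 := hdown k hk
  exact mul_inv_eq_iff_eq_mul.1 (mul_inv_eq_one.1 h)

omit hρ in
/-- The elements near the scalars. -/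
def nearSet : Set G := {x | ∃ (lam : ℂ) (r : ℝ), r < 1 / 2 ∧ Within ρ x lam r}

omit hρ in
theorem conj_mem_nearSet {x : G} (hx : x ∈ nearSet ρ) (g : G) : g * x * g⁻¹ ∈ nearSet ρ := by
  obtain ⟨lam, r, hr, h⟩ := hx
  refine ⟨lam, r, hr, fun v => ?_⟩
  have hv : v = ρ g (ρ g⁻¹ v) := by
    rw [← Module.End.mul_apply, ← map_mul, mul_inv_cancel, map_one, Module.End.one_apply]
  calc ‖emb ρ (ρ (g * x * g⁻¹) v) - lam • emb ρ v‖
      = ‖emb ρ (ρ g (ρ x (ρ g⁻¹ v) - lam • ρ g⁻¹ v))‖ := by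
        rw [map_sub, map_smul, ← hv, map_sub, map_smul]
        simp [Module.End.mul_apply, map_mul]
    _ = ‖emb ρ (ρ x (ρ g⁻¹ v)) - lam • emb ρ (ρ g⁻¹ v)‖ := by
        rw [norm_emb_apply, map_sub, map_smul]
    _ ≤ r * ‖emb ρ (ρ g⁻¹ v)‖ := h _
    _ = r * ‖emb ρ v‖ := by rw [norm_emb_apply]

omit hρ in
theorem normal_closure_nearSet : (Subgroup.closure (nearSet ρ)).Normal := by
  refine ⟨fun a ha g => ?_⟩
  have hle : Subgroup.closure (nearSet ρ) ≤
      (Subgroup.closure (nearSet ρ)).comap (MulAut.conj g).toMonoidHom :=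
    (Subgroup.closure_le _).2 fun x hx => Subgroup.subset_closure (conj_mem_nearSet ρ hx g)
  exact hle ha

theorem commutative_closure_nearSet :
    ∀ a ∈ Subgroup.closure (nearSet ρ), ∀ b ∈ Subgroup.closure (nearSet ρ), a * b = b * a := by
  have := Subgroup.isMulCommutative_closure (k := nearSet ρ) (by
    rintro a ⟨la, ra, hra, ha⟩ b ⟨lb, rb, hrb, hb⟩
    exact (commute_of_within ρ hρ hra hrb ha hb).eq)
  exact fun a ha b hb => congrArg Subtype.val
    (mul_comm' (⟨a, ha⟩ : Subgroup.closure (nearSet ρ)) ⟨b, hb⟩)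

omit hρ in
/-- The arc containing a complex number. -/
noncomputable def cell (z : ℂ) : ℤ := ⌈z.arg * 6 / Real.pi⌉

omit hρ in
theorem cell_mem (z : ℂ) : cell z ∈ Finset.Icc (-5 : ℤ) 6 := by
  have hπ := Real.pi_pos
  rw [Finset.mem_Icc, cell, Int.le_ceil_iff, Int.ceil_le]
  constructor
  · rw [lt_div_iff₀ hπ]
    push_cast
    nlinarith [Complex.neg_pi_lt_arg z]
  · rw [div_le_iff₀ hπ]
    push_cast
    nlinarith [Complex.arg_le_pi z]

omit hρ in
/-- Two unit numbers in one arc have their quotient near a fixed scalar. -/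
theorem norm_sub_lt {a b : ℂ} (ha : ‖a‖ = 1) (hb : ‖b‖ = 1) (h : cell a = cell b) :
    ‖conj a * b - (Real.cos (Real.pi / 6) : ℂ)‖ < 1 / 2 := by
  have hπ := Real.pi_pos
  set t := b.arg - a.arg with ht
  have hab : conj a * b = (Real.cos t : ℂ) + (Real.sin t : ℂ) * Complex.I := by
    conv_lhs => rw [← Complex.norm_mul_exp_arg_mul_I a, ← Complex.norm_mul_exp_arg_mul_I b, ha, hb]
    rw [Complex.ofReal_one, one_mul, one_mul, ← Complex.exp_conj, ← Complex.exp_add,
      Complex.ofReal_cos, Complex.ofReal_sin, ← Complex.exp_mul_I, ht]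
    congr 1
    simp
    ring
  have hlt : |t| < Real.pi / 6 := by
    have h1 : |a.arg * 6 / Real.pi - b.arg * 6 / Real.pi| < 1 := by
      have h2 := Int.ceil_lt_add_one (a.arg * 6 / Real.pi)
      have h3 := Int.le_ceil (a.arg * 6 / Real.pi)
      have h4 := Int.ceil_lt_add_one (b.arg * 6 / Real.pi)
      have h5 := Int.le_ceil (b.arg * 6 / Real.pi)
      have h' : (⌈a.arg * 6 / Real.pi⌉ : ℝ) = ⌈b.arg * 6 / Real.pi⌉ := by exact_mod_cast h
      rw [abs_lt]
      constructor <;> linarith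
    rw [show a.arg * 6 / Real.pi - b.arg * 6 / Real.pi = -t * 6 / Real.pi by rw [ht]; ring, abs_div,
      abs_mul, abs_neg, abs_of_pos hπ, div_lt_one hπ] at h1
    norm_num at h1
    linarith
  have hcos : Real.cos (Real.pi / 6) < Real.cos t := by
    rw [← Real.cos_abs t]
    exact Real.cos_lt_cos_of_nonneg_of_le_pi (abs_nonneg t) (by linarith) hlt
  have hc0 : 0 < Real.cos (Real.pi / 6) := Real.cos_pos_of_mem_Ioo ⟨by linarith, by linarith⟩
  have hsq : ‖conj a * b - (Real.cos (Real.pi / 6) : ℂ)‖ ^ 2 < (1 / 2) ^ 2 := by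
    rw [← Complex.normSq_eq_norm_sq, hab, Complex.normSq_apply]
    simp only [Complex.sub_re, Complex.add_re, Complex.mul_re, Complex.ofReal_re, Complex.ofReal_im,
      Complex.I_re, Complex.I_im, mul_zero, zero_mul, sub_zero, add_zero, Complex.sub_im,
      Complex.add_im, Complex.mul_im, mul_one, zero_add]
    have h6 : Real.sin (Real.pi / 6) = 1 / 2 := Real.sin_pi_div_six
    have h7 := Real.sin_sq_add_cos_sq (Real.pi / 6)
    have h8 := Real.sin_sq_add_cos_sq t
    rw [h6] at h7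
    nlinarith [mul_lt_mul_of_pos_left hcos hc0]
  exact lt_of_pow_lt_pow_left₀ 2 (by norm_num) hsq

omit hρ in
/-- An abelian subgroup meets the elements near the scalars in a subgroup of small index. -/
theorem index_le (H : Subgroup G) (hH : ∀ a ∈ H, ∀ b ∈ H, a * b = b * a) :
    ((Subgroup.closure (nearSet ρ)).subgroupOf H).index ≤ 12 ^ n := by
  classical
  have hind := iSupIndep_wspace ρ H hH
  set L := {lam : H → ℂ // wspace ρ H lam ≠ ⊥}
  have : Fintype L := hind.fintypeNeBotOfFiniteDimensional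
  have hL : Fintype.card L ≤ n := by
    simpa using hind.subtype_ne_bot_le_finrank
  have hunit : ∀ (lam : L) (h : H), ‖lam.1 h‖ = 1 := by
    intro lam h
    obtain ⟨u, hu, hu0⟩ := (Submodule.ne_bot_iff _).1 lam.2
    have h1 := norm_emb_apply ρ (h : G) u
    rw [(mem_wspace ρ H).1 hu h, map_smul, norm_smul] at h1
    exact mul_right_cancel₀ (norm_ne_zero_iff.2 fun e => hu0 (emb_injective ρ (e.trans (map_zero _).symm)))
      (h1.trans (one_mul _).symm)
  have hmul : ∀ (lam : L) (h k : H), lam.1 (h * k) = lam.1 h * lam.1 k := by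
    intro lam h k
    obtain ⟨u, hu, hu0⟩ := (Submodule.ne_bot_iff _).1 lam.2
    have h1 := (mem_wspace ρ H).1 hu
    have h2 := h1 (h * k)
    rw [Subgroup.coe_mul, map_mul, Module.End.mul_apply, h1 k, map_smul, h1 h, smul_smul] at h2
    exact ((smul_left_injective ℂ hu0 h2).trans rfl).symm.trans (mul_comm _ _)
  have hinv : ∀ (lam : L) (h : H), lam.1 h⁻¹ = conj (lam.1 h) := by
    intro lam h
    have h1 : lam.1 1 = 1 := by
      have h2 := hmul lam 1 1
      rw [one_mul] at h2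
      exact mul_right_cancel₀ (fun e => by have := hunit lam 1; rw [e, norm_zero] at this; norm_num at this)
        (h2.symm.trans (one_mul _).symm)
    have h3 := hmul lam h⁻¹ h
    rw [inv_mul_cancel, h1] at h3
    calc lam.1 h⁻¹ = lam.1 h⁻¹ * (lam.1 h * conj (lam.1 h)) := by
          rw [Complex.mul_conj, Complex.normSq_eq_norm_sq, hunit]; simp
      _ = conj (lam.1 h) := by rw [← mul_assoc, ← h3, one_mul]
  let code : H → L → Finset.Icc (-5 : ℤ) 6 := fun h lam => ⟨cell (lam.1 h), cell_mem _⟩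
  have hkey : ∀ h k : H, code h = code k → ((h⁻¹ * k : H) : G) ∈ Subgroup.closure (nearSet ρ) := by
    intro h k hhk
    refine Subgroup.subset_closure ?_
    let d : L → ℝ := fun lam => ‖lam.1 (h⁻¹ * k) - (Real.cos (Real.pi / 6) : ℂ)‖
    have hd : ∀ lam, d lam < 1 / 2 := fun lam => by
      show ‖lam.1 (h⁻¹ * k) - _‖ < _
      rw [hmul, hinv]
      exact norm_sub_lt (hunit lam h) (hunit lam k) (congrArg Subtype.val (congrFun hhk lam))
    obtain ⟨r, hr0, hr, hdr⟩ : ∃ r : ℝ, 0 ≤ r ∧ r < 1 / 2 ∧ ∀ lam, d lam ≤ r := by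
      by_cases hne : Nonempty L
      · obtain ⟨m, -, hm⟩ := Finset.exists_max_image Finset.univ d Finset.univ_nonempty
        exact ⟨d m, norm_nonneg _, hd m, fun lam => hm lam (Finset.mem_univ _)⟩
      · exact ⟨0, le_rfl, by norm_num, fun lam => absurd ⟨lam⟩ hne⟩
    refine ⟨(Real.cos (Real.pi / 6) : ℂ), r, hr, fun v => ?_⟩
    have hv : v ∈ ⨆ lam, wspace ρ H lam := by rw [iSup_wspace ρ H hH]; trivial
    obtain ⟨f, hf, rfl⟩ := (Submodule.mem_iSup_iff_exists_finsupp _ v).1 hv
    set c : ℂ := (Real.cos (Real.pi / 6) : ℂ)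
    set μ : (H → ℂ) → ℂ := fun lam => lam (h⁻¹ * k) - c
    have horth : Set.Pairwise (f.support : Set (H → ℂ)) fun a b =>
        inner ℂ (emb ρ (f a)) (emb ρ (f b)) = 0 := by
      intro a ha b _ hab
      obtain ⟨x, hx⟩ := Function.ne_iff.1 hab
      exact inner_eq_zero ρ ((mem_wspace ρ H).1 (hf a) x) ((mem_wspace ρ H).1 (hf b) x)
        (Finsupp.mem_support_iff.1 ha) hx
    have hpy : ∀ γ : (H → ℂ) → ℂ, ‖∑ a ∈ f.support, γ a • emb ρ (f a)‖ ^ 2 =
        ∑ a ∈ f.support, ‖γ a‖ ^ 2 * ‖emb ρ (f a)‖ ^ 2 := by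
      intro γ
      rw [← inner_self_eq_norm_sq (𝕜 := ℂ), sum_inner, map_sum]
      refine Finset.sum_congr rfl fun a ha => ?_
      rw [inner_sum, Finset.sum_eq_single_of_mem a ha fun b hb hba => by
        rw [inner_smul_left, inner_smul_right, horth ha hb (Ne.symm hba), mul_zero, mul_zero],
        inner_self_eq_norm_sq, norm_smul, mul_pow]
    have h1 : emb ρ (ρ ((h⁻¹ * k : H) : G) (f.sum fun _ x => x)) - c • emb ρ (f.sum fun _ x => x) =
        ∑ a ∈ f.support, μ a • emb ρ (f a) := by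
      rw [Finsupp.sum, map_sum, map_sum, map_sum, Finset.smul_sum, ← Finset.sum_sub_distrib]
      refine Finset.sum_congr rfl fun a _ => ?_
      rw [(mem_wspace ρ H).1 (hf a), map_smul, sub_smul]
    have h2 : emb ρ (f.sum fun _ x => x) = ∑ a ∈ f.support, (1 : ℂ) • emb ρ (f a) := by
      rw [Finsupp.sum, map_sum]
      simp
    rw [h1, h2]
    refine le_of_pow_le_pow_left₀ two_ne_zero (by positivity) ?_
    rw [mul_pow, hpy, hpy, Finset.mul_sum]
    refine Finset.sum_le_sum fun a ha => ?_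
    have hL' : wspace ρ H a ≠ ⊥ :=
      (Submodule.ne_bot_iff _).2 ⟨f a, hf a, Finsupp.mem_support_iff.1 ha⟩
    have h3 : ‖μ a‖ ≤ r := hdr ⟨a, hL'⟩
    rw [norm_one, one_pow, one_mul]
    exact mul_le_mul_of_nonneg_right (pow_le_pow_left₀ (norm_nonneg _) h3 2) (sq_nonneg _)
  let φ : H ⧸ (Subgroup.closure (nearSet ρ)).subgroupOf H → L → Finset.Icc (-5 : ℤ) 6 :=
    fun q => code q.out
  have hφ : Function.Injective φ := fun q q' e => by
    rw [← q.out_eq', ← q'.out_eq', QuotientGroup.eq, Subgroup.mem_subgroupOf]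
    exact hkey _ _ e
  rw [Subgroup.index_eq_card]
  refine (Nat.card_le_card_of_injective φ hφ).trans ?_
  rw [Nat.card_fun, Nat.card_eq_fintype_card, Nat.card_eq_fintype_card, Fintype.card_coe]
  exact Nat.pow_le_pow_right (by norm_num) hL

end CfsgLib.Jordan
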