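import Mathlib
import Cfsg.Agent.Lib.Char.Monomial
import Cfsg.Agent.Lib.Char.Induced
import Cfsg.Agent.Lib.CharDegree.Basic

/-!
# A nilpotent linear group of degree `n` of prime-power order has an abelian subgroup of index dividing `n!`
-/

set_option autoImplicit false
set_option linter.all false

namespace CfsgLib.MonomialBound

open Cfsg CfsgLib.Char CfsgLib.CharDegree

variable {P : Type*} [Group P] [Finite P]

theorem exists_commutators_in_kernel [Group.IsNilpotent P] (ψ : IrrCharacter P) :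
    ∃ A : Subgroup P, A.index ∣ (charDegree (ψ : P → ℂ)).factorial ∧
      ∀ a ∈ A, ∀ b ∈ A, (ψ : P → ℂ) (a * b * a⁻¹ * b⁻¹) = (ψ : P → ℂ) 1 := by
  classical
  haveI := Fintype.ofFinite P
  obtain ⟨H, lam, he⟩ := CfsgLib.Clifford.isMonomial_of_isNilpotent (ψ : P → ℂ) ψ.2
  haveI := Fintype.ofFinite H
  have hd : charDegree (ψ : P → ℂ) = H.index :=
    charDegree_eq_of_apply_one (by rw [he, indFun_apply_one, map_one, Units.val_one, mul_one])
  refine ⟨H.normalCore, ?_, fun a ha b hb => ?_⟩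
  · rw [hd, Subgroup.normalCore_eq_ker, Subgroup.index_ker]
    refine (Subgroup.card_subgroup_dvd_card _).trans ?_
    rw [Nat.card_perm, ← Subgroup.index_eq_card]
  · rw [he]
    show indFun H _ _ = indFun H _ _
    unfold indFun
    congr 1
    refine Finset.sum_congr rfl fun x _ => ?_
    have hx : ∀ c ∈ H.normalCore, x⁻¹ * c * x ∈ H := fun c hc => by
      have := hc x⁻¹
      simpa using this
    have e : x⁻¹ * (a * b * a⁻¹ * b⁻¹) * x =
        ((⟨_, hx a ha⟩ * ⟨_, hx b hb⟩ * ⟨_, hx a ha⟩⁻¹ * ⟨_, hx b hb⟩⁻¹ : H) : P) := by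
      push_cast
      group
    rw [mul_one, inv_mul_cancel, e, extendByZero_coe H, show (1 : P) = ((1 : H) : P) from rfl, extendByZero_coe H,
      map_mul, map_mul, map_mul, map_inv, map_inv, map_one, mul_comm (lam _) (lam _), mul_inv_cancel_right,
      mul_inv_cancel]

theorem exists_abelian {p : ℕ} [hp : Fact p.Prime] (hP : IsPGroup p P) {χ : P → ℂ} (hχ : IsCharacter P χ)
    (hf : ∀ g, χ g = χ 1 → g = 1) {n : ℕ} (hn : χ 1 = n) :
    ∃ A : Subgroup P, (∀ a ∈ A, ∀ b ∈ A, a * b = b * a) ∧ A.index ∣ n.factorial := by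
  classical
  haveI := Fintype.ofFinite P
  haveI := hP.isNilpotent
  haveI := Fintype.ofFinite (IrrCharacter P)
  obtain ⟨m, hm⟩ := IsChar.exists_sum hχ
  have h1 := congrFun hm 1
  rw [hn] at h1
  simp only [Finset.sum_apply, Pi.smul_apply, smul_eq_mul, ← cast_irrDegree] at h1
  have h2 : n = ∑ ψ : IrrCharacter P, m ψ * charDegree (ψ : P → ℂ) := by exact_mod_cast h1
  choose A hA hAc using fun ψ : IrrCharacter P => exists_commutators_in_kernel ψ
  let s := Finset.univ.filter fun ψ : IrrCharacter P => m ψ ≠ 0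
  refine ⟨s.inf A, fun a ha b hb => ?_, ?_⟩
  · suffices h : a * b * a⁻¹ * b⁻¹ = 1 by rwa [mul_inv_eq_one, mul_inv_eq_iff_eq_mul] at h
    refine hf _ ?_
    rw [hm]
    simp only [Finset.sum_apply, Pi.smul_apply, smul_eq_mul]
    refine Finset.sum_congr rfl fun ψ _ => ?_
    by_cases h0 : m ψ = 0
    · simp [h0]
    · have hψ : ψ ∈ s := by simp [s, h0]
      rw [hAc ψ a ((Finset.inf_le hψ : s.inf A ≤ A ψ) ha) b ((Finset.inf_le hψ : s.inf A ≤ A ψ) hb)]
  · have key : ∀ t : Finset (IrrCharacter P), (t.inf A).index ≤ ∏ ψ ∈ t, (A ψ).index := by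
      intro t
      induction t using Finset.induction_on with
      | empty => simp
      | @insert ψ t hψ ih =>
        rw [Finset.inf_insert, Finset.prod_insert hψ]
        exact (Subgroup.index_inf_le).trans (Nat.mul_le_mul_left _ ih)
    have hdvd : ∏ ψ ∈ s, (A ψ).index ∣ n.factorial := by
      refine (Finset.prod_dvd_prod_of_dvd _ _ fun ψ _ => hA ψ).trans
        ((Nat.prod_factorial_dvd_factorial_sum s _).trans (Nat.factorial_dvd_factorial ?_))
      rw [h2]
      refine (Finset.sum_le_sum fun ψ hψ => ?_).trans (Finset.sum_le_univ_sum_of_nonneg fun _ => Nat.zero_le _)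
      exact Nat.le_mul_of_pos_left _ (Nat.pos_of_ne_zero (Finset.mem_filter.1 hψ).2)
    obtain ⟨k, hk⟩ := hP.index (s.inf A)
    have hprod : ∀ t : Finset (IrrCharacter P), ∃ j, ∏ ψ ∈ t, (A ψ).index = p ^ j := by
      intro t
      induction t using Finset.induction_on with
      | empty => exact ⟨0, by simp⟩
      | @insert ψ t hψ ih =>
        obtain ⟨j, hj⟩ := ih
        obtain ⟨i, hi⟩ := hP.index (A ψ)
        exact ⟨i + j, by rw [Finset.prod_insert hψ, hi, hj, pow_add]⟩
    obtain ⟨j, hj⟩ := hprod s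
    have hle := key s
    rw [hk, hj] at hle
    rw [hk]
    exact ((pow_dvd_pow p ((Nat.pow_le_pow_iff_right hp.out.one_lt).1 hle)).trans hj.symm.dvd).trans hdvd

end CfsgLib.MonomialBound
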