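import Cfsg.Agent.Lib.Char.Monomial
import Cfsg.Agent.Lib.Char.CliffordCorr
import Cfsg.Agent.Lib.Char.Gallagher
import Cfsg.Agent.Lib.Char.Brauer
import Mathlib.GroupTheory.RegularWreathProduct

/-!
# A wreath product of a monomial group with a group of prime order is monomial

`CfsgLib.MonomialWreath.isMonomial_wreath`: if `H` is an M-group and `Q` has prime order, then
`H ≀ᵣ Q` is an M-group.  Irreducible characters of the base group are products; a product that is
not invariant induces irreducibly, an invariant one has all factors equal and extends by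
induction from `U ≀ᵣ Q`, so Gallagher's theorem finishes.
-/

set_option autoImplicit false

open scoped ComplexConjugate

namespace CfsgLib.MonomialWreath

open CfsgLib.Char CfsgLib.Clifford

universe u v

/-- Every irreducible character is induced from a linear character of some subgroup. -/
def IsMonomial (G : Type u) [Group G] [Fintype G] : Prop :=
  ∀ χ : G → ℂ, Cfsg.IsIrrCharacter G χ →
    ∃ (K : Subgroup G) (lam : K →* ℂˣ), χ = Cfsg.indFun K fun x => (lam x : ℂ)

variable {H : Type u} [Group H] {Q : Type v}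

section Pi

variable [Fintype Q]

/-- The product of functions along the coordinates. -/
def piFn (ψ : Q → H → ℂ) : (Q → H) → ℂ := fun f => ∏ i, ψ i (f i)

theorem piFn_apply (ψ : Q → H → ℂ) (f : Q → H) : piFn ψ f = ∏ i, ψ i (f i) := rfl

theorem isCharacter_piFn {ψ : Q → H → ℂ} (h : ∀ i, Cfsg.IsCharacter H (ψ i)) :
    Cfsg.IsCharacter (Q → H) (piFn ψ) := by
  classical
  suffices ∀ s : Finset Q, Cfsg.IsCharacter (Q → H) (fun f => ∏ i ∈ s, ψ i (f i)) from this _
  intro s
  induction s using Finset.induction with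
  | empty => simpa using isCharacter_one (G := Q → H)
  | insert a s ha ih =>
    have e : (fun f : Q → H => ∏ i ∈ insert a s, ψ i (f i)) =
        (fun f : Q → H => ψ a (f a)) * fun f => ∏ i ∈ s, ψ i (f i) :=
      funext fun f => Finset.prod_insert ha
    rw [e]
    exact IsChar.mul (IsChar.comp (Pi.evalMonoidHom (fun _ : Q => H) a) (h a)) ih

theorem classInner_piFn [Fintype H] [DecidableEq Q] (ψ φ : Q → H → ℂ) :
    Cfsg.classInner (piFn ψ) (piFn φ) = ∏ i, Cfsg.classInner (ψ i) (φ i) := by
  have h : ∀ f : Q → H, piFn ψ f * conj (piFn φ f) = ∏ i, ψ i (f i) * conj (φ i (f i)) :=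
    fun f => by rw [piFn_apply, piFn_apply, map_prod, Finset.prod_mul_distrib]
  simp only [Cfsg.classInner, h]
  rw [Finset.prod_mul_distrib, Finset.prod_const, Finset.card_univ, Fintype.prod_sum,
    Nat.card_fun, Nat.card_eq_fintype_card (α := Q), Nat.cast_pow, inv_pow]

theorem isIrr_piFn [Fintype H] [DecidableEq Q] (ψ : Q → Cfsg.IrrCharacter H) :
    Cfsg.IsIrrCharacter (Q → H) (piFn fun i => (ψ i : H → ℂ)) := by
  refine IsChar.isIrr_of_classInner_eq_one (isCharacter_piFn fun i => IsIrr.isCharacter (ψ i).2) ?_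
  rw [classInner_piFn]
  exact Finset.prod_eq_one fun i _ => classInner_irr_self (ψ i)

/-- The irreducible characters of a finite power are the products. -/
theorem exists_eq_piFn [Fintype H] [DecidableEq Q] (χ : Cfsg.IrrCharacter (Q → H)) :
    ∃ ψ : Q → Cfsg.IrrCharacter H, (χ : (Q → H) → ℂ) = piFn fun i => (ψ i : H → ℂ) := by
  classical
  have := Fintype.ofFinite (Cfsg.IrrCharacter H)
  have := Fintype.ofFinite (Cfsg.IrrCharacter (Q → H))
  set F : (Q → Cfsg.IrrCharacter H) → Cfsg.IrrCharacter (Q → H) :=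
    fun ψ => ⟨_, isIrr_piFn ψ⟩ with hF
  have hinj : Function.Injective F := by
    intro ψ φ he
    funext i
    by_contra hne
    have h1 := classInner_irr_self (F ψ)
    conv at h1 => lhs; arg 2; rw [he]
    change Cfsg.classInner (piFn fun i => (ψ i : H → ℂ)) (piFn fun i => (φ i : H → ℂ)) = 1 at h1
    rw [classInner_piFn, Finset.prod_eq_zero (Finset.mem_univ i) (classInner_irr_of_ne hne)] at h1
    exact zero_ne_one h1
  by_contra hno
  choose d hd0 hd using fun χ : Cfsg.IrrCharacter (Q → H) => IsIrr.exists_degree χ.2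
  choose e he0 he using fun χ : Cfsg.IrrCharacter H => IsIrr.exists_degree χ.2
  have hG : ∑ χ, d χ ^ 2 = Nat.card (Q → H) := by
    have := sum_sq_degree (G := Q → H)
    simp only [hd] at this
    exact_mod_cast this
  have hH : ∑ χ, e χ ^ 2 = Nat.card H := by
    have := sum_sq_degree (G := H)
    simp only [he] at this
    exact_mod_cast this
  have hdF : ∀ ψ, d (F ψ) = ∏ i, e (ψ i) := by
    intro ψ
    have h := hd (F ψ)
    change piFn (fun i => (ψ i : H → ℂ)) 1 = _ at h
    simp only [piFn_apply, Pi.one_apply, he] at h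
    exact_mod_cast h.symm
  have hsum : ∑ ψ, d (F ψ) ^ 2 = Nat.card (Q → H) := by
    simp only [hdF, ← Finset.prod_pow]
    rw [← Fintype.prod_sum fun (_ : Q) χ => e χ ^ 2, hH, Finset.prod_const, Finset.card_univ,
      Nat.card_fun, Nat.card_eq_fintype_card (α := Q)]
  have hlt : ∑ χ ∈ Finset.univ.image F, d χ ^ 2 < ∑ χ, d χ ^ 2 := by
    refine Finset.sum_lt_sum_of_subset (Finset.subset_univ _) (i := χ) (Finset.mem_univ _) ?_
      (pow_pos (hd0 χ) 2) fun _ _ _ => Nat.zero_le _
    rw [Finset.mem_image]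
    rintro ⟨ψ, -, h⟩
    exact hno ⟨ψ, congrArg Subtype.val h.symm⟩
  rw [Finset.sum_image (fun a _ b _ h => hinj h), hsum, hG] at hlt
  exact lt_irrefl _ hlt

end Pi

variable [Group Q]

/-- The base group of the wreath product. -/
abbrev base : Subgroup (H ≀ᵣ Q) := (RegularWreathProduct.rightHom).ker

theorem right_eq_one (b : (base : Subgroup (H ≀ᵣ Q))) : (b : H ≀ᵣ Q).right = 1 :=
  MonoidHom.mem_ker.1 b.2

/-- The base group is the full power. -/
def baseEquiv : (base : Subgroup (H ≀ᵣ Q)) ≃* (Q → H) where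
  toFun b := (b : H ≀ᵣ Q).left
  invFun f := ⟨⟨f, 1⟩, rfl⟩
  left_inv b := Subtype.ext (RegularWreathProduct.ext rfl (right_eq_one b).symm)
  right_inv _ := rfl
  map_mul' a b := by
    funext i
    simp [right_eq_one a]

theorem baseEquiv_apply (b : (base : Subgroup (H ≀ᵣ Q))) :
    baseEquiv b = (b : H ≀ᵣ Q).left := rfl

variable [Fintype Q]

/-- A product of monomial characters is monomial on the base group. -/
theorem exists_monomial_piFn [Fintype H] [DecidableEq Q] [Fintype (base : Subgroup (H ≀ᵣ Q))]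
    {ψ : Q → H → ℂ} (U : Q → Subgroup H) (lam : ∀ i, U i →* ℂˣ)
    (h : ∀ i, ψ i = Cfsg.indFun (U i) fun x => (lam i x : ℂ)) :
    ∃ (K : Subgroup (base : Subgroup (H ≀ᵣ Q))) (l : K →* ℂˣ),
      (fun b => piFn ψ (baseEquiv b)) = Cfsg.indFun K fun x => (l x : ℂ) := by
  classical
  set K : Subgroup (base : Subgroup (H ≀ᵣ Q)) :=
    (Subgroup.pi Set.univ U).comap baseEquiv.toMonoidHom with hK
  have hmem : ∀ y, y ∈ K ↔ ∀ i, baseEquiv y i ∈ U i := fun y => by
    simp [hK, Subgroup.mem_pi]
  let l : K →* ℂˣ := MonoidHom.mk' (fun y => ∏ i, lam i ⟨baseEquiv y.1 i, (hmem _).1 y.2 i⟩)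
    fun a b => by
      rw [← Finset.prod_mul_distrib]
      refine Finset.prod_congr rfl fun i _ => ?_
      rw [← map_mul]
      exact congrArg _ (Subtype.ext (congrFun (map_mul baseEquiv a.1 b.1) i))
  have hcard : Nat.card K = ∏ i, Nat.card (U i) := by
    rw [← Nat.card_pi]
    exact Nat.card_congr
      { toFun := fun y i => ⟨baseEquiv y.1 i, (hmem _).1 y.2 i⟩
        invFun := fun f => ⟨baseEquiv.symm fun i => (f i).1,
          (hmem _).2 fun i => by rw [MulEquiv.apply_symm_apply]; exact (f i).2⟩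
        left_inv := fun y => Subtype.ext (baseEquiv.symm_apply_apply y.1)
        right_inv := fun f => funext fun i => Subtype.ext
          (congrFun (baseEquiv.apply_symm_apply fun i => (f i).1) i) }
  have hext : ∀ y, Cfsg.extendByZero K (fun x => (l x : ℂ)) y =
      ∏ i, Cfsg.extendByZero (U i) (fun x => (lam i x : ℂ)) (baseEquiv y i) := by
    intro y
    by_cases hy : y ∈ K
    · rw [extendByZero_of_mem _ _ hy]
      simp only [l, MonoidHom.mk'_apply, Units.coe_prod]
      exact Finset.prod_congr rfl fun i _ => (extendByZero_of_mem (U i) (fun x => (lam i x : ℂ)) ((hmem y).1 hy i)).symm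
    · obtain ⟨i, hi⟩ : ∃ i, baseEquiv y i ∉ U i := by
        by_contra hall
        push Not at hall
        exact hy ((hmem y).2 hall)
      rw [extendByZero_of_notMem _ _ hy]
      exact (Finset.prod_eq_zero (Finset.mem_univ i) (by exact extendByZero_of_notMem _ _ hi)).symm
  refine ⟨K, l, funext fun b => ?_⟩
  simp only [piFn_apply, h, Cfsg.indFun, hcard, Nat.cast_prod, Finset.prod_mul_distrib,
    ← Finset.prod_inv_distrib, Fintype.prod_sum]
  congr 1
  refine Fintype.sum_equiv baseEquiv.symm.toEquiv _ _ fun f => ?_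
  rw [hext]
  refine Finset.prod_congr rfl fun i _ => ?_
  simp

section Equal

variable [Fintype H]

/-- The subgroup `U ≀ᵣ Q`. -/
def topSub (U : Subgroup H) : Subgroup (H ≀ᵣ Q) where
  carrier := {w | ∀ i, w.left i ∈ U}
  one_mem' i := by simp
  mul_mem' {a b} ha hb i := by simpa using U.mul_mem (ha i) (hb _)
  inv_mem' {a} ha i := by simpa using U.inv_mem (ha _)

theorem mem_topSub {U : Subgroup H} {w : H ≀ᵣ Q} : w ∈ topSub U ↔ ∀ i, w.left i ∈ U := Iff.rfl

/-- The product of `lam` along the coordinates. -/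
def topLam {U : Subgroup H} (lam : U →* ℂˣ) : topSub (Q := Q) U →* ℂˣ :=
  MonoidHom.mk' (fun w => ∏ i, lam ⟨w.1.left i, w.2 i⟩) fun a b => by
    rw [← Fintype.prod_equiv (Equiv.mulLeft a.1.right⁻¹)
      (fun i => lam ⟨b.1.left (a.1.right⁻¹ * i), b.2 _⟩) (fun i => lam ⟨b.1.left i, b.2 i⟩)
      fun _ => rfl, ← Finset.prod_mul_distrib]
    refine Finset.prod_congr rfl fun i _ => ?_
    rw [← map_mul]
    exact congrArg _ (Subtype.ext (by simp))

theorem indFun_topSub_base [DecidableEq Q] [Fintype (H ≀ᵣ Q)] {U : Subgroup H} (lam : U →* ℂˣ)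
    (b : (base : Subgroup (H ≀ᵣ Q))) :
    Cfsg.indFun (topSub U) (fun x => (topLam lam x : ℂ)) (b : H ≀ᵣ Q) =
      piFn (fun _ : Q => Cfsg.indFun U fun x => (lam x : ℂ)) (baseEquiv b) := by
  classical
  set F : H → H → ℂ := fun g h => Cfsg.extendByZero U (fun x => (lam x : ℂ)) (h⁻¹ * g * h)
  have hcard : Nat.card (topSub (Q := Q) U) = Nat.card U ^ Nat.card Q * Nat.card Q := by
    rw [← Nat.card_fun, ← Nat.card_prod]
    exact Nat.card_congr
      { toFun := fun w => (fun i => ⟨w.1.left i, w.2 i⟩, w.1.right)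
        invFun := fun f => ⟨⟨fun i => (f.1 i).1, f.2⟩, fun i => (f.1 i).2⟩
        left_inv := fun _ => rfl
        right_inv := fun _ => rfl }
  have hext : ∀ y : H ≀ᵣ Q, Cfsg.extendByZero (topSub U) (fun x => (topLam lam x : ℂ)) y =
      ∏ i, Cfsg.extendByZero U (fun x => (lam x : ℂ)) (y.left i) := by
    intro y
    by_cases hy : y ∈ topSub U
    · rw [extendByZero_of_mem _ _ hy]
      simp only [topLam, MonoidHom.mk'_apply, Units.coe_prod]
      exact Finset.prod_congr rfl fun i _ => (extendByZero_of_mem U (fun x => (lam x : ℂ)) (hy i)).symm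
    · obtain ⟨i, hi⟩ : ∃ i, y.left i ∉ U := by
        by_contra hall
        push Not at hall
        exact hy hall
      rw [extendByZero_of_notMem _ _ hy]
      exact (Finset.prod_eq_zero (Finset.mem_univ i) (by exact extendByZero_of_notMem _ _ hi)).symm
  have hsum : ∑ x : H ≀ᵣ Q, Cfsg.extendByZero (topSub U) (fun x => (topLam lam x : ℂ))
      (x⁻¹ * (b : H ≀ᵣ Q) * x) = ∑ p : (Q → H) × Q, ∏ i, F ((b : H ≀ᵣ Q).left i) (p.1 i) := by
    refine Fintype.sum_equiv (RegularWreathProduct.equivProd H Q) _ _ fun x => ?_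
    rw [hext]
    refine Fintype.prod_equiv (Equiv.mulLeft x.right) _ _ fun i => ?_
    simp [F, RegularWreathProduct.equivProd, right_eq_one b, mul_assoc]
  have hQ : (Fintype.card Q : ℂ) ≠ 0 := Nat.cast_ne_zero.2 Fintype.card_ne_zero
  simp only [piFn_apply, Cfsg.indFun, baseEquiv_apply]
  rw [hsum, Fintype.sum_prod_type]
  simp only [Finset.sum_const, Finset.card_univ, nsmul_eq_mul, ← Finset.mul_sum, hcard]
  rw [Finset.prod_mul_distrib, Finset.prod_const, Finset.card_univ, Fintype.prod_sum,
    Nat.card_eq_fintype_card (α := Q)]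
  push_cast
  field_simp
  have hU : (Nat.card U : ℂ) ^ Fintype.card Q * (1 / (Nat.card U : ℂ)) ^ Fintype.card Q = 1 := by
    rw [← mul_pow, mul_one_div_cancel (Nat.cast_ne_zero.2 Nat.card_pos.ne'), one_pow]
  rw [hU, one_mul]

end Equal

/-- If `H` is an M-group and `Q` has prime order then `H ≀ᵣ Q` is an M-group. -/
theorem isMonomial_wreath [Fintype H] [Fintype (H ≀ᵣ Q)] (hH : IsMonomial H) {p : ℕ}
    (hp : p.Prime) (hQ : Nat.card Q = p) : IsMonomial (H ≀ᵣ Q) := by
  classical
  intro χ hχ
  have : Fact p.Prime := ⟨hp⟩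
  set B : Subgroup (H ≀ᵣ Q) := base with hB
  have hBn : B.Normal := inferInstance
  have := Fintype.ofFinite B
  have hres : (fun b : B => χ b) ≠ 0 := fun h =>
    IsIrr.apply_one_ne_zero hχ (congrFun h 1)
  obtain ⟨Ψ, hΨ⟩ := exists_constituent
    (IsChar.isClassFunction (IsChar.restrict B (IsIrr.isCharacter hχ))) hres
  obtain ⟨ψ, hψ⟩ := exists_eq_piFn
    ⟨fun f => (Ψ : B → ℂ) (baseEquiv.symm f),
      IsIrr.comp_surjective (MulEquiv.toMonoidHom (baseEquiv (H := H) (Q := Q)).symm)
        (MulEquiv.surjective _) Ψ.2⟩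
  have hΨeq : (Ψ : B → ℂ) = fun b => piFn (fun i => (ψ i : H → ℂ)) (baseEquiv b) := by
    funext b
    exact (congrArg (Ψ : B → ℂ) (baseEquiv.symm_apply_apply b).symm).trans
      (congrFun hψ (baseEquiv b))
  choose U lam hlam using fun i => hH _ (ψ i).2
  set T := inertia hBn (Ψ : B → ℂ) with hT
  have hTle : B ≤ T := le_inertia hBn (IsIrr.isClassFunction Ψ.2)
  have : Fact (Nat.card Q).Prime := ⟨hQ.symm ▸ hp⟩
  have hcases : T = B ∨ ∀ c : Q, RegularWreathProduct.inl c ∈ T := by
    rcases Subgroup.eq_bot_or_eq_top_of_prime_card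
      (T.map (RegularWreathProduct.rightHom : H ≀ᵣ Q →* Q)) with h | h
    · exact Or.inl (le_antisymm ((T.map_eq_bot_iff).1 h) hTle)
    · refine Or.inr fun c => ?_
      obtain ⟨w, hw, hwc⟩ := Subgroup.mem_map.1 (h.ge (Subgroup.mem_top c))
      have hd : w * (RegularWreathProduct.inl c)⁻¹ ∈ B := by
        rw [hB, MonoidHom.mem_ker, map_mul, map_inv, hwc, RegularWreathProduct.fun_id,
          mul_inv_cancel]
      have := T.mul_mem (T.inv_mem (hTle hd)) hw
      simpa using this
  rcases hcases with hTB | hall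
  · have hirr : Cfsg.IsIrrCharacter _ (Cfsg.indFun B (Ψ : B → ℂ)) := by
      refine IsChar.isIrr_of_classInner_eq_one (isCharacter_indFun _ (IsIrr.isCharacter Ψ.2)) ?_
      have h := card_mul_classInner_indFun hBn Ψ.2
      rw [show Nat.card {g : H ≀ᵣ Q // conjFn hBn (Ψ : B → ℂ) g = (Ψ : B → ℂ)} = Nat.card B from
        (show Nat.card T = Nat.card B by rw [hTB])] at h
      exact (mul_eq_left₀ (Nat.cast_ne_zero.mpr Nat.card_pos.ne')).1 h
    have heq : χ = Cfsg.indFun B (Ψ : B → ℂ) := by
      by_contra hne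
      have h0 := classInner_irr_of_ne (χ := (⟨_, hirr⟩ : Cfsg.IrrCharacter (H ≀ᵣ Q)))
        (ψ := ⟨χ, hχ⟩) fun h => hne (congrArg Subtype.val h).symm
      change Cfsg.classInner (Cfsg.indFun B (Ψ : B → ℂ)) χ = 0 at h0
      rw [frobenius_reciprocity B _ (IsIrr.isClassFunction hχ), ← classInner_conj_symm,
        map_eq_zero] at h0
      exact hΨ h0
    rw [heq]
    refine monomial_of_indFun B ?_
    rw [hΨeq]
    exact exists_monomial_piFn U lam hlam
  · have hsame : ∀ i, ψ i = ψ 1 := by
      intro j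
      by_contra hne
      have hinv := hall j⁻¹
      rw [hT, mem_inertia] at hinv
      have key : ∀ h : H, (ψ j : H → ℂ) h * ∏ k ∈ Finset.univ.erase j, (ψ k : H → ℂ) 1 =
          (ψ 1 : H → ℂ) h * ∏ k ∈ Finset.univ.erase 1, (ψ k : H → ℂ) 1 := by
        intro h
        have h2 := congrFun hinv (baseEquiv.symm (Function.update 1 j h))
        rw [conjFn_apply, hΨeq] at h2
        have hL : baseEquiv (⟨RegularWreathProduct.inl j⁻¹ *
            ((baseEquiv.symm (Function.update 1 j h) : B) : H ≀ᵣ Q) *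
              (RegularWreathProduct.inl j⁻¹)⁻¹,
            hBn.conj_mem _ (baseEquiv.symm (Function.update 1 j h)).2 _⟩ : B) =
            Function.update (1 : Q → H) (1 : Q) h := by
          funext i
          simp only [baseEquiv_apply, RegularWreathProduct.mul_left,
            RegularWreathProduct.inv_left, RegularWreathProduct.left_inl,
            RegularWreathProduct.right_inl, Pi.mul_apply, Pi.one_apply, inv_inv, Pi.inv_apply,
            inv_one, one_mul, mul_one]
          change (Function.update (1 : Q → H) j h) (j * i) = _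
          by_cases hi : i = 1
          · subst hi
            rw [mul_one, Function.update_self, Function.update_self]
          · rw [Function.update_of_ne (by simpa using hi), Function.update_of_ne hi]
            rfl
        simp only [hL, MulEquiv.apply_symm_apply, piFn_apply] at h2
        have hsplit : ∀ m : Q, ∏ i, (ψ i : H → ℂ) (Function.update (1 : Q → H) m h i) =
            (ψ m : H → ℂ) h * ∏ k ∈ Finset.univ.erase m, (ψ k : H → ℂ) 1 := fun m => by
          rw [← Finset.mul_prod_erase _ _ (Finset.mem_univ m), Function.update_self]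
          exact congrArg _ (Finset.prod_congr rfl fun k hk => by
            rw [Function.update_of_ne (Finset.ne_of_mem_erase hk)]; rfl)
        rw [hsplit, hsplit] at h2
        exact h2.symm
      set a := ∏ k ∈ Finset.univ.erase j, (ψ k : H → ℂ) 1
      set a' := ∏ k ∈ Finset.univ.erase 1, (ψ k : H → ℂ) 1
      have ha : a ≠ 0 := Finset.prod_ne_zero_iff.2 fun k _ => IsIrr.apply_one_ne_zero (ψ k).2
      have h1 : Cfsg.classInner (a • (ψ j : H → ℂ)) (ψ j : H → ℂ) =
          Cfsg.classInner (a' • (ψ 1 : H → ℂ)) (ψ j : H → ℂ) :=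
        congrArg (Cfsg.classInner · _) (funext fun h => by
          simp only [Pi.smul_apply, smul_eq_mul]; linear_combination key h)
      rw [classInner_smul_left, classInner_smul_left, classInner_irr_self,
        classInner_irr_of_ne (Ne.symm hne), mul_one, mul_zero] at h1
      exact ha h1
    set η : H ≀ᵣ Q → ℂ := Cfsg.indFun (topSub (U 1)) fun x => (topLam (lam 1) x : ℂ) with hη
    have hηc : Cfsg.IsCharacter _ η :=
      isCharacter_indFun _ (IsIrr.isCharacter (isIrrCharacter_linear _))
    have hηres : (fun b : B => η b) = (Ψ : B → ℂ) := by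
      funext b
      rw [hη, hΨeq]
      refine (indFun_topSub_base (lam 1) b).trans ?_
      rw [← hlam 1]
      simp only [piFn_apply, hsame]
    obtain ⟨β, hβ⟩ := CfsgLib.Gallagher.exists_eq_twistBy hηc (by rw [hηres]; exact Ψ.2) ⟨χ, hχ⟩
      (by rw [hηres]; exact hΨ)
    change χ = _ at hβ
    have hcomm : ∀ a b : (H ≀ᵣ Q) ⧸ B, a * b = b * a := by
      intro a b
      induction a using QuotientGroup.induction_on with
      | H x =>
        induction b using QuotientGroup.induction_on with
        | H y =>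
          rw [← QuotientGroup.mk_mul, ← QuotientGroup.mk_mul]
          refine QuotientGroup.eq.2 (MonoidHom.mem_ker.2 ?_)
          simp only [map_mul, map_inv]
          have := isCyclic_of_prime_card hQ
          have hcy := (IsCyclic.commGroup (α := Q)).mul_comm
          rw [inv_mul_eq_one]
          exact hcy _ _
    obtain ⟨l, hl⟩ : ∃ l : (H ≀ᵣ Q) ⧸ B →* ℂˣ, (β : (H ≀ᵣ Q) ⧸ B → ℂ) = fun x => (l x : ℂ) := by
      obtain ⟨n, ρ, hρ, hρχ⟩ := β.2
      rw [← hρχ]
      refine exists_linear_of_degree_one (isCharacter_rep ρ) ?_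
      have := finrank_eq_one_of_commute ρ fun a b => by
        rw [Commute, SemiconjBy, ← map_mul, ← map_mul, hcomm]
      rw [Representation.char_one, this, Nat.cast_one]
    refine ⟨topSub (U 1),
      topLam (lam 1) * ((l.comp (QuotientGroup.mk' B)).comp (topSub (U 1)).subtype), ?_⟩
    rw [hβ, hl, show CfsgLib.Gallagher.twistBy η (fun x => (l x : ℂ)) =
      η * fun g => ((l.comp (QuotientGroup.mk' B)) g : ℂ) from funext fun g => mul_comm _ _, hη,
      CfsgLib.Brauer.indFun_mul _ _ (IsIrr.isClassFunction (isIrrCharacter_linear _))]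
    rfl

end CfsgLib.MonomialWreath
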