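import Cfsg.Agent.Lib.Char.Perm
import Cfsg.Agent.Lib.Char.Virtual
import Mathlib.GroupTheory.GroupAction.MultipleTransitivity
import Mathlib.Data.Fintype.CardEmbedding
import Mathlib.RingTheory.Polynomial.Pochhammer
import Mathlib.Data.Sym.Sym2

/-!
# The small irreducible characters of a four times transitive group

With `f` the number of fixed points and `T` the number of points in two-cycles of an element,
`f - 1`, `(f² - 3f + T) / 2` and `(f² - 3f + 2 - T) / 2` are irreducible characters of any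
four times transitive group (for the symmetric group: the shapes `(n-1,1)`, `(n-2,2)`,
`(n-2,1,1)`).
-/

set_option autoImplicit false

open scoped ComplexConjugate

namespace CfsgLib.MultiTrans

open CfsgLib.Char

variable {G : Type*} [Group G] {Ω : Type*} [MulAction G Ω]

/-- The number of injective tuples that `g` permutes according to `σ`. -/
noncomputable def cyc {m : ℕ} (Ω : Type*) [MulAction G Ω] (σ : Equiv.Perm (Fin m)) (g : G) : ℕ :=
  Nat.card {e : Fin m ↪ Ω // ∀ i, g • e i = e (σ i)}

/-- The number of fixed points. -/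
noncomputable def fixN (Ω : Type*) [MulAction G Ω] (g : G) : ℕ := Nat.card {a : Ω // g • a = a}

/-- The number of points in two-cycles. -/
noncomputable def twoN (Ω : Type*) [MulAction G Ω] (g : G) : ℕ :=
  Nat.card {a : Ω // g • (g • a) = a ∧ g • a ≠ a}

/-- Averaged over a multiply transitive group, every cycle count is one. -/
theorem sum_cyc [Fintype G] [Finite Ω] (m : ℕ) (hm : m ≤ Nat.card Ω)
    [MulAction.IsMultiplyPretransitive G Ω m] (σ : Equiv.Perm (Fin m)) :
    ∑ g : G, cyc Ω σ g = Nat.card G := by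
  classical
  have := Fintype.ofFinite Ω
  set e' : (Fin m ↪ Ω) → (Fin m ↪ Ω) := fun e => σ.toEmbedding.trans e
  have hcyc : ∀ g : G, cyc Ω σ g = (Finset.univ.filter fun e : Fin m ↪ Ω => g • e = e' e).card := by
    intro g
    rw [cyc, Nat.card_eq_fintype_card, Fintype.card_subtype]
    refine congrArg _ (Finset.filter_congr fun e _ => ?_)
    simp [DFunLike.ext_iff, e']
  obtain ⟨e₀⟩ : Nonempty (Fin m ↪ Ω) :=
    Function.Embedding.nonempty_of_card_le (by simpa [Nat.card_eq_fintype_card] using hm)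
  have hone : ∀ x y : Fin m ↪ Ω, (Finset.univ.filter fun g : G => g • x = y).card =
      Nat.card (MulAction.stabilizer G e₀) := by
    intro x y
    obtain ⟨a, ha⟩ := MulAction.exists_smul_eq G e₀ x
    obtain ⟨b, hb⟩ := MulAction.exists_smul_eq G e₀ y
    rw [← Fintype.card_subtype, ← Nat.card_eq_fintype_card]
    refine Nat.card_congr
      { toFun := fun g => ⟨b⁻¹ * g.1 * a, ?_⟩
        invFun := fun s => ⟨b * s.1 * a⁻¹, ?_⟩
        left_inv := fun g => Subtype.ext (by group)
        right_inv := fun s => Subtype.ext (by group) }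
    · rw [MulAction.mem_stabilizer_iff, mul_smul, mul_smul, ha, g.2, ← hb, inv_smul_smul]
    · have hs : s.1 • e₀ = e₀ := MulAction.mem_stabilizer_iff.1 s.2
      rw [mul_smul, mul_smul, ← ha, inv_smul_smul, hs, hb]
  have hN : Nat.card (MulAction.stabilizer G e₀) * Fintype.card (Fin m ↪ Ω) = Nat.card G := by
    rw [mul_comm, ← Nat.card_eq_fintype_card, ← MulAction.index_stabilizer_of_transitive G e₀,
      Subgroup.index_mul_card]
  simp only [hcyc, Finset.card_filter]
  rw [Finset.sum_comm]
  simp only [← Finset.card_filter, hone]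
  rw [Finset.sum_const, Finset.card_univ, smul_eq_mul, mul_comm, hN]

theorem cyc_one [Finite Ω] (m : ℕ) (g : G) :
    cyc Ω (1 : Equiv.Perm (Fin m)) g = (fixN Ω g).descFactorial m := by
  classical
  have := Fintype.ofFinite Ω
  rw [cyc, Nat.card_congr (β := Fin m ↪ {a : Ω // g • a = a})
    { toFun := fun e => ⟨fun i => ⟨e.1 i, e.2 i⟩, fun i j h => e.1.injective (congrArg Subtype.val h)⟩
      invFun := fun e => ⟨e.trans (Function.Embedding.subtype _), fun i => (e i).2⟩
      left_inv := fun _ => rfl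
      right_inv := fun _ => rfl },
    Nat.card_eq_fintype_card, Fintype.card_embedding_eq, Fintype.card_fin, fixN,
    Nat.card_eq_fintype_card]

theorem cyc_swap (g : G) : cyc Ω (Equiv.swap (0 : Fin 2) 1) g = twoN Ω g := by
  refine Nat.card_congr
    { toFun := fun e => ⟨e.1 0, ?_, ?_⟩
      invFun := fun a => ⟨⟨![a.1, g • a.1], ?_⟩, ?_⟩
      left_inv := fun e => ?_
      right_inv := fun _ => rfl }
  · rw [e.2 0, Equiv.swap_apply_left, e.2 1, Equiv.swap_apply_right]
  · rw [e.2 0, Equiv.swap_apply_left]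
    exact e.1.injective.ne (by decide)
  · have h := a.2.2
    simp [Function.Injective, Fin.forall_fin_succ, h, h.symm]
  · have h := a.2.1
    intro i
    fin_cases i
    · exact rfl
    · exact h
  · refine Subtype.ext (Function.Embedding.ext fun i => ?_)
    have := e.2 0
    fin_cases i <;> simp_all

theorem cyc_swap_three (g : G) :
    cyc Ω (Equiv.swap (0 : Fin 3) 1) g = twoN Ω g * fixN Ω g := by
  rw [twoN, fixN, ← Nat.card_prod]
  refine Nat.card_congr
    { toFun := fun e => (⟨e.1 0, ?_, ?_⟩, ⟨e.1 2, ?_⟩)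
      invFun := fun a => ⟨⟨![a.1.1, g • a.1.1, a.2.1], ?_⟩, ?_⟩
      left_inv := fun e => ?_
      right_inv := fun _ => rfl }
  · rw [e.2 0, Equiv.swap_apply_left, e.2 1, Equiv.swap_apply_right]
  · rw [e.2 0, Equiv.swap_apply_left]
    exact e.1.injective.ne (by decide)
  · rw [e.2 2, Equiv.swap_apply_of_ne_of_ne (by decide) (by decide)]
  · obtain ⟨⟨a, ha, ha'⟩, ⟨c, hc⟩⟩ := a
    have h1 : c ≠ a := fun h => ha' (by rw [← h, hc])
    have h2 : c ≠ g • a := fun h => ha' (by
      have := ha; rw [← h, hc] at this; rw [← h, this])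
    simp [Function.Injective, Fin.forall_fin_succ, ha', ha'.symm, h1, h1.symm, h2, h2.symm]
  · intro i
    obtain ⟨⟨a, ha, ha'⟩, ⟨c, hc⟩⟩ := a
    fin_cases i <;> simp [Equiv.swap_apply_of_ne_of_ne, ha, hc]
  · refine Subtype.ext (Function.Embedding.ext fun i => ?_)
    have := e.2 0
    fin_cases i <;> simp_all

theorem cyc_swap_four [Finite Ω] (g : G) :
    cyc Ω (Equiv.swap (0 : Fin 4) 1) g = twoN Ω g * (fixN Ω g).descFactorial 2 := by
  classical
  have := Fintype.ofFinite Ω
  rw [twoN, fixN, Nat.card_eq_fintype_card (α := {a : Ω // g • a = a}),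
    ← Fintype.card_fin 2, ← Fintype.card_embedding_eq, ← Nat.card_eq_fintype_card,
    ← Nat.card_prod]
  refine Nat.card_congr
    { toFun := fun e => (⟨e.1 0, ?_, ?_⟩, ⟨![⟨e.1 2, ?_⟩, ⟨e.1 3, ?_⟩], ?_⟩)
      invFun := fun a => ⟨⟨![a.1.1, g • a.1.1, (a.2 0).1, (a.2 1).1], ?_⟩, ?_⟩
      left_inv := fun e => ?_
      right_inv := fun a => ?_ }
  · rw [e.2 0, Equiv.swap_apply_left, e.2 1, Equiv.swap_apply_right]
  · rw [e.2 0, Equiv.swap_apply_left]
    exact e.1.injective.ne (by decide)
  · rw [e.2 2, Equiv.swap_apply_of_ne_of_ne (by decide) (by decide)]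
  · rw [e.2 3, Equiv.swap_apply_of_ne_of_ne (by decide) (by decide)]
  · intro i j h
    fin_cases i <;> fin_cases j <;> simp_all
  · obtain ⟨⟨a, ha, ha'⟩, b⟩ := a
    have h1 : ∀ k, (b k).1 ≠ a := fun k h => ha' (by rw [← h, (b k).2])
    have h2 : ∀ k, (b k).1 ≠ g • a := fun k h => ha' (by
      have := ha; rw [← h, (b k).2] at this; rw [← h, this])
    have h3 : (b 0).1 ≠ (b 1).1 := fun h => by simpa using b.injective (Subtype.ext h)
    simp [Function.Injective, Fin.forall_fin_succ, ha', ha'.symm, h1 0, (h1 0).symm, h1 1,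
      (h1 1).symm, h2 0, (h2 0).symm, h2 1, (h2 1).symm, h3, h3.symm]
  · intro i
    obtain ⟨⟨a, ha, ha'⟩, b⟩ := a
    fin_cases i <;> simp [Equiv.swap_apply_of_ne_of_ne, ha, (b 0).2, (b 1).2]
  · refine Subtype.ext (Function.Embedding.ext fun i => ?_)
    have := e.2 0
    fin_cases i <;> first | rfl | simp_all
  · refine Prod.ext rfl (Function.Embedding.ext fun i => ?_)
    fin_cases i <;> rfl

theorem cyc_swap_swap [Finite Ω] (g : G) :
    cyc Ω (Equiv.swap (0 : Fin 4) 1 * Equiv.swap 2 3) g + 2 * twoN Ω g =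
      twoN Ω g * twoN Ω g := by
  classical
  have := Fintype.ofFinite Ω
  set S := Finset.univ.filter fun a : Ω => g • (g • a) = a ∧ g • a ≠ a with hS
  have hT : twoN Ω g = S.card := by rw [twoN, Nat.card_eq_fintype_card, Fintype.card_subtype]
  have hmain : cyc Ω (Equiv.swap (0 : Fin 4) 1 * Equiv.swap 2 3) g =
      ((S ×ˢ S).filter fun p => p.2 ≠ p.1 ∧ p.2 ≠ g • p.1).card := by
    rw [cyc, Nat.card_eq_fintype_card, Fintype.card_subtype]
    refine Finset.card_bij' (fun e _ => (e 0, e 2)) (fun p hp => ⟨![p.1, g • p.1, p.2, g • p.2], ?_⟩)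
      ?_ ?_ ?_ ?_
    · simp only [Finset.mem_filter, Finset.mem_product, hS, Finset.mem_univ, true_and] at hp
      obtain ⟨⟨⟨h1, h1'⟩, h2, h2'⟩, h3, h4⟩ := hp
      have h5 : g • p.2 ≠ g • p.1 := fun h => h3 (MulAction.injective g h)
      have h6 : g • p.2 ≠ p.1 := fun h => h4 (by rw [← h, h2])
      simp [Function.Injective, Fin.forall_fin_succ, h1', h1'.symm, h2', h2'.symm, h3, h3.symm, h4,
        h4.symm, h5, h5.symm, h6, h6.symm]
    · intro e he
      simp only [Finset.mem_filter, Finset.mem_univ, true_and] at he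
      have h0 := he 0; have h1 := he 1; have h2 := he 2; have h3 := he 3
      simp [Equiv.swap_apply_def] at h0 h1 h2 h3
      simp only [Finset.mem_filter, Finset.mem_product, hS, Finset.mem_univ, true_and]
      refine ⟨⟨⟨by rw [h0, h1], ?_⟩, by rw [h2, h3], ?_⟩, ?_, ?_⟩ <;>
        first
          | (rw [h0]; exact e.injective.ne (by decide))
          | (rw [h2]; exact e.injective.ne (by decide))
          | exact e.injective.ne (by decide)
    · intro p hp
      simp only [Finset.mem_filter, Finset.mem_product, hS, Finset.mem_univ, true_and] at hp ⊢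
      intro i
      fin_cases i <;> simp [Equiv.swap_apply_def, hp.1.1.1, hp.1.2.1]
    · intro e he
      simp only [Finset.mem_filter, Finset.mem_univ, true_and] at he
      have h0 := he 0; have h2 := he 2
      simp [Equiv.swap_apply_def] at h0 h2
      refine Function.Embedding.ext fun i => ?_
      fin_cases i <;> simp [h0, h2]
    · intro p hp
      rfl
  have hfib : ∀ a ∈ S, (S.filter fun c => c ≠ a ∧ c ≠ g • a).card + 2 = S.card := by
    intro a ha
    have h2 : S.filter (fun c => ¬ (c ≠ a ∧ c ≠ g • a)) = {a, g • a} := by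
      ext c
      simp only [Finset.mem_filter, Finset.mem_insert, Finset.mem_singleton]
      constructor
      · rintro ⟨-, h⟩; tauto
      · simp only [hS, Finset.mem_filter, Finset.mem_univ, true_and] at ha
        rintro (rfl | rfl)
        · exact ⟨by simp [hS, ha], by tauto⟩
        · refine ⟨?_, by tauto⟩
          simp only [hS, Finset.mem_filter, Finset.mem_univ, true_and, ha.1]
          exact fun h => ha.2 h.symm
    have h := Finset.card_filter_add_card_filter_not (s := S) (fun c => c ≠ a ∧ c ≠ g • a)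
    rw [h2, Finset.card_pair] at h
    · exact h
    · simp only [hS, Finset.mem_filter, Finset.mem_univ, true_and] at ha
      exact fun h => ha.2 h.symm
  rw [hmain, hT, Finset.card_filter, Finset.sum_product]
  simp only [← Finset.card_filter]
  rw [mul_comm 2, ← smul_eq_mul (a := S.card) (b := 2), ← Finset.sum_const, ← Finset.sum_add_distrib,
    Finset.sum_congr rfl hfib, Finset.sum_const, smul_eq_mul]

section Sym2

/-- The action on unordered pairs. -/
@[reducible] def sym2Action (G : Type*) [Group G] (Ω : Type*) [MulAction G Ω] :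
    MulAction G (Sym2 Ω) where
  smul g s := s.map (g • ·)
  one_smul s := by
    show s.map _ = s
    induction s with
    | h a b => simp
  mul_smul g h s := by
    show s.map _ = (s.map _).map _
    induction s with
    | h a b => simp [mul_smul]

/-- The number of fixed unordered pairs, with repetition allowed. -/
noncomputable def symN (Ω : Type*) [MulAction G Ω] (g : G) : ℕ :=
  Nat.card {s : Sym2 Ω // s.map (g • ·) = s}

theorem symN_eq [Finite Ω] (g : G) :
    2 * symN Ω g = fixN Ω g * fixN Ω g + fixN Ω g + twoN Ω g := by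
  classical
  have := Fintype.ofFinite Ω
  set F := Finset.univ.filter fun a : Ω => g • a = a with hF
  set S := Finset.univ.filter fun a : Ω => g • (g • a) = a ∧ g • a ≠ a with hS
  set P := Finset.univ.filter fun p : Ω × Ω => (s(p.1, p.2)).map (g • ·) = s(p.1, p.2) with hP
  have hf : fixN Ω g = F.card := by rw [fixN, Nat.card_eq_fintype_card, Fintype.card_subtype]
  have ht : twoN Ω g = S.card := by rw [twoN, Nat.card_eq_fintype_card, Fintype.card_subtype]
  have hs : symN Ω g = (Finset.univ.filter fun s : Sym2 Ω => s.map (g • ·) = s).card := by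
    rw [symN, Nat.card_eq_fintype_card, Fintype.card_subtype]
  have hPcard : P.card = F.card * F.card + S.card := by
    have hsplit : P = F ×ˢ F ∪ S.map ⟨fun a => (a, g • a), fun a b h => (Prod.mk.inj h).1⟩ := by
      ext ⟨a, b⟩
      simp only [hP, hF, hS, Finset.mem_filter, Finset.mem_univ, true_and, Sym2.map_mk,
        Sym2.eq_iff, Finset.mem_union, Finset.mem_product, Finset.mem_map,
        Function.Embedding.coeFn_mk, Prod.mk.injEq]
      constructor
      · rintro (h | ⟨h1, h2⟩)
        · exact Or.inl h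
        · by_cases hab : g • a = a
          · refine Or.inl ⟨hab, ?_⟩
            rw [← h1, hab, hab]
          · exact Or.inr ⟨a, ⟨by rw [h1, h2], hab⟩, Prod.ext rfl h1⟩
      · rintro (h | ⟨c, ⟨hc, -⟩, h⟩)
        · exact Or.inl h
        · obtain ⟨rfl, rfl⟩ := Prod.mk.inj h
          exact Or.inr ⟨rfl, hc⟩
    rw [hsplit, Finset.card_union_of_disjoint, Finset.card_product, Finset.card_map]
    rw [Finset.disjoint_left]
    rintro ⟨a, b⟩ hab hm
    simp only [hF, Finset.mem_product, Finset.mem_filter, Finset.mem_univ, true_and] at hab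
    simp only [hS, Finset.mem_map, Function.Embedding.coeFn_mk, Prod.mk.injEq, Finset.mem_filter,
      Finset.mem_univ, true_and] at hm
    obtain ⟨c, ⟨-, hc⟩, rfl, -⟩ := hm
    exact hc hab.1
  have hfib : ∀ s ∈ Finset.univ.filter (fun s : Sym2 Ω => s.map (g • ·) = s),
      (P.filter fun p => s(p.1, p.2) = s).card = 2 - if s.IsDiag then 1 else 0 := by
    intro s hsm
    induction s with
    | h a b =>
      rw [Finset.mem_filter] at hsm
      have : P.filter (fun p => s(p.1, p.2) = s(a, b)) = {(a, b), (b, a)} := by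
        ext ⟨c, d⟩
        simp only [hP, Finset.mem_filter, Finset.mem_univ, true_and, Finset.mem_insert,
          Finset.mem_singleton, Prod.mk.injEq]
        refine ⟨fun h => ?_, fun h => ?_⟩
        · rcases Sym2.eq_iff.1 h.2 with h | h
          · exact Or.inl h
          · exact Or.inr h
        · have e : s(c, d) = s(a, b) := Sym2.eq_iff.2 h
          exact ⟨by rw [e]; exact hsm.2, e⟩
      rw [this]
      by_cases hab : a = b
      · subst hab; simp
      · rw [if_neg (by simpa using hab), Finset.card_pair]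
        simp [hab]
  have hdiag : ((Finset.univ.filter fun s : Sym2 Ω => s.map (g • ·) = s).filter
      fun s => s.IsDiag).card = F.card := by
    refine (Finset.card_bij (fun a _ => s(a, a)) ?_ ?_ ?_).symm
    · intro a ha
      simp only [hF, Finset.mem_filter, Finset.mem_univ, true_and] at ha
      simp [ha]
    · intro a _ b _ h
      simpa using h
    · intro s hsm
      simp only [Finset.mem_filter, Finset.mem_univ, true_and] at hsm
      induction s with
      | h a b =>
        obtain ⟨h, rfl : a = b⟩ := hsm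
        exact ⟨a, by simpa [hF] using h, rfl⟩
  have hsum := Finset.card_eq_sum_card_fiberwise (s := P) (f := fun p => s(p.1, p.2))
    (t := Finset.univ.filter fun s : Sym2 Ω => s.map (g • ·) = s)
    (fun p hp => by
      simp only [hP, Finset.coe_filter, Finset.mem_univ, true_and, Set.mem_setOf_eq] at hp ⊢
      exact hp)
  rw [Finset.sum_congr rfl hfib] at hsum
  have hadd : ∑ s ∈ Finset.univ.filter (fun s : Sym2 Ω => s.map (g • ·) = s),
      (2 - if s.IsDiag then 1 else 0) + F.card =
      (Finset.univ.filter fun s : Sym2 Ω => s.map (g • ·) = s).card * 2 := by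
    rw [← hdiag, Finset.card_filter, ← Finset.sum_add_distrib, ← smul_eq_mul, ← Finset.sum_const]
    exact Finset.sum_congr rfl fun s _ => by split_ifs <;> rfl
  rw [hf, ht, hs]
  omega

theorem isCharacter_symN [Finite G] [Finite Ω] :
    Cfsg.IsCharacter G (fun g => (symN Ω g : ℂ)) := by
  let _ := sym2Action G Ω
  have := Fintype.ofFinite Ω
  have : Finite (Sym2 Ω) := inferInstance
  exact isCharacter_permChar (G := G) (X := Sym2 Ω)

end Sym2

section Chars

variable [Finite Ω]

/-- The character `(n-1, 1)`. -/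
noncomputable def chiOne (Ω : Type*) [MulAction G Ω] (g : G) : ℂ := (fixN Ω g : ℂ) - 1

/-- The character `(n-2, 2)`. -/
noncomputable def chiTwo (Ω : Type*) [MulAction G Ω] (g : G) : ℂ :=
  ((fixN Ω g : ℂ) ^ 2 - 3 * fixN Ω g + twoN Ω g) / 2

/-- The character `(n-2, 1, 1)`. -/
noncomputable def chiThree (Ω : Type*) [MulAction G Ω] (g : G) : ℂ :=
  ((fixN Ω g : ℂ) ^ 2 - 3 * fixN Ω g + 2 - twoN Ω g) / 2

theorem isGen_fixN [Finite G] : Cfsg.IsGeneralizedCharacter G (fun g => (fixN Ω g : ℂ)) :=
  IsGen.of_isCharacter (isCharacter_permChar (G := G) (X := Ω))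

theorem isGen_chiTwo [Finite G] : Cfsg.IsGeneralizedCharacter G (chiTwo (G := G) Ω) := by
  have e : chiTwo (G := G) Ω = (fun g => (symN Ω g : ℂ)) - ((2 : ℤ) : ℂ) • fun g => (fixN Ω g : ℂ) := by
    funext g
    have h := congrArg (Nat.cast : ℕ → ℂ) (symN_eq (Ω := Ω) g)
    push_cast at h
    simp only [chiTwo, Pi.sub_apply, Pi.smul_apply, smul_eq_mul]
    push_cast
    linear_combination (1 / 2 : ℂ) * (-h)
  rw [e]
  exact IsGen.sub (IsGen.of_isCharacter isCharacter_symN) (IsGen.intCast_smul 2 isGen_fixN)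

theorem isGen_chiThree [Finite G] : Cfsg.IsGeneralizedCharacter G (chiThree (G := G) Ω) := by
  have e : chiThree (G := G) Ω = (fun g => (fixN Ω g : ℂ)) * (fun g => (fixN Ω g : ℂ))
      - (((3 : ℤ) : ℂ) • (fun g => (fixN Ω g : ℂ)) - (fun _ => (1 : ℂ))) - chiTwo Ω := by
    funext g
    simp only [chiTwo, chiThree, Pi.sub_apply, Pi.mul_apply, Pi.smul_apply, smul_eq_mul]
    push_cast
    ring
  rw [e]
  exact IsGen.sub (IsGen.sub (IsGen.mul isGen_fixN isGen_fixN)
    (IsGen.sub (IsGen.intCast_smul 3 isGen_fixN) (IsGen.of_isCharacter isCharacter_one))) isGen_chiTwo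

variable [Fintype G] [MulAction.IsMultiplyPretransitive G Ω 4]

/-- The moments of the fixed point and two-cycle counts. -/
theorem moments (h4 : 4 ≤ Nat.card Ω) :
    let f : G → ℂ := fun g => (fixN Ω g : ℂ)
    let t : G → ℂ := fun g => (twoN Ω g : ℂ)
    (∑ g, f g = Nat.card G) ∧ (∑ g, f g ^ 2 = 2 * Nat.card G) ∧
      (∑ g, f g ^ 3 = 5 * Nat.card G) ∧ (∑ g, f g ^ 4 = 15 * Nat.card G) ∧
      (∑ g, t g = Nat.card G) ∧ (∑ g, f g * t g = Nat.card G) ∧
      (∑ g, f g ^ 2 * t g = 2 * Nat.card G) ∧ (∑ g, t g ^ 2 = 3 * Nat.card G) := by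
  intro f t
  have h : ∀ (m : ℕ) (σ : Equiv.Perm (Fin m)), m ≤ 4 →
      ∑ g : G, (cyc Ω σ g : ℂ) = Nat.card G := by
    intro m σ hm
    have := MulAction.isMultiplyPretransitive_of_le (G := G) (α := Ω) hm h4
    exact_mod_cast congrArg (Nat.cast : ℕ → ℂ) (sum_cyc (G := G) (Ω := Ω) m (hm.trans h4) σ)
  have d3 : ∀ a : ℕ, ((a.descFactorial 3 : ℕ) : ℂ) = (a : ℂ) * (a - 1) * (a - 2) := fun a => by
    rw [← descPochhammer_eval_eq_descFactorial]; simp [descPochhammer_succ_right]
  have d4 : ∀ a : ℕ, ((a.descFactorial 4 : ℕ) : ℂ) = (a : ℂ) * (a - 1) * (a - 2) * (a - 3) :=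
    fun a => by rw [← descPochhammer_eval_eq_descFactorial]; simp [descPochhammer_succ_right]
  have e1 : ∑ g, f g = (Nat.card G : ℂ) := by
    simpa [cyc_one, f] using h 1 1 (by omega)
  have e2 : ∑ g, f g * (f g - 1) = (Nat.card G : ℂ) := by
    have := h 2 1 (by omega)
    simp only [cyc_one, Nat.cast_descFactorial_two] at this
    exact this
  have e3 : ∑ g, f g * (f g - 1) * (f g - 2) = (Nat.card G : ℂ) := by
    have := h 3 1 (by omega)
    simp only [cyc_one, d3] at this
    exact this
  have e4 : ∑ g, f g * (f g - 1) * (f g - 2) * (f g - 3) = (Nat.card G : ℂ) := by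
    have := h 4 1 le_rfl
    simp only [cyc_one, d4] at this
    exact this
  have e5 : ∑ g, t g = (Nat.card G : ℂ) := by
    simpa [cyc_swap, t] using h 2 (Equiv.swap 0 1) (by omega)
  have e6 : ∑ g, t g * f g = (Nat.card G : ℂ) := by
    simpa [cyc_swap_three, t, f] using h 3 (Equiv.swap 0 1) (by omega)
  have e7 : ∑ g, t g * (f g * (f g - 1)) = (Nat.card G : ℂ) := by
    have := h 4 (Equiv.swap 0 1) le_rfl
    simp only [cyc_swap_four, Nat.cast_mul, Nat.cast_descFactorial_two] at this
    exact this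
  have e8 : ∑ g, (t g ^ 2 - 2 * t g) = (Nat.card G : ℂ) := by
    rw [← h 4 (Equiv.swap 0 1 * Equiv.swap 2 3) le_rfl]
    refine Finset.sum_congr rfl fun g _ => ?_
    have h' := congrArg (Nat.cast : ℕ → ℂ) (cyc_swap_swap (Ω := Ω) g)
    push_cast at h'
    simp only [t]
    linear_combination -h'
  refine ⟨e1, ?_, ?_, ?_, e5, ?_, ?_, ?_⟩
  · calc ∑ g, f g ^ 2 = ∑ g, (f g * (f g - 1) + f g) := Finset.sum_congr rfl fun g _ => by ring
      _ = _ := by rw [Finset.sum_add_distrib, e2, e1]; ring
  · calc ∑ g, f g ^ 3 = ∑ g, (f g * (f g - 1) * (f g - 2) + 3 * (f g * (f g - 1)) + f g) :=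
          Finset.sum_congr rfl fun g _ => by ring
      _ = _ := by
          rw [Finset.sum_add_distrib, Finset.sum_add_distrib, ← Finset.mul_sum, e3, e2, e1]; ring
  · calc ∑ g, f g ^ 4 = ∑ g, (f g * (f g - 1) * (f g - 2) * (f g - 3) +
            6 * (f g * (f g - 1) * (f g - 2)) + 7 * (f g * (f g - 1)) + f g) :=
          Finset.sum_congr rfl fun g _ => by ring
      _ = _ := by
          rw [Finset.sum_add_distrib, Finset.sum_add_distrib, Finset.sum_add_distrib,
            ← Finset.mul_sum, ← Finset.mul_sum, e4, e3, e2, e1]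
          ring
  · rw [← e6]; exact Finset.sum_congr rfl fun g _ => mul_comm _ _
  · calc ∑ g, f g ^ 2 * t g = ∑ g, (t g * (f g * (f g - 1)) + t g * f g) :=
          Finset.sum_congr rfl fun g _ => by ring
      _ = _ := by rw [Finset.sum_add_distrib, e7, e6]; ring
  · calc ∑ g, t g ^ 2 = ∑ g, ((t g ^ 2 - 2 * t g) + 2 * t g) :=
          Finset.sum_congr rfl fun g _ => by ring
      _ = _ := by rw [Finset.sum_add_distrib, ← Finset.mul_sum, e8, e5]; ring

theorem isIrr_chiOne (h4 : 4 ≤ Nat.card Ω) : Cfsg.IsIrrCharacter G (chiOne (G := G) Ω) := by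
  refine IsGen.isIrr_of_norm_one (IsGen.sub isGen_fixN (IsGen.of_isCharacter isCharacter_one)) ?_ ?_
  · obtain ⟨h1, h2, -⟩ := moments (G := G) h4
    have h : ∑ g : G, chiOne Ω g * conj (chiOne Ω g) = Nat.card G := by
      calc ∑ g : G, chiOne Ω g * conj (chiOne Ω g)
          = ∑ g : G, ((fixN Ω g : ℂ) ^ 2 - 2 * fixN Ω g + 1) :=
            Finset.sum_congr rfl fun g _ => by simp [chiOne, map_sub]; ring
        _ = _ := by
          simp only [Finset.sum_add_distrib, Finset.sum_sub_distrib, ← Finset.mul_sum,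
            Finset.sum_const, Finset.card_univ, nsmul_eq_mul, mul_one, ← Nat.card_eq_fintype_card]
          linear_combination h2 - 2 * h1
    rw [Cfsg.classInner, h, inv_mul_cancel₀ (Nat.cast_ne_zero.2 Nat.card_pos.ne')]
  · have : fixN Ω (1 : G) = Nat.card Ω :=
      Nat.card_congr (Equiv.subtypeUnivEquiv fun a => one_smul G a)
    simp only [chiOne, this, Complex.sub_re, Complex.natCast_re, Complex.one_re, sub_pos]
    exact_mod_cast (by omega : 1 < Nat.card Ω)

theorem isIrr_chiTwo (h4 : 4 ≤ Nat.card Ω) : Cfsg.IsIrrCharacter G (chiTwo (G := G) Ω) := by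
  refine IsGen.isIrr_of_norm_one isGen_chiTwo ?_ ?_
  · obtain ⟨h1, h2, h3, h4', h5, h6, h7, h8⟩ := moments (G := G) h4
    have h : ∑ g : G, chiTwo Ω g * conj (chiTwo Ω g) = Nat.card G := by
      calc ∑ g : G, chiTwo Ω g * conj (chiTwo Ω g)
          = ∑ g : G, ((fixN Ω g : ℂ) ^ 4 - 6 * (fixN Ω g : ℂ) ^ 3 + 9 * (fixN Ω g : ℂ) ^ 2
              + 2 * ((fixN Ω g : ℂ) ^ 2 * twoN Ω g) - 6 * ((fixN Ω g : ℂ) * twoN Ω g)
              + (twoN Ω g : ℂ) ^ 2) / 4 :=
            Finset.sum_congr rfl fun g _ => by simp [chiTwo, map_sub, map_add, map_ofNat]; ring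
        _ = _ := by
          simp only [← Finset.sum_div, Finset.sum_add_distrib, Finset.sum_sub_distrib,
            ← Finset.mul_sum]
          linear_combination (h4' - 6 * h3 + 9 * h2 + 2 * h7 - 6 * h6 + h8) / 4
    rw [Cfsg.classInner, h, inv_mul_cancel₀ (Nat.cast_ne_zero.2 Nat.card_pos.ne')]
  · have h1 : fixN Ω (1 : G) = Nat.card Ω :=
      Nat.card_congr (Equiv.subtypeUnivEquiv fun a => one_smul G a)
    have h2 : twoN Ω (1 : G) = 0 := by simp [twoN]
    obtain ⟨k, hk⟩ := Nat.exists_eq_add_of_le h4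
    have e : chiTwo Ω (1 : G) = ((k * k + 5 * k + 4 : ℕ) : ℂ) / 2 := by
      simp only [chiTwo, h1, h2, hk]; push_cast; ring
    rw [e, Complex.div_ofNat_re, Complex.natCast_re]
    positivity

theorem isIrr_chiThree (h4 : 4 ≤ Nat.card Ω) : Cfsg.IsIrrCharacter G (chiThree (G := G) Ω) := by
  refine IsGen.isIrr_of_norm_one isGen_chiThree ?_ ?_
  · obtain ⟨h1, h2, h3, h4', h5, h6, h7, h8⟩ := moments (G := G) h4
    have h : ∑ g : G, chiThree Ω g * conj (chiThree Ω g) = Nat.card G := by
      calc ∑ g : G, chiThree Ω g * conj (chiThree Ω g)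
          = ∑ g : G, ((fixN Ω g : ℂ) ^ 4 - 6 * (fixN Ω g : ℂ) ^ 3 + 13 * (fixN Ω g : ℂ) ^ 2
              - 12 * (fixN Ω g : ℂ) + 4
              - 2 * ((fixN Ω g : ℂ) ^ 2 * twoN Ω g) + 6 * ((fixN Ω g : ℂ) * twoN Ω g)
              - 4 * (twoN Ω g : ℂ) + (twoN Ω g : ℂ) ^ 2) / 4 :=
            Finset.sum_congr rfl fun g _ => by simp [chiThree, map_sub, map_add, map_ofNat]; ring
        _ = _ := by
          simp only [← Finset.sum_div, Finset.sum_add_distrib, Finset.sum_sub_distrib,
            ← Finset.mul_sum, Finset.sum_const, Finset.card_univ, nsmul_eq_mul,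
            ← Nat.card_eq_fintype_card]
          linear_combination
            (h4' - 6 * h3 + 13 * h2 - 12 * h1 - 2 * h7 + 6 * h6 - 4 * h5 + h8) / 4
    rw [Cfsg.classInner, h, inv_mul_cancel₀ (Nat.cast_ne_zero.2 Nat.card_pos.ne')]
  · have h1 : fixN Ω (1 : G) = Nat.card Ω :=
      Nat.card_congr (Equiv.subtypeUnivEquiv fun a => one_smul G a)
    have h2 : twoN Ω (1 : G) = 0 := by simp [twoN]
    obtain ⟨k, hk⟩ := Nat.exists_eq_add_of_le h4
    have e : chiThree Ω (1 : G) = ((k * k + 5 * k + 6 : ℕ) : ℂ) / 2 := by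
      simp only [chiThree, h1, h2, hk]; push_cast; ring
    rw [e, Complex.div_ofNat_re, Complex.natCast_re]
    positivity

end Chars

end CfsgLib.MultiTrans
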