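import Cfsg.Agent.Lib.Char.ComplexAut
import Mathlib.Data.ZMod.Units
import Cfsg.Agent.Lib.Char.PowerTwist
import Cfsg.Agent.Lib.Char.Complete
import Cfsg.Agent.Lib.CharAction.PGroup
import Cfsg.Agent.Lib.CharDegree.Basic

/-!
# The number of `p`-conjugates of a character
-/

namespace CfsgLib.PConjugate

open CfsgLib.Char CfsgLib.CharAction Polynomial
open scoped Classical ComplexConjugate

variable {G : Type*} [Group G]

theorem pow_val_mul [Finite G] (x : G) (s t : ZMod (Nat.card G)) :
    (x ^ s.val) ^ t.val = x ^ (s * t).val := by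
  rw [← pow_mul, ZMod.val_mul, ← pow_mod_natCard]

theorem pow_val_one [Finite G] (x : G) : x ^ (1 : ZMod (Nat.card G)).val = x := by
  rcases Nat.lt_or_ge 1 (Nat.card G) with h | h
  · have : Fact (1 < Nat.card G) := ⟨h⟩
    rw [ZMod.val_one, pow_one]
  · have : Subsingleton G := Finite.card_le_one_iff_subsingleton.mp h
    exact Subsingleton.elim _ _

/-- The action of the units on classes. -/
noncomputable instance classAction [Finite G] :
    MulAction (ZMod (Nat.card G))ˣ (ConjClasses G) where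
  smul t := Quotient.map (fun x => x ^ (t : ZMod (Nat.card G)).val) fun a b h => by
    obtain ⟨c, rfl⟩ := isConj_iff.mp h
    exact isConj_iff.mpr ⟨c, (conj_pow (i := (t : ZMod (Nat.card G)).val) (a := c) (b := a)).symm⟩
  one_smul C := by
    induction C using Quotient.inductionOn with
    | h x => exact congrArg ConjClasses.mk (pow_val_one x)
  mul_smul s t C := by
    induction C using Quotient.inductionOn with
    | h x =>
      refine congrArg ConjClasses.mk ?_
      show x ^ ((s * t : (ZMod (Nat.card G))ˣ) : ZMod (Nat.card G)).val = _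
      rw [Units.val_mul, mul_comm, ← pow_val_mul]

theorem smul_mk [Finite G] (t : (ZMod (Nat.card G))ˣ) (x : G) :
    t • ConjClasses.mk x = ConjClasses.mk (x ^ (t : ZMod (Nat.card G)).val) := rfl

/-- The action of the units on irreducible characters. -/
noncomputable instance irrAction [Finite G] :
    MulAction (ZMod (Nat.card G))ˣ (Cfsg.IrrCharacter G) where
  smul t ψ := ⟨fun x => (ψ : G → ℂ) (x ^ (t : ZMod (Nat.card G)).val), by
    have := Fintype.ofFinite G
    exact isIrrCharacter_pow ψ.2 (ZMod.val_coe_unit_coprime t)⟩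
  one_smul ψ := irr_ext fun x => congrArg (ψ : G → ℂ) (pow_val_one x)
  mul_smul s t ψ := irr_ext fun x => by
    show (ψ : G → ℂ) _ = (ψ : G → ℂ) _
    rw [Units.val_mul, ← pow_val_mul]

theorem smul_apply [Finite G] (t : (ZMod (Nat.card G))ˣ) (ψ : Cfsg.IrrCharacter G) (x : G) :
    ((t • ψ : Cfsg.IrrCharacter G) : G → ℂ) x = (ψ : G → ℂ) (x ^ (t : ZMod (Nat.card G)).val) := rfl

/-- Sums of class functions by classes. -/
theorem sum_eq_sum_classes [Fintype G] [Fintype (ConjClasses G)] (h : G → ℂ)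
    (hh : ∀ x y, IsConj x y → h x = h y) :
    ∑ x : G, h x = ∑ C : ConjClasses G, (Nat.card C.carrier : ℂ) * h C.out := by
  rw [← Finset.sum_fiberwise Finset.univ ConjClasses.mk]
  refine Finset.sum_congr rfl fun C _ => ?_
  rw [Finset.sum_congr rfl (g := fun _ => h C.out) fun x hx => hh x _ ?_, Finset.sum_const,
    nsmul_eq_mul]
  · congr 1
    rw [Nat.card_eq_fintype_card, ← Fintype.card_coe]
    norm_cast
    exact Fintype.card_congr (Equiv.subtypeEquivRight fun x => by
      simp [ConjClasses.mem_carrier_iff_mk_eq])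
  · rw [← ConjClasses.mk_eq_mk_iff_isConj, (Finset.mem_filter.mp hx).2]
    exact (Quotient.out_eq C).symm

/-- The averages over `1 + p m i` of an integer polynomial at roots of unity are integral. -/
theorem isIntegral_average {g m N : ℕ} (hg0 : g ≠ 0) {ζ : ℂ} (hζ : ζ ^ g = 1) (hgm : m * N = g) (hN : N ≠ 0)
    (R : ℤ[X]) :
    IsIntegral ℤ ((N : ℂ)⁻¹ * ∑ i ∈ Finset.range N, aeval (ζ ^ (1 + m * i)) R) := by
  have hg : g ≠ 0 → IsIntegral ℤ ζ := fun h => IsIntegral.of_pow (Nat.pos_of_ne_zero h) (hζ ▸ isIntegral_one)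
  induction R using Polynomial.induction_on' with
  | add a b ha hb =>
    simp only [map_add, Finset.sum_add_distrib, mul_add]
    exact ha.add hb
  | monomial j c =>
    have hsum : ∑ i ∈ Finset.range N, aeval (ζ ^ (1 + m * i)) (monomial j c) =
        (c : ℂ) * ζ ^ j * ∑ i ∈ Finset.range N, (ζ ^ (m * j)) ^ i := by
      rw [Finset.mul_sum]
      refine Finset.sum_congr rfl fun i _ => ?_
      rw [aeval_monomial, eq_intCast, ← pow_mul, ← pow_mul, mul_assoc, ← pow_add]
      ring_nf
    rw [hsum]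
    by_cases h1 : ζ ^ (m * j) = 1
    · simp only [h1, one_pow, Finset.sum_const, Finset.card_range, nsmul_one]
      rw [mul_comm, mul_assoc, mul_inv_cancel₀ (Nat.cast_ne_zero.mpr hN), mul_one]
      exact (isIntegral_algebraMap (R := ℤ) (A := ℂ) (x := c)).mul ((hg hg0).pow j)
    · rw [geom_sum_eq h1, ← pow_mul, mul_right_comm m j N, hgm, pow_mul, hζ, one_pow, sub_self,
        zero_div, mul_zero, mul_zero]
      exact isIntegral_zero

variable [Finite G]

set_option maxHeartbeats 4000000 in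
/-- Feit: the number `r` of `p`-conjugates. -/
theorem factorization_le (p : ℕ) (hp : p.Prime) (χ : Cfsg.IrrCharacter G) :
    let g := Nat.card G
    let a := g.factorization p
    let Gal := (ZMod.unitsMap (Nat.div_dvd_of_dvd (Nat.ordProj_dvd g p))).ker
    let r := Nat.card (MulAction.orbit Gal χ)
    r.factorization p + (Cfsg.charDegree (χ : G → ℂ)).factorization p ≤ a ∧
      (a ≤ r.factorization p + (Cfsg.charDegree (χ : G → ℂ)).factorization p →
        a ≤ (Cfsg.charDegree (χ : G → ℂ)).factorization p) := by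
  intro g a Gal r
  have : Fact p.Prime := ⟨hp⟩
  have := Fintype.ofFinite G
  have : NeZero g := ⟨Nat.card_pos.ne'⟩
  have hg0 : g ≠ 0 := Nat.card_pos.ne'
  set g' := g / p ^ a with hg'
  have hg'g : g' ∣ g := Nat.div_dvd_of_dvd (Nat.ordProj_dvd g p)
  set d := Cfsg.charDegree (χ : G → ℂ) with hd
  have hdpos : 0 < d := CharDegree.charDegree_pos χ
  have hddvd : d ∣ g := CharDegree.charDegree_dvd_card χ
  have hdle : d.factorization p ≤ a :=
    (Nat.factorization_le_iff_dvd hdpos.ne' hg0).mpr hddvd p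
  have hmul : g' * p ^ a = g := Nat.div_mul_cancel (Nat.ordProj_dvd g p)
  have hg'0 : g' ≠ 0 := fun h => by rw [h, zero_mul] at hmul; exact hg0 hmul.symm
  have hcop : Nat.Coprime g' (p ^ a) :=
    ((Nat.coprime_ordCompl hp hg0).symm).pow_right a
  have : NeZero g' := ⟨hg'0⟩
  rcases Nat.eq_zero_or_pos a with ha | ha
  · -- no `p`-part
    have hr : r = 1 := by
      have hsub : Subsingleton Gal := by
        refine ⟨fun s t => ?_⟩
        have hs := s.2
        have ht := t.2
        rw [MonoidHom.mem_ker, Units.ext_iff, ZMod.unitsMap_val, Units.val_one] at hs ht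
        have hgg : g' = g := by rw [← hmul, ha, pow_zero, mul_one]
        apply Subtype.ext; apply Units.ext; apply ZMod.val_injective
        have e : ∀ z : ZMod g, (z.cast : ZMod g') = 1 → z.val % g' = 1 % g' := fun z hz => by
          rw [← ZMod.natCast_val] at hz
          exact (ZMod.natCast_eq_natCast_iff' _ 1 g').mp (by rw [hz, Nat.cast_one])
        have h1 := (e _ hs).trans (e _ ht).symm
        rwa [hgg, Nat.mod_eq_of_lt (ZMod.val_lt _), Nat.mod_eq_of_lt (ZMod.val_lt _)] at h1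
      show Nat.card (MulAction.orbit Gal χ) = 1
      rw [Nat.card_eq_one_iff_unique]
      refine ⟨⟨fun a b => Subtype.ext ?_⟩, ⟨⟨χ, MulAction.mem_orbit_self χ⟩⟩⟩
      obtain ⟨_, s, rfl⟩ := a
      obtain ⟨_, t, rfl⟩ := b
      exact congrArg (· • χ) (Subsingleton.elim s t)
    rw [hr, Nat.factorization_one]
    simp only [Finsupp.coe_zero, Pi.zero_apply, zero_add]
    exact ⟨hdle, fun h => h⟩
  -- the wild part of the Galois group
  set N := p ^ (a - 1) with hN
  set m := p * g' with hm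
  have hN0 : N ≠ 0 := (pow_pos hp.pos _).ne'
  have hm1 : 1 < m := lt_of_lt_of_le hp.one_lt (Nat.le_mul_of_pos_right _ (Nat.pos_of_ne_zero hg'0))
  have : Fact (1 < m) := ⟨hm1⟩
  have hmN : m * N = g := by
    rw [hm, hN, mul_comm p, mul_assoc, ← pow_succ', Nat.sub_add_cancel ha, hmul]
  have hmg : m ∣ g := ⟨N, hmN.symm⟩
  let Wild := (ZMod.unitsMap hmg).ker
  have hWG : Wild ≤ Gal := by
    intro t ht
    rw [MonoidHom.mem_ker] at ht ⊢
    have hc := DFunLike.congr_fun (ZMod.unitsMap_comp (dvd_mul_left g' p : g' ∣ m) hmg) t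
    rw [MonoidHom.comp_apply, ht, map_one] at hc
    exact hc.symm
  have hcast : ∀ t : (ZMod g)ˣ, t ∈ Wild ↔ (t : ZMod g).val % m = 1 := fun t => by
    rw [MonoidHom.mem_ker, Units.ext_iff, ZMod.unitsMap_val, Units.val_one, ← ZMod.natCast_val,
      show (1 : ZMod m) = ((1 : ℕ) : ZMod m) from Nat.cast_one.symm, ZMod.natCast_eq_natCast_iff',
      Nat.one_mod_eq_one.mpr hm1.ne']
  have hunit : ∀ i, Nat.Coprime (1 + m * i) g := fun i => by
    rw [← hmul]
    refine Nat.Coprime.mul_right ?_ (Nat.Coprime.pow_right a ?_)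
    · rw [hm, show 1 + p * g' * i = 1 + g' * (p * i) by ring, Nat.coprime_add_mul_left_left]
      exact Nat.coprime_one_left _
    · rw [hm, show 1 + p * g' * i = 1 + p * (g' * i) by ring, Nat.coprime_add_mul_left_left]
      exact Nat.coprime_one_left _
  have hlt : ∀ i, i < N → 1 + m * i < g := fun i hi => by
    have : m * (i + 1) ≤ m * N := Nat.mul_le_mul_left m hi
    rw [hmN, mul_add, mul_one] at this
    omega
  let e : Fin N → Wild := fun i => ⟨ZMod.unitOfCoprime _ (hunit i), (hcast _).mpr (by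
    rw [ZMod.coe_unitOfCoprime, ZMod.val_natCast_of_lt (hlt i i.2), Nat.add_mul_mod_self_left,
      Nat.mod_eq_of_lt hm1])⟩
  have hev : ∀ i, (((e i : Wild) : (ZMod g)ˣ) : ZMod g).val = 1 + m * i := fun i => by
    show ((ZMod.unitOfCoprime _ (hunit i) : (ZMod g)ˣ) : ZMod g).val = _
    rw [ZMod.coe_unitOfCoprime, ZMod.val_natCast_of_lt (hlt i i.2)]
  have he : Function.Bijective e := by
    refine ⟨fun i j h => ?_, fun t => ?_⟩
    · have h1 := hev i
      rw [h, hev j] at h1
      exact Fin.ext (Nat.eq_of_mul_eq_mul_left (by omega) (by omega : m * i.val = m * j.val))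
    · have h1 := (hcast t).mp t.2
      have h2 := Nat.div_add_mod ((t : (ZMod g)ˣ) : ZMod g).val m
      rw [h1] at h2
      have h3 := ZMod.val_lt ((t : (ZMod g)ˣ) : ZMod g)
      refine ⟨⟨((t : (ZMod g)ˣ) : ZMod g).val / m, ?_⟩, ?_⟩
      · by_contra hge
        push Not at hge
        have := Nat.mul_le_mul_left m hge
        omega
      · apply Subtype.ext; apply Units.ext; apply ZMod.val_injective
        rw [hev]
        show 1 + m * (((t : (ZMod g)ˣ) : ZMod g).val / m) = _
        omega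
  have hWcard : Nat.card Wild = N := by rw [← Nat.card_eq_of_bijective e he, Nat.card_fin]
  have hWp : IsPGroup p Wild := IsPGroup.of_card hWcard
  -- the index of the wild part is prime to `p`
  have hGcard : Nat.card Gal = N * (p - 1) := by
    have hsur := ZMod.unitsMap_surjective hg'g
    have h := Subgroup.card_eq_card_quotient_mul_card_subgroup (ZMod.unitsMap hg'g).ker
    rw [Nat.card_congr (QuotientGroup.quotientKerEquivOfSurjective _ hsur).toEquiv,
      Nat.card_eq_fintype_card (α := (ZMod g)ˣ), Nat.card_eq_fintype_card (α := (ZMod g')ˣ),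
      ZMod.card_units_eq_totient, ZMod.card_units_eq_totient] at h
    conv_lhs at h => rw [← hmul]
    rw [Nat.totient_mul hcop, Nat.totient_prime_pow hp ha] at h
    exact (Nat.eq_of_mul_eq_mul_left (Nat.totient_pos.mpr (Nat.pos_of_ne_zero hg'0)) h).symm
  have hp1 : ¬ p ∣ p - 1 := fun h => by
    have := Nat.le_of_dvd (Nat.sub_pos_of_lt hp.one_lt) h
    have := hp.two_le
    omega
  have hpm0 : p - 1 ≠ 0 := (Nat.sub_pos_of_lt hp.one_lt).ne'
  -- stabilizers
  let St := MulAction.stabilizer (ZMod g)ˣ χ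
  obtain ⟨s, hs⟩ := IsPGroup.iff_card.mp (hWp.to_le (inf_le_right : St ⊓ Wild ≤ Wild))
  have hsle : s ≤ a - 1 := by
    have h := Subgroup.card_dvd_of_le (inf_le_right : St ⊓ Wild ≤ Wild)
    rw [hs, hWcard] at h
    exact (Nat.pow_dvd_pow_iff_le_right hp.one_lt).mp h
  have hfac : ∀ j, (p ^ j).factorization p = j := fun j => by
    rw [hp.factorization_pow, Finsupp.single_eq_same]
  have hrfac : r.factorization p + s = a - 1 := by
    have horb : Nat.card (MulAction.orbit Gal χ) * Nat.card (MulAction.stabilizer Gal χ) =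
        Nat.card Gal := by
      rw [← Nat.card_prod]
      exact Nat.card_congr (MulAction.orbitProdStabilizerEquivGroup Gal χ)
    rw [hGcard] at horb
    let e1 : MulAction.stabilizer Gal χ ≃ (St ⊓ Gal : Subgroup (ZMod g)ˣ) :=
      { toFun := fun t => ⟨(t : Gal), t.2, (t : Gal).2⟩
        invFun := fun t => ⟨⟨t, t.2.2⟩, t.2.1⟩
        left_inv := fun _ => rfl
        right_inv := fun _ => rfl }
    rw [Nat.card_congr e1] at horb
    have hidx : (St ⊓ Wild).relIndex (St ⊓ Gal) ∣ Wild.relIndex Gal := by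
      have h1 : (St ⊓ Wild).relIndex (St ⊓ Gal) = Wild.relIndex (St ⊓ Gal) := by
        rw [show St ⊓ Wild = Wild ⊓ (St ⊓ Gal) by
          rw [inf_comm Wild, inf_assoc, inf_eq_right.mpr hWG], Subgroup.inf_relIndex_right]
      rw [h1]
      rw [← Subgroup.relIndex_subgroupOf (inf_le_right : St ⊓ Gal ≤ Gal)]
      exact Subgroup.relIndex_dvd_index_of_normal _ _
    have hcm : ∀ {H K : Subgroup (ZMod g)ˣ}, H ≤ K → Nat.card H * H.relIndex K = Nat.card K :=
      fun {H K} h => by
        have := (H.subgroupOf K).card_mul_index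
        rwa [Nat.card_congr (Subgroup.subgroupOfEquivOfLe h).toEquiv] at this
    have h2 := hcm (inf_le_inf_left St hWG)
    have h3 := hcm hWG
    rw [hWcard, hGcard] at h3
    have h4 : Wild.relIndex Gal = p - 1 := Nat.eq_of_mul_eq_mul_left (Nat.pos_of_ne_zero hN0) h3
    rw [h4] at hidx
    have hnd : ¬ p ∣ (St ⊓ Wild).relIndex (St ⊓ Gal) := fun h => hp1 (h.trans hidx)
    have hrel0 : (St ⊓ Wild).relIndex (St ⊓ Gal) ≠ 0 := fun h => hnd (h ▸ dvd_zero p)
    have hfS : (Nat.card (St ⊓ Gal : Subgroup (ZMod g)ˣ)).factorization p = s := by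
      rw [← h2, hs, Nat.factorization_mul (pow_pos hp.pos s).ne' hrel0, Finsupp.add_apply, hfac,
        Nat.factorization_eq_zero_of_not_dvd hnd, add_zero]
    have h5 : (r * Nat.card (St ⊓ Gal : Subgroup (ZMod g)ˣ)).factorization p =
        (N * (p - 1)).factorization p := congrArg (fun n : ℕ => n.factorization p) horb
    have hr0 : r ≠ 0 := by
      intro h
      show False
      rw [show Nat.card (MulAction.orbit Gal χ) = 0 from h, zero_mul] at horb
      exact mul_ne_zero hN0 hpm0 horb.symm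
    rw [Nat.factorization_mul hr0 Nat.card_pos.ne', Finsupp.add_apply, hfS,
      Nat.factorization_mul hN0 hpm0, Finsupp.add_apply, hN, hfac,
      Nat.factorization_eq_zero_of_not_dvd hp1, add_zero] at h5
    exact h5
  -- class sums
  let := Fintype.ofFinite (ConjClasses G)
  let ζ := Complex.exp (2 * Real.pi * Complex.I / g)
  have hζ : IsPrimitiveRoot ζ g := Complex.isPrimitiveRoot_exp g hg0
  have hχchar := IsIrr.isCharacter χ.2
  let av : (G → ℂ) → G → ℂ := fun φ x => (N : ℂ)⁻¹ * ∑ t : Wild, φ (x ^ ((t : (ZMod g)ˣ) : ZMod g).val)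
  have hav : ∀ (φ : G → ℂ) (x : G), av φ x =
      (N : ℂ)⁻¹ * ∑ i ∈ Finset.range N, φ (x ^ (1 + m * i)) := fun φ x => by
    show (N : ℂ)⁻¹ * _ = _
    rw [← Fin.sum_univ_eq_sum_range fun i => φ (x ^ (1 + m * i))]
    congr 1
    exact (Fintype.sum_bijective e he _ _ fun i => by rw [hev]).symm
  have havint : ∀ (φ : G → ℂ) (x : G) (R : ℤ[X]),
      (∀ j : ℕ, j.Coprime g → φ (x ^ j) = aeval (ζ ^ j) R) → IsIntegral ℤ (av φ x) := by
    intro φ x R hR
    rw [hav, Finset.sum_congr rfl fun i _ => hR _ (hunit i)]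
    exact isIntegral_average hg0 hζ.pow_eq_one hmN hN0 R
  let f : G → ℂ := av (χ : G → ℂ)
  let cl : G → ℂ := fun x => ((Subgroup.centralizer ({x} : Set G)).index : ℂ)
  let d' : ℂ := (χ : G → ℂ) 1
  let U : G → ℂ := fun x => cl x / d' * (χ : G → ℂ) x * conj ((χ : G → ℂ) x)
  let T : G → ℂ := fun x => cl x / d' * f x * conj (f x)
  have hχx : ∀ x y, IsConj x y → (χ : G → ℂ) x = (χ : G → ℂ) y := fun x y h => by
    obtain ⟨c, rfl⟩ := isConj_iff.mp h
    exact (IsIrr.isClassFunction χ.2 x c).symm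
  have hclx : ∀ x y, IsConj x y → cl x = cl y := fun x y h => by
    show ((_ : ℕ) : ℂ) = ((_ : ℕ) : ℂ)
    rw [← card_carrier_eq_index, ← card_carrier_eq_index,
      ConjClasses.mk_eq_mk_iff_isConj.mpr h]
  have hconjpow : ∀ (x y : G) (j : ℕ), IsConj x y → IsConj (x ^ j) (y ^ j) := fun x y j h => by
    obtain ⟨c, rfl⟩ := isConj_iff.mp h
    exact isConj_iff.mpr ⟨c, conj_pow.symm⟩
  have hfx : ∀ x y, IsConj x y → f x = f y := fun x y h => by
    simp only [f, av]
    exact congrArg _ (Finset.sum_congr rfl fun t _ => hχx _ _ (hconjpow x y _ h))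
  have hclpow : ∀ (x : G) (t : (ZMod g)ˣ), cl (x ^ (t : ZMod g).val) = cl x := fun x t => by
    show ((_ : ℕ) : ℂ) = ((_ : ℕ) : ℂ)
    congr 2
    ext y
    simp only [Subgroup.mem_centralizer_singleton_iff]
    refine ⟨fun h => ?_, fun h => (Commute.pow_right h _).eq⟩
    obtain ⟨j, hj⟩ := exists_pow_eq_self_of_coprime (x := x)
      ((ZMod.val_coe_unit_coprime t).coprime_dvd_right (orderOf_dvd_natCard x))
    have hc : Commute y ((x ^ (t : ZMod g).val) ^ j) := Commute.pow_right h j
    rwa [hj] at hc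
  have hfinv : ∀ (x : G) (t : Wild), f (x ^ ((t : (ZMod g)ˣ) : ZMod g).val) = f x := by
    intro x t
    simp only [f, av]
    congr 1
    refine Fintype.sum_equiv (Equiv.mulLeft t) _ _ fun u => ?_
    rw [pow_val_mul, Equiv.coe_mulLeft, Subgroup.coe_mul, Units.val_mul]
  -- integrality
  have hP : ∀ x, ∃ P : ℤ[X], ∀ j : ℕ, (χ : G → ℂ) (x ^ j) = aeval (ζ ^ j) P :=
    ComplexAut.exists_intPoly hχchar hζ
  have hQ : ∀ x, ∃ Q : ℤ[X], ∀ j : ℕ, j.Coprime g →
      cl x / d' * (χ : G → ℂ) (x ^ j) = aeval (ζ ^ j) Q := by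
    intro x
    obtain ⟨P, hP⟩ := hP x
    let c : ℚ := ((Subgroup.centralizer ({x} : Set G)).index : ℚ) / (d : ℚ)
    have hc : (c : ℂ) = cl x / d' := by
      show ((((Subgroup.centralizer ({x} : Set G)).index : ℚ) / (d : ℚ) : ℚ) : ℂ) = _
      rw [Rat.cast_div, Rat.cast_natCast, Rat.cast_natCast, hd, CharDegree.cast_irrDegree]
    have hint : IsIntegral ℤ ((c : ℂ) * aeval ζ P) := by
      have h1 := hP 1
      rw [pow_one, pow_one] at h1
      rw [← h1, hc, div_mul_eq_mul_div]
      exact CharDegree.isIntegral_centralChar χ x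
    obtain ⟨Q, hQ⟩ := ComplexAut.exists_intPoly_of_isIntegral hg0 hζ c P hint
    exact ⟨Q, fun j hj => by rw [← hc, hP, hQ j hj]⟩
  have hTint : ∀ x, IsIntegral ℤ (T x) := by
    intro x
    obtain ⟨P, hP⟩ := hP x
    obtain ⟨Q, hQ⟩ := hQ x
    have h1 : IsIntegral ℤ (f x) := havint _ x P fun j _ => hP j
    have h2 : IsIntegral ℤ (cl x / d' * f x) := by
      have h := havint (fun y => cl x / d' * (χ : G → ℂ) y) x Q hQ
      have e2 : cl x / d' * f x = av (fun y => cl x / d' * (χ : G → ℂ) y) x := by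
        simp only [f, av, ← Finset.mul_sum]
        ring
      rwa [e2]
    exact h2.mul (h1.map (starRingEnd ℂ).toIntAlgHom)
  -- the averaged `U`
  have hUavint : ∀ x, IsIntegral ℤ (av U x) := by
    intro x
    obtain ⟨P, hP⟩ := hP x
    obtain ⟨Q, hQ⟩ := hQ x
    refine havint _ x (Q * P.comp (X ^ (g - 1))) fun j hj => ?_
    rw [map_mul, aeval_comp, map_pow, aeval_X, ← hQ j hj, ← pow_mul, ← hP]
    have h1 : cl (x ^ j) = cl x := by
      have h := hclpow x (ZMod.unitOfCoprime j hj)
      rwa [ZMod.coe_unitOfCoprime, ZMod.val_natCast, ← show x ^ j = x ^ (j % g) from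
        (pow_mod_natCard x j).symm] at h
    have h2 : x ^ (j * (g - 1)) = (x ^ j)⁻¹ := by
      rw [pow_mul, eq_inv_iff_mul_eq_one, ← pow_succ, Nat.sub_add_cancel (Nat.pos_of_ne_zero hg0),
        pow_card_eq_one']
    show cl (x ^ j) / d' * (χ : G → ℂ) (x ^ j) * conj ((χ : G → ℂ) (x ^ j)) = _
    rw [h1, h2, IsIrr.map_inv χ.2]
  have havinv : ∀ (φ : G → ℂ) (x : G) (t : Wild),
      av φ (x ^ ((t : (ZMod g)ˣ) : ZMod g).val) = av φ x := by
    intro φ x t
    simp only [av]
    congr 1
    refine Fintype.sum_equiv (Equiv.mulLeft t) _ _ fun u => ?_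
    rw [pow_val_mul, Equiv.coe_mulLeft, Subgroup.coe_mul, Units.val_mul]
  -- functions on classes
  have hUx : ∀ x y, IsConj x y → U x = U y := fun x y h => by
    simp only [U, hclx x y h, hχx x y h]
  have hTx : ∀ x y, IsConj x y → T x = T y := fun x y h => by
    simp only [T, hclx x y h, hfx x y h]
  have havx : ∀ x y, IsConj x y → av U x = av U y := fun x y h => by
    simp only [av]
    exact congrArg _ (Finset.sum_congr rfl fun t _ => hUx _ _ (hconjpow x y _ h))
  have hout : ∀ (t : Wild) (C : ConjClasses G),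
      IsConj (C.out ^ ((t : (ZMod g)ˣ) : ZMod g).val) (t • C).out := by
    intro t C
    rw [← ConjClasses.mk_eq_mk_iff_isConj]
    refine Eq.trans ?_ (Quotient.out_eq (t • C)).symm
    show ConjClasses.mk _ = ((t : (ZMod g)ˣ)) • C
    conv_rhs => rw [← Quotient.out_eq C]
    rfl
  have hW0 : (N : ℂ) ≠ 0 := Nat.cast_ne_zero.mpr hN0
  have hc1 := congMod_sum_fixed (X := ConjClasses G) hWp (fun C => T C.out) (fun C => hTint _)
    (fun t C => by
      rw [← hTx _ _ (hout t C)]
      simp only [T, hclpow, hfinv])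
  have hc2 := congMod_sum_fixed (X := ConjClasses G) hWp (fun C => av U C.out) (fun C => hUavint _)
    (fun t C => by rw [← havx _ _ (hout t C), havinv])
  have hfix : ∀ C ∈ Finset.univ.filter (fun C : ConjClasses G => ∀ t : Wild, t • C = C),
      T C.out = av U C.out := by
    intro C hC
    have hC' := (Finset.mem_filter.mp hC).2
    have hpow : ∀ t : Wild, IsConj (C.out ^ ((t : (ZMod g)ˣ) : ZMod g).val) C.out := fun t => by
      have := hout t C
      rwa [hC' t] at this
    have hconst : ∀ φ : G → ℂ, (∀ x y, IsConj x y → φ x = φ y) → av φ C.out = φ C.out := by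
      intro φ hφ
      simp only [av]
      rw [Finset.sum_congr rfl fun t _ => hφ _ _ (hpow t), Finset.sum_const, Finset.card_univ,
        ← Nat.card_eq_fintype_card, hWcard, nsmul_eq_mul, inv_mul_cancel_left₀ hW0]
    rw [hconst U hUx]
    simp only [T, U, f, hconst _ hχx]
  rw [Finset.sum_congr rfl hfix] at hc1
  have hcong := hc1.trans hc2.symm
  -- evaluate the two sums
  have hd0 : d' ≠ 0 := IsIrr.apply_one_ne_zero χ.2
  have hUsum : ∑ C : ConjClasses G, av U C.out = ∑ C : ConjClasses G, U C.out := by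
    simp only [av, ← Finset.mul_sum]
    rw [Finset.sum_comm, Finset.sum_congr rfl (g := fun _ => ∑ C : ConjClasses G, U C.out)
      fun t _ => ?_, Finset.sum_const, Finset.card_univ, ← Nat.card_eq_fintype_card, hWcard,
      nsmul_eq_mul, inv_mul_cancel_left₀ hW0]
    exact Fintype.sum_equiv (MulAction.toPerm t) _ _ fun C => hUx _ _ (hout t C)
  have hUval : ∑ C : ConjClasses G, U C.out = (g : ℂ) / d' := by
    have h := sum_eq_sum_classes (fun x => (χ : G → ℂ) x * conj ((χ : G → ℂ) x))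
      fun x y h => by simp only [hχx x y h]
    have h1 := classInner_irr_self χ
    simp only [Cfsg.classInner] at h1
    rw [inv_mul_eq_iff_eq_mul₀ (Nat.cast_ne_zero.mpr Nat.card_pos.ne'), mul_one, h] at h1
    rw [eq_div_iff hd0, Finset.sum_mul]
    refine Eq.trans (Finset.sum_congr rfl fun C _ => ?_) h1
    simp only [U, cl]
    rw [← card_carrier_eq_index, show ConjClasses.mk C.out = C from Quotient.out_eq C]
    field_simp
  have hff : ∑ x : G, f x * conj (f x) = (g : ℂ) * (p ^ s : ℕ) / N := by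
    have hfd : f = (N : ℂ)⁻¹ • ∑ t : Wild,
        (((t : (ZMod g)ˣ) • χ : Cfsg.IrrCharacter G) : G → ℂ) := by
      funext x
      simp only [f, av, Pi.smul_apply, Finset.sum_apply, smul_eq_mul]
      rfl
    have hin : Cfsg.classInner f f = ((p ^ s : ℕ) : ℂ) / N := by
      rw [hfd, classInner_smul_left, classInner_smul_right, classInner_sum_left, map_inv₀,
        Complex.conj_natCast, Finset.sum_congr rfl (g := fun _ => ((p ^ s : ℕ) : ℂ)) fun t _ => ?_,
        Finset.sum_const, Finset.card_univ, ← Nat.card_eq_fintype_card, hWcard, nsmul_eq_mul]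
      · field_simp
      rw [classInner_sum_right, Finset.sum_congr rfl (g := fun u : Wild =>
        if ((t⁻¹ * u : Wild) : (ZMod g)ˣ) ∈ St then (1 : ℂ) else 0) fun u _ => ?_]
      · rw [show (∑ u : Wild, if ((t⁻¹ * u : Wild) : (ZMod g)ˣ) ∈ St then (1 : ℂ) else 0) =
            ∑ u : Wild, if (u : (ZMod g)ˣ) ∈ St then (1 : ℂ) else 0 from
          Equiv.sum_comp (Equiv.mulLeft t⁻¹) (fun u : Wild =>
            if (u : (ZMod g)ˣ) ∈ St then (1 : ℂ) else 0), Finset.sum_boole, ← hs]
        congr 1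
        rw [← Fintype.card_subtype, Nat.card_eq_fintype_card]
        exact Fintype.card_congr
          { toFun := fun u => ⟨(u.1 : (ZMod g)ˣ), u.2, u.1.2⟩
            invFun := fun u => ⟨⟨u, u.2.2⟩, u.2.1⟩
            left_inv := fun _ => rfl
            right_inv := fun _ => rfl }
      · rw [classInner_irr]
        refine if_congr ?_ rfl rfl
        rw [MulAction.mem_stabilizer_iff, Subgroup.coe_mul, Subgroup.coe_inv, mul_smul,
          inv_smul_eq_iff]
        exact eq_comm
    simp only [Cfsg.classInner] at hin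
    rw [inv_mul_eq_iff_eq_mul₀ (Nat.cast_ne_zero.mpr Nat.card_pos.ne'), ← mul_div_assoc] at hin
    exact hin
  have hTval : ∑ C : ConjClasses G, T C.out = (g : ℂ) * (p ^ s : ℕ) / (N * d') := by
    rw [sum_eq_sum_classes _ fun x y h => by simp only [hfx x y h]] at hff
    rw [div_mul_eq_div_div, ← hff, Finset.sum_div]
    refine Finset.sum_congr rfl fun C _ => ?_
    simp only [T, cl]
    rw [← card_carrier_eq_index, show ConjClasses.mk C.out = C from Quotient.out_eq C]
    ring
  rw [hUsum, hUval, hTval] at hcong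
  -- arithmetic
  have hTint' : IsIntegral ℤ ((g : ℂ) * (p ^ s : ℕ) / (N * d')) := by
    rw [← hTval]; exact IsIntegral.sum _ fun C _ => hTint _
  have hrat : (g : ℂ) * (p ^ s : ℕ) / (N * d') = (((g * p ^ s : ℕ) : ℚ) / ((N * d : ℕ) : ℚ) : ℚ) := by
    push_cast
    simp only [d', hd, CharDegree.cast_irrDegree]
  rw [hrat] at hTint' hcong
  rw [← eq_ratCast (algebraMap ℚ ℂ), isIntegral_algebraMap_iff (algebraMap ℚ ℂ).injective] at hTint'
  obtain ⟨z, hz⟩ := IsIntegrallyClosed.isIntegral_iff.mp hTint'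
  have hNd : ((N * d : ℕ) : ℚ) ≠ 0 := Nat.cast_ne_zero.mpr (mul_ne_zero hN0 hdpos.ne')
  rw [eq_div_iff hNd, eq_intCast] at hz
  have hzq : z * (N * d : ℕ) = (g * p ^ s : ℕ) := by exact_mod_cast hz
  have hznn : 0 ≤ z := by
    by_contra hneg
    push Not at hneg
    have := Nat.pos_of_ne_zero (mul_ne_zero hN0 hdpos.ne')
    have h0 : (0 : ℤ) ≤ ((g * p ^ s : ℕ) : ℤ) := Nat.cast_nonneg _
    rw [← hzq] at h0
    exact absurd h0 (not_le.mpr (mul_neg_of_neg_of_pos hneg (by exact_mod_cast this)))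
  lift z to ℕ using hznn
  have hzn : z * (N * d) = g * p ^ s := by exact_mod_cast hzq
  have hz0 : z ≠ 0 := fun h => by
    rw [h, zero_mul] at hzn
    exact mul_ne_zero hg0 (pow_pos hp.pos s).ne' hzn.symm
  have hfz : (z * (N * d)).factorization p = (g * p ^ s).factorization p :=
    congrArg (fun n : ℕ => n.factorization p) hzn
  rw [Nat.factorization_mul hz0 (mul_ne_zero hN0 hdpos.ne'), Finsupp.add_apply,
    Nat.factorization_mul hN0 hdpos.ne', Finsupp.add_apply,
    Nat.factorization_mul hg0 (pow_pos hp.pos s).ne', Finsupp.add_apply, hN, hfac, hfac] at hfz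
  refine ⟨by omega, fun heq => ?_⟩
  by_contra hlt'
  push Not at hlt'
  -- `z` is prime to `p`, while it is congruent to `g / d`
  obtain ⟨q, hq⟩ := hddvd
  have hgd : (g : ℂ) / d' = (q : ℂ) := by
    rw [div_eq_iff hd0]
    simp only [d']
    rw [← CharDegree.cast_irrDegree, ← hd]
    rw [hq]; push_cast; ring
  have hzc : (((g * p ^ s : ℕ) : ℚ) / ((N * d : ℕ) : ℚ) : ℚ) = (z : ℚ) := by
    rw [div_eq_iff hNd]; exact_mod_cast hzn.symm
  rw [hgd, hzc, Rat.cast_natCast] at hcong
  have hdvd := CongMod.dvd_sub_of_intCast hp.ne_zero (a := (z : ℤ)) (b := (q : ℤ))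
    (by simpa using hcong)
  have hq0 : q ≠ 0 := fun h => by rw [h, mul_zero] at hq; exact hg0 hq
  have hfq : q.factorization p + d.factorization p = a := by
    show _ = g.factorization p
    rw [hq, Nat.factorization_mul hdpos.ne' hq0, Finsupp.add_apply]
    omega
  have hzp : ¬ p ∣ z := fun h => by
    have := hp.factorization_pos_of_dvd hz0 h
    omega
  have hqp : p ∣ q := (hp.dvd_iff_one_le_factorization hq0).mpr (by omega)
  exact hzp (Int.natCast_dvd_natCast.mp (by
    simpa using dvd_add hdvd (Int.natCast_dvd_natCast.mpr hqp)))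

end CfsgLib.PConjugate

namespace CfsgLib.PConjugate

open CfsgLib.Char

/-- The `p`-conjugates form an orbit of the Galois group over the `p'`-roots of unity. -/
theorem card_conjugates {G : Type*} [Group G] [Finite G] (p : ℕ)
    (χ : Cfsg.IrrCharacter G) (g' : ℕ) (hg' : g' = Nat.card G / p ^ (Nat.card G).factorization p) :
    Nat.card {ψ : Cfsg.IrrCharacter G // ∃ σ : ℂ ≃+* ℂ,
      σ (Complex.exp (2 * Real.pi * Complex.I / (g' : ℕ))) =
        Complex.exp (2 * Real.pi * Complex.I / (g' : ℕ)) ∧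
      (ψ : G → ℂ) = fun x => σ ((χ : G → ℂ) x)} =
    Nat.card (MulAction.orbit (ZMod.unitsMap (Nat.div_dvd_of_dvd
      (Nat.ordProj_dvd (Nat.card G) p))).ker χ) := by
  subst hg'
  set g := Nat.card G
  set g' := g / p ^ g.factorization p with hg'
  have hg0 : g ≠ 0 := Nat.card_pos.ne'
  have : NeZero g := ⟨hg0⟩
  have hdvd : g' ∣ g := Nat.div_dvd_of_dvd (Nat.ordProj_dvd g p)
  have hmul : g' * p ^ g.factorization p = g := Nat.div_mul_cancel (Nat.ordProj_dvd g p)
  have hg'0 : g' ≠ 0 := fun h => by rw [h, zero_mul] at hmul; exact hg0 hmul.symm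
  have : NeZero g' := ⟨hg'0⟩
  let ζ := Complex.exp (2 * Real.pi * Complex.I / g)
  have hζ : IsPrimitiveRoot ζ g := Complex.isPrimitiveRoot_exp g hg0
  have hpow : Complex.exp (2 * Real.pi * Complex.I / (g' : ℕ)) = ζ ^ p ^ g.factorization p := by
    rw [← Complex.exp_nat_mul]
    congr 1
    have h : (g : ℂ) = (g' : ℂ) * ((p ^ g.factorization p : ℕ) : ℂ) := by exact_mod_cast hmul.symm
    have h1 : (g' : ℂ) ≠ 0 := Nat.cast_ne_zero.mpr hg'0
    have h2 : ((p ^ g.factorization p : ℕ) : ℂ) ≠ 0 := Nat.cast_ne_zero.mpr fun h => by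
      rw [h, mul_zero] at hmul; exact hg0 hmul.symm
    rw [h]
    field_simp
  have hζ' : IsPrimitiveRoot (ζ ^ p ^ g.factorization p) g' :=
    hζ.pow (Nat.pos_of_ne_zero hg0) (by rw [mul_comm, hmul])
  have hmem : ∀ t : (ZMod g)ˣ, t ∈ (ZMod.unitsMap hdvd).ker ↔
      (ζ ^ p ^ g.factorization p) ^ (t : ZMod g).val = ζ ^ p ^ g.factorization p := fun t => by
    rw [MonoidHom.mem_ker, Units.ext_iff, ZMod.unitsMap_val, Units.val_one, ← ZMod.natCast_val,
      show (1 : ZMod g') = ((1 : ℕ) : ZMod g') from Nat.cast_one.symm,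
      ZMod.natCast_eq_natCast_iff]
    conv_rhs => rhs; rw [← pow_one (ζ ^ p ^ g.factorization p)]
    rw [(hζ'.isOfFinOrder hg'0).pow_eq_pow_iff_modEq, ← hζ'.eq_orderOf]
  refine Nat.card_congr (Equiv.subtypeEquivRight fun ψ => ⟨?_, ?_⟩)
  · rintro ⟨σ, hσ, hψ⟩
    have hroot : IsPrimitiveRoot (σ ζ) g := hζ.map_of_injective σ.injective
    obtain ⟨k, hk, hkσ⟩ := hζ.eq_pow_of_pow_eq_one hroot.pow_eq_one
    have hcop : k.Coprime g := (hζ.pow_iff_coprime (Nat.pos_of_ne_zero hg0) k).mp (hkσ ▸ hroot)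
    have hval : ((ZMod.unitOfCoprime k hcop : (ZMod g)ˣ) : ZMod g).val = k := by
      rw [ZMod.coe_unitOfCoprime, ZMod.val_natCast_of_lt hk]
    refine ⟨⟨ZMod.unitOfCoprime k hcop, (hmem _).mpr ?_⟩, irr_ext fun x => ?_⟩
    · rw [hval, ← pow_mul, mul_comm, pow_mul, hkσ, ← map_pow, ← hpow]
      exact hσ
    · rw [hψ]
      show (χ : G → ℂ) (x ^ ((ZMod.unitOfCoprime k hcop : (ZMod g)ˣ) : ZMod g).val) = _
      rw [hval]
      exact (ComplexAut.aut_apply (IsIrr.isCharacter χ.2) hζ σ hkσ.symm x).symm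
  · rintro ⟨⟨t, ht⟩, rfl⟩
    obtain ⟨σ, hσ⟩ := ComplexAut.exists_aut hg0 hζ (ZMod.val_coe_unit_coprime t)
    refine ⟨σ, ?_, funext fun x => (ComplexAut.aut_apply (IsIrr.isCharacter χ.2) hζ σ hσ x).symm⟩
    rw [hpow, map_pow, hσ, ← pow_mul, mul_comm, pow_mul]
    exact (hmem t).mp ht

end CfsgLib.PConjugate
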