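import Cfsg.Agent.Lib.Char.Gallagher
import Cfsg.Agent.Lib.Char.DegreeRatio
import Cfsg.Agent.Lib.CharAction.PGroup
import Cfsg.Agent.Lib.Transfer.PResidual
import Cfsg.Agent.S0887
import Cfsg.Prelude.Def_Blocks

/-!
# Characters of degree and determinantal order prime to `p`, and `O^p(G)`
-/

namespace CfsgLib.CharExt

open CfsgLib.Char CfsgLib.Clifford
open scoped ComplexConjugate
open Module

theorem charDegree_cast {G : Type*} [Group G] {χ : G → ℂ} (h : Cfsg.IsCharacter G χ) :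
    (Cfsg.charDegree χ : ℂ) = χ 1 := by
  obtain ⟨d, hd⟩ := IsChar.exists_degree h
  rw [Cfsg.charDegree, hd, Complex.natCast_re, Nat.floor_natCast]

theorem orderOf_detHom_not_dvd {K : Type*} [Group K] [Finite K] {p : ℕ} (hp : p.Prime)
    (hK : Cfsg.pResidual p K = ⊤) {V : Type*} [AddCommGroup V] [Module ℂ V]
    (σ : Representation ℂ K V) : ¬ p ∣ orderOf (detHom σ) := by
  set m := Nat.card K / p ^ (Nat.card K).factorization p with hm
  have hpm : ¬ p ∣ m := Nat.not_dvd_ordCompl hp Nat.card_pos.ne'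
  intro h
  refine hpm (h.trans (orderOf_dvd_of_pow_eq_one (MonoidHom.ext fun g => ?_)))
  rw [MonoidHom.pow_apply, MonoidHom.one_apply]
  have hg : g ∈ Cfsg.pResidual p K := hK ▸ Subgroup.mem_top g
  induction hg using Subgroup.closure_induction with
  | mem x hx =>
    have hxm : orderOf x ∣ m := by
      have h1 : orderOf x ∣ p ^ (Nat.card K).factorization p * m := by
        rw [hm, Nat.ordProj_mul_ordCompl_eq_self]
        exact orderOf_dvd_natCard x
      exact (Nat.Coprime.pow_right _ hx).dvd_of_dvd_mul_left h1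
    obtain ⟨c, hc⟩ := hxm
    rw [← map_pow, hc, pow_mul, pow_orderOf_eq_one, one_pow, map_one]
  | one => rw [map_one, one_pow]
  | mul x y _ _ hx hy => rw [map_mul, mul_pow, hx, hy, one_mul]
  | inv x _ hx => rw [map_inv, inv_pow, hx, inv_one]

variable {G : Type*} [Group G] [Fintype G] {K : Subgroup G} [Fintype K] [hK : K.Normal]

/-- A character of degree prime to the index restricts irreducibly. -/
theorem isIrr_restrict_of_coprime (χ : Cfsg.IrrCharacter G)
    (hcop : (Cfsg.charDegree (χ : G → ℂ)).Coprime K.index) :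
    Cfsg.IsIrrCharacter K (fun n : K => (χ : G → ℂ) n) := by
  classical
  have hr : Cfsg.IsCharacter K (fun n : K => (χ : G → ℂ) n) :=
    IsChar.restrict K (IsIrr.isCharacter χ.2)
  obtain ⟨θ, hθ⟩ := exists_constituent (IsChar.isClassFunction hr) fun h =>
    IsIrr.apply_one_ne_zero χ.2 (by simpa using congrFun h 1)
  have hc := charDegree_cast (IsIrr.isCharacter χ.2)
  have hd := charDegree_cast (IsIrr.isCharacter θ.2)
  obtain ⟨h1, h2⟩ := Cfsg.Agent.S0887.result K (χ : G → ℂ) χ.2 (θ : K → ℂ) θ.2 hθ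
    (Cfsg.charDegree (χ : G → ℂ)) (Cfsg.charDegree (θ : K → ℂ)) hc.symm hd.symm
  have h3 : Cfsg.charDegree (χ : G → ℂ) / Cfsg.charDegree (θ : K → ℂ) = 1 :=
    Nat.eq_one_of_dvd_coprimes hcop (Nat.div_dvd_of_dvd h1) h2
  have h4 : Cfsg.charDegree (χ : G → ℂ) = Cfsg.charDegree (θ : K → ℂ) := by
    conv_lhs => rw [← Nat.div_mul_cancel h1, h3, one_mul]
  rw [eq_irr_of_degree_le hr θ hθ (c := Cfsg.charDegree (χ : G → ℂ))
    (c' := Cfsg.charDegree (θ : K → ℂ)) (by rw [hc]; simp) hd.symm h4.le]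
  exact θ.2

omit [Fintype K] hK in
theorem detOrder_rep_eq {V : Type*} [AddCommGroup V] [Module ℂ V] [FiniteDimensional ℂ V]
    (ρ : Representation ℂ G V) {χ : G → ℂ} (h : ρ.character = χ) :
    Cfsg.detOrder χ = orderOf (detHom ρ) := h ▸ detOrder_eq ρ

omit [Fintype K] hK [Fintype G] in
theorem card_pResidual_modEq [Finite G] (p : ℕ) (hp : p.Prime) :
    (Nat.card (Cfsg.pResidual p G) : ℤ) ≡
      (∑ᶠ χ ∈ {χ : Cfsg.IrrCharacter G | ¬ p ∣ Cfsg.charDegree (χ : G → ℂ) ∧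
        ¬ p ∣ Cfsg.detOrder (χ : G → ℂ)}, (Cfsg.charDegree (χ : G → ℂ) : ℤ) ^ 2) [ZMOD p] := by
  classical
  have := Fintype.ofFinite G
  have : Fact p.Prime := ⟨hp⟩
  set K := Cfsg.pResidual p G with hKdef
  have hKn : K.Normal := CfsgLib.Transfer.pResidual_normal
  have := Fintype.ofFinite K
  have := Fintype.ofFinite (Cfsg.IrrCharacter G)
  have := Fintype.ofFinite (Cfsg.IrrCharacter K)
  obtain ⟨n, hn⟩ := CfsgLib.Transfer.exists_index_pResidual (p := p) (G := G)
  obtain ⟨P⟩ : Nonempty (Sylow p G) := inferInstance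
  have hcopi : ∀ m : ℕ, ¬ p ∣ m → m.Coprime K.index := fun m hm => by
    rw [hKdef, hn]
    exact ((hp.coprime_iff_not_dvd.mpr hm).symm).pow_right n
  let Good : Cfsg.IrrCharacter G → Prop := fun χ =>
    ¬ p ∣ Cfsg.charDegree (χ : G → ℂ) ∧ ¬ p ∣ Cfsg.detOrder (χ : G → ℂ)
  rw [show {χ : Cfsg.IrrCharacter G | ¬ p ∣ Cfsg.charDegree (χ : G → ℂ) ∧
      ¬ p ∣ Cfsg.detOrder (χ : G → ℂ)} = ↑(Finset.univ.filter Good) by
    ext χ; simp [Good], finsum_mem_coe_finset]
  let Inv : Cfsg.IrrCharacter K → Prop := fun θ =>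
    ∀ g : G, conjFn hKn (θ : K → ℂ) g = θ
  let f : Cfsg.IrrCharacter K → ℕ := fun θ => Cfsg.charDegree (θ : K → ℂ) ^ 2
  -- restriction is a bijection
  have hbij : ∑ χ ∈ Finset.univ.filter Good, Cfsg.charDegree (χ : G → ℂ) ^ 2 =
      ∑ θ ∈ Finset.univ.filter (fun θ => Inv θ ∧ ¬ p ∣ Cfsg.charDegree (θ : K → ℂ)), f θ := by
    have hirr : ∀ χ, Good χ → Cfsg.IsIrrCharacter K (fun n : K => (χ : G → ℂ) n) :=
      fun χ hχ => isIrr_restrict_of_coprime χ (hcopi _ hχ.1)
    have hdeg : ∀ χ : Cfsg.IrrCharacter G,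
        Cfsg.charDegree (fun n : K => (χ : G → ℂ) n) = Cfsg.charDegree (χ : G → ℂ) := fun χ => rfl
    refine Finset.sum_bij (fun χ hχ => ⟨_, hirr χ (Finset.mem_filter.mp hχ).2⟩)
      (fun χ hχ => ?_) (fun χ hχ χ' hχ' h => ?_) (fun θ hθ => ?_) (fun χ hχ => rfl)
    · refine Finset.mem_filter.mpr ⟨Finset.mem_univ _, fun g => funext fun x => ?_,
        (Finset.mem_filter.mp hχ).2.1⟩
      exact IsIrr.isClassFunction χ.2 x g
    · have h' := congrArg Subtype.val h
      obtain ⟨hg1, hg2⟩ := (Finset.mem_filter.mp hχ).2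
      obtain ⟨hg1', hg2'⟩ := (Finset.mem_filter.mp hχ').2
      obtain ⟨m, ρ, -, hρ⟩ := χ.2
      obtain ⟨m', τ, -, hτ⟩ := χ'.2
      refine Subtype.ext (hρ.symm.trans (Eq.trans ?_ hτ))
      symm
      refine CfsgLib.Gallagher.eq_of_extensions (N := K) ρ τ ?_ ?_ ?_ ?_ ?_
      · rw [hρ]; exact hirr χ ⟨hg1, hg2⟩
      · intro x; rw [hρ, hτ]; exact (congrFun h' x).symm
      · rw [← detOrder_rep_eq ρ hρ]; exact hcopi _ hg2
      · rw [← detOrder_rep_eq τ hτ]; exact hcopi _ hg2'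
      · have h1 : Cfsg.charDegree (χ : G → ℂ) = finrank ℂ (Fin m → ℂ) := by
          rw [← hρ, Cfsg.charDegree, Representation.char_one, Complex.natCast_re,
            Nat.floor_natCast]
        rw [← h1]; exact hcopi _ hg1
    · obtain ⟨hinv, hpθ⟩ := (Finset.mem_filter.mp hθ).2
      obtain ⟨m, σ, hσ, hσc⟩ := θ.2
      have := hσ
      have hpo := orderOf_detHom_not_dvd hp CfsgLib.Transfer.pResidual_pResidual σ
      have h1 : Cfsg.charDegree (θ : K → ℂ) = finrank ℂ (Fin m → ℂ) := by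
        rw [← hσc, Cfsg.charDegree, Representation.char_one, Complex.natCast_re, Nat.floor_natCast]
      obtain ⟨ρ, hρ, hρo⟩ := exists_canonical_extension σ (fun g x => by
        rw [hσc]; exact congrFun (hinv g) x)
        (hcopi _ fun h => (hp.dvd_mul.mp h).elim hpo (h1 ▸ hpθ))
      have := isIrreducible_of_restrict ρ K.subtype σ hρ
      have hres : ∀ x : K, ρ.character x = σ.character x := fun x => by
        show LinearMap.trace ℂ _ (ρ x) = _
        rw [hρ]; rfl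
      refine ⟨irrOfRep ρ, Finset.mem_filter.mpr ⟨Finset.mem_univ _, ?_, ?_⟩,
        Subtype.ext ((funext hres).trans hσc)⟩
      · have h2 : Cfsg.charDegree ρ.character = finrank ℂ (Fin m → ℂ) := by
          rw [Cfsg.charDegree, Representation.char_one, Complex.natCast_re, Nat.floor_natCast]
        show ¬ p ∣ Cfsg.charDegree ρ.character
        rw [h2, ← h1]; exact hpθ
      · show ¬ p ∣ Cfsg.detOrder ρ.character
        rw [detOrder_eq, hρo]; exact hpo
  -- fixed points of a Sylow subgroup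
  let _act : MulAction P (Cfsg.IrrCharacter K) :=
    { smul := fun a θ => ⟨_, isIrrCharacter_conjFn hKn θ.2 ((a : G)⁻¹)⟩
      one_smul := fun θ => Subtype.ext (by
        show conjFn hKn (θ : K → ℂ) _ = _
        rw [OneMemClass.coe_one, inv_one, conjFn_one])
      mul_smul := fun a b θ => Subtype.ext (by
        show conjFn hKn (θ : K → ℂ) _ = conjFn hKn (conjFn hKn (θ : K → ℂ) _) _
        rw [← conjFn_mul, Subgroup.coe_mul, mul_inv_rev]) }
  have hfix : ∀ θ : Cfsg.IrrCharacter K, (∀ a : P, a • θ = θ) ↔ Inv θ := by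
    intro θ
    refine ⟨fun h g => ?_, fun h a => Subtype.ext (h _)⟩
    have hle : K ⊔ (P : Subgroup G) ≤ inertia hKn (θ : K → ℂ) :=
      sup_le (le_inertia hKn (IsIrr.isClassFunction θ.2)) fun a ha => by
        have h2 := congrArg Subtype.val (h ⟨a⁻¹, inv_mem ha⟩)
        change conjFn hKn (θ : K → ℂ) (a⁻¹)⁻¹ = θ at h2
        rwa [inv_inv] at h2
    have htop : K ⊔ (P : Subgroup G) = ⊤ := by
      rw [hKdef]; exact CfsgLib.Transfer.pResidual_sup_sylow P
    exact mem_inertia.mp (hle (by rw [htop]; trivial))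
  have hdeg1 : ∀ (a : P) (θ : Cfsg.IrrCharacter K),
      Cfsg.charDegree ((a • θ : Cfsg.IrrCharacter K) : K → ℂ) = Cfsg.charDegree (θ : K → ℂ) :=
    fun a θ => by
      show ⌊(conjFn hKn (θ : K → ℂ) _ 1).re⌋₊ = ⌊((θ : K → ℂ) 1).re⌋₊
      rw [conjFn_apply]
      have h : ∀ hx, (⟨(a : G)⁻¹ * ((1 : K) : G) * ((a : G)⁻¹)⁻¹, hx⟩ : K) = 1 := fun hx =>
        Subtype.ext (show (a : G)⁻¹ * ((1 : K) : G) * ((a : G)⁻¹)⁻¹ = ((1 : K) : G) by
          rw [OneMemClass.coe_one]; group)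
      rw [h]
  have hc := CharAction.congMod_sum_fixed P.isPGroup'
    (fun θ : Cfsg.IrrCharacter K => ((f θ : ℕ) : ℂ)) (fun θ => isIntegral_natCast _)
    (fun a θ => congrArg (fun d : ℕ => ((d ^ 2 : ℕ) : ℂ)) (hdeg1 a θ))
  have htot : ∑ θ : Cfsg.IrrCharacter K, ((f θ : ℕ) : ℂ) = (Nat.card K : ℂ) := by
    rw [← sum_sq_degree]
    exact Finset.sum_congr rfl fun θ _ => by
      simp only [f, Nat.cast_pow, charDegree_cast (IsIrr.isCharacter θ.2)]
  rw [htot, ← Nat.cast_sum] at hc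
  have hfil : ((p : ℤ)) ∣ (Nat.card K : ℤ) -
      ((∑ θ ∈ Finset.univ.filter (fun θ : Cfsg.IrrCharacter K => ∀ a : P, a • θ = θ), f θ : ℕ) : ℤ) :=
    CharAction.CongMod.dvd_sub_of_intCast hp.ne_zero
      (by rw [Int.cast_natCast, Int.cast_natCast]; exact hc)
  rw [Finset.filter_congr (fun θ _ => hfix θ),
    ← Finset.sum_filter_add_sum_filter_not _
      (fun θ : Cfsg.IrrCharacter K => ¬ p ∣ Cfsg.charDegree (θ : K → ℂ)),
    Finset.filter_filter, Finset.filter_filter, ← hbij, Nat.cast_add, ← sub_sub,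
    dvd_sub_left] at hfil
  · refine (Int.modEq_of_dvd hfil).symm.trans ?_
    push_cast
    exact Int.ModEq.refl _
  · refine Int.natCast_dvd_natCast.mpr (Finset.dvd_sum fun θ hθ => ?_)
    exact dvd_pow (not_not.mp (Finset.mem_filter.mp hθ).2.2) two_ne_zero

end CfsgLib.CharExt
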