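import Cfsg.Agent.Lib.Char.Central
import Mathlib

/-!
# Eigenspace projections of an element of prime order
-/

namespace CfsgLib.PrimeEigen

variable {G : Type*} [Group G] {n : ℕ} (ρ : Representation ℂ G (Fin n → ℂ)) (p : ℕ) (ζ : ℂ) (z : G)

/-- The projection on the `ζ ^ k`-eigenspace of `z`. -/
noncomputable def proj (k : ℕ) : Module.End ℂ (Fin n → ℂ) :=
  (p : ℂ)⁻¹ • ∑ j ∈ Finset.range p, (ζ⁻¹) ^ (k * j) • ρ (z ^ j)

theorem proj_apply (k : ℕ) (v : Fin n → ℂ) :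
    proj ρ p ζ z k v = (p : ℂ)⁻¹ • ∑ j ∈ Finset.range p, (ζ⁻¹) ^ (k * j) • ρ (z ^ j) v := by
  simp [proj]

variable {p ζ z}
variable (hp : p ≠ 0) (hζ : IsPrimitiveRoot ζ p) (hz : z ^ p = 1)
include hp hζ hz

theorem apply_proj (k : ℕ) (v : Fin n → ℂ) : ρ z (proj ρ p ζ z k v) = ζ ^ k • proj ρ p ζ z k v := by
  have hζ0 : ζ ≠ 0 := hζ.ne_zero hp
  simp only [proj_apply, map_smul, map_sum]
  rw [smul_comm (ζ ^ k), Finset.smul_sum (r := ζ ^ k)]
  congr 1
  let T : ℕ → (Fin n → ℂ) := fun j => (ζ⁻¹) ^ (k * j) • ρ (z ^ j) v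
  have hT : ∀ j, ζ⁻¹ ^ (k * j) • ρ z (ρ (z ^ j) v) = ζ ^ k • T (j + 1) := fun j => by
    simp only [T]
    rw [smul_smul, pow_succ' z j, map_mul, Module.End.mul_apply, mul_add, mul_one, pow_add, inv_pow ζ k,
      mul_comm (ζ⁻¹ ^ (k * j)), ← mul_assoc, mul_inv_cancel₀ (pow_ne_zero _ hζ0), one_mul]
  rw [Finset.sum_congr rfl fun j _ => hT j, ← Finset.smul_sum, ← Finset.smul_sum]
  congr 1
  have h1 := Finset.sum_range_succ T p
  have h2 := Finset.sum_range_succ' T p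
  have hTp : T p = T 0 := by
    simp only [T, mul_zero, pow_zero]
    rw [mul_comm k p, pow_mul, inv_pow, hζ.pow_eq_one, inv_one, one_pow, hz]
  rw [h1, hTp] at h2
  exact (add_right_cancel h2).symm

theorem sum_proj (v : Fin n → ℂ) : ∑ k ∈ Finset.range p, proj ρ p ζ z k v = v := by
  simp only [proj_apply, ← Finset.smul_sum]
  rw [Finset.sum_comm]
  simp only [← Finset.sum_smul]
  rw [Finset.sum_eq_single 0 (fun j hj hj0 => by
    have hne1 : (ζ⁻¹) ^ j ≠ 1 := by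
      rw [inv_pow, inv_ne_one]
      exact hζ.pow_ne_one_of_pos_of_lt hj0 (Finset.mem_range.1 hj)
    simp only [mul_comm _ j, pow_mul]
    rw [geom_sum_eq hne1, ← pow_mul, mul_comm j p, pow_mul, inv_pow, hζ.pow_eq_one, inv_one, one_pow,
      sub_self, zero_div, zero_smul]) (fun h => absurd (Finset.mem_range.2 (Nat.pos_of_ne_zero hp)) h)]
  simp [smul_smul, hp]

theorem pow_apply_proj (j k : ℕ) (v : Fin n → ℂ) :
    ρ (z ^ j) (proj ρ p ζ z k v) = (ζ ^ k) ^ j • proj ρ p ζ z k v := by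
  induction j with
  | zero => simp
  | succ j ih => rw [pow_succ' z, map_mul, Module.End.mul_apply, ih, map_smul, apply_proj ρ hp hζ hz, smul_smul, pow_succ]

theorem proj_proj (k : ℕ) (v : Fin n → ℂ) : proj ρ p ζ z k (proj ρ p ζ z k v) = proj ρ p ζ z k v := by
  have hζ0 : ζ ≠ 0 := hζ.ne_zero hp
  rw [proj_apply ρ p ζ z k (proj ρ p ζ z k v), Finset.sum_congr rfl fun j _ => show
    (ζ⁻¹) ^ (k * j) • ρ (z ^ j) (proj ρ p ζ z k v) = proj ρ p ζ z k v by
      rw [pow_apply_proj ρ hp hζ hz, smul_smul, ← pow_mul, ← mul_pow, inv_mul_cancel₀ hζ0, one_pow, one_smul],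
    Finset.sum_const, Finset.card_range, ← Nat.cast_smul_eq_nsmul ℂ, smul_smul,
    inv_mul_cancel₀ (Nat.cast_ne_zero.2 hp), one_smul]

/-- An eigenvalue of multiplicity zero, read off from the character, does not occur. -/
theorem proj_eq_zero (k : ℕ) (hk : ∑ j ∈ Finset.range p, (ζ⁻¹) ^ (k * j) * ρ.character (z ^ j) = 0)
    (v : Fin n → ℂ) : proj ρ p ζ z k v = 0 := by
  have htr : LinearMap.trace ℂ _ (proj ρ p ζ z k) =
      (Module.finrank ℂ (LinearMap.range (proj ρ p ζ z k)) : ℂ) :=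
    (show LinearMap.IsProj (LinearMap.range (proj ρ p ζ z k)) (proj ρ p ζ z k) from
      ⟨fun v => LinearMap.mem_range_self _ v, by rintro _ ⟨v, rfl⟩; exact proj_proj ρ hp hζ hz k v⟩).trace
  have h0 : LinearMap.trace ℂ _ (proj ρ p ζ z k) = 0 := by
    simp only [proj, map_smul, map_sum, smul_eq_mul]
    exact mul_eq_zero_of_right _ hk
  rw [h0] at htr
  have h1 := Submodule.finrank_eq_zero.1 (Nat.cast_eq_zero.1 htr.symm : Module.finrank ℂ _ = 0)
  exact (Submodule.mem_bot ℂ).1 (h1 ▸ LinearMap.mem_range_self (proj ρ p ζ z k) v)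

end CfsgLib.PrimeEigen
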