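import Cfsg.Agent.Lib.Char.GaloisMean
import Cfsg.Agent.Lib.CharAction.PGroup
import Mathlib.Algebra.Order.Chebyshev

/-!
# A degree obstruction from the values on cyclic subgroups of prime order

For a nontrivial irreducible character the sums of `|χ|² + ε Re χ` (`ε = ±1`) over a set of
elements closed under coprime powers are nonnegative, so their total over some conjugates of
subgroups of prime order is at most `|G| - χ(1)² - ε χ(1)`.  On a subgroup of prime order the sum
is a quadratic expression in the eigenvalue multiplicities.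
-/

set_option autoImplicit false

namespace CfsgLib.Char.PrimeBound

open Cfsg
open scoped ComplexConjugate

variable {G : Type*} [Group G]

/-- Over a set closed under coprime powers the absolute values sum to at most their squares. -/
theorem sum_norm_le_sum_normSq [Finite G] {χ : G → ℂ} (hχ : IsCharacter G χ) (A : Finset G)
    (hcl : ∀ x ∈ A, ∀ k : ℕ, k.Coprime (Nat.card G) → x ^ k ∈ A) :
    ∑ x ∈ A, ‖χ x‖ ≤ ∑ x ∈ A, Complex.normSq (χ x) := by
  classical
  set B := A.filter fun x => χ x ≠ 0 with hB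
  have hsub : ∀ f : ℂ → ℝ, f 0 = 0 → ∑ x ∈ A, f (χ x) = ∑ x ∈ B, f (χ x) := fun f hf =>
    (Finset.sum_subset (Finset.filter_subset _ _) fun x hx hn => by
      have : χ x = 0 := by
        by_contra hne
        exact hn (Finset.mem_filter.mpr ⟨hx, hne⟩)
      rw [this, hf]).symm
  rw [hsub (fun z => ‖z‖) norm_zero, hsub Complex.normSq (map_zero _)]
  have h1 : (B.card : ℝ) ≤ ∑ x ∈ B, ‖χ x‖ :=
    card_le_sum_norm hχ B (fun x hx => (Finset.mem_filter.mp hx).2) fun x hx k hk =>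
      Finset.mem_filter.mpr ⟨hcl x (Finset.mem_filter.mp hx).1 k hk,
        fun h0 => (Finset.mem_filter.mp hx).2 (CharAction.eq_zero_of_pow_eq_zero hχ hk.symm h0)⟩
  have h2 := sq_sum_le_card_mul_sum_sq (s := B) (f := fun x => ‖χ x‖)
  simp only [Complex.normSq_eq_norm_sq]
  rcases (Finset.sum_nonneg fun x (_ : x ∈ B) => norm_nonneg (χ x)).lt_or_eq with hpos | h0
  · refine le_of_mul_le_mul_left ?_ hpos
    calc (∑ x ∈ B, ‖χ x‖) * ∑ x ∈ B, ‖χ x‖ = (∑ x ∈ B, ‖χ x‖) ^ 2 := (sq _).symm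
      _ ≤ B.card * ∑ x ∈ B, ‖χ x‖ ^ 2 := h2
      _ ≤ _ := mul_le_mul_of_nonneg_right h1 (Finset.sum_nonneg fun x _ => sq_nonneg _)
  · rw [← h0]
    exact Finset.sum_nonneg fun x _ => sq_nonneg _

/-- The basic inequality. -/
theorem sum_le_card [Finite G] (χ : IrrCharacter G) (hχ : (χ : G → ℂ) ≠ fun _ => 1) {d : ℕ}
    (hd : (χ : G → ℂ) 1 = d) {ε : ℝ} (hε : |ε| ≤ 1) (A : Finset G) (h1 : (1 : G) ∉ A)
    (hcl : ∀ x ∈ A, ∀ k : ℕ, k.Coprime (Nat.card G) → x ^ k ∈ A) :
    (d : ℝ) ^ 2 + ε * d + ∑ x ∈ A, (Complex.normSq ((χ : G → ℂ) x) + ε * ((χ : G → ℂ) x).re) ≤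
      Nat.card G := by
  classical
  have := Fintype.ofFinite G
  have hc : IsCharacter G (χ : G → ℂ) := IsIrr.isCharacter χ.2
  have hsq : ∑ x : G, Complex.normSq ((χ : G → ℂ) x) = Nat.card G := by
    have h := CharAction.sum_irr_mul_conj χ χ
    rw [if_pos rfl] at h
    simp only [Complex.mul_conj, ← Complex.ofReal_sum] at h
    rw [← Complex.ofReal_natCast, Complex.ofReal_inj] at h
    exact h
  have hre : ∑ x : G, ((χ : G → ℂ) x).re = 0 := by
    have h := CharAction.sum_irr_mul_conj χ (trivChar G)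
    rw [if_neg (fun e => hχ (by rw [e]; rfl))] at h
    simp only [trivChar_apply, map_one, mul_one] at h
    rw [← Complex.re_sum, h, Complex.zero_re]
  have htot : ∑ x : G, (Complex.normSq ((χ : G → ℂ) x) + ε * ((χ : G → ℂ) x).re) = Nat.card G := by
    rw [Finset.sum_add_distrib, ← Finset.mul_sum, hsq, hre, mul_zero, add_zero]
  set R := (Finset.univ : Finset G) \ insert 1 A with hR
  have hRcl : ∀ x ∈ R, ∀ k : ℕ, k.Coprime (Nat.card G) → x ^ k ∈ R := by
    intro x hx k hk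
    have hbij : Function.Injective fun y : G => y ^ k :=
      (powCoprime (G := G) hk.symm).bijective.1
    have himg : A.image (fun y => y ^ k) = A := by
      refine Finset.eq_of_subset_of_card_le (fun y hy => ?_)
        (Finset.card_image_of_injective A hbij).ge
      obtain ⟨z, hz, rfl⟩ := Finset.mem_image.mp hy
      exact hcl z hz _ hk
    simp only [hR, Finset.mem_sdiff, Finset.mem_univ, true_and, Finset.mem_insert, not_or] at hx ⊢
    refine ⟨fun e => hx.1 (hbij (by simpa using e)), fun e => hx.2 ?_⟩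
    rw [← himg] at e
    obtain ⟨z, hz, hzx⟩ := Finset.mem_image.mp e
    exact hbij hzx ▸ hz
  have hRnn : 0 ≤ ∑ x ∈ R, (Complex.normSq ((χ : G → ℂ) x) + ε * ((χ : G → ℂ) x).re) := by
    have h := sum_norm_le_sum_normSq hc R hRcl
    have h' : ∀ x ∈ R, -‖(χ : G → ℂ) x‖ ≤ ε * ((χ : G → ℂ) x).re := fun x _ => by
      have : |ε * ((χ : G → ℂ) x).re| ≤ ‖(χ : G → ℂ) x‖ := by
        rw [abs_mul]
        exact (mul_le_of_le_one_left (abs_nonneg _) hε).trans (Complex.abs_re_le_norm _)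
      linarith [abs_le.mp this]
    have h'' := Finset.sum_le_sum h'
    rw [Finset.sum_neg_distrib] at h''
    rw [Finset.sum_add_distrib]
    linarith
  rw [← Finset.sum_sdiff (Finset.subset_univ (insert 1 A)), Finset.sum_insert h1] at htot
  rw [hd] at htot
  simp only [Complex.normSq_natCast, Complex.natCast_re] at htot
  rw [← hR] at htot
  nlinarith

/-- The multiplicities of the eigenvalues on a subgroup of prime order. -/
theorem exists_mult [Finite G] {χ : G → ℂ} (hχ : IsCharacter G χ) {q : ℕ} [Fact q.Prime] {x : G}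
    (hx : x ^ q = 1) :
    ∃ (ζ : ℂ) (n : ZMod q → ℕ), IsPrimitiveRoot ζ q ∧
      (∀ k : ℕ, χ (x ^ k) = ∑ j : ZMod q, (n j : ℂ) * ζ ^ (j.val * k)) ∧
      (∀ j : ZMod q, (q : ℂ) * n j = ∑ k : ZMod q, χ (x ^ k.val) * ζ⁻¹ ^ (j.val * k.val)) := by
  classical
  have hq0 : q ≠ 0 := (Fact.out : q.Prime).ne_zero
  have : NeZero q := ⟨hq0⟩
  set ζ := Complex.exp (2 * Real.pi * Complex.I / q) with hζdef
  have hζ : IsPrimitiveRoot ζ q := Complex.isPrimitiveRoot_exp q hq0
  obtain ⟨m, ρ, rfl⟩ := hχ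
  obtain ⟨e, he, -, hpow, -⟩ := exists_eigenvalues ρ x
  have hj : ∀ i, ∃ j : ZMod q, ζ ^ j.val = e i := fun i => by
    obtain ⟨c, hc⟩ := orderOf_dvd_of_pow_eq_one hx
    obtain ⟨j, hjlt, hj⟩ := hζ.eq_pow_of_pow_eq_one (ξ := e i) (by rw [hc, pow_mul, he i, one_pow])
    exact ⟨(j : ZMod q), by rw [ZMod.val_natCast, Nat.mod_eq_of_lt hjlt, hj]⟩
  choose f hf using hj
  have hval : ∀ k : ℕ, ρ.character (x ^ k) =
      ∑ j : ZMod q, ((Finset.univ.filter fun i => f i = j).card : ℂ) * ζ ^ (j.val * k) := by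
    intro k
    rw [hpow, ← Finset.sum_fiberwise_of_maps_to (t := Finset.univ) (g := f)
      (fun i _ => Finset.mem_univ _)]
    refine Finset.sum_congr rfl fun j _ => ?_
    rw [Finset.sum_congr rfl fun i hi => by rw [← hf i, (Finset.mem_filter.mp hi).2, ← pow_mul],
      Finset.sum_const, nsmul_eq_mul]
  refine ⟨ζ, fun j => (Finset.univ.filter fun i => f i = j).card, hζ, hval, fun j => ?_⟩
  have horth : ∀ i : ZMod q,
      ∑ k : ZMod q, ζ ^ (i.val * k.val) * ζ⁻¹ ^ (j.val * k.val) = if i = j then (q : ℂ) else 0 := by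
    intro i
    split_ifs with h
    · subst h
      simp [inv_pow, hζ.ne_zero hq0]
    · set η := ζ ^ i.val * ζ⁻¹ ^ j.val with hη
      have hterm : ∀ k : ZMod q, ζ ^ (i.val * k.val) * ζ⁻¹ ^ (j.val * k.val) = η ^ k.val := fun k => by
        rw [hη, mul_pow, ← pow_mul, ← pow_mul]
      simp only [hterm]
      have hη1 : η ^ q = 1 := by
        rw [hη, mul_pow, ← pow_mul, ← pow_mul, Nat.mul_comm i.val, Nat.mul_comm j.val, pow_mul,
          pow_mul, hζ.pow_eq_one, inv_pow, hζ.pow_eq_one, inv_one, one_pow, one_pow, mul_one]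
      have hne : η ≠ 1 := fun e => h (ZMod.val_injective q (hζ.pow_inj (ZMod.val_lt i) (ZMod.val_lt j)
        (by rw [hη, inv_pow] at e; exact (mul_inv_eq_one₀ (pow_ne_zero _ (hζ.ne_zero hq0))).mp e)))
      have hsum : ∑ k : ZMod q, η ^ k.val = ∑ k ∈ Finset.range q, η ^ k :=
        Finset.sum_bij (fun k _ => k.val) (fun k _ => Finset.mem_range.mpr (ZMod.val_lt k))
          (fun a _ b _ e => ZMod.val_injective q e)
          (fun b hb => ⟨(b : ZMod q), Finset.mem_univ _, by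
            rw [ZMod.val_natCast, Nat.mod_eq_of_lt (Finset.mem_range.mp hb)]⟩)
          (fun _ _ => rfl)
      rw [hsum, geom_sum_eq hne, hη1, sub_self, zero_div]
  simp only [hval, Finset.sum_mul]
  rw [Finset.sum_comm]
  simp only [mul_assoc, ← Finset.mul_sum, horth, mul_ite, mul_zero]
  rw [Finset.sum_ite_eq' Finset.univ j, if_pos (Finset.mem_univ _), mul_comm]

/-- The sums over a subgroup of prime order whose nontrivial elements fall into at most two
classes `x ^ (± a ^ e)`: the multiplicity of the eigenvalue one and the two others. -/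
theorem exists_two_class [Finite G] {χ : G → ℂ} (hχ : IsCharacter G χ) {d : ℕ} (hd : χ 1 = d)
    {q : ℕ} [Fact q.Prime] {x : G} (hx : x ^ q = 1) {a : ℕ} (ha0 : (a : ZMod q) ≠ 0) (hconj : IsConj x (x ^ a)) {h : ℕ}
    (hsplit : ∀ j : ZMod q, j ≠ 0 → ∃ e < h, j = (a : ZMod q) ^ e ∨ j = -(a : ZMod q) ^ e)
    (hq : q = 2 * h + 1) :
    ∃ n₀ A B : ℕ, d = n₀ + h * (A + B) ∧
      ∑ k ∈ Finset.univ.erase (0 : ZMod q), Complex.normSq (χ (x ^ k.val)) =
        (q : ℝ) * ((n₀ : ℝ) ^ 2 + h * (A : ℝ) ^ 2 + h * (B : ℝ) ^ 2) - (d : ℝ) ^ 2 ∧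
      ∑ k ∈ Finset.univ.erase (0 : ZMod q), (χ (x ^ k.val)).re = (q : ℝ) * n₀ - d ∧
      ((-1 : ZMod q) = (a : ZMod q) ^ h → A = B) ∧
      ((∀ k : ℕ, IsIntegral ℤ (χ (x ^ k) / 2)) → Odd q → 2 ∣ n₀ ∧ 2 ∣ A ∧ 2 ∣ B) := by
  classical
  have hq0 : q ≠ 0 := (Fact.out : q.Prime).ne_zero
  have : NeZero q := ⟨hq0⟩
  obtain ⟨ζ, n, hζ, hval, hinv⟩ := exists_mult hχ hx
  set E : ZMod q → ℂ := fun z => ζ⁻¹ ^ z.val with hE
  have hEm : ∀ j k : ZMod q, ζ⁻¹ ^ (j.val * k.val) = E (j * k) := fun j k => by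
    have h1 : ζ⁻¹ ^ q = 1 := by rw [inv_pow, hζ.pow_eq_one, inv_one]
    rw [hE, pow_eq_pow_mod _ h1]
    simp [ZMod.val_mul]
  have hxa : ∀ k : ZMod q, χ (x ^ ((a : ZMod q) * k).val) = χ (x ^ k.val) := fun k => by
    obtain ⟨c, hc⟩ := isConj_iff.mp hconj
    have e : x ^ ((a : ZMod q) * k).val = (x ^ a) ^ k.val := by
      rw [← pow_mul, pow_eq_pow_mod (a * k.val) hx, ZMod.val_mul, ZMod.val_natCast]
      congr 1
      simp [Nat.mul_mod]
    rw [e, ← hc, conj_pow, (IsChar.isClassFunction hχ) _ _]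
  have hninv : ∀ j, n (j * a) = n j := by
    intro j
    have h1 : (q : ℂ) * n (j * a) = (q : ℂ) * n j := by
      rw [hinv, hinv]
      refine Fintype.sum_equiv (Equiv.mulLeft₀ (a : ZMod q) ha0) _ _ fun k => ?_
      simp only [Equiv.mulLeft₀_apply, hxa, hEm, mul_assoc]
    exact_mod_cast mul_left_cancel₀ (Nat.cast_ne_zero.mpr hq0) h1
  have hpow : ∀ (j : ZMod q) (e : ℕ), n (j * (a : ZMod q) ^ e) = n j := by
    intro j e
    induction e with
    | zero => rw [pow_zero, mul_one]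
    | succ e ih => rw [pow_succ, ← mul_assoc, hninv, ih]
  set Qp := (Finset.range h).image fun e => (a : ZMod q) ^ e with hQp
  set Qm := (Finset.range h).image fun e => -(a : ZMod q) ^ e with hQm
  have hcov : Finset.univ.erase (0 : ZMod q) = Qp ∪ Qm := by
    ext j
    simp only [Finset.mem_erase, Finset.mem_univ, and_true, Finset.mem_union, hQp, hQm,
      Finset.mem_image, Finset.mem_range]
    constructor
    · intro hj
      obtain ⟨e, he, he' | he'⟩ := hsplit j hj
      exacts [Or.inl ⟨e, he, he'.symm⟩, Or.inr ⟨e, he, he'.symm⟩]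
    · rintro (⟨e, -, rfl⟩ | ⟨e, -, rfl⟩)
      exacts [pow_ne_zero _ ha0, neg_ne_zero.mpr (pow_ne_zero _ ha0)]
  have hc : (Qp ∪ Qm).card = 2 * h := by
    rw [← hcov, Finset.card_erase_of_mem (Finset.mem_univ _), Finset.card_univ, ZMod.card, hq]
    omega
  have hcp : Qp.card ≤ h := Finset.card_image_le.trans (Finset.card_range h).le
  have hcm : Qm.card ≤ h := Finset.card_image_le.trans (Finset.card_range h).le
  have hcu := Finset.card_union_add_card_inter Qp Qm
  have hdisj : Disjoint Qp Qm := by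
    rw [Finset.disjoint_iff_inter_eq_empty, ← Finset.card_eq_zero]
    omega
  have hnp : ∀ j ∈ Qp, n j = n 1 := fun j hj => by
    obtain ⟨e, -, rfl⟩ := Finset.mem_image.mp hj
    simpa using hpow 1 e
  have hnm : ∀ j ∈ Qm, n j = n (-1) := fun j hj => by
    obtain ⟨e, -, rfl⟩ := Finset.mem_image.mp hj
    simpa using hpow (-1) e
  have hsum : ∀ f : ℕ → ℂ, ∑ j, f (n j) = f (n 0) + h * f (n 1) + h * f (n (-1)) := by
    intro f
    have e1 : ∑ j ∈ Qp, f (n j) = h * f (n 1) := by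
      rw [Finset.sum_congr rfl (g := fun _ => f (n 1)) fun j hj => by rw [hnp j hj],
        Finset.sum_const, show Qp.card = h by omega, nsmul_eq_mul]
    have e2 : ∑ j ∈ Qm, f (n j) = h * f (n (-1)) := by
      rw [Finset.sum_congr rfl (g := fun _ => f (n (-1))) fun j hj => by rw [hnm j hj],
        Finset.sum_const, show Qm.card = h by omega, nsmul_eq_mul]
    rw [← Finset.add_sum_erase _ _ (Finset.mem_univ (0 : ZMod q)), hcov, Finset.sum_union hdisj,
      e1, e2, add_assoc]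
  have hdsum : (d : ℂ) = ∑ j, (n j : ℂ) := by
    have := hval 0
    simpa [hd] using this
  have hconjv : ∀ k : ℕ, conj (χ (x ^ k)) = ∑ j : ZMod q, (n j : ℂ) * ζ⁻¹ ^ (j.val * k) := by
    intro k
    rw [hval, map_sum]
    simp [Complex.inv_eq_conj (hζ.norm'_eq_one hq0)]
  have hW : ∑ k : ZMod q, (Complex.normSq (χ (x ^ k.val)) : ℂ) =
      (q : ℂ) * ∑ j, (n j : ℂ) ^ 2 := by
    simp only [← Complex.mul_conj, hconjv, Finset.mul_sum]
    rw [Finset.sum_comm]
    refine Finset.sum_congr rfl fun j _ => ?_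
    rw [show (q : ℂ) * (n j : ℂ) ^ 2 = n j * ((q : ℂ) * n j) by ring, hinv, Finset.mul_sum]
    exact Finset.sum_congr rfl fun k _ => by ring
  have hT : ∑ k : ZMod q, χ (x ^ k.val) = (q : ℂ) * n 0 := by
    rw [hinv 0]; simp
  refine ⟨n 0, n 1, n (-1), ?_, ?_, ?_, fun hm => ?_, fun hint hodd => ?_⟩
  · have := hdsum.trans (hsum fun m => (m : ℂ))
    have h' : (d : ℂ) = ((n 0 + h * (n 1 + n (-1)) : ℕ) : ℂ) := by rw [this]; push_cast; ring
    exact_mod_cast h'
  · apply Complex.ofReal_injective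
    push_cast
    rw [Finset.sum_erase_eq_sub (Finset.mem_univ _), hW, hsum fun m => (m : ℂ) ^ 2, ZMod.val_zero,
      pow_zero, hd, Complex.normSq_natCast]
    push_cast
    ring
  · rw [← Complex.re_sum, Finset.sum_erase_eq_sub (Finset.mem_univ _), hT, ZMod.val_zero,
      pow_zero, hd]
    simp
  · rw [hm]
    simpa using (hpow 1 h).symm
  · have hev : ∀ j, 2 ∣ n j := by
      intro j
      have h1 : IsIntegral ℤ ((((q * n j : ℕ) : ℚ) / 2 : ℚ) : ℂ) := by
        push_cast
        rw [hinv, Finset.sum_div]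
        refine IsIntegral.sum _ fun k _ => ?_
        rw [mul_div_right_comm]
        exact (hint k.val).mul ((IsIntegral.of_pow (Nat.pos_of_ne_zero hq0)
          (by rw [inv_pow, hζ.pow_eq_one, inv_one]; exact isIntegral_one)).pow _)
      have h2 : IsIntegral ℤ (((q * n j : ℕ) : ℚ) / 2) :=
        (isIntegral_algebraMap_iff (algebraMap ℚ ℂ).injective).mp h1
      obtain ⟨c, hc⟩ := IsIntegrallyClosed.isIntegral_iff.mp h2
      rw [eq_div_iff (by norm_num), eq_intCast] at hc
      have h3 : (2 : ℤ) ∣ ((q * n j : ℕ) : ℤ) := ⟨c, by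
        have : ((2 * c : ℤ) : ℚ) = (((q * n j : ℕ) : ℤ) : ℚ) := by push_cast at hc ⊢; linarith
        exact_mod_cast this.symm⟩
      have h4 : 2 ∣ q * n j := by exact_mod_cast h3
      rcases (Nat.Prime.dvd_mul Nat.prime_two).mp h4 with h5 | h5
      · obtain ⟨m, rfl⟩ := hodd
        omega
      · exact h5
    exact ⟨hev 0, hev 1, hev (-1)⟩

/-- Summing a class function over the elements conjugate into a subgroup of prime order. -/
theorem card_mul_sum_conj [Fintype G] {f : G → ℝ} (hf : ∀ g h : G, f (h * g * h⁻¹) = f g)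
    {q : ℕ} [Fact q.Prime] {x : G} (hx : orderOf x = q)
    [DecidablePred fun g : G => ∃ k : ZMod q, k ≠ 0 ∧ IsConj (x ^ k.val) g] :
    (Nat.card G : ℝ) * ∑ k ∈ Finset.univ.erase (0 : ZMod q), f (x ^ k.val) =
      Nat.card (Subgroup.normalizer (Subgroup.zpowers x : Set G)) *
        ∑ g ∈ Finset.univ.filter (fun g : G => ∃ k : ZMod q, k ≠ 0 ∧ IsConj (x ^ k.val) g),
          f g := by
  classical
  have hpw : ∀ m : ℕ, x ^ m = x ^ ((m : ZMod q)).val := fun m => by
    rw [ZMod.val_natCast, ← hx, pow_mod_orderOf]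
  have hmulv : ∀ k l : ZMod q, (x ^ k.val) ^ l.val = x ^ (k * l).val := fun k l => by
    rw [← pow_mul, hpw (k.val * l.val), Nat.cast_mul, ZMod.natCast_rightInverse,
      ZMod.natCast_rightInverse]
  set S := (Finset.univ : Finset G) ×ˢ Finset.univ.erase (0 : ZMod q) with hS
  set A := Finset.univ.filter (fun g : G => ∃ k : ZMod q, k ≠ 0 ∧ IsConj (x ^ k.val) g) with hA
  have hfib : ∀ g ∈ A, (S.filter fun s => s.1 * x ^ s.2.val * s.1⁻¹ = g).card =
      Nat.card (Subgroup.normalizer (Subgroup.zpowers x : Set G)) := by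
    intro g hg
    obtain ⟨k₀, hk₀, hc⟩ := (Finset.mem_filter.mp hg).2
    obtain ⟨h₀, rfl⟩ := isConj_iff.mp hc
    rw [← Fintype.card_coe, ← Nat.card_eq_fintype_card]
    refine Nat.card_eq_of_bijective (fun s => (⟨(h₀⁻¹ * s.1.1)⁻¹, ?_⟩ :
      Subgroup.normalizer (Subgroup.zpowers x : Set G))) ⟨fun s t hst => ?_, fun u => ?_⟩
    · obtain ⟨⟨h, k⟩, hs⟩ := s
      simp only [hS, Finset.mem_filter, Finset.mem_product, Finset.mem_univ, true_and,
        Finset.mem_erase, and_true] at hs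
      obtain ⟨hk, he⟩ := hs
      have he' : (h₀⁻¹ * h) * x ^ k.val * (h₀⁻¹ * h)⁻¹ = x ^ k₀.val := by
        rw [← mul_right_inj h₀, ← mul_left_inj h₀⁻¹, ← he]; group
      show (h₀⁻¹ * h)⁻¹ ∈ Subgroup.normalizer (Subgroup.zpowers x : Set G)
      refine inv_mem ?_
      rw [Subgroup.mem_normalizer_iff_map_conj_eq]
      refine Subgroup.eq_of_le_of_card_ge ?_ (Nat.card_congr
        ((Subgroup.zpowers x).equivMapOfInjective _ (MulAut.conj (h₀⁻¹ * h)).injective).toEquiv).le
      rw [MonoidHom.map_zpowers, Subgroup.zpowers_le]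
      have h1 : x = (x ^ k.val) ^ (k⁻¹ : ZMod q).val := by
        rw [hmulv, mul_inv_cancel₀ hk, ZMod.val_one, pow_one]
      show (MulAut.conj (h₀⁻¹ * h)) x ∈ Subgroup.zpowers x
      have e : (MulAut.conj (h₀⁻¹ * h)) x = (x ^ k₀.val) ^ (k⁻¹ : ZMod q).val := by
        conv_lhs => rw [h1]
        rw [map_pow, MulAut.conj_apply, he']
      rw [e]
      exact pow_mem (pow_mem (Subgroup.mem_zpowers x) _) _
    · obtain ⟨⟨h, k⟩, hs⟩ := s
      obtain ⟨⟨h', k'⟩, ht⟩ := t
      have e : h = h' := by simpa using congrArg Subtype.val hst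
      subst e
      simp only [hS, Finset.mem_filter, Finset.mem_product, Finset.mem_univ, true_and,
        Finset.mem_erase, and_true] at hs ht
      have h2 : x ^ k.val = x ^ k'.val := mul_left_cancel (mul_right_cancel (hs.2.trans ht.2.symm))
      have h3 : k = k' := ZMod.val_injective q (pow_injOn_Iio_orderOf
        (by rw [hx]; exact ZMod.val_lt k) (by rw [hx]; exact ZMod.val_lt k') h2)
      subst h3
      rfl
    · obtain ⟨u, hu⟩ := u
      have h1 : u * x * u⁻¹ ∈ Subgroup.zpowers x :=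
        (Subgroup.mem_normalizer_iff.mp hu x).mp (Subgroup.mem_zpowers x)
      obtain ⟨m, hm⟩ : ∃ m : ℕ, x ^ m = u * x * u⁻¹ := mem_powers_iff_mem_zpowers.mpr h1
      have hm' : x ^ ((m : ZMod q)).val = u * x * u⁻¹ := by rw [← hpw]; exact hm
      have hk : (m : ZMod q) * k₀ ≠ 0 := by
        refine mul_ne_zero (fun h0 => ?_) hk₀
        rw [h0, ZMod.val_zero, pow_zero] at hm'
        have : x = 1 := conj_eq_one_iff.mp hm'.symm
        rw [this, orderOf_one] at hx
        exact (Fact.out : q.Prime).one_lt.ne hx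
      refine ⟨⟨(h₀ * u⁻¹, (m : ZMod q) * k₀), ?_⟩, Subtype.ext ?_⟩
      · simp only [hS, Finset.mem_filter, Finset.mem_product, Finset.mem_univ, true_and,
          Finset.mem_erase, and_true]
        refine ⟨hk, ?_⟩
        rw [← hmulv, hm', conj_pow]
        group
      · simp
  have hmaps : ∀ s ∈ S, s.1 * x ^ s.2.val * s.1⁻¹ ∈ A := fun s hs =>
    Finset.mem_filter.mpr ⟨Finset.mem_univ _, s.2, (Finset.mem_erase.mp (Finset.mem_product.mp hs).2).1,
      isConj_iff.mpr ⟨s.1, rfl⟩⟩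
  have hsum := Finset.sum_fiberwise_of_maps_to (s := S) hmaps fun s => f (s.1 * x ^ s.2.val * s.1⁻¹)
  rw [Finset.sum_congr rfl fun g hg => (Finset.sum_congr rfl fun s hs => by
      rw [(Finset.mem_filter.mp hs).2]).trans ((Finset.sum_const _).trans (by
      rw [hfib g hg, nsmul_eq_mul]))] at hsum
  rw [Finset.mul_sum _ _ (Nat.card (Subgroup.normalizer (Subgroup.zpowers x : Set G)) : ℝ), hsum, hS,
    Finset.sum_product]
  simp only [hf, Finset.sum_const, Finset.card_univ, nsmul_eq_mul, Nat.card_eq_fintype_card]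

end CfsgLib.Char.PrimeBound
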