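import Cfsg.Agent.Lib.Char.Monomial
import Cfsg.Agent.Lib.Char.DegreeCenter
import Cfsg.Agent.Lib.Char.Integral
import Mathlib

/-!
# Primitive linear groups of degree two

The orbits on the eigenlines of the noncentral elements give the polyhedral equation.
-/

set_option autoImplicit false

namespace CfsgLib.Char.PrimitiveTwo

open Module
open scoped Classical

/-- The polyhedral equation. -/
theorem arith {N a b c n₁ n₂ n₃ : ℕ} (ha : a * n₁ = N) (hb : b * n₂ = N) (hc : c * n₃ = N)
    (_ha3 : 3 ≤ a) (_hb3 : 3 ≤ b) (hc3 : 3 ≤ c) (h1 : 2 ≤ n₁) (h2 : 2 ≤ n₂) (h3 : 2 ≤ n₃)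
    (hs : a + b + c = N + 2) (hba : b ≤ a) (hcb : c ≤ b) : N = 12 ∨ N = 24 ∨ N = 60 := by
  have e1 : n₁ = 2 := by
    have : 3 * N < 3 * N + 6 := by omega
    have : n₁ * (N + 2) ≤ n₁ * (3 * a) := Nat.mul_le_mul_left _ (by omega)
    have : n₁ * (3 * a) = 3 * N := by rw [← ha]; ring
    have hlt : n₁ < 3 := by
      by_contra hge
      have : 3 * (N + 2) ≤ n₁ * (N + 2) := Nat.mul_le_mul_right _ (by omega)
      omega
    omega
  subst e1
  have e2 : n₂ ≤ 3 := by
    have : n₂ * (a + 2) ≤ n₂ * (2 * b) := Nat.mul_le_mul_left _ (by omega)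
    have : n₂ * (2 * b) = 2 * N := by rw [← hb]; ring
    by_contra hge
    have : 4 * (a + 2) ≤ n₂ * (a + 2) := Nat.mul_le_mul_right _ (by omega)
    omega
  interval_cases n₂
  · omega
  have e3 : n₃ ≤ 5 := by
    by_contra hge
    have : c * 6 ≤ c * n₃ := Nat.mul_le_mul_left _ (by omega)
    omega
  interval_cases n₃ <;> omega

variable {G : Type*} [Group G] [Fintype G] {V : Type*} [AddCommGroup V] [Module ℂ V]
  [FiniteDimensional ℂ V] (ρ : Representation ℂ G V)

/-- The action on subspaces. -/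
@[reducible] noncomputable def lineAction : MulAction G (Submodule ℂ V) where
  smul g L := L.map (ρ g)
  one_smul L := by
    show L.map (ρ 1) = L
    rw [map_one, Module.End.one_eq_id, Submodule.map_id]
  mul_smul g h L := by
    show L.map (ρ (g * h)) = (L.map (ρ h)).map (ρ g)
    rw [map_mul, ← Submodule.map_comp]
    rfl

/-- A noncentral element fixes exactly two lines. -/
theorem exists_two_lines (h2 : finrank ℂ V = 2) {g : G}
    (hg : ¬ ∃ c : ℂ, ρ g = c • LinearMap.id) :
    ∃ L₀ L₁ : Submodule ℂ V, L₀ ≠ L₁ ∧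
      ∀ L : Submodule ℂ V, (finrank ℂ L = 1 ∧ L.map (ρ g) = L) ↔ (L = L₀ ∨ L = L₁) := by
  obtain ⟨b, μ, hb, -⟩ := CfsgLib.CharIntegral.exists_eigenbasis_apply ρ g
  set e : Fin 2 ≃ Fin (finrank ℂ V) := finCongr h2.symm with he
  set B := b.reindex e.symm with hB
  set ν : Fin 2 → ℂ := fun i => μ (e i) with hν
  have hBi : ∀ i, ρ g (B i) = ν i • B i := fun i => by
    rw [hB, Basis.reindex_apply, Equiv.symm_symm]; exact hb _
  have hne : ν 0 ≠ ν 1 := fun h => hg ⟨ν 0, B.ext fun i => by
    rw [hBi, LinearMap.smul_apply, LinearMap.id_apply]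
    fin_cases i
    · rfl
    · rw [h]; rfl⟩
  have h0 : ∀ i, ν i ≠ 0 := fun i h => B.ne_zero i ((ρ.apply_bijective g).1 (by
    rw [hBi, h, zero_smul, map_zero]))
  have hline : ∀ i, finrank ℂ (ℂ ∙ B i) = 1 ∧ (ℂ ∙ B i).map (ρ g) = ℂ ∙ B i := fun i =>
    ⟨finrank_span_singleton (B.ne_zero i), by
      rw [Submodule.map_span, Set.image_singleton, hBi,
        Submodule.span_singleton_smul_eq (Ne.isUnit (h0 i))]⟩
  refine ⟨ℂ ∙ B 0, ℂ ∙ B 1, fun h => ?_, fun L => ⟨fun ⟨hL1, hL⟩ => ?_, ?_⟩⟩
  · obtain ⟨c, hc⟩ := Submodule.mem_span_singleton.1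
      (h ▸ Submodule.mem_span_singleton_self (B 0) : B 0 ∈ ℂ ∙ B 1)
    have := congrArg (fun v => B.repr v 0) hc
    simp at this
  · obtain ⟨v, hv, hv0⟩ := Submodule.exists_mem_ne_zero_of_ne_bot
      (p := L) (fun h => by rw [h, finrank_bot] at hL1; exact zero_ne_one hL1)
    have hspan : ℂ ∙ v = L := Submodule.eq_of_le_of_finrank_eq
      ((Submodule.span_singleton_le_iff_mem _ _).2 hv) (by rw [finrank_span_singleton hv0, hL1])
    obtain ⟨c, hc⟩ := Submodule.mem_span_singleton.1
      (show ρ g v ∈ ℂ ∙ v by rw [hspan, ← hL]; exact Submodule.mem_map_of_mem hv)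
    have hv' : v = B.repr v 0 • B 0 + B.repr v 1 • B 1 := by
      conv_lhs => rw [← B.sum_repr v, Fin.sum_univ_two]
    have hcoef : ∀ i, B.repr v i * (ν i - c) = 0 := by
      have e := congrArg B.repr hc
      rw [map_smul] at e
      have e' : B.repr (ρ g v) = B.repr ((B.repr v 0 * ν 0) • B 0 + (B.repr v 1 * ν 1) • B 1) := by
        conv_lhs => rw [hv', map_add, map_smul, map_smul, hBi, hBi, smul_smul, smul_smul]
      rw [e'] at e
      intro i
      have := congrArg (fun f => f i) e
      fin_cases i <;> simp at this <;> rw [mul_sub, sub_eq_zero, mul_comm (B.repr v _) c] <;>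
        simpa using this.symm
    by_cases ha : B.repr v 0 = 0
    · right
      rw [← hspan, hv', ha, zero_smul, zero_add,
        Submodule.span_singleton_smul_eq (Ne.isUnit fun h1 => hv0 (by rw [hv', ha, h1]; simp))]
    · left
      have e0 : ν 0 = c := sub_eq_zero.1 ((mul_eq_zero.1 (hcoef 0)).resolve_left ha)
      have hb1 : B.repr v 1 = 0 :=
        (mul_eq_zero.1 (hcoef 1)).resolve_right fun h => hne (e0.trans (sub_eq_zero.1 h).symm)
      rw [← hspan, hv', hb1, zero_smul, add_zero, Submodule.span_singleton_smul_eq (Ne.isUnit ha)]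
  · rintro (rfl | rfl)
    · exact hline 0
    · exact hline 1

set_option maxHeartbeats 1600000 in
/-- The index of the centre. -/
theorem center_index [ρ.IsIrreducible] (hker : ∀ g, ρ g = 1 → g = 1) (h2 : finrank ℂ V = 2)
    (hprim : ∀ (T : Subgroup G) (ψ : T → ℂ), T ≠ ⊤ → Cfsg.IsIrrCharacter T ψ →
      ρ.character ≠ Cfsg.indFun T ψ) :
    (Subgroup.center G).index = 12 ∨ (Subgroup.center G).index = 24 ∨
      (Subgroup.center G).index = 60 := by
  let _ := lineAction ρ
  set Z := Subgroup.center G with hZdef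
  have hZ : ∀ g : G, (∃ c : ℂ, ρ g = c • LinearMap.id) ↔ g ∈ Z := by
    refine fun g => ⟨fun ⟨c, hc⟩ => Subgroup.mem_center_iff.2 fun x => ?_,
      fun hg => CfsgLib.CharIntegral.exists_scalar_of_mem_center ρ hg⟩
    refine mul_inv_eq_one.1 (hker _ ?_)
    have e : ρ x * ρ g = ρ g * ρ x := by
      rw [hc, ← Module.End.one_eq_id, mul_smul_comm, smul_mul_assoc, mul_one, one_mul]
    rw [map_mul, map_mul, e, ← map_mul, ← map_mul, mul_inv_cancel, map_one]
  choose! L₀ L₁ hne hfix using fun g (hg : g ∉ Z) =>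
    exists_two_lines ρ h2 (fun h => hg ((hZ g).1 h))
  set X : Finset (Submodule ℂ V) := (Finset.univ.filter (· ∉ Z)).image L₀ ∪
    (Finset.univ.filter (· ∉ Z)).image L₁ with hX
  have hXm : ∀ L, L ∈ X ↔ ∃ g, g ∉ Z ∧ finrank ℂ L = 1 ∧ g • L = L := by
    intro L
    simp only [hX, Finset.mem_union, Finset.mem_image, Finset.mem_filter, Finset.mem_univ, true_and]
    constructor
    · rintro (⟨g, hg, e⟩ | ⟨g, hg, e⟩)
      · exact ⟨g, hg, (hfix g hg L).2 (Or.inl e.symm)⟩
      · exact ⟨g, hg, (hfix g hg L).2 (Or.inr e.symm)⟩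
    · rintro ⟨g, hg, h⟩
      rcases (hfix g hg L).1 h with e | e
      · exact Or.inl ⟨g, hg, e.symm⟩
      · exact Or.inr ⟨g, hg, e.symm⟩
  have hrank : ∀ (g : G) (L : Submodule ℂ V), finrank ℂ (g • L : Submodule ℂ V) = finrank ℂ L :=
    fun g L => (Submodule.equivMapOfInjective _ (ρ.apply_bijective g).1 L).finrank_eq.symm
  have hXsmul : ∀ (h : G), ∀ L ∈ X, h • L ∈ X := by
    intro h L hL
    obtain ⟨g, hg, h1, hgL⟩ := (hXm L).1 hL
    refine (hXm _).2 ⟨h * g * h⁻¹, fun hh => hg ?_, (hrank h L).trans h1, ?_⟩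
    · have := (inferInstance : Z.Normal).conj_mem _ hh h⁻¹
      simpa [mul_assoc] using this
    · rw [← mul_smul, show h * g * h⁻¹ * h = h * g by group, mul_smul, hgL]
  -- the number of fixed points off the centre
  have hcount : ∑ L ∈ X, (Finset.univ.filter fun g => g ∉ Z ∧ g • L = L).card =
      2 * (Finset.univ.filter (· ∉ Z)).card := by
    simp only [Finset.card_filter]
    rw [Finset.sum_comm, Finset.mul_sum]
    refine Finset.sum_congr rfl fun g _ => ?_
    by_cases hg : g ∈ Z
    · simp [hg]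
    rw [if_pos hg, mul_one, ← Finset.card_filter]
    have e : X.filter (fun L => g ∉ Z ∧ g • L = L) = {L₀ g, L₁ g} := by
      ext L
      simp only [Finset.mem_filter, Finset.mem_insert, Finset.mem_singleton]
      rw [← hfix g hg L]
      exact ⟨fun ⟨hL, _, h⟩ => ⟨((hXm L).1 hL).choose_spec.2.1, h⟩,
        fun ⟨h1, h⟩ => ⟨(hXm L).2 ⟨g, hg, h1, h⟩, hg, h⟩⟩
    rw [e, Finset.card_pair (hne g hg)]
  have hZfix : ∀ z ∈ Z, ∀ L ∈ X, z • L = L := by
    intro z hz L _
    obtain ⟨c, hc⟩ := (hZ z).2 hz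
    have hc0 : c ≠ 0 := fun e => by
      have hinj := (ρ.apply_bijective z).1
      rw [e, zero_smul] at hc
      have : Nontrivial V := CfsgLib.CharIntegral.nontrivial_of_irreducible ρ
      obtain ⟨v, hv⟩ := exists_ne (0 : V)
      exact hv (hinj (by rw [hc, LinearMap.zero_apply, LinearMap.zero_apply]))
    show L.map (ρ z) = L
    rw [hc, Submodule.map_smul _ _ _ hc0, Submodule.map_id]
  have hNpos : 0 < Z.index := Nat.pos_of_ne_zero Subgroup.index_ne_zero_of_finite
  set z := Nat.card Z with hz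
  have hzcard : (Finset.univ.filter (· ∈ Z)).card = z := by
    rw [hz, Nat.card_eq_fintype_card, Fintype.card_subtype]
  have hnotZ : (Finset.univ.filter (· ∉ Z)).card + z = z * Z.index := by
    rw [Z.card_mul_index, ← hzcard, Nat.card_eq_fintype_card, add_comm,
      Finset.card_filter_add_card_filter_not]
    rfl
  have hstab : ∀ L ∈ X, (Finset.univ.filter fun g => g ∉ Z ∧ g • L = L).card + z =
      Nat.card (MulAction.stabilizer G L) := by
    intro L hL
    rw [Nat.card_eq_fintype_card, Fintype.card_subtype, ← hzcard, ← Finset.card_union_of_disjoint]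
    · refine congrArg Finset.card ?_
      ext g
      simp only [Finset.mem_union, Finset.mem_filter, Finset.mem_univ, true_and,
        MulAction.mem_stabilizer_iff]
      exact ⟨fun h => h.elim And.right fun h => hZfix g h L hL,
        fun h => if hg : g ∈ Z then Or.inr hg else Or.inl ⟨hg, h⟩⟩
    · rw [Finset.disjoint_filter]
      exact fun g _ h => h.1
  -- the orbits
  set orb : Submodule ℂ V → Finset (Submodule ℂ V) := fun L => Finset.univ.image (· • L : G → _)
    with horb
  have horbm : ∀ L L', L' ∈ orb L ↔ ∃ g : G, g • L = L' := fun L L' => by simp [horb]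
  have horbeq : ∀ L L', L' ∈ orb L → orb L' = orb L := by
    intro L L' h
    obtain ⟨g, rfl⟩ := (horbm L L').1 h
    ext K
    simp only [horbm]
    exact ⟨fun ⟨k, hk⟩ => ⟨k * g, by rw [mul_smul, hk]⟩,
      fun ⟨k, hk⟩ => ⟨k * g⁻¹, by rw [← mul_smul, inv_mul_cancel_right, hk]⟩⟩
  have horbc : ∀ L, (orb L).card * Nat.card (MulAction.stabilizer G L) = Nat.card G := fun L => by
    rw [mul_comm, ← (MulAction.stabilizer G L).card_mul_index, MulAction.index_stabilizer]
    congr 1
    rw [← Set.ncard_coe_finset]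
    congr 1
    ext L'
    rw [Finset.mem_coe, horbm, MulAction.mem_orbit_iff]
  set O := X.image orb with hO
  have hfib : ∀ L ∈ X, X.filter (fun L' => orb L' = orb L) = orb L := by
    intro L hL
    ext L'
    rw [Finset.mem_filter]
    refine ⟨fun ⟨_, h⟩ => h ▸ (horbm L' L').2 ⟨1, one_smul G L'⟩, fun h => ⟨?_, horbeq L L' h⟩⟩
    obtain ⟨g, rfl⟩ := (horbm L L').1 h
    exact hXsmul g L hL
  have hXcard : X.card = ∑ o ∈ O, o.card := by
    rw [Finset.card_eq_sum_card_image orb]
    refine Finset.sum_congr rfl fun o ho => ?_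
    obtain ⟨L, hL, rfl⟩ := Finset.mem_image.1 ho
    rw [hfib L hL]
  have hsum : ∑ L ∈ X, Nat.card (MulAction.stabilizer G L) = O.card * Nat.card G := by
    rw [← Finset.sum_fiberwise_of_maps_to (g := orb) (t := O) fun L hL => Finset.mem_image_of_mem _ hL]
    refine (Finset.sum_congr rfl fun o ho => ?_).trans (by rw [Finset.sum_const, smul_eq_mul])
    obtain ⟨L, hL, rfl⟩ := Finset.mem_image.1 ho
    rw [hfib L hL, Finset.sum_congr rfl fun L' hL' => ?_, Finset.sum_const, smul_eq_mul, horbc]
    have e := horbc L'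
    rw [horbeq L L' hL', ← horbc L] at e
    exact Nat.eq_of_mul_eq_mul_left (Finset.card_pos.2 ⟨L, (horbm L L).2 ⟨1, one_smul G L⟩⟩) e
  have hmain : O.card * Z.index + 2 = X.card + 2 * Z.index := by
    have h := hcount
    have e : ∑ L ∈ X, (Finset.univ.filter fun g => g ∉ Z ∧ g • L = L).card + X.card * z =
        O.card * Nat.card G := by
      rw [← hsum, ← Finset.sum_congr rfl hstab, Finset.sum_add_distrib, Finset.sum_const, smul_eq_mul]
    rw [h, ← Z.card_mul_index, ← hz] at e
    refine Nat.eq_of_mul_eq_mul_left (show 0 < z from Nat.card_pos) ?_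
    linarith
  -- every orbit has at least three lines
  have hdata : ∀ o ∈ O, 3 ≤ o.card ∧ ∃ n, 2 ≤ n ∧ o.card * n = Z.index := by
    intro o ho
    obtain ⟨L, hL, rfl⟩ := Finset.mem_image.1 ho
    obtain ⟨g, hgZ, hL1, hgL⟩ := (hXm L).1 hL
    set S := MulAction.stabilizer G L with hS
    have hZS : Z ≤ S := fun w hw => hZfix w hw L hL
    have ho' : (orb L).card = S.index := by
      have e := horbc L
      rw [← S.card_mul_index, mul_comm, ← hS] at e
      exact Nat.eq_of_mul_eq_mul_left Nat.card_pos e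
    refine ⟨?_, Z.relIndex S, ?_, by rw [ho', mul_comm, Subgroup.relIndex_mul_index hZS]⟩
    swap
    · have h1 : Z.relIndex S ≠ 1 := fun e => hgZ (Subgroup.relIndex_eq_one.1 e hgL)
      have h0 : Z.relIndex S ≠ 0 := Subgroup.index_ne_zero_of_finite
      omega
    rw [ho']
    by_contra hlt
    have h0 : S.index ≠ 0 := Subgroup.index_ne_zero_of_finite
    have hsmall : S.index = 1 ∨ S.index = 2 := by omega
    rcases hsmall with h1 | h1
    · have hinv : ∀ x : G, ∀ v ∈ L, ρ x v ∈ L := fun x v hv => by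
        have hx : x • L = L := (Subgroup.index_eq_one.1 h1 ▸ Subgroup.mem_top x : x ∈ S)
        rw [← hx]
        exact Submodule.mem_map_of_mem hv
      have := CfsgLib.CharWeights.eq_top_of_invariant ρ L hinv
        (fun e => by rw [e, finrank_bot] at hL1; exact zero_ne_one hL1)
      rw [this, finrank_top, h2] at hL1
      omega
    · have : S.Normal := Subgroup.normal_of_index_eq_two h1
      obtain ⟨x, hx⟩ : ∃ x, x ∉ S := by
        by_contra hall
        push Not at hall
        rw [(Subgroup.eq_top_iff' S).2 hall, Subgroup.index_top] at h1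
        omega
      have hfix2 : ∀ a ∈ S, a • L = L ∧ a • (x • L) = x • L := fun a ha => by
        have h' : x⁻¹ * a * x ∈ S := by
          have := (inferInstance : S.Normal).conj_mem a ha x⁻¹
          rwa [inv_inv] at this
        refine ⟨ha, ?_⟩
        conv_rhs => rw [← (h' : (x⁻¹ * a * x) • L = L)]
        rw [← mul_smul, ← mul_smul]
        congr 1
        group
      have hxL : x • L ≠ L := hx
      obtain ⟨v, hv, hv0⟩ := Submodule.exists_mem_ne_zero_of_ne_bot
        (p := L) (fun h => by rw [h, finrank_bot] at hL1; exact zero_ne_one hL1)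
      have hsup : L ⊔ x • L = ⊤ := by
        refine Submodule.eq_top_of_finrank_eq (le_antisymm (Submodule.finrank_le _) ?_)
        have hlt : L < L ⊔ x • L := lt_of_le_of_ne le_sup_left fun e => hxL
          (Submodule.eq_of_le_of_finrank_eq (le_sup_right.trans_eq e.symm) (hrank x L))
        have := Submodule.finrank_lt_finrank_of_lt hlt
        omega
      have hcomm : ∀ a b : S, Commute (ρ (a : G)) (ρ (b : G)) := by
        intro a b
        have hW : ∀ W : Submodule ℂ V, finrank ℂ W = 1 → (a : G) • W = W → (b : G) • W = W →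
            ∀ w ∈ W, (ρ (a : G) * ρ (b : G)) w = (ρ (b : G) * ρ (a : G)) w := by
          intro W h1W haW hbW w hw
          obtain ⟨u, hu, hu'⟩ := finrank_eq_one_iff'.1 h1W
          have hs : ∀ g : G, g • W = W → ∃ c : ℂ, ρ g (u : V) = c • (u : V) := fun g hg => by
            obtain ⟨c, hc⟩ := hu' ⟨ρ g u, (le_of_eq hg : W.map (ρ g) ≤ W) (Submodule.mem_map_of_mem u.2)⟩
            exact ⟨c, congrArg Subtype.val hc.symm⟩
          obtain ⟨c, hc⟩ := hs a haW
          obtain ⟨d, hd⟩ := hs b hbW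
          obtain ⟨e, he⟩ := hu' ⟨w, hw⟩
          rw [show w = e • (u : V) from congrArg Subtype.val he.symm]
          simp only [Module.End.mul_apply, map_smul, hc, hd, smul_smul]
          congr 1
          ring
        refine LinearMap.ext_on (s := (L : Set V) ∪ (x • L : Submodule ℂ V)) ?_ ?_
        · rw [Submodule.span_union, Submodule.span_eq, Submodule.span_eq, hsup]
        · rintro w (hw | hw)
          · exact hW L hL1 (hfix2 a a.2).1 (hfix2 b b.2).1 w hw
          · exact hW _ ((hrank x L).trans hL1) (hfix2 a a.2).2 (hfix2 b b.2).2 w hw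
      obtain ⟨T, ψ, hT, -, hψ, he⟩ := CfsgLib.Clifford.exists_induced_of_not_scalar ρ S hcomm
        fun hall => hgZ ((hZ g).1 (hall ⟨g, hgL⟩))
      exact hprim T ψ hT hψ he
  -- the equation
  have hge : 3 * O.card ≤ X.card := by
    rw [hXcard, mul_comm, ← smul_eq_mul]
    exact Finset.card_nsmul_le_sum _ _ _ fun o ho => (hdata o ho).1
  have hle : 2 * X.card ≤ O.card * Z.index := by
    rw [hXcard, Finset.mul_sum, ← smul_eq_mul]
    refine Finset.sum_le_card_nsmul _ _ _ fun o ho => ?_
    obtain ⟨-, n, hn, e⟩ := hdata o ho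
    rw [← e, mul_comm]
    exact Nat.mul_le_mul_left _ hn
  have hN2 : 2 ≤ Z.index := by
    rcases Nat.lt_or_ge Z.index 2 with h | h
    swap
    · exact h
    exfalso
    have htop : Z = ⊤ := Subgroup.index_eq_one.1 (by omega)
    have := CfsgLib.Clifford.finrank_eq_one_of_all_scalar ρ
      fun g => (hZ g).2 (htop ▸ Subgroup.mem_top g)
    omega
  have h3 : O.card = 3 := by
    rcases Nat.lt_or_ge O.card 3 with h | h
    · interval_cases hO' : O.card <;> omega
    · by_contra hne
      have : 4 * Z.index ≤ O.card * Z.index := Nat.mul_le_mul_right _ (by omega)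
      omega
  obtain ⟨A, B, C, hAB, hAC, hBC, hOeq⟩ := Finset.card_eq_three.1 h3
  have hs : A.card + B.card + C.card = Z.index + 2 := by
    have e := hXcard
    rw [hOeq, Finset.sum_insert (by simp [hAB, hAC]), Finset.sum_pair hBC] at e
    rw [h3] at hmain
    omega
  obtain ⟨hA3, n₁, hn₁, eA⟩ := hdata A (by rw [hOeq]; simp)
  obtain ⟨hB3, n₂, hn₂, eB⟩ := hdata B (by rw [hOeq]; simp)
  obtain ⟨hC3, n₃, hn₃, eC⟩ := hdata C (by rw [hOeq]; simp)
  rcases le_total B.card A.card with h1 | h1 <;> rcases le_total C.card B.card with h' | h' <;>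
    rcases le_total C.card A.card with h'' | h'' <;>
    first
      | exact arith eA eB eC hA3 hB3 hC3 hn₁ hn₂ hn₃ (by omega) (by omega) (by omega)
      | exact arith eA eC eB hA3 hC3 hB3 hn₁ hn₃ hn₂ (by omega) (by omega) (by omega)
      | exact arith eB eA eC hB3 hA3 hC3 hn₂ hn₁ hn₃ (by omega) (by omega) (by omega)
      | exact arith eB eC eA hB3 hC3 hA3 hn₂ hn₃ hn₁ (by omega) (by omega) (by omega)
      | exact arith eC eA eB hC3 hA3 hB3 hn₃ hn₁ hn₂ (by omega) (by omega) (by omega)
      | exact arith eC eB eA hC3 hB3 hA3 hn₃ hn₂ hn₁ (by omega) (by omega) (by omega)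

end CfsgLib.Char.PrimitiveTwo
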