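import Cfsg.Agent.Lib.Char.CliffordCorr
import Cfsg.Agent.Lib.Char.PPrimeKernel
import Cfsg.Agent.Lib.CharDegree.RealBijection
import Cfsg.Agent.Lib.CharAction.Descend
import Cfsg.Agent.Lib.Core.SolvableStruct
import Cfsg.Agent.Lib.Core.MinNormal
import Mathlib.GroupTheory.Sylow

/-!
# Characters of odd degree of solvable groups and linear characters of a Sylow 2-subgroup

In a solvable group a real character of odd degree is determined by each of its real linear
constituents on a Sylow 2-subgroup, and these form one orbit of the normalizer; the same holds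
without reality when the Sylow subgroup is self-normalizing.
-/

set_option autoImplicit false

namespace CfsgLib.RealOdd

open Cfsg CfsgLib.Char CfsgLib.Clifford
open scoped ComplexConjugate

/-- All values are real. -/
def RealVal {G : Type*} (χ : G → ℂ) : Prop := ∀ g, (χ g).im = 0

theorem RealVal.conj_eq {G : Type*} {χ : G → ℂ} (h : RealVal χ) (g : G) : conj (χ g) = χ g :=
  Complex.conj_eq_iff_im.mpr (h g)

section Basic

variable {G : Type*} [Group G]

theorem natCast_charDegree (χ : IrrCharacter G) : (χ : G → ℂ) 1 = (charDegree (χ : G → ℂ) : ℂ) :=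
  (CharDegree.cast_irrDegree χ).symm

theorem odd_sum_fixed {α : Type*} [Fintype α] (σ : α → α) (hσ : ∀ a, σ (σ a) = a) (w : α → ℕ)
    (hw : ∀ a, w (σ a) = w a) (h : Odd (∑ a, w a)) : ∃ a, σ a = a ∧ Odd (w a) := by
  by_contra hno
  push Not at hno
  have h0 : ((∑ a, w a : ℕ) : ZMod 2) = 0 := by
    push_cast
    refine Finset.sum_involution (fun a _ => σ a) (fun a _ => ?_) (fun a _ ha e => ha ?_)
      (fun a _ => Finset.mem_univ _) (fun a _ => hσ a)
    · rw [hw]; exact CharTwo.add_self_eq_zero _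
    · exact ZMod.natCast_eq_zero_iff_even.mpr (Nat.not_odd_iff_even.mp (hno a e))
  exact Nat.not_even_iff_odd.mpr h (ZMod.natCast_eq_zero_iff_even.mp h0)

/-- A real character of odd degree has a real irreducible constituent of odd degree. -/
theorem exists_real_constituent_odd [Fintype G] {f : G → ℂ} (hf : IsCharacter G f)
    (hfr : RealVal f) {n : ℕ} (h1 : f 1 = n) (hn : Odd n) :
    ∃ χ : IrrCharacter G, RealVal (χ : G → ℂ) ∧ Odd (charDegree (χ : G → ℂ)) ∧
      classInner f (χ : G → ℂ) ≠ 0 := by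
  classical
  have := Fintype.ofFinite (IrrCharacter G)
  obtain ⟨m, hm⟩ := IsChar.exists_sum hf
  have hmχ : ∀ χ : IrrCharacter G, classInner f (χ : G → ℂ) = m χ := fun χ => by rw [hm, classInner_sum_irr]
  have hsum : n = ∑ χ : IrrCharacter G, m χ * charDegree (χ : G → ℂ) := by
    apply Nat.cast_injective (R := ℂ)
    rw [← h1, hm]
    simp [natCast_charDegree]
  have hconj : ∀ χ : IrrCharacter G, m (conjIrr χ) = m χ := fun χ => by
    apply Nat.cast_injective (R := ℂ)
    rw [← Complex.conj_natCast (m χ), ← hmχ, ← hmχ]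
    simp [classInner, map_sum, hfr.conj_eq]
  have hdeg : ∀ χ : IrrCharacter G, charDegree (conjIrr χ : G → ℂ) = charDegree (χ : G → ℂ) :=
    fun χ => Nat.cast_injective (R := ℂ) (by
      rw [← natCast_charDegree, conjIrr_apply, natCast_charDegree, Complex.conj_natCast])
  obtain ⟨χ, hχ, ho⟩ := odd_sum_fixed (conjIrr (G := G)) (fun χ => conjIrr_conjIrr χ)
    (fun χ => m χ * charDegree (χ : G → ℂ)) (fun χ => by simp only [hconj, hdeg]) (hsum ▸ hn)
  rw [Nat.odd_mul] at ho
  refine ⟨χ, (conjIrr_eq_iff χ).mp hχ, ho.2, ?_⟩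
  rw [hmχ]
  exact Nat.cast_ne_zero.mpr (Nat.ne_of_odd_add (by simpa using ho.1))

/-- A constituent of a constituent of a restriction is one of the restriction. -/
theorem below [Fintype G] {Y : Type*} [Group Y] [Fintype Y] (i : Y →* G) {f : G → ℂ}
    (hf : IsCharacter G f) (φ : IrrCharacter G) (h1 : classInner f (φ : G → ℂ) ≠ 0) {η : Y → ℂ}
    (hη : IsCharacter Y η) (h2 : classInner (fun y => (φ : G → ℂ) (i y)) η ≠ 0) :
    classInner (fun y => f (i y)) η ≠ 0 := by
  classical
  have := Fintype.ofFinite (IrrCharacter G)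
  obtain ⟨m, hm⟩ := IsChar.exists_sum hf
  choose b hb using fun ψ : IrrCharacter G =>
    IsChar.classInner_eq_natCast (IsChar.comp i (IsIrr.isCharacter ψ.2)) hη
  have he : (fun y => f (i y)) = ∑ ψ : IrrCharacter G, (m ψ : ℂ) • fun y => (ψ : G → ℂ) (i y) := by
    funext y
    rw [hm]
    simp
  rw [he, classInner_sum_left,
    Finset.sum_congr rfl fun ψ _ => show _ = ((m ψ * b ψ : ℕ) : ℂ) by
      rw [classInner_smul_left, hb, Nat.cast_mul],
    ← Nat.cast_sum, Nat.cast_ne_zero]
  intro h0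
  rcases Nat.mul_eq_zero.mp (Finset.sum_eq_zero_iff.mp h0 φ (Finset.mem_univ _)) with h | h
  · exact h1 (by rw [hm, classInner_sum_irr, h, Nat.cast_zero])
  · exact h2 (by rw [hb, h, Nat.cast_zero])

/-- Real characters of odd degree are trivial on normal subgroups of odd order. -/
theorem trivial_on_odd [Fintype G] {L : Subgroup G} (hL : L.Normal) (hodd : Odd (Nat.card L))
    (χ : IrrCharacter G) (hr : RealVal (χ : G → ℂ)) (ho : Odd (charDegree (χ : G → ℂ)))
    {x : G} (hx : x ∈ L) : (χ : G → ℂ) x = (χ : G → ℂ) 1 := by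
  classical
  have := Fintype.ofFinite L
  obtain ⟨θ, hθ⟩ := exists_constituent (G := L)
    (IsChar.isClassFunction (IsChar.restrict L (IsIrr.isCharacter χ.2)))
    (fun h => IsIrr.apply_one_ne_zero χ.2 (by simpa using congrFun h 1))
  set O := Finset.univ.image (conjFn hL (θ : L → ℂ)) with hO
  have hres := restrict_eq_smul_orbit_sum hL χ.2 θ.2 hθ
  obtain ⟨d, -, hd⟩ := IsIrr.exists_degree θ.2
  obtain ⟨e, he⟩ := IsChar.classInner_eq_natCast (IsChar.restrict L (IsIrr.isCharacter χ.2))
    (IsIrr.isCharacter θ.2)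
  rw [he] at hres
  have hOodd : Odd (∑ _ψ : O, 1) := by
    have h1 := congrFun hres 1
    rw [← hO, Pi.smul_apply, Finset.sum_apply, Finset.sum_congr rfl (g := fun _ => (d : ℂ))
      (fun ψ hψ => by
        obtain ⟨g, -, rfl⟩ := Finset.mem_image.mp hψ
        rw [← hd, conjFn_apply]
        exact congrArg (θ : L → ℂ) (Subtype.ext (by simp))),
      Finset.sum_const, nsmul_eq_mul, smul_eq_mul, OneMemClass.coe_one, natCast_charDegree,
      ← Nat.cast_mul, ← Nat.cast_mul, Nat.cast_inj] at h1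
    rw [h1] at ho
    simpa using (Nat.odd_mul.mp (Nat.odd_mul.mp ho).2).1
  have hmem : ∀ ψ : O, (fun n => conj ((ψ : L → ℂ) n)) ∈ O := fun ψ => by
    obtain ⟨g, -, hg⟩ := Finset.mem_image.mp ψ.2
    have hirr : IsIrrCharacter L (fun n => conj ((ψ : L → ℂ) n)) :=
      IsIrr.conj (hg ▸ isIrrCharacter_conjFn hL θ.2 g)
    have hc : classInner (fun n : L => (χ : G → ℂ) n) (ψ : L → ℂ) ≠ 0 :=
      (CfsgLib.RelGlauberman.constituent_iff hL χ.2 θ.2 hθ (hg ▸ isIrrCharacter_conjFn hL θ.2 g)).mpr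
        ⟨g, hg.symm⟩
    obtain ⟨g', hg'⟩ := (CfsgLib.RelGlauberman.constituent_iff hL χ.2 θ.2 hθ hirr).mp fun h => hc (by
      have h' := congrArg conj h
      simpa [classInner, map_sum, hr.conj_eq] using h')
    exact Finset.mem_image.mpr ⟨g', Finset.mem_univ _, hg'.symm⟩
  obtain ⟨ψ, hψ, -⟩ := odd_sum_fixed (fun ψ : O => (⟨_, hmem ψ⟩ : O))
    (fun ψ => Subtype.ext (funext fun n => Complex.conj_conj _)) (fun _ => 1) (fun _ => rfl) hOodd
  obtain ⟨g, -, hg⟩ := Finset.mem_image.mp ψ.2
  have hψi : IsIrrCharacter L (ψ : L → ℂ) := hg ▸ isIrrCharacter_conjFn hL θ.2 g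
  have hψ1 : (ψ : L → ℂ) = fun _ => 1 := congrArg Subtype.val (real_irr_eq_one_of_odd hodd
    ⟨_, hψi⟩ fun n => Complex.conj_eq_iff_im.mp (congrFun (congrArg Subtype.val hψ) n))
  have hO1 : ∀ φ ∈ O, φ = fun _ => (1 : ℂ) := by
    intro φ hφ
    obtain ⟨g', -, rfl⟩ := Finset.mem_image.mp hφ
    have h3 : conjFn hL (θ : L → ℂ) (g * (g⁻¹ * g')) = fun _ => (1 : ℂ) := by
      rw [conjFn_mul, hg, hψ1]
      funext n
      rfl
    rwa [mul_inv_cancel_left] at h3
  have hval : ∀ n : L, (χ : G → ℂ) n = (e : ℂ) * O.card := fun n => by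
    have h1 := congrFun hres n
    rw [← hO, Pi.smul_apply, Finset.sum_apply,
      Finset.sum_congr rfl (g := fun _ => (1 : ℂ)) (fun φ hφ => congrFun (hO1 φ hφ) n)] at h1
    simpa using h1
  exact (hval ⟨x, hx⟩).trans (hval 1).symm

end Basic

section Over

variable {G : Type*} [Group G]

/-- The linear character `l` of `P` is a constituent of `χ`. -/
def Over (P : Subgroup G) (χ : G → ℂ) (l : P →* ℂˣ) : Prop :=
  (∑ᶠ x : P, χ x * conj (l x : ℂ)) ≠ 0

theorem over_iff [Finite G] (P : Subgroup G) [Fintype P] (χ : G → ℂ) (l : P →* ℂˣ) :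
    Over P χ l ↔ classInner (fun x : P => χ x) (fun x => (l x : ℂ)) ≠ 0 := by
  unfold Over
  rw [finsum_eq_sum_of_fintype, classInner, mul_ne_zero_iff]
  exact ⟨fun h => ⟨inv_ne_zero (Nat.cast_ne_zero.mpr Nat.card_pos.ne'), h⟩, fun h => h.2⟩

/-- The pairs considered: `χ` of odd degree over `l`, both real or `P` self-normalizing. -/
def Md (P : Subgroup G) (χ : IrrCharacter G) (l : P →* ℂˣ) : Prop :=
  Odd (charDegree (χ : G → ℂ)) ∧ Over P (χ : G → ℂ) l ∧
    ((RealVal (χ : G → ℂ) ∧ ∀ x, l x * l x = 1) ∨ Subgroup.normalizer (P : Set G) = P)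

/-- Conjugation of a linear character by an element of the normalizer. -/
def cjP {P : Subgroup G} (n : G) (hn : n ∈ Subgroup.normalizer (P : Set G)) (l : P →* ℂˣ) :
    P →* ℂˣ where
  toFun x := l ⟨n * x * n⁻¹, (Subgroup.mem_normalizer_iff.mp hn x).mp x.2⟩
  map_one' := by
    rw [← map_one l]
    exact congrArg l (Subtype.ext (by simp))
  map_mul' x y := by
    rw [← map_mul]
    exact congrArg l (Subtype.ext (by simp [mul_assoc]))

theorem cjP_apply {P : Subgroup G} (n : G) (hn : n ∈ Subgroup.normalizer (P : Set G))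
    (l : P →* ℂˣ) (x : P) :
    cjP n hn l x = l ⟨n * x * n⁻¹, (Subgroup.mem_normalizer_iff.mp hn x).mp x.2⟩ := rfl

theorem over_cjP [Finite G] {P : Subgroup G} {χ : IrrCharacter G} {n : G}
    (hn : n ∈ Subgroup.normalizer (P : Set G)) {l : P →* ℂˣ} (h : Over P (χ : G → ℂ) l) :
    Over P (χ : G → ℂ) (cjP n hn l) := by
  have hmem := Subgroup.mem_normalizer_iff.mp hn
  let e : P ≃ P :=
    { toFun := fun x => ⟨n * x * n⁻¹, (hmem x).mp x.2⟩
      invFun := fun x => ⟨n⁻¹ * x * n, (hmem _).mpr (by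
        simpa [mul_assoc] using x.2)⟩
      left_inv := fun x => Subtype.ext (by simp [mul_assoc])
      right_inv := fun x => Subtype.ext (by simp [mul_assoc]) }
  unfold Over at h ⊢
  convert h using 1
  refine finsum_eq_of_bijective e e.bijective fun x => ?_
  rw [cjP_apply]
  exact congrArg (· * _) (IsIrr.isClassFunction χ.2 x n).symm

theorem md_cjP [Finite G] {P : Subgroup G} {χ : IrrCharacter G} {n : G}
    (hn : n ∈ Subgroup.normalizer (P : Set G)) {l : P →* ℂˣ} (h : Md P χ l) :
    Md P χ (cjP n hn l) :=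
  ⟨h.1, over_cjP hn h.2.1, h.2.2.imp_left fun h' => ⟨h'.1, fun _ => h'.2 _⟩⟩

end Over

/-- The uniqueness and orbit statements. -/
def Goal (G : Type*) [Group G] : Prop :=
  ∀ P : Sylow 2 G,
    (∀ (χ χ' : IrrCharacter G) (l : (P : Subgroup G) →* ℂˣ),
      Md (P : Subgroup G) χ l → Md (P : Subgroup G) χ' l → χ = χ') ∧
    (∀ (χ : IrrCharacter G) (l l' : (P : Subgroup G) →* ℂˣ),
      Md (P : Subgroup G) χ l → Md (P : Subgroup G) χ l' →
        ∃ (n : G) (hn : n ∈ Subgroup.normalizer ((P : Subgroup G) : Set G)), l' = cjP n hn l)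

section Quotient

variable {G : Type*} [Group G] [Finite G] (P : Sylow 2 G) (L : Subgroup G) [L.Normal]

/-- The image Sylow subgroup. -/
noncomputable def bar : Sylow 2 (G ⧸ L) := P.mapSurjective (QuotientGroup.mk'_surjective L)

theorem coe_bar : (bar P L : Subgroup (G ⧸ L)) = (P : Subgroup G).map (QuotientGroup.mk' L) := rfl

/-- The projection between the Sylow subgroups. -/
noncomputable def barMap : (P : Subgroup G) →* (bar P L : Subgroup (G ⧸ L)) :=
  (QuotientGroup.mk' L).subgroupMap (P : Subgroup G)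

theorem barMap_surjective : Function.Surjective (barMap P L) :=
  (QuotientGroup.mk' L).subgroupMap_surjective _

theorem coe_barMap (x : (P : Subgroup G)) :
    (barMap P L x : G ⧸ L) = QuotientGroup.mk' L (x : G) := rfl

theorem exists_lift {g : G}
    (hg : QuotientGroup.mk' L g ∈ Subgroup.normalizer ((bar P L : Subgroup (G ⧸ L)) : Set (G ⧸ L))) :
    ∃ n ∈ Subgroup.normalizer ((P : Subgroup G) : Set G),
      QuotientGroup.mk' L n = QuotientGroup.mk' L g := by
  set H : Subgroup G := (bar P L : Subgroup (G ⧸ L)).comap (QuotientGroup.mk' L) with hH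
  have hPH : (P : Subgroup G) ≤ H := fun x hx => ⟨x, hx, rfl⟩
  have hgP : ((g • P : Sylow 2 G) : Subgroup G) ≤ H := by
    rintro x ⟨a, ha, rfl⟩
    show QuotientGroup.mk' L (g * a * g⁻¹) ∈ (bar P L : Subgroup (G ⧸ L))
    rw [map_mul, map_mul, map_inv]
    exact (Subgroup.mem_normalizer_iff.mp hg _).mp ⟨a, ha, rfl⟩
  obtain ⟨h, hh⟩ := MulAction.exists_smul_eq H ((g • P).subtype hgP) (P.subtype hPH)
  have hh' : ((h : G) * g) • P = P := by
    rw [mul_smul]
    refine Sylow.subtype_injective (hP := ?_) (hQ := hPH) ?_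
    · rintro x ⟨a, ha, rfl⟩
      exact mul_mem (mul_mem h.2 (hgP ha)) (inv_mem h.2)
    · rw [Sylow.smul_subtype] at hh
      exact hh
  obtain ⟨a, ha, hah⟩ : ∃ a ∈ (P : Subgroup G),
      QuotientGroup.mk' L a = QuotientGroup.mk' L (h : G) := h.2
  refine ⟨a⁻¹ * ((h : G) * g), mul_mem (inv_mem (Subgroup.le_normalizer ha))
    (Sylow.smul_eq_iff_mem_normalizer.mp hh'), ?_⟩
  simp only [map_mul, map_inv, hah, inv_mul_cancel_left]

theorem bar_self_normalizing (h : Subgroup.normalizer ((P : Subgroup G) : Set G) = P) :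
    Subgroup.normalizer ((bar P L : Subgroup (G ⧸ L)) : Set (G ⧸ L)) = bar P L := by
  refine le_antisymm (fun q hq => ?_) Subgroup.le_normalizer
  obtain ⟨g, rfl⟩ := QuotientGroup.mk'_surjective L q
  obtain ⟨n, hn, hng⟩ := exists_lift P L hq
  rw [h] at hn
  exact hng ▸ ⟨n, hn, rfl⟩

/-- Descending a pair. -/
theorem exists_bar (χ : IrrCharacter G) (l : (P : Subgroup G) →* ℂˣ)
    (hker : ∀ x ∈ L, (χ : G → ℂ) x = (χ : G → ℂ) 1)
    (hl : ∀ x : (P : Subgroup G), (x : G) ∈ L → l x = 1) (h : Md (P : Subgroup G) χ l) :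
    ∃ (ψ : IrrCharacter (G ⧸ L)) (m : (bar P L : Subgroup (G ⧸ L)) →* ℂˣ),
      (∀ g : G, (ψ : G ⧸ L → ℂ) (QuotientGroup.mk' L g) = (χ : G → ℂ) g) ∧
      (∀ x : (P : Subgroup G), l x = m (barMap P L x)) ∧
      Md (bar P L : Subgroup (G ⧸ L)) ψ m := by
  obtain ⟨ψ, hψ⟩ := CharDegree.exists_infl L χ hker
  have hval : ∀ g : G, (ψ : G ⧸ L → ℂ) (QuotientGroup.mk' L g) = (χ : G → ℂ) g := fun g => by
    rw [← hψ]; rfl
  let f' := barMap P L
  have hf' : Function.Surjective f' := barMap_surjective P L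
  let m : (bar P L : Subgroup (G ⧸ L)) →* ℂˣ := MonoidHom.liftOfSurjective f' hf' ⟨l, fun x hx => by
    refine MonoidHom.mem_ker.mpr (hl x ?_)
    have := congrArg Subtype.val (MonoidHom.mem_ker.mp hx)
    simpa [f', coe_barMap, QuotientGroup.eq_one_iff] using this⟩
  have hm : ∀ x, l x = m (f' x) := fun x =>
    (MonoidHom.liftOfRightInverse_comp_apply f' (Function.surjInv hf')
      (Function.rightInverse_surjInv hf') ⟨l, fun y hy => by
        refine MonoidHom.mem_ker.mpr (hl y ?_)
        have := congrArg Subtype.val (MonoidHom.mem_ker.mp hy)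
        simpa [f', coe_barMap, QuotientGroup.eq_one_iff] using this⟩ x).symm
  refine ⟨ψ, m, hval, hm, ?_, ?_, ?_⟩
  · rw [← hψ] at h
    exact h.1
  · have := Fintype.ofFinite (P : Subgroup G)
    have := Fintype.ofFinite (bar P L : Subgroup (G ⧸ L))
    intro h0
    refine h.2.1 ?_
    rw [finsum_eq_sum_of_fintype] at h0 ⊢
    have h1 := CharAction.sum_comp_surjective f' hf'
      (fun q => (ψ : G ⧸ L → ℂ) q * conj (m q : ℂ))
    rw [h0, mul_zero] at h1
    rw [← h1]
    refine Finset.sum_congr rfl fun x _ => ?_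
    rw [← hm, ← hval]
    rfl
  · refine h.2.2.imp (fun h' => ⟨fun q => ?_, fun q => ?_⟩) (bar_self_normalizing P L)
    · obtain ⟨g, rfl⟩ := QuotientGroup.mk'_surjective L q
      rw [hval]
      exact h'.1 g
    · obtain ⟨x, rfl⟩ := hf' q
      rw [← hm]
      exact h'.2 x

theorem goal_unique_of_quotient (ih : Goal (G ⧸ L)) {χ χ' : IrrCharacter G}
    {l : (P : Subgroup G) →* ℂˣ} (hker : ∀ x ∈ L, (χ : G → ℂ) x = (χ : G → ℂ) 1)
    (hker' : ∀ x ∈ L, (χ' : G → ℂ) x = (χ' : G → ℂ) 1)
    (hl : ∀ x : (P : Subgroup G), (x : G) ∈ L → l x = 1)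
    (h : Md (P : Subgroup G) χ l) (h' : Md (P : Subgroup G) χ' l) : χ = χ' := by
  obtain ⟨ψ, m, hv, hm, hmd⟩ := exists_bar P L χ l hker hl h
  obtain ⟨ψ', m', hv', hm', hmd'⟩ := exists_bar P L χ' l hker' hl h'
  obtain rfl : m = m' := MonoidHom.ext fun q => by
    obtain ⟨x, rfl⟩ := barMap_surjective P L q
    rw [← hm, ← hm']
  obtain rfl := (ih (bar P L)).1 ψ ψ' m hmd hmd'
  exact irr_ext fun g => (hv g).symm.trans (hv' g)

theorem goal_orbit_of_quotient (ih : Goal (G ⧸ L)) {χ : IrrCharacter G}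
    {l l' : (P : Subgroup G) →* ℂˣ} (hker : ∀ x ∈ L, (χ : G → ℂ) x = (χ : G → ℂ) 1)
    (hl : ∀ x : (P : Subgroup G), (x : G) ∈ L → l x = 1)
    (hl' : ∀ x : (P : Subgroup G), (x : G) ∈ L → l' x = 1)
    (h : Md (P : Subgroup G) χ l) (h' : Md (P : Subgroup G) χ l') :
    ∃ (n : G) (hn : n ∈ Subgroup.normalizer ((P : Subgroup G) : Set G)), l' = cjP n hn l := by
  obtain ⟨ψ, m, hv, hm, hmd⟩ := exists_bar P L χ l hker hl h
  obtain ⟨ψ', m', hv', hm', hmd'⟩ := exists_bar P L χ l' hker hl' h'
  obtain rfl : ψ = ψ' := irr_ext fun q => by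
    obtain ⟨g, rfl⟩ := QuotientGroup.mk'_surjective L q
    rw [hv, hv']
  obtain ⟨q, hq, hqm⟩ := (ih (bar P L)).2 ψ m m' hmd hmd'
  obtain ⟨g, rfl⟩ := QuotientGroup.mk'_surjective L q
  obtain ⟨n, hn, hng⟩ := exists_lift P L hq
  refine ⟨n, hn, MonoidHom.ext fun x => ?_⟩
  rw [hm', hqm, cjP_apply n hn l, hm]
  refine congrArg m (Subtype.ext ?_)
  show QuotientGroup.mk' L g * QuotientGroup.mk' L x * (QuotientGroup.mk' L g)⁻¹ =
    QuotientGroup.mk' L (n * x * n⁻¹)
  rw [map_mul, map_mul, map_inv, hng]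

end Quotient

section Inertia

variable {G : Type*} [Group G] [Fintype G] (P : Sylow 2 G) {Q : Subgroup G} [Fintype Q]
  (hQ : Q.Normal) (hQP : Q ≤ (P : Subgroup G))

/-- A linear character of `P` on a normal subgroup inside it. -/
def resQ (l : (P : Subgroup G) →* ℂˣ) : Q → ℂ := fun q => (l (Subgroup.inclusion hQP q) : ℂ)

include hQP in
theorem isIrr_resQ (l : (P : Subgroup G) →* ℂˣ) : IsIrrCharacter Q (resQ P hQP l) :=
  isIrrCharacter_linear (l.comp (Subgroup.inclusion hQP))

include hQ in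
theorem le_inertia_resQ (l : (P : Subgroup G) →* ℂˣ) :
    (P : Subgroup G) ≤ inertia hQ (resQ P hQP l) := fun a ha => by
  refine mem_inertia.mpr (funext fun q => congrArg Units.val ?_)
  show l _ = l (Subgroup.inclusion hQP q)
  have e : Subgroup.inclusion hQP ⟨a * q * a⁻¹, hQ.conj_mem q q.2 a⟩ =
      (⟨a, ha⟩ : (P : Subgroup G)) * Subgroup.inclusion hQP q * ⟨a, ha⟩⁻¹ := Subtype.ext rfl
  rw [e, map_mul, map_mul, map_inv, mul_comm (l ⟨a, ha⟩), mul_inv_cancel_right]

theorem classInner_resQ_ne_zero {χ : IrrCharacter G} {l : (P : Subgroup G) →* ℂˣ}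
    (h : Over (P : Subgroup G) (χ : G → ℂ) l) :
    classInner (fun q : Q => (χ : G → ℂ) q) (resQ P hQP l) ≠ 0 := by
  have := Fintype.ofFinite (P : Subgroup G)
  rw [over_iff] at h
  refine below (Subgroup.inclusion hQP) (f := fun x : (P : Subgroup G) => (χ : G → ℂ) x)
    (IsChar.restrict (P : Subgroup G) (IsIrr.isCharacter χ.2)) ⟨_, isIrrCharacter_linear l⟩ h
    (IsIrr.isCharacter (isIrr_resQ P hQP l)) ?_
  show classInner (resQ P hQP l) (resQ P hQP l) ≠ 0
  rw [classInner_irr_self ⟨_, isIrr_resQ P hQP l⟩]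
  exact one_ne_zero

/-- The linear character of `P` as one of the Sylow subgroup of a subgroup above it. -/
noncomputable def lT {T : Subgroup G} (hPT : (P : Subgroup G) ≤ T) (l : (P : Subgroup G) →* ℂˣ) :
    (P.subtype hPT : Subgroup T) →* ℂˣ :=
  l.comp (Subgroup.subgroupOfEquivOfLe hPT).toMonoidHom

/-- The Clifford correspondent of a pair in the inertia group. -/
theorem exists_inertia {χ : IrrCharacter G} {l : (P : Subgroup G) →* ℂˣ}
    (h : Md (P : Subgroup G) χ l) {T : Subgroup G} [Fintype T] (hT : T = inertia hQ (resQ P hQP l))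
    (hle : Q ≤ T) (hPT : (P : Subgroup G) ≤ T) :
    ∃ ψ : IrrCharacter T, indFun T (ψ : T → ℂ) = χ ∧
      classInner (resTo hle (ψ : T → ℂ)) (resQ P hQP l) ≠ 0 ∧
      Md (P.subtype hPT : Subgroup T) ψ (lT P hPT l) := by
  classical
  have := Fintype.ofFinite (P : Subgroup G)
  have := Fintype.ofFinite (IrrCharacter T)
  have hθ := isIrr_resQ P hQP l
  have hT' : ∀ g, g ∈ T ↔ conjFn hQ (resQ P hQP l) g = resQ P hQP l := fun g => by
    rw [hT]; exact mem_inertia
  obtain ⟨ψ, hψ, hψc, -, hind⟩ :=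
    exists_over_inertia hQ hθ hT' hle χ (classInner_resQ_ne_zero P hQP h.2.1)
  obtain ⟨d, -, hd⟩ := IsIrr.exists_degree hψ
  refine ⟨⟨ψ, hψ⟩, hind, hψc, ?_, ?_, ?_⟩
  · have h1 := congrFun hind 1
    rw [indFun_apply_one, natCast_charDegree, hd, ← Nat.cast_mul, Nat.cast_inj] at h1
    have h2 := h.1
    rw [← h1, Nat.odd_mul] at h2
    rw [CharDegree.charDegree_eq_of_apply_one hd]
    exact h2.2
  · -- some constituent on `T` lies over `l`; it is `ψ`
    obtain ⟨φ, hφa, hφb⟩ : ∃ φ : IrrCharacter T,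
        classInner (fun t : T => (χ : G → ℂ) t) (φ : T → ℂ) ≠ 0 ∧
          classInner (resTo hPT (φ : T → ℂ)) (fun x => (l x : ℂ)) ≠ 0 := by
      have h2 := (over_iff _ _ _).mp h.2.1
      rw [classInner_resTo_restrict hPT (IsIrr.isCharacter χ.2)] at h2
      obtain ⟨φ, -, hφ⟩ := Finset.exists_ne_zero_of_sum_ne_zero h2
      exact ⟨φ, left_ne_zero_of_mul hφ, right_ne_zero_of_mul hφ⟩
    have hφQ : classInner (resTo hle (φ : T → ℂ)) (resQ P hQP l) ≠ 0 := by
      refine below (Subgroup.inclusion hQP) (f := resTo hPT (φ : T → ℂ))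
        (isCharacter_resTo hPT (IsIrr.isCharacter φ.2)) ⟨_, isIrrCharacter_linear l⟩ hφb
        (IsIrr.isCharacter hθ) ?_
      show classInner (resQ P hQP l) (resQ P hQP l) ≠ 0
      rw [classInner_irr_self ⟨_, hθ⟩]
      exact one_ne_zero
    obtain ⟨-, -, h3⟩ := indFun_eq_of_constituent hQ hθ hT' hle hψ hψc χ (by
      rw [hind, classInner_irr_self]; exact one_ne_zero)
    have hφψ : (φ : T → ℂ) = ψ := by
      by_contra hne
      exact (h3 φ hne).elim hφa hφQ
    have hb := hφb
    rw [hφψ, ← mul_inv_cancel_left₀ (Nat.cast_ne_zero.mpr Nat.card_pos.ne' : (Nat.card (P : Subgroup G) : ℂ) ≠ 0)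
      (classInner _ _)] at hb
    intro h0
    refine hb ?_
    rw [classInner, ← mul_assoc (Nat.card _ : ℂ), mul_inv_cancel₀ (Nat.cast_ne_zero.mpr Nat.card_pos.ne'),
      one_mul, mul_eq_zero]
    right
    rw [← finsum_eq_sum_of_fintype]
    rw [← h0]
    exact (finsum_eq_of_bijective (Subgroup.subgroupOfEquivOfLe hPT)
      (MulEquiv.bijective _) fun x => rfl).symm
  · refine h.2.2.imp (fun h' => ⟨fun t => ?_, fun x => h'.2 _⟩) (fun hN => ?_)
    · have hθr : ∀ q, conj (resQ P hQP l q) = resQ P hQP l q := fun q => by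
        have h2 : (resQ P hQP l q) * (resQ P hQP l q) = 1 := by
          show (l _ : ℂ) * (l _ : ℂ) = 1
          rw [← Units.val_mul, h'.2, Units.val_one]
        rcases mul_self_eq_one_iff.mp h2 with e | e <;> rw [e] <;> simp
      have heq := indFun_injective_of_over hQ hθ hT' hle (IsIrr.conj hψ) hψ
        (fun h0 => hψc (by
          have h1 := congrArg conj h0
          simpa [classInner, map_sum, resTo, hθr] using h1)) hψc (by
          rw [hind]
          funext g
          rw [← h'.1.conj_eq g, ← congrFun hind g]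
          simp only [indFun, map_mul, map_inv₀, map_natCast, map_sum]
          refine congrArg _ (Finset.sum_congr rfl fun x _ => ?_)
          by_cases hx : x⁻¹ * g * x ∈ T
          · rw [extendByZero_of_mem T _ hx, extendByZero_of_mem T _ hx]
          · rw [extendByZero_of_notMem T _ hx, extendByZero_of_notMem T _ hx, map_zero])
      exact Complex.conj_eq_iff_im.mp (congrFun heq t)
    · rw [Sylow.coe_subtype, ← Subgroup.subgroupOf_normalizer_eq hPT, hN]

end Inertia

universe u

section Induction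

variable {G : Type u} [Group G] [Fintype G] [Group.IsSolvable G] (P : Sylow 2 G)

/-- When the odd core is trivial the kernel of an invariant restriction to `O_2` is normal. -/
theorem exists_normal_or_commutative {Q : Subgroup G} [Fintype Q] (hQ : Q.Normal)
    (hQP : Q ≤ (P : Subgroup G)) (hcent : Subgroup.centralizer (Q : Set G) ≤ Q)
    (l : (P : Subgroup G) →* ℂˣ) (hinv : inertia hQ (resQ P hQP l) = ⊤) :
    (∃ L : Subgroup G, L.Normal ∧ L ≠ ⊥ ∧ L ≤ (P : Subgroup G) ∧
      ∀ l' : (P : Subgroup G) →* ℂˣ, resQ P hQP l' = resQ P hQP l →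
        ∀ x : (P : Subgroup G), (x : G) ∈ L → l' x = 1) ∨
    ((P : Subgroup G) = ⊤ ∧ ∀ a b : G, a * b = b * a) := by
  set θ := l.comp (Subgroup.inclusion hQP) with hθ
  have hfix : ∀ (g : G) (q : Q), θ ⟨g * q * g⁻¹, hQ.conj_mem q q.2 g⟩ = θ q := fun g q => by
    have h1 : g ∈ inertia hQ (resQ P hQP l) := by rw [hinv]; exact Subgroup.mem_top g
    exact Units.ext (congrFun (mem_inertia.mp h1) q)
  by_cases hk : θ.ker = ⊥
  · right
    have hcomm : ∀ (g : G) (q : Q), g * (q : G) = (q : G) * g := fun g q => by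
      have h1 : (⟨g * q * g⁻¹, hQ.conj_mem q q.2 g⟩ : Q) * q⁻¹ ∈ θ.ker := by
        rw [MonoidHom.mem_ker, map_mul, hfix, map_inv, mul_inv_cancel]
      rw [hk, Subgroup.mem_bot, mul_inv_eq_one] at h1
      exact mul_inv_eq_iff_eq_mul.mp (congrArg Subtype.val h1)
    have htop : ∀ g : G, g ∈ Q := fun g => hcent (Subgroup.mem_centralizer_iff.mpr fun q hq =>
      (hcomm g ⟨q, hq⟩).symm)
    exact ⟨top_le_iff.mp fun g _ => hQP (htop g), fun a b => hcomm a ⟨b, htop b⟩⟩
  · left
    refine ⟨θ.ker.map Q.subtype, ⟨?_⟩, ?_, ?_, ?_⟩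
    · rintro _ ⟨q, hq, rfl⟩ g
      refine ⟨⟨g * q * g⁻¹, hQ.conj_mem q q.2 g⟩, ?_, rfl⟩
      show θ _ = 1
      rw [hfix]
      exact hq
    · exact fun h => hk ((Subgroup.map_eq_bot_iff_of_injective _ Q.subtype_injective).mp h)
    · exact (Subgroup.map_subtype_le _).trans hQP
    · intro l' hl' x hx
      obtain ⟨q, hq, hqx⟩ := hx
      have e : x = Subgroup.inclusion hQP q := Subtype.ext hqx.symm
      rw [e]
      exact (Units.ext (congrFun hl' q)).trans hq

/-- A pair is trivial on a normal subgroup of odd order. -/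
theorem md_trivial_on_odd {L : Subgroup G} (hL : L.Normal) (hodd : Odd (Nat.card L))
    {χ : IrrCharacter G} {l : (P : Subgroup G) →* ℂˣ} (h : Md (P : Subgroup G) χ l)
    {x : G} (hx : x ∈ L) : (χ : G → ℂ) x = (χ : G → ℂ) 1 := by
  rcases h.2.2 with h' | hN
  · exact trivial_on_odd hL hodd χ h'.1 h.1 hx
  · have := Fintype.ofFinite L
    have hLP : L ⊓ (P : Subgroup G) = ⊥ := by
      refine Subgroup.inf_eq_bot_of_coprime ?_
      obtain ⟨k, hk⟩ := P.2.exists_card_eq
      rw [hk]
      exact Nat.Coprime.pow_right k (Nat.coprime_two_right.mpr hodd)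
    refine PPrimeKernel.mem_kernel_of_mem P (N := L) (le_bot_iff.mp fun y hy => ?_) χ
      (fun hd => Nat.not_even_iff_odd.mpr h.1 (even_iff_two_dvd.mpr hd)) ⟨x, hx⟩
    rw [← hLP]
    refine ⟨hy.1, ?_⟩
    rw [← hN]
    refine Subgroup.mem_normalizer_iff.mpr fun z => ⟨fun hz => ?_, fun hz => ?_⟩
    · rw [← Subgroup.mem_centralizer_iff.mp hy.2 z hz, mul_inv_cancel_right]
      exact hz
    · have h1 := Subgroup.mem_centralizer_iff.mp hy.2 _ hz
      have : y * z * y⁻¹ = z := by
        have h2 : y * z = y * (y * z * y⁻¹) := by rw [← h1]; group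
        exact (mul_left_cancel h2).symm
      rwa [this] at hz

theorem odd_card_core : Odd (Nat.card (pPrimeCore 2 G)) :=
  Nat.coprime_two_right.mp (Core.coprime_card_pPrimeCore 2 G)

/-- One step of the induction. -/
theorem goal_step (ih : ∀ (H : Type u) [Group H] [Finite H] [Group.IsSolvable H],
    Nat.card H < Nat.card G → Goal H) : Goal G := by
  intro P
  by_cases hO : pPrimeCore 2 G = ⊥
  swap
  · set L := pPrimeCore 2 G with hLdef
    have hLn : L.Normal := inferInstance
    have hlt : Nat.card (G ⧸ L) < Nat.card G := by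
      rw [L.card_eq_card_quotient_mul_card_subgroup]
      exact lt_mul_of_one_lt_right Nat.card_pos ((Subgroup.one_lt_card_iff_ne_bot L).mpr hO)
    have hl : ∀ (l : (P : Subgroup G) →* ℂˣ) (x : (P : Subgroup G)), (x : G) ∈ L → l x = 1 := by
      intro l x hx
      have h1 : (x : G) ∈ L ⊓ (P : Subgroup G) := ⟨hx, x.2⟩
      have h2 : L ⊓ (P : Subgroup G) = ⊥ := by
        refine Subgroup.inf_eq_bot_of_coprime ?_
        obtain ⟨k, hk⟩ := P.2.exists_card_eq
        rw [hk]
        exact Nat.Coprime.pow_right k (Core.coprime_card_pPrimeCore 2 G)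
      rw [h2, Subgroup.mem_bot] at h1
      rw [show x = 1 from Subtype.ext h1, map_one]
    refine ⟨fun χ χ' l h h' => goal_unique_of_quotient P L (ih _ hlt)
      (fun x hx => md_trivial_on_odd P hLn odd_card_core h hx)
      (fun x hx => md_trivial_on_odd P hLn odd_card_core h' hx) (hl l) h h', ?_⟩
    exact fun χ l l' h h' => goal_orbit_of_quotient P L (ih _ hlt)
      (fun x hx => md_trivial_on_odd P hLn odd_card_core h hx) (hl l) (hl l') h h'
  · set Q := pCore 2 G with hQdef
    have hQ : Q.Normal := inferInstance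
    have hQP : Q ≤ (P : Subgroup G) := Core.pCore_le_sylow P
    have hcent := Core.centralizer_pCore_le_of_pPrimeCore_eq_bot hO
    have := Fintype.ofFinite Q
    have := Fintype.ofFinite (P : Subgroup G)
    -- the case of a pair with the same restriction
    have key : ∀ l : (P : Subgroup G) →* ℂˣ,
        (∀ χ χ' : IrrCharacter G, Md (P : Subgroup G) χ l → Md (P : Subgroup G) χ' l → χ = χ') ∧
        (∀ (χ : IrrCharacter G) (l' : (P : Subgroup G) →* ℂˣ), resQ P hQP l' = resQ P hQP l →
          Md (P : Subgroup G) χ l → Md (P : Subgroup G) χ l' →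
          ∃ (n : G) (hn : n ∈ Subgroup.normalizer ((P : Subgroup G) : Set G)), l' = cjP n hn l) := by
      intro l
      set T := inertia hQ (resQ P hQP l) with hTdef
      by_cases hTtop : T = ⊤
      · rcases exists_normal_or_commutative P hQ hQP hcent l hTtop with
          ⟨L, hLn, hLb, hLP, hl⟩ | ⟨hPtop, hab⟩
        · have hlt : Nat.card (G ⧸ L) < Nat.card G := by
            rw [L.card_eq_card_quotient_mul_card_subgroup]
            exact lt_mul_of_one_lt_right Nat.card_pos ((Subgroup.one_lt_card_iff_ne_bot L).mpr hLb)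
          have hker : ∀ (χ : IrrCharacter G), Md (P : Subgroup G) χ l →
              ∀ x ∈ L, (χ : G → ℂ) x = (χ : G → ℂ) 1 := by
            intro χ h x hx
            have := Fintype.ofFinite L
            let one : IrrCharacter L := trivChar L
            have hc : classInner (fun y : L => (χ : G → ℂ) y) (one : L → ℂ) ≠ 0 := by
              refine below (Subgroup.inclusion hLP) (f := fun y : (P : Subgroup G) => (χ : G → ℂ) y)
                (IsChar.restrict (P : Subgroup G) (IsIrr.isCharacter χ.2))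
                ⟨_, isIrrCharacter_linear l⟩ ((over_iff _ _ _).mp h.2.1)
                (IsIrr.isCharacter one.2) ?_
              have e : (fun y : L => ((l (Subgroup.inclusion hLP y) : ℂˣ) : ℂ)) = (one : L → ℂ) :=
                funext fun y => by rw [hl l rfl _ y.2]; rfl
              rw [show (fun y : L => (⟨_, isIrrCharacter_linear l⟩ : IrrCharacter (P : Subgroup G)).1
                (Subgroup.inclusion hLP y)) = (one : L → ℂ) from e, classInner_irr_self]
              exact one_ne_zero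
            have h1 := restrict_eq_smul_orbit_sum hLn χ.2 one.2 hc
            have h2 := congrFun h1 ⟨x, hx⟩
            have h3 := congrFun h1 1
            refine h2.trans (Eq.trans ?_ h3.symm)
            simp only [Pi.smul_apply, Finset.sum_apply]
            refine congrArg _ (Finset.sum_congr rfl fun φ hφ => ?_)
            obtain ⟨g, -, rfl⟩ := Finset.mem_image.mp hφ
            rfl
          exact ⟨fun χ χ' h h' => goal_unique_of_quotient P L (ih _ hlt) (hker χ h) (hker χ' h')
              (hl l rfl) h h',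
            fun χ l' hl' h h' => goal_orbit_of_quotient P L (ih _ hlt) (hker χ h) (hl l rfl)
              (hl l' hl') h h'⟩
        · -- `G = P` is abelian
          let e : (P : Subgroup G) ≃* G := (MulEquiv.subgroupCongr hPtop).trans Subgroup.topEquiv
          have hres : ∀ (χ : IrrCharacter G) (l' : (P : Subgroup G) →* ℂˣ),
              Md (P : Subgroup G) χ l' → ∀ x : (P : Subgroup G), (χ : G → ℂ) x = (l' x : ℂ) := by
            intro χ l' h x
            have h1 := (over_iff _ _ _).mp h.2.1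
            have hi : IsIrrCharacter (P : Subgroup G) (fun y => (χ : G → ℂ) y) :=
              IsIrr.comp_surjective e.toMonoidHom e.surjective χ.2
            by_contra hne
            exact h1 (classInner_irr_of_ne (χ := ⟨_, hi⟩) (ψ := ⟨_, isIrrCharacter_linear l'⟩)
              fun e' => hne (congrFun (congrArg Subtype.val e') x))
          refine ⟨fun χ χ' h h' => irr_ext fun g => ?_, fun χ l' _ h h' =>
            ⟨1, one_mem _, MonoidHom.ext fun x => Units.ext ?_⟩⟩
          · obtain ⟨x, rfl⟩ := e.surjective g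
            exact (hres χ l h x).trans (hres χ' l h' x).symm
          · rw [← hres χ l' h' x, hres χ l h x, cjP_apply]
            exact congrArg Units.val (congrArg l (Subtype.ext (by simp)))
      · have := Fintype.ofFinite T
        have hlt : Nat.card T < Nat.card G := by
          rw [← T.card_mul_index]
          exact lt_mul_of_one_lt_right Nat.card_pos
            (Nat.one_lt_iff_ne_zero_and_ne_one.mpr
              ⟨Subgroup.index_ne_zero_of_finite, fun h => hTtop (Subgroup.index_eq_one.mp h)⟩)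
        have hPT : (P : Subgroup G) ≤ T := le_inertia_resQ P hQ hQP l
        have hle : Q ≤ T := hQP.trans hPT
        refine ⟨fun χ χ' h h' => ?_, fun χ l' hl' h h' => ?_⟩
        · obtain ⟨ψ, hi, -, hmd⟩ := exists_inertia P hQ hQP h hTdef hle hPT
          obtain ⟨ψ', hi', -, hmd'⟩ := exists_inertia P hQ hQP h' hTdef hle hPT
          obtain rfl := (ih T hlt (P.subtype hPT)).1 ψ ψ' _ hmd hmd'
          exact Subtype.ext (hi.symm.trans hi')
        · obtain ⟨ψ, hi, hc, hmd⟩ := exists_inertia P hQ hQP h hTdef hle hPT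
          obtain ⟨ψ', hi', hc', hmd'⟩ :=
            exists_inertia P hQ hQP h' (show T = inertia hQ (resQ P hQP l') by rw [hl']) hle hPT
          rw [hl'] at hc'
          obtain rfl : ψ = ψ' := Subtype.ext (indFun_injective_of_over hQ (isIrr_resQ P hQP l)
            (fun g => by rw [hTdef]; exact mem_inertia) hle ψ.2 ψ'.2 hc hc' (hi.trans hi'.symm))
          obtain ⟨t, ht, htl⟩ := (ih T hlt (P.subtype hPT)).2 ψ _ _ hmd hmd'
          have hn : (t : G) ∈ Subgroup.normalizer ((P : Subgroup G) : Set G) := by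
            rw [Sylow.coe_subtype, ← Subgroup.subgroupOf_normalizer_eq hPT] at ht
            exact ht
          refine ⟨(t : G), hn, MonoidHom.ext fun x => ?_⟩
          have hx := DFunLike.congr_fun htl ⟨⟨x, hPT x.2⟩, x.2⟩
          exact hx
    refine ⟨fun χ χ' l => (key l).1 χ χ', fun χ l l' h h' => ?_⟩
    obtain ⟨g, hg⟩ := (CfsgLib.RelGlauberman.constituent_iff hQ χ.2 (isIrr_resQ P hQP l)
      (classInner_resQ_ne_zero P hQP h.2.1) (isIrr_resQ P hQP l')).mp
      (classInner_resQ_ne_zero P hQP h'.2.1)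
    obtain ⟨n, hn, hng⟩ := CharDegree.RealBijection.exists_normalizer_conj P hQ
      (le_inertia_resQ P hQ hQP l) (g := g) (hg ▸ le_inertia_resQ P hQ hQP l')
    have h2 : resQ P hQP (cjP n⁻¹ (inv_mem hn) l') = resQ P hQP l := by
      funext q
      have h3 := congrFun (hg.trans hng.symm)
        ⟨n⁻¹ * q * n, by simpa using hQ.conj_mem q q.2 n⁻¹⟩
      refine Eq.trans ?_ (h3.trans ?_)
      · exact congrArg Units.val (congrArg l' (Subtype.ext (by simp)))
      · exact congrArg Units.val (congrArg l (Subtype.ext (by simp [mul_assoc])))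
    obtain ⟨m, hm, hml⟩ := (key l).2 χ _ h2 h (md_cjP (inv_mem hn) h')
    refine ⟨m * n, mul_mem hm hn, MonoidHom.ext fun x => ?_⟩
    have h3 := DFunLike.congr_fun hml ⟨n * x * n⁻¹, (Subgroup.mem_normalizer_iff.mp hn x).mp x.2⟩
    rw [cjP_apply, cjP_apply] at h3
    rw [cjP_apply]
    refine Eq.trans ?_ (h3.trans (congrArg l (Subtype.ext (by simp [mul_assoc]))))
    exact congrArg l' (Subtype.ext (by simp [mul_assoc]))

end Induction

theorem goal_all : ∀ (n : ℕ) (G : Type u) [Group G] [Finite G] [Group.IsSolvable G],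
    Nat.card G = n → Goal G := by
  intro n
  induction n using Nat.strong_induction_on with
  | _ n ih =>
    intro G _ _ _ hn
    have := Fintype.ofFinite G
    exact goal_step fun H _ _ _ hH => ih _ (hn ▸ hH) H rfl

theorem goal {G : Type u} [Group G] [Finite G] [Group.IsSolvable G] : Goal G :=
  goal_all _ G rfl

end CfsgLib.RealOdd
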