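import Cfsg.Agent.Lib.Char.Brauer
import Cfsg.Agent.Lib.Char.Equiv
import Cfsg.Agent.Lib.CharDegree.Counting
import Mathlib.FieldTheory.IntermediateField.Adjoin.Basic
import Mathlib.RingTheory.RootsOfUnity.Complex
import Mathlib.GroupTheory.Exponent
import Mathlib.LinearAlgebra.StdBasis
import Mathlib.LinearAlgebra.PID
import Mathlib.RingTheory.PrincipalIdealDomain

/-!
# Every representation is realizable over the field of `exponent G`-th roots of unity
-/

namespace CfsgLib.Realize

open Module CfsgLib.Char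
open scoped ComplexConjugate

variable {G : Type*} [Group G] {K : IntermediateField ℚ ℂ}

/-- Characters of representations on finite-dimensional spaces over `K`, viewed in `ℂ`. -/
def IsKChar (K : IntermediateField ℚ ℂ) (θ : G → ℂ) : Prop :=
  ∃ (m : ℕ) (σ : Representation K G (Fin m → K)), θ = fun g => (σ.character g : ℂ)

theorem isKChar_rep {W : Type*} [AddCommGroup W] [Module K W] [FiniteDimensional K W]
    (σ : Representation K G W) : IsKChar K (fun g => (σ.character g : ℂ)) := by
  let e : W ≃ₗ[K] (Fin (finrank K W) → K) := (finBasis K W).equivFun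
  let τ : Representation K G (Fin (finrank K W) → K) :=
    { toFun := fun g => e.conj (σ g)
      map_one' := by ext; simp [LinearEquiv.conj_apply]
      map_mul' := fun a b => by ext; simp [LinearEquiv.conj_apply] }
  refine ⟨_, τ, funext fun g => ?_⟩
  refine congrArg Subtype.val ?_
  exact (LinearMap.trace_conj' (σ g) e).symm

theorem IsKChar.add {θ φ : G → ℂ} (h₁ : IsKChar K θ) (h₂ : IsKChar K φ) : IsKChar K (θ + φ) := by
  obtain ⟨m, σ, rfl⟩ := h₁
  obtain ⟨n, τ, rfl⟩ := h₂
  let ω : Representation K G ((Fin m → K) × (Fin n → K)) :=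
    { toFun := fun g => (σ g).prodMap (τ g)
      map_one' := by ext <;> simp
      map_mul' := fun a b => by ext <;> simp }
  convert isKChar_rep ω using 1
  funext g
  simp only [Pi.add_apply, Representation.character]
  rw [← IntermediateField.coe_add]
  exact congrArg Subtype.val (LinearMap.trace_prodMap' (σ g) (τ g)).symm

theorem IsKChar.zero : IsKChar K (0 : G → ℂ) := by
  refine ⟨0, 1, funext fun g => ?_⟩
  rw [Representation.character, Subsingleton.elim ((1 : Representation K G (Fin 0 → K)) g) 0,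
    map_zero]
  rfl

/-- Complexification. -/
theorem IsKChar.exists_complex {θ : G → ℂ} (h : IsKChar K θ) :
    ∃ (m : ℕ) (σ : Representation ℂ G (Fin m → ℂ)), σ.character = θ ∧
      ∀ g i j, LinearMap.toMatrix' (σ g) i j ∈ K := by
  obtain ⟨m, σ, rfl⟩ := h
  let f : Matrix (Fin m) (Fin m) K →+* Matrix (Fin m) (Fin m) ℂ := (algebraMap K ℂ).mapMatrix
  let τ : Representation ℂ G (Fin m → ℂ) :=
    { toFun := fun g => Matrix.toLinAlgEquiv' (f (LinearMap.toMatrixAlgEquiv' (σ g)))
      map_one' := by rw [map_one, map_one, map_one, map_one]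
      map_mul' := fun a b => by rw [map_mul, map_mul, map_mul, map_mul] }
  refine ⟨m, τ, funext fun g => ?_, fun g i j => ?_⟩
  · rw [Representation.character, Representation.character,
      LinearMap.trace_eq_matrix_trace ℂ (Pi.basisFun ℂ (Fin m)),
      LinearMap.trace_eq_matrix_trace K (Pi.basisFun K (Fin m))]
    simp only [Matrix.trace, Matrix.diag, AddSubmonoidClass.coe_finsetSum]
    refine Finset.sum_congr rfl fun i _ => ?_
    rw [LinearMap.toMatrix_eq_toMatrix', LinearMap.toMatrix_eq_toMatrix']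
    change LinearMap.toMatrix' (Matrix.toLinAlgEquiv' _) i i = _
    rw [show LinearMap.toMatrix' (Matrix.toLinAlgEquiv' (f (LinearMap.toMatrixAlgEquiv' (σ g)))) =
      f (LinearMap.toMatrixAlgEquiv' (σ g)) from LinearMap.toMatrix'_toLin' _]
    rfl
  · change LinearMap.toMatrix' (Matrix.toLinAlgEquiv' (f (LinearMap.toMatrixAlgEquiv' (σ g)))) i j ∈ K
    rw [show LinearMap.toMatrix' (Matrix.toLinAlgEquiv' (f (LinearMap.toMatrixAlgEquiv' (σ g)))) =
      f (LinearMap.toMatrixAlgEquiv' (σ g)) from LinearMap.toMatrix'_toLin' _]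
    exact Subtype.prop _

theorem IsKChar.isCharacter {θ : G → ℂ} (h : IsKChar K θ) : Cfsg.IsCharacter G θ :=
  let ⟨m, σ, hσ, _⟩ := IsKChar.exists_complex h
  ⟨m, σ, hσ⟩

theorem IsKChar.mem {θ : G → ℂ} (h : IsKChar K θ) (g : G) : θ g ∈ K := by
  obtain ⟨m, σ, rfl⟩ := h
  exact Subtype.prop _

/-- The part cut out by a commuting idempotent is again a `K`-character. -/
theorem isKChar_of_idempotent {W : Type*} [AddCommGroup W] [Module K W] [FiniteDimensional K W]
    (σ : Representation K G W) (e : Module.End K W) (he : e * e = e)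
    (hc : ∀ g, e * σ g = σ g * e) :
    IsKChar K (fun g => (LinearMap.trace K W (e * σ g) : ℂ)) := by
  have hfix : ∀ v ∈ LinearMap.range e, e v = v := by
    rintro _ ⟨w, rfl⟩
    rw [← Module.End.mul_apply, he]
  have hinv : ∀ g, ∀ v ∈ LinearMap.range e, σ g v ∈ LinearMap.range e := by
    rintro g _ ⟨w, rfl⟩
    refine ⟨σ g w, ?_⟩
    rw [← Module.End.mul_apply, hc g, Module.End.mul_apply]
  let τ : Representation K G (LinearMap.range e) :=
    { toFun := fun g => (σ g).restrict (hinv g)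
      map_one' := LinearMap.ext fun v => Subtype.ext (by simp [LinearMap.restrict_apply])
      map_mul' := fun a b => LinearMap.ext fun v => Subtype.ext (by simp [LinearMap.restrict_apply]) }
  convert isKChar_rep τ using 1
  funext g
  refine congrArg Subtype.val ?_
  have hall : ∀ v, (e * σ g) v ∈ LinearMap.range e := fun v => ⟨σ g v, rfl⟩
  rw [← LinearMap.trace_restrict_eq_of_forall_mem (LinearMap.range e) (e * σ g) hall]
  refine congrArg (LinearMap.trace K (LinearMap.range e)) (LinearMap.ext fun v => Subtype.ext ?_)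
  exact hfix _ (hinv g v v.2)

variable [Fintype G]

/-- Differences of `K`-characters. -/
def diffGroup (G : Type*) [Group G] (K : IntermediateField ℚ ℂ) : AddSubgroup (G → ℂ) where
  carrier := {θ | ∃ A B, IsKChar K A ∧ IsKChar K B ∧ θ = A - B}
  add_mem' := by
    rintro _ _ ⟨A, B, hA, hB, rfl⟩ ⟨C, D, hC, hD, rfl⟩
    exact ⟨A + C, B + D, IsKChar.add hA hC, IsKChar.add hB hD, by abel⟩
  zero_mem' := ⟨0, 0, IsKChar.zero, IsKChar.zero, (sub_self 0).symm⟩
  neg_mem' := by
    rintro _ ⟨A, B, hA, hB, rfl⟩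
    exact ⟨B, A, hB, hA, neg_sub A B⟩

/-- A linear character with values in `K` induces a `K`-character. -/
theorem isKChar_indFun (E : Subgroup G) (lam : E →* ℂˣ) (hlam : ∀ e : E, (lam e : ℂ) ∈ K) :
    IsKChar K (Cfsg.indFun E fun e => (lam e : ℂ)) := by
  classical
  have := Fintype.ofFinite (G ⧸ E)
  have hmem : ∀ (g : G) (q : G ⧸ E), q.out⁻¹ * g * (g⁻¹ • q).out ∈ E := by
    intro g q
    rw [mul_assoc, ← QuotientGroup.eq, QuotientGroup.out_eq', ← smul_eq_mul,
      ← MulAction.Quotient.smul_mk, QuotientGroup.out_eq', smul_inv_smul]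
  let c : G → G ⧸ E → K := fun g q => ⟨lam ⟨_, hmem g q⟩, hlam _⟩
  have hcm : ∀ a b q, c (a * b) q = c a q * c b (a⁻¹ • q) := by
    intro a b q
    refine Subtype.ext ?_
    change (lam _ : ℂ) = (lam _ : ℂ) * (lam _ : ℂ)
    rw [← Units.val_mul, ← map_mul]
    refine congrArg (fun x => (lam x : ℂ)) (Subtype.ext ?_)
    simp only [Subgroup.coe_mul, mul_inv_rev, mul_smul]
    group
  have hc1 : ∀ q, c 1 q = 1 := by
    intro q
    refine Subtype.ext ?_
    change (lam _ : ℂ) = 1
    rw [show (⟨_, hmem 1 q⟩ : E) = 1 from Subtype.ext (by simp), map_one, Units.val_one]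
  let σ : Representation K G (G ⧸ E → K) :=
    { toFun := fun g =>
        { toFun := fun f q => c g q * f (g⁻¹ • q)
          map_add' := fun f f' => funext fun q => mul_add _ _ _
          map_smul' := fun r f => funext fun q => mul_left_comm _ _ _ }
      map_one' := LinearMap.ext fun f => funext fun q => by simp [hc1]
      map_mul' := fun a b => LinearMap.ext fun f => funext fun q => by
        simp only [LinearMap.coe_mk, AddHom.coe_mk, Module.End.mul_apply, hcm, mul_inv_rev,
          mul_smul, mul_assoc] }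
  convert isKChar_rep σ using 1
  funext g
  rw [CfsgLib.Clifford.indFun_eq_sum_quotient E
    (IsIrr.isClassFunction (isIrrCharacter_linear lam)), Representation.character,
    LinearMap.trace_eq_matrix_trace K (Pi.basisFun K (G ⧸ E))]
  simp only [Matrix.trace, Matrix.diag, AddSubmonoidClass.coe_finsetSum]
  refine Finset.sum_congr rfl fun q _ => ?_
  rw [LinearMap.toMatrix_eq_toMatrix', LinearMap.toMatrix'_apply]
  change _ = ((c g q * (Pi.single q (1 : K) : G ⧸ E → K) (g⁻¹ • q) : K) : ℂ)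
  by_cases hq : g⁻¹ • q = q
  · have hm : q.out⁻¹ * g * q.out ∈ E := by
      have h := hmem g q
      rwa [hq] at h
    rw [extendByZero_of_mem E _ hm, hq, Pi.single_eq_same, mul_one]
    exact congrArg (fun x => (lam x : ℂ)) (Subtype.ext (by simp only [hq]))
  · rw [Pi.single_eq_of_ne hq, mul_zero, extendByZero_of_notMem]
    · rfl
    · intro hm
      rw [mul_assoc, ← QuotientGroup.eq, QuotientGroup.out_eq', ← smul_eq_mul,
        ← MulAction.Quotient.smul_mk, QuotientGroup.out_eq'] at hm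
      exact hq (inv_smul_eq_iff.mpr hm)

variable (hK : ∀ (E : Subgroup G) (lam : E →* ℂˣ) (e : E), (lam e : ℂ) ∈ K)
include hK

theorem mem_diffGroup {θ : G → ℂ} (hθ : Cfsg.IsGeneralizedCharacter G θ) : θ ∈ diffGroup G K := by
  have h : CfsgLib.Brauer.elemSpan G ≤ diffGroup G K := by
    refine (AddSubgroup.closure_le _).mpr ?_
    rintro _ ⟨E, lam, -, rfl⟩
    exact ⟨_, 0, isKChar_indFun E lam (hK E lam), IsKChar.zero, (sub_zero _).symm⟩
  exact h (CfsgLib.Brauer.mem_elemSpan hθ)

omit hK in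
/-- Convolution of an irreducible character with a character. -/
theorem sum_inv_mul_apply {θ : G → ℂ} (hθ : Cfsg.IsCharacter G θ) (χ : Cfsg.IrrCharacter G) (h : G) :
    ∑ z : G, θ z * (χ : G → ℂ) (z⁻¹ * h) =
      (Nat.card G : ℂ) * Cfsg.classInner θ (χ : G → ℂ) * (χ : G → ℂ) h / (χ : G → ℂ) 1 := by
  have := Fintype.ofFinite (Cfsg.IrrCharacter G)
  obtain ⟨m, rfl⟩ := IsChar.exists_sum hθ
  simp only [Finset.sum_apply, Pi.smul_apply, smul_eq_mul, Finset.sum_mul, mul_assoc,
    classInner_sum_left, classInner_smul_left]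
  rw [Finset.sum_comm]
  simp only [← Finset.mul_sum, CfsgLib.CharDegree.sum_mul_mul_inv, Finset.mul_sum, Finset.sum_mul,
    Finset.sum_div]
  refine Finset.sum_congr rfl fun ψ _ => ?_
  rw [Finset.sum_congr rfl (g := fun z => (m ψ : ℂ) * ((ψ : G → ℂ) z * (χ : G → ℂ) (z⁻¹ * h)))
    (fun z _ => by ring), ← Finset.mul_sum, CfsgLib.CharDegree.sum_mul_mul_inv]
  ring

theorem values_mem (χ : Cfsg.IrrCharacter G) (g : G) : (χ : G → ℂ) g ∈ K := by
  obtain ⟨A, B, hA, hB, h⟩ := mem_diffGroup hK (IsGen.of_irr χ.2)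
  rw [h, Pi.sub_apply]
  exact sub_mem (IsKChar.mem hA g) (IsKChar.mem hB g)

/-- The idempotent of an irreducible character on a `K`-representation. -/
theorem exists_isotypic (χ : Cfsg.IrrCharacter G) {W : Type*} [AddCommGroup W] [Module K W]
    [FiniteDimensional K W] (σ : Representation K G W) {a : ℕ}
    (ha : Cfsg.classInner (fun g => (σ.character g : ℂ)) (χ : G → ℂ) = a) :
    ∃ e : Module.End K W, e * e = e ∧ (∀ g, e * σ g = σ g * e) ∧
      (∀ g, (LinearMap.trace K W (e * σ g) : ℂ) = (a : ℂ) * (χ : G → ℂ) g) ∧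
      ∀ (p : Module.End K W) (b : ℕ),
        Cfsg.IsCharacter G (fun g => (LinearMap.trace K W (p * σ g) : ℂ)) →
        Cfsg.classInner (fun g => (LinearMap.trace K W (p * σ g) : ℂ)) (χ : G → ℂ) = b →
        ∀ g, (LinearMap.trace K W (p * (e * σ g)) : ℂ) = (b : ℂ) * (χ : G → ℂ) g := by
  classical
  let v : G → K := fun g => ⟨_, values_mem hK χ g⟩
  let c : G → K := fun g => v 1 / (Nat.card G : K) * v g⁻¹
  have hN : (Nat.card G : ℂ) ≠ 0 := Nat.cast_ne_zero.mpr Nat.card_pos.ne'
  have h1 : (χ : G → ℂ) 1 ≠ 0 := IsIrr.apply_one_ne_zero χ.2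
  have hcC : ∀ g, (c g : ℂ) = (χ : G → ℂ) 1 / (Nat.card G : ℂ) * (χ : G → ℂ) g⁻¹ := fun g => by
    push_cast [c, v]
    rfl
  have hcc : ∀ g y, c (g * y * g⁻¹) = c y := fun g y => Subtype.ext (by
    rw [hcC, hcC, show (g * y * g⁻¹)⁻¹ = g * y⁻¹ * g⁻¹ by group, IsIrr.isClassFunction χ.2 y⁻¹ g])
  have hconv : ∀ y, ∑ x, c x * c (x⁻¹ * y) = c y := by
    intro y
    refine Subtype.ext ?_
    simp only [AddSubmonoidClass.coe_finsetSum, MulMemClass.coe_mul, hcC]
    have h := CfsgLib.CharDegree.sum_mul_mul_inv χ χ y⁻¹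
    rw [classInner_irr_self, mul_one] at h
    rw [← Fintype.sum_equiv (Equiv.mulLeft y)
      (fun z => (χ : G → ℂ) 1 / (Nat.card G : ℂ) * (χ : G → ℂ) (y * z)⁻¹ *
        ((χ : G → ℂ) 1 / (Nat.card G : ℂ) * (χ : G → ℂ) ((y * z)⁻¹ * y)⁻¹)) _ (fun z => rfl)]
    rw [Finset.sum_congr rfl (g := fun z => ((χ : G → ℂ) 1 / (Nat.card G : ℂ)) ^ 2 *
      ((χ : G → ℂ) z * (χ : G → ℂ) (z⁻¹ * y⁻¹))), ← Finset.mul_sum, h]
    · field_simp
    · intro z _
      rw [mul_inv_rev, inv_mul_cancel_right, inv_inv]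
      ring
  have key : ∀ (p : Module.End K W) (b : ℕ),
      Cfsg.IsCharacter G (fun g => (LinearMap.trace K W (p * σ g) : ℂ)) →
      Cfsg.classInner (fun g => (LinearMap.trace K W (p * σ g) : ℂ)) (χ : G → ℂ) = b →
      ∀ g, (LinearMap.trace K W (p * ((∑ x, c x • σ x) * σ g)) : ℂ) = (b : ℂ) * (χ : G → ℂ) g := by
    intro p b hθ hb g
    simp only [Finset.sum_mul, Finset.mul_sum, smul_mul_assoc, mul_smul_comm, ← map_mul, map_sum,
      map_smul, smul_eq_mul, AddSubmonoidClass.coe_finsetSum, MulMemClass.coe_mul, hcC]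
    have h := sum_inv_mul_apply hθ χ g
    rw [hb] at h
    rw [← Fintype.sum_equiv (Equiv.mulRight g⁻¹)
      (fun z => (χ : G → ℂ) 1 / (Nat.card G : ℂ) * (χ : G → ℂ) (z * g⁻¹)⁻¹ *
        (LinearMap.trace K W (p * σ (z * g⁻¹ * g)) : ℂ)) _ (fun z => rfl)]
    rw [Finset.sum_congr rfl (g := fun z => (χ : G → ℂ) 1 / (Nat.card G : ℂ) *
      ((LinearMap.trace K W (p * σ z) : ℂ) * (χ : G → ℂ) (z⁻¹ * g))), ← Finset.mul_sum, h]
    · field_simp
    · intro z _
      rw [inv_mul_cancel_right, mul_inv_rev, inv_inv,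
        IsChar.map_mul_comm (IsIrr.isCharacter χ.2) g z⁻¹]
      ring
  let e : Module.End K W := ∑ x, c x • σ x
  refine ⟨e, ?_, fun g => ?_, fun g => ?_, key⟩
  · simp only [e]
    rw [Finset.sum_mul]
    simp only [Finset.mul_sum, smul_mul_smul_comm, ← map_mul]
    rw [Finset.sum_congr rfl fun x _ => (Fintype.sum_equiv (Equiv.mulLeft x)
      (fun y => (c x * c y) • σ (x * y)) (fun y => (c x * c (x⁻¹ * y)) • σ y)
      fun y => by simp), Finset.sum_comm]
    simp only [← Finset.sum_smul, hconv]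
  · simp only [e, Finset.sum_mul, Finset.mul_sum, smul_mul_assoc, mul_smul_comm, ← map_mul]
    refine Fintype.sum_equiv (MulAut.conj g⁻¹).toEquiv _ _ fun x => ?_
    simp only [MulEquiv.toEquiv_eq_coe, MulEquiv.coe_toEquiv, MulAut.conj_apply]
    rw [hcc g⁻¹ x]
    congr 2
    group
  · have hθ : Cfsg.IsCharacter G (fun g => (σ.character g : ℂ)) :=
      IsKChar.isCharacter (isKChar_rep σ)
    have h := key 1 a (by simpa only [one_mul, Representation.character] using hθ)
      (by simpa only [one_mul, Representation.character] using ha) g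
    rwa [one_mul] at h

theorem isKChar_smul_of_classInner (χ : Cfsg.IrrCharacter G) {θ : G → ℂ} (hθ : IsKChar K θ) {a : ℕ}
    (ha : Cfsg.classInner θ (χ : G → ℂ) = a) : IsKChar K ((a : ℂ) • (χ : G → ℂ)) := by
  obtain ⟨m, σ, rfl⟩ := hθ
  obtain ⟨e, he, hc, htr, -⟩ := exists_isotypic hK χ σ ha
  convert isKChar_of_idempotent σ e he hc using 1
  funext g
  rw [Pi.smul_apply, smul_eq_mul, htr]

/-- Subtracting realized multiples: a smallest positive realized multiple divides all others. -/
theorem isKChar_sub (χ : Cfsg.IrrCharacter G) {d a : ℕ} (hd : 0 < d)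
    (hmin : ∀ u : ℕ, 0 < u → IsKChar K ((u : ℂ) • (χ : G → ℂ)) → d ≤ u)
    (hdK : IsKChar K ((d : ℂ) • (χ : G → ℂ))) (haK : IsKChar K ((a : ℂ) • (χ : G → ℂ)))
    (ha : 0 < a) : IsKChar K (((a - d : ℕ) : ℂ) • (χ : G → ℂ)) ∧ d ≤ a := by
  classical
  refine ⟨?_, hmin a ha haK⟩
  obtain ⟨m, σ, hσ⟩ := hdK
  obtain ⟨k, τ, hτ⟩ := haK
  have : Invertible (Nat.card G : K) :=
    invertibleOfNonzero (Nat.cast_ne_zero.mpr Nat.card_pos.ne')
  have hdim := Representation.card_inv_mul_sum_char_mul_char_eq_finrank σ τ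
  have hne : 0 < finrank K (Representation.IntertwiningMap σ τ) := by
    refine Nat.pos_of_ne_zero fun h0 => ?_
    have h := congrArg (fun x : K => (x : ℂ)) hdim
    simp only [h0, Nat.cast_zero, ZeroMemClass.coe_zero, MulMemClass.coe_mul,
      AddSubmonoidClass.coe_finsetSum] at h
    have e1 : ∀ g, (τ.character g : ℂ) = (a : ℂ) * (χ : G → ℂ) g := fun g =>
      (congrFun hτ g).symm
    have e2 : ∀ g, (σ.character g : ℂ) = (d : ℂ) * (χ : G → ℂ) g := fun g =>
      (congrFun hσ g).symm
    rw [Finset.sum_congr rfl (g := fun g => (a : ℂ) * d *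
      ((χ : G → ℂ) g * conj ((χ : G → ℂ) g))), ← Finset.mul_sum] at h
    · have hs := classInner_irr_self χ
      rw [Cfsg.classInner] at hs
      have : (a : ℂ) * d = 0 := by
        have hval : (((Nat.card G : K)⁻¹ : K) : ℂ) = (Nat.card G : ℂ)⁻¹ := by push_cast; rfl
        rw [hval, mul_left_comm, hs, mul_one] at h
        exact h
      rcases mul_eq_zero.mp this with h | h <;> rw [Nat.cast_eq_zero] at h <;> omega
    · intro g _
      rw [e1, e2, IsIrr.map_inv χ.2]
      ring
  have : Nontrivial (Representation.IntertwiningMap σ τ) := Module.finrank_pos_iff.mp hne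
  obtain ⟨f, hf⟩ := exists_ne (0 : Representation.IntertwiningMap σ τ)
  set U := LinearMap.range f.toLinearMap with hU
  have hUinv : ∀ g, ∀ v ∈ U, τ g v ∈ U := by
    rintro g _ ⟨w, rfl⟩
    exact ⟨σ g w, LinearMap.congr_fun (f.isIntertwining' g) w⟩
  obtain ⟨C, hC⟩ := Submodule.exists_isCompl U
  let π0 : Module.End K (Fin k → K) := U.subtype ∘ₗ U.projectionOnto C hC
  let π : Module.End K (Fin k → K) := (Nat.card G : K)⁻¹ • ∑ g, τ g * π0 * τ g⁻¹
  have hπ0U : ∀ v, π0 v ∈ U := fun v => Subtype.prop _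
  have hπ0fix : ∀ v ∈ U, π0 v = v := fun v hv =>
    congrArg Subtype.val (Submodule.projectionOnto_apply_left hC ⟨v, hv⟩)
  have hπU : ∀ v, π v ∈ U := by
    intro v
    simp only [π, LinearMap.smul_apply, LinearMap.sum_apply, Module.End.mul_apply]
    exact U.smul_mem _ (U.sum_mem fun g _ => hUinv g _ (hπ0U _))
  have hπfix : ∀ v ∈ U, π v = v := by
    intro v hv
    simp only [π, LinearMap.smul_apply, LinearMap.sum_apply, Module.End.mul_apply]
    rw [Finset.sum_congr rfl (g := fun _ => v)]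
    · rw [Finset.sum_const, Finset.card_univ, ← Nat.card_eq_fintype_card, ← Nat.cast_smul_eq_nsmul K,
        inv_smul_smul₀ (Nat.cast_ne_zero.mpr Nat.card_pos.ne')]
    · intro g _
      rw [hπ0fix _ (hUinv g⁻¹ v hv), ← Module.End.mul_apply, ← map_mul, mul_inv_cancel, map_one,
        Module.End.one_apply]
  have hππ : π * π = π := LinearMap.ext fun v => hπfix _ (hπU v)
  have hπc : ∀ x, π * τ x = τ x * π := by
    intro x
    simp only [π, smul_mul_assoc, mul_smul_comm, Finset.sum_mul, Finset.mul_sum]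
    congr 1
    refine Fintype.sum_equiv (Equiv.mulLeft x⁻¹) _ _ fun g => ?_
    simp only [Equiv.coe_mulLeft, mul_inv_rev, inv_inv, mul_assoc, map_mul]
    rw [← mul_assoc (τ x) (τ x⁻¹), ← map_mul τ x x⁻¹, mul_inv_cancel, map_one, one_mul]
  have hUchar := isKChar_of_idempotent τ π hππ hπc
  have hCchar := isKChar_of_idempotent τ (1 - π)
    (by rw [sub_mul, one_mul, mul_sub, mul_one, hππ, sub_self, sub_zero])
    (fun x => by rw [sub_mul, mul_sub, one_mul, mul_one, hπc])
  -- the image is a multiple of `χ` as well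
  obtain ⟨u, hu⟩ := IsChar.classInner_eq_natCast (IsKChar.isCharacter hUchar)
    (IsIrr.isCharacter χ.2)
  obtain ⟨e, he, hec, hetr, hgen⟩ := exists_isotypic hK χ τ (a := a) (by
    rw [← hτ, classInner_smul_left, classInner_irr_self, mul_one])
  have hfull : e = 1 := by
    have htr : (LinearMap.trace K (Fin k → K) e : ℂ) =
        (LinearMap.trace K (Fin k → K) (1 : Module.End K (Fin k → K)) : ℂ) := by
      have h := hetr 1
      rw [map_one, mul_one] at h
      rw [h]
      have h2 := congrFun hτ 1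
      rw [Pi.smul_apply, smul_eq_mul, Representation.character, map_one] at h2
      exact h2
    have hproj : LinearMap.IsProj (LinearMap.range e) e :=
      ⟨fun v => ⟨v, rfl⟩, fun v hv => by
        obtain ⟨w, rfl⟩ := hv
        rw [← Module.End.mul_apply, he]⟩
    have h1 := Subtype.ext htr
    rw [hproj.trace, LinearMap.trace_one, Nat.cast_inj] at h1
    refine LinearMap.ext fun v => hproj.map_id v ?_
    rw [Submodule.eq_top_of_finrank_eq h1]
    exact Submodule.mem_top
  have hUeq : ∀ g, (LinearMap.trace K (Fin k → K) (π * τ g) : ℂ) = (u : ℂ) * (χ : G → ℂ) g := by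
    intro g
    have h := hgen π u (IsKChar.isCharacter hUchar) hu g
    rwa [hfull, one_mul] at h
  have hupos : 0 < u := by
    refine Nat.pos_of_ne_zero fun h0 => hf ?_
    have h := hUeq 1
    rw [h0, Nat.cast_zero, zero_mul, map_one, mul_one] at h
    have hproj : LinearMap.IsProj U π := ⟨hπU, hπfix⟩
    rw [hproj.trace] at h
    have : finrank K U = 0 := by exact_mod_cast h
    have hbot : U = ⊥ := Submodule.finrank_eq_zero.mp this
    exact Representation.IntertwiningMap.ext (LinearMap.range_eq_bot.mp hbot)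
  have hud : u = d := by
    refine le_antisymm ?_ (hmin u hupos (by
      convert hUchar using 1
      funext g
      rw [Pi.smul_apply, smul_eq_mul, hUeq]))
    have h1 : finrank K U ≤ finrank K (Fin m → K) := LinearMap.finrank_range_le f.toLinearMap
    have hproj : LinearMap.IsProj U π := ⟨hπU, hπfix⟩
    have h2 := hUeq 1
    rw [map_one, mul_one, hproj.trace] at h2
    have h3 := congrFun hσ 1
    rw [Pi.smul_apply, smul_eq_mul, Representation.char_one] at h3
    obtain ⟨n, hn, hn'⟩ := IsIrr.exists_degree χ.2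
    rw [hn'] at h2 h3
    push_cast at h2 h3
    have h2' : finrank K U = u * n := by exact_mod_cast h2
    have h3' : d * n = finrank K (Fin m → K) := by exact_mod_cast h3
    exact Nat.le_of_mul_le_mul_right (by omega) hn
  convert hCchar using 1
  funext g
  rw [Pi.smul_apply, smul_eq_mul, sub_mul, one_mul, map_sub, AddSubgroupClass.coe_sub, hUeq, hud,
    Nat.cast_sub (hmin a ha ⟨k, τ, hτ⟩), sub_mul]
  exact congrArg (· - _) (congrFun hτ g)

theorem isKChar_irr (χ : Cfsg.IrrCharacter G) : IsKChar K (χ : G → ℂ) := by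
  classical
  obtain ⟨A, B, hA, hB, h⟩ := mem_diffGroup hK (IsGen.of_irr χ.2)
  obtain ⟨a, ha⟩ := IsChar.classInner_eq_natCast (IsKChar.isCharacter hA) (IsIrr.isCharacter χ.2)
  obtain ⟨b, hb⟩ := IsChar.classInner_eq_natCast (IsKChar.isCharacter hB) (IsIrr.isCharacter χ.2)
  have hab : a = b + 1 := by
    have h1 := classInner_irr_self χ
    conv_lhs at h1 => arg 1; rw [h]
    rw [classInner_sub_left, ha, hb, sub_eq_iff_eq_add] at h1
    rw [add_comm]
    exact_mod_cast h1
  have hex : ∃ u : ℕ, 0 < u ∧ IsKChar K ((u : ℂ) • (χ : G → ℂ)) :=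
    ⟨a, by omega, isKChar_smul_of_classInner hK χ hA ha⟩
  obtain ⟨hd, hdK⟩ := Nat.find_spec hex
  have hmin : ∀ u : ℕ, 0 < u → IsKChar K ((u : ℂ) • (χ : G → ℂ)) → Nat.find hex ≤ u :=
    fun u hu huK => Nat.find_min' hex ⟨hu, huK⟩
  have hdiv : ∀ u : ℕ, IsKChar K ((u : ℂ) • (χ : G → ℂ)) → Nat.find hex ∣ u := by
    intro u
    induction u using Nat.strongRecOn with
    | ind u ih =>
      intro huK
      rcases Nat.eq_zero_or_pos u with h0 | h0
      · simp [h0]
      obtain ⟨h1, h2⟩ := isKChar_sub hK χ hd hmin hdK huK h0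
      have h3 := Nat.dvd_add (ih _ (by omega) h1) (dvd_refl (Nat.find hex))
      rwa [Nat.sub_add_cancel h2] at h3
  have h1 := hdiv a (isKChar_smul_of_classInner hK χ hA ha)
  have h2 := hdiv b (isKChar_smul_of_classInner hK χ hB hb)
  rw [hab] at h1
  have h3 : Nat.find hex = 1 := Nat.dvd_one.mp ((Nat.dvd_add_right h2).mp h1)
  rw [h3, Nat.cast_one, one_smul] at hdK
  exact hdK

theorem isKChar_of_isCharacter {θ : G → ℂ} (hθ : Cfsg.IsCharacter G θ) : IsKChar K θ := by
  obtain ⟨n, ρ, rfl⟩ := hθ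
  obtain ⟨s, hs⟩ := exists_multiset ρ
  rw [hs]
  clear hs
  induction s using Multiset.induction with
  | empty => simpa using IsKChar.zero
  | cons χ t ih =>
    rw [Multiset.map_cons, Multiset.sum_cons]
    exact IsKChar.add (isKChar_irr hK χ) ih

omit hK in
/-- Realization over the cyclotomic field of the exponent. -/
theorem exists_realization (n : ℕ) (ρ : Representation ℂ G (Fin n → ℂ)) :
    ∃ σ : Representation ℂ G (Fin n → ℂ), Nonempty (ρ.Equiv σ) ∧ ∀ g : G, ∀ i j : Fin n,
      LinearMap.toMatrix' (σ g) i j ∈ Algebra.adjoin ℚ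
        ({Complex.exp (2 * Real.pi * Complex.I / (Monoid.exponent G : ℂ))} : Set ℂ) := by
  set e := Monoid.exponent G with he
  have he0 : e ≠ 0 := Monoid.exponent_ne_zero_of_finite
  set ζ := Complex.exp (2 * Real.pi * Complex.I / (e : ℂ)) with hζdef
  have hζ : IsPrimitiveRoot ζ e := Complex.isPrimitiveRoot_exp e he0
  have hK : ∀ (E : Subgroup G) (lam : E →* ℂˣ) (x : E),
      (lam x : ℂ) ∈ IntermediateField.adjoin ℚ {ζ} := by
    intro E lam x
    have : NeZero e := ⟨he0⟩
    have hp : (lam x : ℂ) ^ e = 1 := by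
      have h1 : x ^ e = 1 := Subtype.ext (by
        rw [Subgroup.coe_pow, he, Monoid.pow_exponent_eq_one, Subgroup.coe_one])
      rw [← Units.val_pow_eq_pow_val, ← map_pow, h1, map_one, Units.val_one]
    obtain ⟨i, -, hi⟩ := hζ.eq_pow_of_pow_eq_one hp
    rw [← hi]
    exact pow_mem (IntermediateField.mem_adjoin_simple_self ℚ ζ) i
  obtain ⟨m, σ, hσ, hmem⟩ := IsKChar.exists_complex
    (isKChar_of_isCharacter hK (θ := ρ.character) ⟨n, ρ, rfl⟩)
  have hm : m = n := by
    have h := congrFun hσ 1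
    rw [Representation.char_one, Representation.char_one, Module.finrank_fin_fun,
      Module.finrank_fin_fun, Nat.cast_inj] at h
    exact h
  subst hm
  refine ⟨σ, nonempty_equiv_of_character_eq ρ σ hσ.symm, fun g i j => ?_⟩
  have h := hmem g i j
  rw [← IntermediateField.mem_toSubalgebra,
    IntermediateField.adjoin_simple_toSubalgebra_of_isAlgebraic
      (IsIntegral.isAlgebraic (IsIntegral.of_pow (Nat.pos_of_ne_zero he0) (by
        rw [hζ.pow_eq_one]; exact isIntegral_one)))] at h
  exact h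

end CfsgLib.Realize
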