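import Mathlib

/-!
Sylow subgroups of symmetric and alternating groups are generated by elements of order
dividing `p`; hence their abelianisations are elementary abelian.
-/

set_option autoImplicit false
open Equiv Equiv.Perm
open scoped Nat

namespace CfsgLib.SylowPermGen

/-- The subgroup is generated by its elements killed by `p`. -/
def GenP {G : Type*} [Group G] (p : ℕ) (H : Subgroup G) : Prop :=
  H ≤ Subgroup.closure {x : G | x ∈ H ∧ x ^ p = 1}

lemma GenP.map {G K : Type*} [Group G] [Group K] {p : ℕ} {H : Subgroup G}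
    (h : GenP p H) (f : G →* K) : GenP p (H.map f) := by
  refine le_trans (Subgroup.map_mono h) ?_
  rw [MonoidHom.map_closure]
  apply Subgroup.closure_mono
  rintro _ ⟨x, ⟨hx, hp⟩, rfl⟩
  exact ⟨Subgroup.mem_map_of_mem f hx, by rw [← map_pow, hp, map_one]⟩

lemma GenP.pow_mem_commutator {G : Type*} [Group G] {p : ℕ} {H : Subgroup G}
    (h : GenP p H) (x : H) : x ^ p ∈ commutator H := by
  let K : Subgroup H :=
    { carrier := {y : H | (Abelianization.of y) ^ p = 1}
      one_mem' := by simp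
      mul_mem' := by
        intro a b ha hb
        simp only [Set.mem_ofPred_eq, map_mul, mul_pow] at ha hb ⊢
        rw [ha, hb, one_mul]
      inv_mem' := by
        intro a ha
        simp only [Set.mem_ofPred_eq, map_inv, inv_pow] at ha ⊢
        rw [ha, inv_one] }
  have hK : H ≤ K.map H.subtype := by
    refine le_trans h ((Subgroup.closure_le _).mpr ?_)
    rintro y ⟨hy, hp⟩
    refine ⟨⟨y, hy⟩, ?_, rfl⟩
    show (Abelianization.of (⟨y, hy⟩ : H)) ^ p = 1
    rw [← map_pow]
    have : (⟨y, hy⟩ : H) ^ p = 1 := Subtype.ext (by simpa using hp)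
    rw [this, map_one]
  obtain ⟨y, hy, hxy⟩ := hK x.2
  obtain rfl : y = x := Subtype.ext hxy
  have hy' : Abelianization.of (y ^ p) = 1 := by rw [map_pow]; exact hy
  rw [← Abelianization.ker_of, MonoidHom.mem_ker]
  exact hy'

section Block

variable (p m r : ℕ) [NeZero p]

/-- The points: `m` blocks of size `p` and `r` further points. -/
abbrev Pts := (Fin m × ZMod p) ⊕ Fin r

/-- Translations inside the blocks. -/
def shift : Multiplicative (Fin m → ZMod p) →* Perm (Pts p m r) where
  toFun v := Equiv.sumCongr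
    { toFun := fun a => (a.1, a.2 + v.toAdd a.1)
      invFun := fun a => (a.1, a.2 - v.toAdd a.1)
      left_inv := fun a => by simp
      right_inv := fun a => by simp } (Equiv.refl _)
  map_one' := by
    apply Equiv.ext
    rintro (⟨i, j⟩ | k) <;> simp
  map_mul' v w := by
    apply Equiv.ext
    rintro (⟨i, j⟩ | k) <;> simp [Perm.mul_apply, add_comm, add_left_comm]

/-- Permutations of the blocks. -/
def lift : Perm (Fin m) →* Perm (Pts p m r) where
  toFun g := Equiv.sumCongr (Equiv.prodCongr g (Equiv.refl _)) (Equiv.refl _)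
  map_one' := by
    apply Equiv.ext
    rintro (⟨i, j⟩ | k) <;> simp
  map_mul' g h := by
    apply Equiv.ext
    rintro (⟨i, j⟩ | k) <;> simp [Perm.mul_apply]

variable {p m r}

@[simp] lemma shift_inl (v : Multiplicative (Fin m → ZMod p)) (i : Fin m) (j : ZMod p) :
    shift p m r v (Sum.inl (i, j)) = Sum.inl (i, j + v.toAdd i) := rfl

@[simp] lemma shift_inr (v : Multiplicative (Fin m → ZMod p)) (k : Fin r) :
    shift p m r v (Sum.inr k) = Sum.inr k := rfl

@[simp] lemma lift_inl (g : Perm (Fin m)) (i : Fin m) (j : ZMod p) :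
    lift p m r g (Sum.inl (i, j)) = Sum.inl (g i, j) := rfl

@[simp] lemma lift_inr (g : Perm (Fin m)) (k : Fin r) :
    lift p m r g (Sum.inr k) = Sum.inr k := rfl

lemma lift_mul_shift (g : Perm (Fin m)) (v : Multiplicative (Fin m → ZMod p)) :
    lift p m r g * shift p m r v
      = shift p m r (Multiplicative.ofAdd (fun i => v.toAdd (g⁻¹ i))) * lift p m r g := by
  apply Equiv.ext
  rintro (⟨i, j⟩ | k) <;> simp [Perm.mul_apply]

lemma shift_lift_inj {v w : Multiplicative (Fin m → ZMod p)} {g h : Perm (Fin m)}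
    (e : shift p m r v * lift p m r g = shift p m r w * lift p m r h) : v = w ∧ g = h := by
  have hgh : g = h := by
    apply Equiv.ext
    intro i
    have := congrArg (fun σ => σ (Sum.inl (i, (0 : ZMod p)))) e
    simp [Perm.mul_apply] at this
    exact this.1
  subst hgh
  refine ⟨?_, rfl⟩
  apply Multiplicative.toAdd.injective
  funext i
  have := congrArg (fun σ => σ (Sum.inl (g⁻¹ i, (0 : ZMod p)))) e
  simpa [Perm.mul_apply] using this

variable (p m r)

/-- The wreath product of the translations with `K`. -/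
def wreath (K : Subgroup (Perm (Fin m))) : Subgroup (Perm (Pts p m r)) where
  carrier := {x | ∃ v, ∃ g ∈ K, x = shift p m r v * lift p m r g}
  one_mem' := ⟨1, 1, K.one_mem, by simp⟩
  mul_mem' := by
    rintro _ _ ⟨v, g, hg, rfl⟩ ⟨w, h, hh, rfl⟩
    refine ⟨v * Multiplicative.ofAdd (fun i => w.toAdd (g⁻¹ i)), g * h, K.mul_mem hg hh, ?_⟩
    rw [map_mul, map_mul]
    simp only [mul_assoc]
    congr 1
    rw [← mul_assoc (lift p m r g), lift_mul_shift, mul_assoc]
  inv_mem' := by
    rintro _ ⟨v, g, hg, rfl⟩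
    refine ⟨Multiplicative.ofAdd (fun i => v⁻¹.toAdd (g⁻¹⁻¹ i)), g⁻¹, K.inv_mem hg, ?_⟩
    rw [mul_inv_rev, ← map_inv, ← map_inv, lift_mul_shift]

lemma card_wreath (K : Subgroup (Perm (Fin m))) :
    Nat.card (wreath p m r K) = p ^ m * Nat.card K := by
  let f : Multiplicative (Fin m → ZMod p) × K → wreath p m r K :=
    fun a => ⟨shift p m r a.1 * lift p m r a.2.1, a.1, a.2.1, a.2.2, rfl⟩
  have hf : Function.Bijective f := by
    constructor
    · rintro ⟨v, g⟩ ⟨w, h⟩ e
      obtain ⟨e1, e2⟩ := shift_lift_inj (congrArg Subtype.val e)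
      exact Prod.ext e1 (Subtype.ext e2)
    · rintro ⟨_, v, g, hg, rfl⟩
      exact ⟨(v, ⟨g, hg⟩), rfl⟩
  rw [← Nat.card_congr (Equiv.ofBijective f hf), Nat.card_prod]
  simp [Nat.card_eq_fintype_card]

lemma shift_pow (v : Multiplicative (Fin m → ZMod p)) : shift p m r v ^ p = 1 := by
  rw [← map_pow]
  convert map_one (shift p m r)
  apply Multiplicative.toAdd.injective
  funext i
  simp

lemma genP_wreath {K : Subgroup (Perm (Fin m))} (hK : GenP p K) :
    GenP p (wreath p m r K) := by
  rintro _ ⟨v, g, hg, rfl⟩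
  apply Subgroup.mul_mem
  · exact Subgroup.subset_closure ⟨⟨v, 1, K.one_mem, by simp⟩, shift_pow p m r v⟩
  · have h1 : lift p m r g ∈ (Subgroup.closure {x | x ∈ K ∧ x ^ p = 1}).map (lift p m r) :=
      Subgroup.mem_map_of_mem _ (hK hg)
    rw [MonoidHom.map_closure] at h1
    refine Subgroup.closure_mono ?_ h1
    rintro _ ⟨y, ⟨hy, hp⟩, rfl⟩
    exact ⟨⟨1, y, hy, by simp⟩, by rw [← map_pow, hp, map_one]⟩

lemma sign_lift_two (g : Perm (Fin m)) : sign (lift 2 m r g) = 1 := by
  have : lift 2 m r g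
      = Equiv.Perm.sumCongr (Equiv.prodCongrLeft (fun _ : ZMod 2 => g)) 1 := by
    apply Equiv.ext
    rintro (⟨i, j⟩ | k) <;> simp
  rw [this, sign_sumCongr, map_one, mul_one, sign_prodCongrLeft]
  simp [Finset.prod_const]

end Block

lemma sign_eq_one_of_pow {α : Type*} [Fintype α] [DecidableEq α] {p : ℕ} (hp : Odd p)
    {x : Perm α} (hx : x ^ p = 1) : sign x = 1 := by
  have := congrArg sign hx
  rw [map_pow, map_one] at this
  rcases Int.units_eq_one_or (sign x) with h | h
  · exact h
  · rw [h, hp.neg_one_pow] at this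
    exact absurd this (by decide)

lemma genP_inf_alternating {p : ℕ} (hp : p.Prime) (m r : ℕ) [NeZero p]
    {K : Subgroup (Perm (Fin m))} (hK : GenP p K) :
    GenP p (wreath p m r K ⊓ alternatingGroup (Pts p m r)) := by
  rcases hp.eq_two_or_odd' with rfl | hodd
  · rintro x ⟨⟨v, g, hg, rfl⟩, hx⟩
    have hx' : sign (shift 2 m r v * lift 2 m r g) = 1 := hx
    rw [map_mul, sign_lift_two, mul_one] at hx'
    apply Subgroup.mul_mem
    · exact Subgroup.subset_closure
        ⟨⟨⟨v, 1, K.one_mem, by simp⟩, hx'⟩, shift_pow 2 m r v⟩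
    · have h1 : lift 2 m r g ∈ (Subgroup.closure {x | x ∈ K ∧ x ^ 2 = 1}).map (lift 2 m r) :=
        Subgroup.mem_map_of_mem _ (hK hg)
      rw [MonoidHom.map_closure] at h1
      refine Subgroup.closure_mono ?_ h1
      rintro _ ⟨y, ⟨hy, hp2⟩, rfl⟩
      exact ⟨⟨⟨1, y, hy, by simp⟩, sign_lift_two m r y⟩, by rw [← map_pow, hp2, map_one]⟩
  · rintro x ⟨hx, -⟩
    refine Subgroup.closure_mono ?_ (genP_wreath p m r hK hx)
    rintro y ⟨hy, hyp⟩
    exact ⟨⟨hy, sign_eq_one_of_pow hodd hyp⟩, hyp⟩

lemma exists_genP_subgroup (p : ℕ) [Fact p.Prime] (n : ℕ) :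
    ∃ H : Subgroup (Perm (Fin n)), Nat.card H = p ^ padicValNat p n ! ∧ GenP p H ∧
      GenP p (H ⊓ alternatingGroup (Fin n)) := by
  have hp : p.Prime := Fact.out
  have : NeZero p := ⟨hp.ne_zero⟩
  induction n using Nat.strong_induction_on with
  | _ n ih =>
    obtain rfl | hn := Nat.eq_zero_or_pos n
    · refine ⟨⊥, by simp, ?_, ?_⟩ <;> simp [GenP]
    obtain ⟨K, hcard, hK, -⟩ := ih (n / p) (Nat.div_lt_self hn hp.one_lt)
    have hval : padicValNat p n ! = padicValNat p (n / p)! + n / p := by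
      conv_lhs => rw [← Nat.div_add_mod n p]
      rw [padicValNat_factorial_mul_add (n / p) (Nat.mod_lt _ hp.pos), padicValNat_factorial_mul]
    let e : Pts p (n / p) (n % p) ≃ Fin n :=
      Fintype.equivOfCardEq (by
        simp only [Fintype.card_sum, Fintype.card_prod, Fintype.card_fin, ZMod.card]
        rw [mul_comm]; exact Nat.div_add_mod n p)
    let c : Perm (Pts p (n / p) (n % p)) ≃* Perm (Fin n) := e.permCongrHom
    refine ⟨(wreath p (n / p) (n % p) K).map c.toMonoidHom, ?_, ?_, ?_⟩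
    · rw [Nat.card_congr (Subgroup.equivMapOfInjective _ _ c.injective).toEquiv.symm,
        card_wreath, hcard, hval, pow_add, mul_comm]
    · exact (genP_wreath _ _ _ hK).map _
    · have : (wreath p (n / p) (n % p) K).map c.toMonoidHom ⊓ alternatingGroup (Fin n)
          = (wreath p (n / p) (n % p) K ⊓ alternatingGroup (Pts p (n / p) (n % p))).map
              c.toMonoidHom := by
        ext x
        constructor
        · rintro ⟨⟨y, hy, rfl⟩, hx⟩
          refine ⟨y, ⟨hy, ?_⟩, rfl⟩
          have hx' : sign (e.permCongr y) = 1 := hx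
          rw [sign_permCongr] at hx'
          exact hx'
        · rintro ⟨y, ⟨hy, hy'⟩, rfl⟩
          refine ⟨⟨y, hy, rfl⟩, ?_⟩
          show sign (e.permCongr y) = 1
          rw [sign_permCongr]
          exact hy'
      rw [this]
      exact (genP_inf_alternating hp _ _ hK).map _

lemma genP_sylow_perm (p : ℕ) [Fact p.Prime] (n : ℕ) (P : Sylow p (Perm (Fin n))) :
    GenP p (P : Subgroup (Perm (Fin n))) := by
  obtain ⟨H, hcard, hH, -⟩ := exists_genP_subgroup p n
  have hpg : IsPGroup p H := IsPGroup.of_card hcard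
  obtain ⟨P', hP'⟩ := hpg.exists_le_sylow
  have hPcard : Nat.card P' = p ^ padicValNat p n ! := by
    rw [Sylow.card_eq_multiplicity, Nat.card_perm, Nat.card_eq_fintype_card, Fintype.card_fin,
      Nat.factorization_def _ Fact.out]
  have hEq : (P' : Subgroup (Perm (Fin n))) = H :=
    (Subgroup.eq_of_le_of_card_ge hP' (le_of_eq (by rw [hcard]; exact hPcard))).symm
  obtain ⟨g, rfl⟩ := MulAction.exists_smul_eq (Perm (Fin n)) P' P
  have h2 := hH.map (MulAut.conj g).toMonoidHom
  rw [← hEq] at h2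
  exact h2

lemma genP_sylow_alternating (p : ℕ) [Fact p.Prime] (n : ℕ)
    (Q : Sylow p (alternatingGroup (Fin n))) :
    GenP p ((Q : Subgroup (alternatingGroup (Fin n))).map (alternatingGroup (Fin n)).subtype) := by
  obtain ⟨H, hcard, -, hA⟩ := exists_genP_subgroup p n
  have hpg : IsPGroup p H := IsPGroup.of_card hcard
  obtain ⟨P', hP'⟩ := hpg.exists_le_sylow
  have hPcard : Nat.card P' = p ^ padicValNat p n ! := by
    rw [Sylow.card_eq_multiplicity, Nat.card_perm, Nat.card_eq_fintype_card, Fintype.card_fin,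
      Nat.factorization_def _ Fact.out]
  have hEq : (P' : Subgroup (Perm (Fin n))) = H :=
    (Subgroup.eq_of_le_of_card_ge hP' (le_of_eq (by rw [hcard]; exact hPcard))).symm
  obtain ⟨P, hP⟩ := (Q.isPGroup'.map (alternatingGroup (Fin n)).subtype).exists_le_sylow
  obtain ⟨g, rfl⟩ := MulAction.exists_smul_eq (Perm (Fin n)) P' P
  set f := (MulAut.conj g).toMonoidHom with hf
  set R : Subgroup (alternatingGroup (Fin n)) :=
    ((H ⊓ alternatingGroup (Fin n)).map f).comap (alternatingGroup (Fin n)).subtype with hR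
  have hle : (Q : Subgroup (alternatingGroup (Fin n))).map (alternatingGroup (Fin n)).subtype
      ≤ (H ⊓ alternatingGroup (Fin n)).map f := by
    rintro x hx
    have hxA : x ∈ alternatingGroup (Fin n) := by
      obtain ⟨y, -, rfl⟩ := hx
      exact y.2
    have hxP : x ∈ ((g • P' : Sylow p (Perm (Fin n))) : Subgroup (Perm (Fin n))) := hP hx
    have hxP' : x ∈ (P' : Subgroup (Perm (Fin n))).map f := hxP
    obtain ⟨y, hy, rfl⟩ := hxP'
    refine ⟨y, ⟨hEq ▸ hy, ?_⟩, rfl⟩
    have hs : sign (f y) = 1 := hxA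
    show sign y = 1
    rw [← hs, hf]
    simp only [MulEquiv.coe_toMonoidHom, MulAut.conj_apply, map_mul, map_inv]
    rw [mul_comm (sign g) (sign y), mul_inv_cancel_right]
  have hRp : IsPGroup p R :=
    ((hpg.to_le inf_le_left).map f).comap_of_injective _ (Subgroup.subtype_injective _)
  have hQR : (Q : Subgroup (alternatingGroup (Fin n))) ≤ R := fun x hx =>
    hle (Subgroup.mem_map_of_mem _ hx)
  have hRQ := Q.is_maximal' hRp hQR
  have heq : (Q : Subgroup (alternatingGroup (Fin n))).map (alternatingGroup (Fin n)).subtype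
      = (H ⊓ alternatingGroup (Fin n)).map f := by
    refine le_antisymm hle ?_
    rintro _ ⟨y, ⟨hy, hyA⟩, rfl⟩
    have hA' : f y ∈ alternatingGroup (Fin n) := by
      show sign (f y) = 1
      rw [hf]
      have : sign y = 1 := hyA
      simp [MulAut.conj_apply, this]
    refine ⟨⟨f y, hA'⟩, ?_, rfl⟩
    show (⟨f y, hA'⟩ : alternatingGroup (Fin n)) ∈ (Q : Subgroup (alternatingGroup (Fin n)))
    rw [← hRQ]
    exact ⟨y, ⟨hy, hyA⟩, rfl⟩
  rw [heq]
  exact hA.map f

/-- Pull `GenP` back along the inclusion of a subgroup. -/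
lemma GenP.of_map {G : Type*} [Group G] {p : ℕ} {A : Subgroup G} {Q : Subgroup A}
    (h : GenP p (Q.map A.subtype)) : GenP p Q := by
  intro x hx
  have h1 := h (Subgroup.mem_map_of_mem A.subtype hx)
  have hset : {y : G | y ∈ Q.map A.subtype ∧ y ^ p = 1}
      = A.subtype '' {y : A | y ∈ Q ∧ y ^ p = 1} := by
    ext y
    constructor
    · rintro ⟨⟨z, hz, rfl⟩, hp⟩
      exact ⟨z, ⟨hz, Subtype.ext (by simpa using hp)⟩, rfl⟩
    · rintro ⟨z, ⟨hz, hp⟩, rfl⟩
      exact ⟨Subgroup.mem_map_of_mem _ hz, by rw [← map_pow, hp, map_one]⟩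
  rw [hset, ← MonoidHom.map_closure] at h1
  exact (Subgroup.mem_map_iff_mem (Subgroup.subtype_injective A)).mp h1

end CfsgLib.SylowPermGen
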